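import Mathlib

/-!
# Jacobian criterion for quotients of (formally) smooth local algebras (helper25)

* `one_tmul_eq_zero_iff_mem_smul`: in `κ ⊗_P N` (for a submodule `N ≤ M`, `κ` the residue field of the
  local ring `P`), `1 ⊗ x = 0` iff `x ∈ m • N`.
* `formallySmooth_quotient_iff`: for a local `R`-algebra `P` which is formally smooth with finite free
  differentials and a finitely generated ideal `I ≤ m_P`: `P ⧸ I` is formally smooth over `R` iff every
  `x ∈ I` with `1 ⊗ dx = 0` in `κ ⊗ Ω_{P/R}` lies in `m • I`.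
* `formallySmooth_quotient_of_linearIndependent`: if `g₁, …, g_c ∈ m_P` have differentials which are
  linearly independent in `κ ⊗ Ω_{P/R}`, then `P/(g₁, …, g_c)` is formally smooth over `R`.
* `eq_zero_of_formallySmooth_quotient_span_singleton`: if `P/(F)` is formally smooth over `R`,
  `F ∈ m_P` and `1 ⊗ dF = 0`, then `F = 0`.
-/

set_option autoImplicit false
universe u v

open TensorProduct KaehlerDifferential IsLocalRing

namespace Groth.Agent.Lib.Helper25.JacobianCrit

section Module

variable {P : Type v} [CommRing P] [IsLocalRing P]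

/-- In `κ ⊗_P N`, `1 ⊗ x = 0` iff `x ∈ m • ⊤`. -/
theorem one_tmul_eq_zero_iff {N : Type*} [AddCommGroup N] [Module P N] (x : N) :
    (1 : ResidueField P) ⊗ₜ[P] x = 0 ↔ x ∈ maximalIdeal P • (⊤ : Submodule P N) := by
  have h := quotTensorEquivQuotSMul_mk_one_tmul (M := N) (maximalIdeal P) x
  constructor
  · intro hx
    have h0 : quotTensorEquivQuotSMul N (maximalIdeal P) ((1 : P ⧸ maximalIdeal P) ⊗ₜ[P] x) = 0 := by
      have : ((1 : P ⧸ maximalIdeal P) ⊗ₜ[P] x : (P ⧸ maximalIdeal P) ⊗[P] N) = 0 := hx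
      rw [this, map_zero]
    rw [h] at h0
    exact (Submodule.Quotient.mk_eq_zero _).mp h0
  · intro hx
    have h0 : quotTensorEquivQuotSMul N (maximalIdeal P) ((1 : P ⧸ maximalIdeal P) ⊗ₜ[P] x) = 0 := by
      rw [h]; exact (Submodule.Quotient.mk_eq_zero _).mpr hx
    exact (quotTensorEquivQuotSMul N (maximalIdeal P)).map_eq_zero_iff.mp h0

/-- For an ideal `I`, in `κ ⊗_P I`, `1 ⊗ x = 0` iff `x ∈ m • I`. -/
theorem one_tmul_eq_zero_iff_mem_smul (I : Ideal P) (x : I) :
    (1 : ResidueField P) ⊗ₜ[P] x = 0 ↔ (x : P) ∈ maximalIdeal P • I := by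
  rw [one_tmul_eq_zero_iff]
  have hmap : (maximalIdeal P • (⊤ : Submodule P I)).map I.subtype = maximalIdeal P • I := by
    rw [Submodule.map_smul'', Submodule.map_top, Submodule.range_subtype]
  constructor
  · intro hx
    rw [← hmap]
    exact ⟨x, hx, rfl⟩
  · intro hx
    rw [← hmap] at hx
    obtain ⟨y, hy, hyx⟩ := hx
    have : y = x := Subtype.ext hyx
    exact this ▸ hy

/-- Every element of `κ ⊗_P N` is of the form `1 ⊗ x`. -/
theorem exists_one_tmul {N : Type*} [AddCommGroup N] [Module P N]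
    (v : ResidueField P ⊗[P] N) : ∃ x : N, v = (1 : ResidueField P) ⊗ₜ[P] x := by
  induction v using TensorProduct.induction_on with
  | zero => exact ⟨0, by simp⟩
  | add x y hx hy =>
    obtain ⟨a, rfl⟩ := hx
    obtain ⟨b, rfl⟩ := hy
    exact ⟨a + b, by rw [TensorProduct.tmul_add]⟩
  | tmul k x =>
    obtain ⟨p, rfl⟩ := residue_surjective k
    refine ⟨p • x, ?_⟩
    rw [TensorProduct.tmul_smul, TensorProduct.smul_tmul', Algebra.smul_def, _root_.mul_one]
    rfl

end Module

section Local

variable {R : Type u} {P : Type v} [CommRing R] [CommRing P] [Algebra R P] [IsLocalRing P]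

/-- **Jacobian criterion**, instance-free form. -/
theorem formallySmooth_quotient_iff
    [Algebra.FormallySmooth R P] [Module.Free P Ω[P⁄R]] [Module.Finite P Ω[P⁄R]]
    (I : Ideal P) (hI : I.FG) (hIm : I ≤ maximalIdeal P) :
    Algebra.FormallySmooth R (P ⧸ I) ↔
      ∀ x ∈ I, (1 : ResidueField P) ⊗ₜ[P] D R P x = 0 → x ∈ maximalIdeal P • I := by
  classical
  have hne : I ≠ ⊤ := fun h => (maximalIdeal.isMaximal P).ne_top (top_le_iff.mp (h ▸ hIm))
  haveI : Nontrivial (P ⧸ I) := Ideal.Quotient.nontrivial_iff.mpr hne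
  haveI : IsLocalRing (P ⧸ I) := .of_surjective' _ Ideal.Quotient.mk_surjective
  let φ : (P ⧸ I) →+* ResidueField P := Ideal.Quotient.lift I (residue P)
    (fun a ha => (residue_eq_zero_iff a).mpr (hIm ha))
  letI : Algebra (P ⧸ I) (ResidueField P) := φ.toAlgebra
  haveI : IsScalarTower P (P ⧸ I) (ResidueField P) := IsScalarTower.of_algebraMap_eq fun a => rfl
  have h₁ : Function.Surjective (algebraMap P (P ⧸ I)) := Ideal.Quotient.mk_surjective
  have hker : RingHom.ker (algebraMap P (P ⧸ I)) = I := Ideal.mk_ker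
  have h₂ : (RingHom.ker (algebraMap P (P ⧸ I))).FG := by rw [hker]; exact hI
  have h₃ : maximalIdeal (P ⧸ I) ≤ RingHom.ker (algebraMap (P ⧸ I) (ResidueField P)) := by
    intro s hs
    obtain ⟨p, rfl⟩ := Ideal.Quotient.mk_surjective s
    rw [RingHom.mem_ker]
    change residue P p = 0
    rw [residue_eq_zero_iff]
    by_contra hp
    have hu : IsUnit p := by
      by_contra h; exact hp ((mem_maximalIdeal p).mpr h)
    exact (mem_maximalIdeal _).mp hs (hu.map (Ideal.Quotient.mk I))
  rw [Algebra.FormallySmooth.iff_injective_cotangentComplexBaseChange P (ResidueField P) h₁ h₂ h₃]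
  have himg : ∀ x : RingHom.ker (algebraMap P (P ⧸ I)),
      cotangentComplexBaseChange R (P ⧸ I) P (ResidueField P)
      ((1 : ResidueField P) ⊗ₜ[P] x) = (1 : ResidueField P) ⊗ₜ[P] D R P (x : P) := by
    intro x
    rw [cotangentComplexBaseChange_tmul, one_smul, kerToTensor_apply]
  have hzero : ∀ x : RingHom.ker (algebraMap P (P ⧸ I)),
      (1 : ResidueField P) ⊗ₜ[P] x = 0 ↔ (x : P) ∈ maximalIdeal P • I := by
    intro x
    rw [one_tmul_eq_zero_iff_mem_smul]
    have : ∀ (J : Ideal P) (_ : J = I) (x : J),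
        (x : P) ∈ maximalIdeal P • J ↔ (x : P) ∈ maximalIdeal P • I := by
      rintro J rfl x; rfl
    exact this _ hker x
  constructor
  · intro hinj x hx hdx
    have hxk : x ∈ RingHom.ker (algebraMap P (P ⧸ I)) := hker.symm ▸ hx
    have h0 : cotangentComplexBaseChange R (P ⧸ I) P (ResidueField P)
        ((1 : ResidueField P) ⊗ₜ[P] (⟨x, hxk⟩ : RingHom.ker (algebraMap P (P ⧸ I)))) = 0 := by
      rw [himg]; exact hdx
    have h1 := (injective_iff_map_eq_zero _).mp hinj _ h0
    exact (hzero ⟨x, hxk⟩).mp h1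
  · intro H
    rw [injective_iff_map_eq_zero]
    intro v hv
    obtain ⟨x, rfl⟩ := exists_one_tmul v
    rw [himg] at hv
    rw [hzero]
    exact H x (le_of_eq hker x.2) hv

/-- **Jacobian criterion**: linearly independent differentials give a formally smooth quotient. -/
theorem formallySmooth_quotient_of_linearIndependent
    [Algebra.FormallySmooth R P] [Module.Free P Ω[P⁄R]] [Module.Finite P Ω[P⁄R]]
    {c : ℕ} (g : Fin c → P) (hg : ∀ i, g i ∈ maximalIdeal P)
    (hli : LinearIndependent (ResidueField P)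
      fun i => (1 : ResidueField P) ⊗ₜ[P] D R P (g i)) :
    Algebra.FormallySmooth R (P ⧸ Ideal.span (Set.range g)) := by
  classical
  have hIm : Ideal.span (Set.range g) ≤ maximalIdeal P :=
    Ideal.span_le.mpr (by rintro _ ⟨i, rfl⟩; exact hg i)
  rw [formallySmooth_quotient_iff _ ⟨(Finset.univ.image g), by simp⟩ hIm]
  intro x hx hdx
  obtain ⟨a, rfl⟩ := (Submodule.mem_span_range_iff_exists_fun P).mp hx
  have h1 : ∑ i, residue P (a i) • ((1 : ResidueField P) ⊗ₜ[P] D R P (g i)) = 0 := by
    rw [← hdx, map_sum, TensorProduct.tmul_sum]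
    refine Finset.sum_congr rfl fun i _ => ?_
    have e1 : ∀ (p : P) (w : Ω[P⁄R]), (1 : ResidueField P) ⊗ₜ[P] (p • w) =
        residue P p • ((1 : ResidueField P) ⊗ₜ[P] w) := by
      intro p w
      rw [← TensorProduct.smul_tmul, TensorProduct.smul_tmul', Algebra.smul_def, _root_.mul_one,
        smul_eq_mul, _root_.mul_one]
      rfl
    rw [smul_eq_mul (a i) (g i), Derivation.leibniz, TensorProduct.tmul_add, e1, e1,
      (residue_eq_zero_iff _).mpr (hg i), zero_smul, add_zero]
  have hb := Fintype.linearIndependent_iff.mp hli _ h1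
  refine Submodule.sum_mem _ fun i _ => ?_
  have hai : a i ∈ maximalIdeal P := (residue_eq_zero_iff _).mp (hb i)
  exact Submodule.smul_mem_smul hai (Ideal.subset_span ⟨i, rfl⟩)

/-- Converse of the Jacobian criterion for a hypersurface. -/
theorem eq_zero_of_formallySmooth_quotient_span_singleton
    [Algebra.FormallySmooth R P] [Module.Free P Ω[P⁄R]] [Module.Finite P Ω[P⁄R]]
    (F : P) (hF : F ∈ maximalIdeal P)
    [Algebra.FormallySmooth R (P ⧸ Ideal.span ({F} : Set P))]
    (hd : (1 : ResidueField P) ⊗ₜ[P] D R P F = 0) : F = 0 := by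
  have hIm : Ideal.span ({F} : Set P) ≤ maximalIdeal P :=
    Ideal.span_le.mpr (by rintro _ rfl; exact hF)
  have h := (formallySmooth_quotient_iff (R := R) _ ⟨{F}, by simp⟩ hIm).mp inferInstance F
    (Ideal.subset_span rfl) hd
  rw [Ideal.smul_eq_mul, Ideal.mem_mul_span_singleton] at h
  obtain ⟨a, ha, haF⟩ := h
  have hu : IsUnit (1 - a) := by
    by_contra hn
    have h1 : (1 - a) ∈ maximalIdeal P := (mem_maximalIdeal _).mpr hn
    have : (1 : P) ∈ maximalIdeal P := by
      have := Ideal.add_mem _ h1 ha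
      simpa using this
    exact (maximalIdeal.isMaximal P).ne_top ((Ideal.eq_top_iff_one _).mpr this)
  have h0 : (1 - a) * F = 0 := by rw [sub_mul, one_mul, haF, sub_self]
  exact (hu.mul_right_eq_zero).mp h0

end Local

end Groth.Agent.Lib.Helper25.JacobianCrit
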