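import Mathlib
import Groth.Agent.Lib.Helper25.JacobianCrit

/-!
# Jacobian criterion at a prime of a quotient of a smooth algebra (helper25)

* `fibreEquiv R 𝔓 : κ(𝔓) ⊗_{B_𝔓} Ω_{B_𝔓/R} ≃ κ(𝔓) ⊗_B Ω_{B/R}` with
  `fibreEquiv_symm_one_tmul_D`.
* `isSmoothAt_quotient_iff`: `B ⧸ I` is smooth over `R` at `q` iff `B_𝔓 ⧸ I B_𝔓` is formally smooth over
  `R`, where `𝔓` is the preimage of `q`.
* `isSmoothAt_quotient_of_linearIndependent`: Jacobian criterion.
-/

set_option autoImplicit false
universe u v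

open TensorProduct KaehlerDifferential IsLocalRing

namespace Groth.Agent.Lib.Helper25.JacobianCrit

section Fibre

variable (R : Type u) {B : Type v} [CommRing R] [CommRing B] [Algebra R B]
  (𝔓 : Ideal B) [𝔓.IsPrime]

/-- `κ(𝔓) ⊗_{B_𝔓} Ω_{B_𝔓/R} ≃ κ(𝔓) ⊗_B Ω_{B/R}`. -/
noncomputable def fibreEquiv :
    (𝔓.ResidueField ⊗[Localization.AtPrime 𝔓] Ω[Localization.AtPrime 𝔓⁄R]) ≃ₗ[𝔓.ResidueField]
      (𝔓.ResidueField ⊗[B] Ω[B⁄R]) :=
  (AlgebraTensorModule.congr (LinearEquiv.refl 𝔓.ResidueField 𝔓.ResidueField)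
    (tensorKaehlerEquivOfFormallyEtale R B (Localization.AtPrime 𝔓)).symm) ≪≫ₗ
  (AlgebraTensorModule.cancelBaseChange B (Localization.AtPrime 𝔓) 𝔓.ResidueField
    𝔓.ResidueField Ω[B⁄R])

theorem fibreEquiv_one_tmul_D (b : B) :
    fibreEquiv R 𝔓 ((1 : 𝔓.ResidueField) ⊗ₜ[Localization.AtPrime 𝔓]
      D R (Localization.AtPrime 𝔓) (algebraMap B (Localization.AtPrime 𝔓) b)) =
      (1 : 𝔓.ResidueField) ⊗ₜ[B] D R B b := by
  simp only [fibreEquiv, LinearEquiv.trans_apply, AlgebraTensorModule.congr_tmul,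
    LinearEquiv.refl_apply, tensorKaehlerEquivOfFormallyEtale_symm_D_algebraMap,
    AlgebraTensorModule.cancelBaseChange_tmul, one_smul]

theorem fibreEquiv_symm_one_tmul_D (b : B) :
    (fibreEquiv R 𝔓).symm ((1 : 𝔓.ResidueField) ⊗ₜ[B] D R B b) =
      (1 : 𝔓.ResidueField) ⊗ₜ[Localization.AtPrime 𝔓]
      D R (Localization.AtPrime 𝔓) (algebraMap B (Localization.AtPrime 𝔓) b) := by
  rw [LinearEquiv.symm_apply_eq, fibreEquiv_one_tmul_D]

variable {R} in
/-- For an essentially finite type algebra smooth at `𝔓`, `Ω_{B_𝔓/R}` is finite free. -/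
theorem free_finite_kaehler_localization [Algebra.EssFiniteType R B] [Algebra.IsSmoothAt R 𝔓] :
    Module.Free (Localization.AtPrime 𝔓) Ω[Localization.AtPrime 𝔓⁄R] ∧
      Module.Finite (Localization.AtPrime 𝔓) Ω[Localization.AtPrime 𝔓⁄R] := by
  have : Algebra.EssFiniteType B (Localization.AtPrime 𝔓) := .of_isLocalization _ 𝔓.primeCompl
  have : Algebra.EssFiniteType R (Localization.AtPrime 𝔓) := .comp _ B _
  have : Algebra.FormallySmooth R (Localization.AtPrime 𝔓) := ‹Algebra.IsSmoothAt R 𝔓›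
  have hfin : Module.Finite (Localization.AtPrime 𝔓) Ω[Localization.AtPrime 𝔓⁄R] := inferInstance
  exact ⟨Module.free_of_flat_of_isLocalRing, hfin⟩

end Fibre

section Quotient

variable (R : Type u) {B : Type v} [CommRing R] [CommRing B] [Algebra R B]
  (I : Ideal B) (q : Ideal (B ⧸ I)) [q.IsPrime]

theorem algebraMapSubmonoid_primeCompl_comap :
    Algebra.algebraMapSubmonoid (B ⧸ I) (q.comap (Ideal.Quotient.mk I)).primeCompl =
      q.primeCompl := by
  ext y
  constructor
  · rintro ⟨b, hb, rfl⟩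
    exact hb
  · intro hy
    obtain ⟨b, rfl⟩ := Ideal.Quotient.mk_surjective y
    exact ⟨b, hy, rfl⟩

instance isLocalization_quotient_atPrime :
    IsLocalization.AtPrime
      (Localization.AtPrime (q.comap (Ideal.Quotient.mk I)) ⧸
        I.map (algebraMap B (Localization.AtPrime (q.comap (Ideal.Quotient.mk I))))) q := by
  have h : IsLocalization (Algebra.algebraMapSubmonoid (B ⧸ I)
      (q.comap (Ideal.Quotient.mk I)).primeCompl)
      (Localization.AtPrime (q.comap (Ideal.Quotient.mk I)) ⧸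
        I.map (algebraMap B (Localization.AtPrime (q.comap (Ideal.Quotient.mk I))))) :=
    inferInstance
  rw [algebraMapSubmonoid_primeCompl_comap] at h
  exact h

/-- `B ⧸ I` is smooth at `q` iff `B_𝔓 ⧸ I B_𝔓` is formally smooth, `𝔓` the preimage of `q`. -/
theorem isSmoothAt_quotient_iff :
    Algebra.IsSmoothAt R q ↔
      Algebra.FormallySmooth R
        (Localization.AtPrime (q.comap (Ideal.Quotient.mk I)) ⧸
          I.map (algebraMap B (Localization.AtPrime (q.comap (Ideal.Quotient.mk I))))) := by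
  set P := Localization.AtPrime (q.comap (Ideal.Quotient.mk I)) with hP
  haveI : IsScalarTower R (B ⧸ I) (P ⧸ I.map (algebraMap B P)) :=
    IsScalarTower.of_algebraMap_eq fun r => by
      rw [IsScalarTower.algebraMap_apply R B (B ⧸ I), IsScalarTower.algebraMap_apply R P (P ⧸ _),
        IsScalarTower.algebraMap_apply R B P]
      rfl
  let e : Localization.AtPrime q ≃ₐ[B ⧸ I] (P ⧸ I.map (algebraMap B P)) :=
    IsLocalization.algEquiv q.primeCompl _ _
  exact Algebra.FormallySmooth.iff_of_equiv (e.restrictScalars R)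

end Quotient

section Main

variable (R : Type u) {B : Type v} [CommRing R] [CommRing B] [Algebra R B]

/-- **Jacobian criterion** at a prime: if `B` is smooth over `R` at the preimage `𝔓` of the prime `q`
of `B ⧸ (g₁, …, g_c)` and the `dg_i` are linearly independent in `κ(𝔓) ⊗ Ω_{B/R}`, then
`B ⧸ (g₁, …, g_c)` is smooth over `R` at `q`. -/
theorem isSmoothAt_quotient_of_linearIndependent [Algebra.EssFiniteType R B]
    {c : ℕ} (g : Fin c → B) (q : Ideal (B ⧸ Ideal.span (Set.range g))) [q.IsPrime]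
    [Algebra.IsSmoothAt R (q.comap (Ideal.Quotient.mk (Ideal.span (Set.range g))))]
    (hli : LinearIndependent (q.comap (Ideal.Quotient.mk (Ideal.span (Set.range g)))).ResidueField
      fun i => (1 : (q.comap (Ideal.Quotient.mk (Ideal.span (Set.range g)))).ResidueField) ⊗ₜ[B]
        D R B (g i)) :
    Algebra.IsSmoothAt R q := by
  rw [isSmoothAt_quotient_iff]
  set 𝔓 := q.comap (Ideal.Quotient.mk (Ideal.span (Set.range g))) with h𝔓
  set P := Localization.AtPrime 𝔓 with hP
  obtain ⟨hfree, hfin⟩ := free_finite_kaehler_localization (R := R) 𝔓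
  have : Algebra.FormallySmooth R P := ‹Algebra.IsSmoothAt R 𝔓›
  have hmap : (Ideal.span (Set.range g)).map (algebraMap B P) =
      Ideal.span (Set.range fun i => algebraMap B P (g i)) := by
    rw [Ideal.map_span, ← Set.range_comp]
    rfl
  rw [hmap]
  have hg : ∀ i, g i ∈ 𝔓 := fun i => by
    have h0 : Ideal.Quotient.mk (Ideal.span (Set.range g)) (g i) = 0 :=
      Ideal.Quotient.eq_zero_iff_mem.mpr (Ideal.subset_span ⟨i, rfl⟩)
    rw [h𝔓, Ideal.mem_comap, h0]
    exact zero_mem _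
  refine formallySmooth_quotient_of_linearIndependent (R := R) (P := P)
    (fun i => algebraMap B P (g i)) (fun i => ?_) ?_
  · exact (IsLocalization.AtPrime.to_map_mem_maximal_iff P 𝔓 (g i)).mpr (hg i)
  · have h2 := hli.map' (fibreEquiv R 𝔓).symm.toLinearMap (LinearEquiv.ker _)
    have h3 : ((fibreEquiv R 𝔓).symm.toLinearMap ∘ fun i =>
        (1 : 𝔓.ResidueField) ⊗ₜ[B] D R B (g i)) = fun i => (1 : 𝔓.ResidueField) ⊗ₜ[P]
          D R P (algebraMap B P (g i)) := by
      funext i
      exact fibreEquiv_symm_one_tmul_D R 𝔓 (g i)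
    rw [h3] at h2
    exact h2

end Main

end Groth.Agent.Lib.Helper25.JacobianCrit
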