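import Mathlib
import Groth.Agent.Lib.Helper25.JacobianCrit2

/-!
# Étale slices via the Jacobian criterion (helper25)

* `span_D_eq_top_of_span_tmul_eq_top` (Nakayama): if the `1 ⊗ dg_i` span `κ ⊗ Ω_{P/R}` then the `dg_i`
  span `Ω_{P/R}` (`P` local, `Ω` finite).
* `formallyUnramified_quotient_of_span_eq_top`: then `P/(g)` is formally unramified over `R`.
* `formallyEtale_quotient_of_linearIndependent_of_span_eq_top`: local étale slice.
* `isEtaleAt_quotient_of_linearIndependent_of_span_eq_top`: étale slice at a prime.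
* `awayQuotientEquiv`: `(B ⧸ I)_{f̄} ≃ B_f ⧸ I B_f`.
-/

set_option autoImplicit false
universe u v

open TensorProduct KaehlerDifferential IsLocalRing

namespace Groth.Agent.Lib.Helper25.JacobianCrit

section Local

variable {R : Type u} {P : Type v} [CommRing R] [CommRing P] [Algebra R P] [IsLocalRing P]

theorem span_D_eq_top_of_span_tmul_eq_top [Module.Finite P Ω[P⁄R]] {ι : Type*} (g : ι → P)
    (hspan : Submodule.span (ResidueField P)
      (Set.range fun i => (1 : ResidueField P) ⊗ₜ[P] D R P (g i)) = ⊤) :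
    Submodule.span P (Set.range fun i => D R P (g i)) = ⊤ := by
  rw [← IsLocalRing.map_tensorProduct_mk_eq_top, Submodule.map_span,
    ← Submodule.restrictScalars_span P (ResidueField P) Ideal.Quotient.mk_surjective,
    Submodule.restrictScalars_eq_top_iff, ← Set.range_comp]
  exact hspan

theorem formallyUnramified_quotient_of_span_eq_top [Module.Finite P Ω[P⁄R]] {ι : Type*}
    (g : ι → P)
    (hspan : Submodule.span (ResidueField P)
      (Set.range fun i => (1 : ResidueField P) ⊗ₜ[P] D R P (g i)) = ⊤) :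
    Algebra.FormallyUnramified R (P ⧸ Ideal.span (Set.range g)) := by
  set I := Ideal.span (Set.range g) with hI
  have h1 := span_D_eq_top_of_span_tmul_eq_top g hspan
  refine ⟨?_⟩
  rw [← Submodule.subsingleton_iff (P ⧸ I), ← subsingleton_iff_bot_eq_top,
    ← KaehlerDifferential.span_range_derivation, eq_comm, Submodule.span_eq_bot]
  rintro _ ⟨s, rfl⟩
  obtain ⟨p, rfl⟩ := Ideal.Quotient.mk_surjective s
  have hp : D R P p ∈ Submodule.span P (Set.range fun i => D R P (g i)) := h1 ▸ Submodule.mem_top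
  have hmap : D R (P ⧸ I) (Ideal.Quotient.mk I p) = KaehlerDifferential.map R R P (P ⧸ I) (D R P p) := by
    rw [KaehlerDifferential.map_D]; rfl
  rw [hmap]
  have hle : Submodule.span P (Set.range fun i => D R P (g i)) ≤
      LinearMap.ker (KaehlerDifferential.map R R P (P ⧸ I)) := by
    rw [Submodule.span_le]
    rintro _ ⟨i, rfl⟩
    rw [SetLike.mem_coe, LinearMap.mem_ker, KaehlerDifferential.map_D]
    have h0 : algebraMap P (P ⧸ I) (g i) = 0 :=
      Ideal.Quotient.eq_zero_iff_mem.mpr (Ideal.subset_span ⟨i, rfl⟩)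
    rw [h0, map_zero]
  exact hle hp

theorem formallyEtale_quotient_of_linearIndependent_of_span_eq_top
    [Algebra.FormallySmooth R P] [Module.Free P Ω[P⁄R]] [Module.Finite P Ω[P⁄R]]
    {c : ℕ} (g : Fin c → P) (hg : ∀ i, g i ∈ maximalIdeal P)
    (hli : LinearIndependent (ResidueField P)
      fun i => (1 : ResidueField P) ⊗ₜ[P] D R P (g i))
    (hspan : Submodule.span (ResidueField P)
      (Set.range fun i => (1 : ResidueField P) ⊗ₜ[P] D R P (g i)) = ⊤) :
    Algebra.FormallyEtale R (P ⧸ Ideal.span (Set.range g)) := by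
  have h1 := formallySmooth_quotient_of_linearIndependent (R := R) g hg hli
  have h2 := formallyUnramified_quotient_of_span_eq_top (R := R) g hspan
  exact Algebra.FormallyEtale.of_formallyUnramified_and_formallySmooth

end Local

section Quotient

variable (R : Type u) {B : Type v} [CommRing R] [CommRing B] [Algebra R B]
  (I : Ideal B) (q : Ideal (B ⧸ I)) [q.IsPrime]

/-- The `R`-algebra isomorphism `(B ⧸ I)_q ≃ B_𝔓 ⧸ I B_𝔓`. -/
noncomputable def atPrimeQuotientEquiv :
    Localization.AtPrime q ≃ₐ[R]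
      (Localization.AtPrime (q.comap (Ideal.Quotient.mk I)) ⧸
          I.map (algebraMap B (Localization.AtPrime (q.comap (Ideal.Quotient.mk I))))) := by
  set P := Localization.AtPrime (q.comap (Ideal.Quotient.mk I)) with hP
  haveI : IsScalarTower R (B ⧸ I) (P ⧸ I.map (algebraMap B P)) :=
    IsScalarTower.of_algebraMap_eq fun r => by
      rw [IsScalarTower.algebraMap_apply R B (B ⧸ I), IsScalarTower.algebraMap_apply R P (P ⧸ _),
        IsScalarTower.algebraMap_apply R B P]
      rfl
  let e : Localization.AtPrime q ≃ₐ[B ⧸ I] (P ⧸ I.map (algebraMap B P)) :=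
    IsLocalization.algEquiv q.primeCompl _ _
  exact e.restrictScalars R

/-- The `R`-algebra isomorphism `(B ⧸ I)_{f̄} ≃ B_f ⧸ I B_f`. -/
noncomputable def awayQuotientEquiv (f : B) :
    Localization.Away (Ideal.Quotient.mk I f) ≃ₐ[R]
      (Localization.Away f ⧸ I.map (algebraMap B (Localization.Away f))) := by
  set P := Localization.Away f with hP
  haveI : IsScalarTower R (B ⧸ I) (P ⧸ I.map (algebraMap B P)) :=
    IsScalarTower.of_algebraMap_eq fun r => by
      rw [IsScalarTower.algebraMap_apply R B (B ⧸ I), IsScalarTower.algebraMap_apply R P (P ⧸ _),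
        IsScalarTower.algebraMap_apply R B P]
      rfl
  have h : IsLocalization (Algebra.algebraMapSubmonoid (B ⧸ I) (Submonoid.powers f))
      (P ⧸ I.map (algebraMap B P)) := inferInstance
  have hpow : Algebra.algebraMapSubmonoid (B ⧸ I) (Submonoid.powers f) =
      Submonoid.powers (Ideal.Quotient.mk I f) := by
    rw [Algebra.algebraMapSubmonoid, Submonoid.map_powers]
    rfl
  rw [hpow] at h
  let e : Localization.Away (Ideal.Quotient.mk I f) ≃ₐ[B ⧸ I] (P ⧸ I.map (algebraMap B P)) :=
    IsLocalization.algEquiv (Submonoid.powers (Ideal.Quotient.mk I f)) _ _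
  exact e.restrictScalars R

end Quotient

section Main

variable (R : Type u) {B : Type v} [CommRing R] [CommRing B] [Algebra R B]

/-- Variant of `isSmoothAt_quotient_of_linearIndependent` with the preimage prime as a variable. -/
theorem isSmoothAt_quotient_of_linearIndependent' [Algebra.EssFiniteType R B]
    {c : ℕ} (g : Fin c → B) (q : Ideal (B ⧸ Ideal.span (Set.range g))) [q.IsPrime]
    (𝔓 : Ideal B) [𝔓.IsPrime] (h𝔓 : q.comap (Ideal.Quotient.mk (Ideal.span (Set.range g))) = 𝔓)
    [Algebra.IsSmoothAt R 𝔓]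
    (hli : LinearIndependent 𝔓.ResidueField
      fun i => (1 : 𝔓.ResidueField) ⊗ₜ[B] D R B (g i)) :
    Algebra.IsSmoothAt R q := by
  subst h𝔓
  exact isSmoothAt_quotient_of_linearIndependent R g q hli

/-- **Étale slice at a prime**: if `B` is smooth over `R` at the preimage `𝔓` of the prime `q`
of `B ⧸ (g₁, …, g_c)` and the `dg_i` form a basis of `κ(𝔓) ⊗ Ω_{B/R}`, then
`B ⧸ (g₁, …, g_c)` is étale over `R` at `q`. -/
theorem isEtaleAt_quotient_of_linearIndependent_of_span_eq_top [Algebra.EssFiniteType R B]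
    {c : ℕ} (g : Fin c → B) (q : Ideal (B ⧸ Ideal.span (Set.range g))) [q.IsPrime]
    (𝔓 : Ideal B) [𝔓.IsPrime] (h𝔓 : q.comap (Ideal.Quotient.mk (Ideal.span (Set.range g))) = 𝔓)
    [Algebra.IsSmoothAt R 𝔓]
    (hli : LinearIndependent 𝔓.ResidueField
      fun i => (1 : 𝔓.ResidueField) ⊗ₜ[B] D R B (g i))
    (hspan : Submodule.span 𝔓.ResidueField
      (Set.range fun i => (1 : 𝔓.ResidueField) ⊗ₜ[B] D R B (g i)) = ⊤) :
    Algebra.IsEtaleAt R q := by
  subst h𝔓
  set 𝔓 := q.comap (Ideal.Quotient.mk (Ideal.span (Set.range g))) with h𝔓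
  set P := Localization.AtPrime 𝔓 with hP
  obtain ⟨hfree, hfin⟩ := free_finite_kaehler_localization (R := R) 𝔓
  have : Algebra.FormallySmooth R P := ‹Algebra.IsSmoothAt R 𝔓›
  have hmap : (Ideal.span (Set.range g)).map (algebraMap B P) =
      Ideal.span (Set.range fun i => algebraMap B P (g i)) := by
    rw [Ideal.map_span, ← Set.range_comp]
    rfl
  have hg : ∀ i, g i ∈ 𝔓 := fun i => by
    have h0 : Ideal.Quotient.mk (Ideal.span (Set.range g)) (g i) = 0 :=
      Ideal.Quotient.eq_zero_iff_mem.mpr (Ideal.subset_span ⟨i, rfl⟩)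
    rw [h𝔓, Ideal.mem_comap, h0]
    exact zero_mem _
  have h3 : ((fibreEquiv R 𝔓).symm.toLinearMap ∘ fun i =>
      (1 : 𝔓.ResidueField) ⊗ₜ[B] D R B (g i)) = fun i => (1 : 𝔓.ResidueField) ⊗ₜ[P]
        D R P (algebraMap B P (g i)) := by
    funext i
    exact fibreEquiv_symm_one_tmul_D R 𝔓 (g i)
  have hli' : LinearIndependent (ResidueField P) fun i => (1 : ResidueField P) ⊗ₜ[P]
        D R P (algebraMap B P (g i)) := by
    have h2 := hli.map' (fibreEquiv R 𝔓).symm.toLinearMap (LinearEquiv.ker _)
    rw [h3] at h2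
    exact h2
  have hspan' : Submodule.span (ResidueField P) (Set.range fun i => (1 : ResidueField P) ⊗ₜ[P]
        D R P (algebraMap B P (g i))) = ⊤ := by
    have h2 := congrArg (Submodule.map (fibreEquiv R 𝔓).symm.toLinearMap) hspan
    rw [Submodule.map_span, ← Set.range_comp, Submodule.map_top, LinearMap.range_eq_top.mpr
      (fibreEquiv R 𝔓).symm.surjective] at h2
    rw [← h3]
    exact h2
  have hE : Algebra.FormallyEtale R (P ⧸ Ideal.span (Set.range fun i => algebraMap B P (g i))) :=
    formallyEtale_quotient_of_linearIndependent_of_span_eq_top (R := R) (P := P)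
      (fun i => algebraMap B P (g i))
      (fun i => (IsLocalization.AtPrime.to_map_mem_maximal_iff P 𝔓 (g i)).mpr (hg i)) hli' hspan'
  rw [← hmap] at hE
  exact Algebra.FormallyEtale.of_equiv (atPrimeQuotientEquiv R (Ideal.span (Set.range g)) q).symm

end Main

end Groth.Agent.Lib.Helper25.JacobianCrit
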