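import Mathlib
import Groth.Agent.Lib.Helper25.JacobianCrit3

/-!
# Choosing equations for an étale slice (helper25)

* `exists_fin_basis_of_span_image`: from a spanning set `φ '' J` of a finite-dimensional vector space
  choose a finite basis `φ (g i)`, `g i ∈ J`.
* `span_one_tmul_D_eq_top`: `κ ⊗_B Ω_{B/C}` is spanned by the `1 ⊗ db`, `b ∈ J`, as soon as
  `C → B ⧸ J` is surjective.
* `exists_isEtaleAt_quotient_of_surjective`: if `B` is smooth over `C` at the preimage `𝔓` of a prime `x`
  of `B ⧸ J` and `C → B ⧸ J` is surjective, there are `g₁, …, g_c ∈ J` such that `B ⧸ (g)` is étale over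
  `C` at the preimage of `x`.
-/

set_option autoImplicit false
universe u v

open TensorProduct KaehlerDifferential IsLocalRing

namespace Groth.Agent.Lib.Helper25.JacobianCrit

theorem exists_fin_basis_of_span_image {K V β : Type*} [Field K] [AddCommGroup V] [Module K V]
    [Module.Finite K V] (φ : β → V) (J : Set β) (h : Submodule.span K (φ '' J) = ⊤) :
    ∃ (c : ℕ) (g : Fin c → β), (∀ i, g i ∈ J) ∧ LinearIndependent K (φ ∘ g) ∧
      Submodule.span K (Set.range (φ ∘ g)) = ⊤ := by
  classical
  obtain ⟨b, hbT, hspan, hli⟩ := exists_linearIndependent K (φ '' J)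
  have hfin : b.Finite := hli.setFinite
  haveI : Finite b := hfin
  let e := (Finite.equivFin b).symm
  have hmem : ∀ i, ∃ a ∈ J, φ a = (e i : V) := fun i => hbT (e i).2
  choose g hgJ hg using hmem
  have hcomp : φ ∘ g = Subtype.val ∘ e := funext hg
  refine ⟨_, g, hgJ, ?_, ?_⟩
  · rw [hcomp]
    exact hli.comp _ e.injective
  · rw [hcomp, Set.range_comp, e.surjective.range_eq, Set.image_univ, Subtype.range_coe, hspan, h]

section Span

variable (C : Type u) {B : Type v} [CommRing C] [CommRing B] [Algebra C B]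

theorem span_one_tmul_D_eq_top (K : Type*) [Field K] [Algebra B K] (J : Ideal B)
    (hsurj : Function.Surjective ((Ideal.Quotient.mk J).comp (algebraMap C B))) :
    Submodule.span K ((fun b : B => (1 : K) ⊗ₜ[B] D C B b) '' (J : Set B)) = ⊤ := by
  have key : ∀ ω : Ω[B⁄C], (1 : K) ⊗ₜ[B] ω ∈
      Submodule.span K ((fun b : B => (1 : K) ⊗ₜ[B] D C B b) '' (J : Set B)) := by
    intro ω
    have hω : ω ∈ Submodule.span B (Set.range (D C B)) := by
      rw [KaehlerDifferential.span_range_derivation]; trivial
    induction hω using Submodule.span_induction with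
    | mem w hw =>
      obtain ⟨b, rfl⟩ := hw
      obtain ⟨c, hc⟩ := hsurj (Ideal.Quotient.mk J b)
      have hmem : b - algebraMap C B c ∈ J := by
        rw [← Ideal.Quotient.eq_zero_iff_mem, map_sub, ← hc]
        simp
      have hD : D C B b = D C B (b - algebraMap C B c) := by
        rw [map_sub, Derivation.map_algebraMap, sub_zero]
      rw [hD]
      exact Submodule.subset_span ⟨_, hmem, rfl⟩
    | zero => rw [TensorProduct.tmul_zero]; exact zero_mem _
    | add x y _ _ hx hy => rw [TensorProduct.tmul_add]; exact add_mem hx hy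
    | smul a x _ hx =>
      have : (1 : K) ⊗ₜ[B] (a • x) = algebraMap B K a • ((1 : K) ⊗ₜ[B] x) := by
        rw [TensorProduct.tmul_smul, TensorProduct.smul_tmul', TensorProduct.smul_tmul',
          Algebra.smul_def, smul_eq_mul]
      rw [this]
      exact Submodule.smul_mem _ _ hx
  rw [eq_top_iff]
  rintro v -
  induction v using TensorProduct.induction_on with
  | zero => exact zero_mem _
  | add x y hx hy => exact add_mem hx hy
  | tmul k ω =>
    have h1 : k ⊗ₜ[B] ω = k • ((1 : K) ⊗ₜ[B] ω) := by
      rw [TensorProduct.smul_tmul', smul_eq_mul, _root_.mul_one]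
    rw [h1]
    exact Submodule.smul_mem _ _ (key ω)

end Span

section Main

variable (C : Type u) {B : Type v} [CommRing C] [CommRing B] [Algebra C B]

/-- If `C → B ⧸ J` is surjective and `B` is smooth over `C` (of finite type) at the preimage of the
prime `x` of `B ⧸ J`, there are `g₁, …, g_c ∈ J` such that `B ⧸ (g)` is étale over `C` at the preimage
of `x`. -/
theorem exists_isEtaleAt_quotient_of_surjective [Algebra.FiniteType C B] (J : Ideal B)
    (hsurj : Function.Surjective ((Ideal.Quotient.mk J).comp (algebraMap C B)))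
    (𝔓 : Ideal B) [𝔓.IsPrime] [Algebra.IsSmoothAt C 𝔓] :
    ∃ (c : ℕ) (g : Fin c → B), (∀ i, g i ∈ J) ∧
      ∀ (q : Ideal (B ⧸ Ideal.span (Set.range g))) [q.IsPrime],
        q.comap (Ideal.Quotient.mk (Ideal.span (Set.range g))) = 𝔓 → Algebra.IsEtaleAt C q := by
  have hspan := span_one_tmul_D_eq_top C 𝔓.ResidueField J hsurj
  obtain ⟨c, g, hgJ, hli, hsp⟩ := exists_fin_basis_of_span_image
    (fun b : B => (1 : 𝔓.ResidueField) ⊗ₜ[B] D C B b) (J : Set B) hspan
  refine ⟨c, g, hgJ, fun q _ hq => ?_⟩
  exact isEtaleAt_quotient_of_linearIndependent_of_span_eq_top C g q 𝔓 hq hli hsp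

end Main

end Groth.Agent.Lib.Helper25.JacobianCrit
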