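import Mathlib
import Groth.Agent.Lib.Helper25.JacobianCrit4

/-!
# Étale coordinates (helper25)

* `formallyEtale_of_bijective_mapBaseChange`: for `R → S → T` with `T` formally smooth over `R` and
  `T ⊗_S Ω_{S/R} → Ω_{T/R}` bijective, `T` is formally étale over `S`.
* `exists_extend_fin_basis`: extend a linearly independent family `φ (g i)` to a basis
  by elements of a spanning family `φ`.
* `isEtaleAt_mvPolynomial_of_basis`: if `B` is smooth over `R` at `𝔓` and `dh_i` is a basis of
  `κ(𝔓) ⊗ Ω_{B/R}`, then `R[T_i] → B, T_i ↦ h_i` is étale at `𝔓`.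
-/

set_option autoImplicit false
universe u v w

open TensorProduct KaehlerDifferential IsLocalRing

namespace Groth.Agent.Lib.Helper25.JacobianCrit

section EI

variable (R : Type u) (S : Type v) (T : Type w) [CommRing R] [CommRing S] [CommRing T]
  [Algebra R S] [Algebra R T] [Algebra S T] [IsScalarTower R S T]

theorem formallyEtale_of_bijective_mapBaseChange [Algebra.FormallySmooth R T]
    (h : Function.Bijective (KaehlerDifferential.mapBaseChange R S T)) :
    Algebra.FormallyEtale S T := by
  rw [Algebra.formallyEtale_iff]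
  constructor
  · have hex := KaehlerDifferential.exact_mapBaseChange_map R S T
    have hsurj := KaehlerDifferential.map_surjective R S T
    refine ⟨fun a b => ?_⟩
    have key : ∀ x : Ω[T⁄S], x = 0 := by
      intro x
      obtain ⟨y, rfl⟩ := hsurj x
      obtain ⟨z, rfl⟩ := h.2 y
      exact hex.apply_apply_eq_zero z
    rw [key a, key b]
  · have h1 := Algebra.H1Cotangent.exact_map_δ R S T
    have h2 := Algebra.H1Cotangent.exact_δ_mapBaseChange R S T
    have hsub : Subsingleton (Algebra.H1Cotangent R T) :=
      ((Algebra.formallySmooth_iff R T).mp inferInstance).2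
    refine ⟨fun a b => ?_⟩
    have key : ∀ x : Algebra.H1Cotangent S T, x = 0 := by
      intro x
      have hx : Algebra.H1Cotangent.δ R S T x = 0 := by
        apply h.1
        rw [map_zero]
        exact h2.apply_apply_eq_zero x
      obtain ⟨y, rfl⟩ := (h1 x).mp hx
      rw [Subsingleton.elim y 0, map_zero]
    rw [key a, key b]

end EI

theorem exists_extend_fin_basis {K V β : Type*} [Field K] [AddCommGroup V] [Module K V]
    [Module.Finite K V] (φ : β → V) (hφ : Submodule.span K (Set.range φ) = ⊤) {r : ℕ}
    (g : Fin r → β) (hli : LinearIndependent K (φ ∘ g)) :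
    ∃ (m : ℕ) (g' : Fin m → β), LinearIndependent K (φ ∘ Sum.elim g g') ∧
      Submodule.span K (Set.range (φ ∘ Sum.elim g g')) = ⊤ := by
  classical
  set W : Submodule K V := Submodule.span K (Set.range (φ ∘ g)) with hW
  have hspan' : Submodule.span K ((W.mkQ ∘ φ) '' Set.univ) = ⊤ := by
    rw [Set.image_univ, Set.range_comp, ← Submodule.map_span, hφ, Submodule.map_top,
      Submodule.range_mkQ]
  obtain ⟨m, g', -, hli', hsp'⟩ := exists_fin_basis_of_span_image (W.mkQ ∘ φ) Set.univ hspan'
  refine ⟨m, g', ?_, ?_⟩
  · have hf : LinearIndependent K (fun i : Fin r => (⟨φ (g i), Submodule.subset_span ⟨i, rfl⟩⟩ : W)) := by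
      apply LinearIndependent.of_comp W.subtype
      exact hli
    have := LinearIndependent.sumElim_of_quotient hf (φ ∘ g') hli'
    rw [Sum.comp_elim]
    exact this
  · rw [Sum.comp_elim, Set.Sum.elim_range, Submodule.span_union, ← hW,
      ← Submodule.map_mkQ_eq_top, Submodule.map_span, ← Set.range_comp]
    exact hsp'

section EC

variable (R : Type u) {B : Type v} [CommRing R] [CommRing B] [Algebra R B]

theorem isEtaleAt_mvPolynomial_of_basis [Algebra.EssFiniteType R B] {ι : Type w} [Finite ι]
    (h : ι → B) [Algebra (MvPolynomial ι R) B] [IsScalarTower R (MvPolynomial ι R) B]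
    (hX : ∀ i, algebraMap (MvPolynomial ι R) B (MvPolynomial.X i) = h i)
    (𝔓 : Ideal B) [𝔓.IsPrime] [Algebra.IsSmoothAt R 𝔓]
    (hli : LinearIndependent 𝔓.ResidueField
      fun i => (1 : 𝔓.ResidueField) ⊗ₜ[B] D R B (h i))
    (hspan : Submodule.span 𝔓.ResidueField
      (Set.range fun i => (1 : 𝔓.ResidueField) ⊗ₜ[B] D R B (h i)) = ⊤) :
    Algebra.IsEtaleAt (MvPolynomial ι R) 𝔓 := by
  classical
  set P := Localization.AtPrime 𝔓 with hP
  set S := MvPolynomial ι R with hS
  obtain ⟨hfree, hfin⟩ := free_finite_kaehler_localization (R := R) 𝔓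
  have : Algebra.FormallySmooth R P := ‹Algebra.IsSmoothAt R 𝔓›
  have h3 : ((fibreEquiv R 𝔓).symm.toLinearMap ∘ fun i =>
      (1 : 𝔓.ResidueField) ⊗ₜ[B] D R B (h i)) = fun i => (1 : 𝔓.ResidueField) ⊗ₜ[P]
        D R P (algebraMap B P (h i)) := by
    funext i
    exact fibreEquiv_symm_one_tmul_D R 𝔓 (h i)
  have hli' : LinearIndependent (ResidueField P) fun i => (1 : ResidueField P) ⊗ₜ[P]
        D R P (algebraMap B P (h i)) := by
    have h2 := hli.map' (fibreEquiv R 𝔓).symm.toLinearMap (LinearEquiv.ker _)
    rw [h3] at h2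
    exact h2
  have hspan' : Submodule.span (ResidueField P) (Set.range fun i => (1 : ResidueField P) ⊗ₜ[P]
        D R P (algebraMap B P (h i))) = ⊤ := by
    have h2 := congrArg (Submodule.map (fibreEquiv R 𝔓).symm.toLinearMap) hspan
    rw [Submodule.map_span, ← Set.range_comp, Submodule.map_top, LinearMap.range_eq_top.mpr
      (fibreEquiv R 𝔓).symm.surjective] at h2
    rw [← h3]
    exact h2
  haveI : Module.FinitePresentation P Ω[P⁄R] := Module.finitePresentation_of_projective P _
  obtain ⟨b₂, hb₂⟩ := Module.exists_basis_of_basis_baseChange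
    (fun i => D R P (algebraMap B P (h i))) hli' hspan'
    (Module.Flat.rTensor_preserves_injective_linearMap _ Subtype.val_injective)
  let b₁ : Module.Basis ι P (P ⊗[S] Ω[S⁄R]) := (mvPolynomialBasis R ι).baseChange P
  have hmap : KaehlerDifferential.mapBaseChange R S P = (b₁.equiv b₂ (Equiv.refl ι)).toLinearMap := by
    apply b₁.ext
    intro i
    rw [LinearEquiv.coe_coe, Module.Basis.equiv_apply, Equiv.refl_apply, hb₂]
    change KaehlerDifferential.mapBaseChange R S P (((mvPolynomialBasis R ι).baseChange P) i) = _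
    rw [Module.Basis.baseChange_apply, mvPolynomialBasis_apply, mapBaseChange_tmul, one_smul,
      map_D, IsScalarTower.algebraMap_apply S B P, hX]
  have hbij : Function.Bijective (KaehlerDifferential.mapBaseChange R S P) := by
    rw [hmap]
    exact (b₁.equiv b₂ (Equiv.refl ι)).bijective
  exact formallyEtale_of_bijective_mapBaseChange R S P hbij

end EC

end Groth.Agent.Lib.Helper25.JacobianCrit
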