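import Mathlib
import Groth.Agent.Lib.Helper25.EtaleCoord

/-!
# Minimal generators of a smooth quotient have independent differentials (helper25)
-/

set_option autoImplicit false
universe u v w

open TensorProduct KaehlerDifferential IsLocalRing

namespace Groth.Agent.Lib.Helper25.JacobianCrit

section Fin

variable {B : Type v} [CommRing B] (q : Ideal B) [q.IsPrime] (J : Ideal B)

/-- `κ(q) ⊗_{B_q} J B_q ≃ κ(q) ⊗_B J`. -/
noncomputable def fibreIdealEquiv :
    (q.ResidueField ⊗[Localization.AtPrime q] (J.map (algebraMap B (Localization.AtPrime q))))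
      ≃ₗ[q.ResidueField] (q.ResidueField ⊗[B] J) := by
  set P := Localization.AtPrime q with hP
  let I' : Submodule P P := Submodule.localized' P q.primeCompl (Algebra.linearMap B P) J
  have hI' : I' = J.map (algebraMap B P) := Ideal.localized'_eq_map P q.primeCompl J
  let f₀ : J →ₗ[B] I' := Submodule.toLocalized' P q.primeCompl (Algebra.linearMap B P) J
  have hbc : IsBaseChange P f₀ := IsLocalizedModule.isBaseChange q.primeCompl P f₀
  let e₀ : P ⊗[B] J ≃ₗ[P] I' := hbc.equiv
  let e₁ : (J.map (algebraMap B P)) ≃ₗ[P] I' := LinearEquiv.ofEq _ _ hI'.symm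
  exact (AlgebraTensorModule.congr (LinearEquiv.refl q.ResidueField q.ResidueField)
    (e₁ ≪≫ₗ e₀.symm)) ≪≫ₗ
    (AlgebraTensorModule.cancelBaseChange B P q.ResidueField q.ResidueField J)

theorem finrank_fibreIdeal_eq :
    Module.finrank q.ResidueField
      (q.ResidueField ⊗[Localization.AtPrime q] (J.map (algebraMap B (Localization.AtPrime q)))) =
    Module.finrank q.ResidueField (q.ResidueField ⊗[B] J) :=
  (fibreIdealEquiv q J).finrank_eq

end Fin

section Local

variable {R : Type u} {P : Type v} [CommRing R] [CommRing P] [Algebra R P] [IsLocalRing P]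

theorem one_tmul_smul {N : Type*} [AddCommGroup N] [Module P N] (p : P) (w : N) :
    (1 : ResidueField P) ⊗ₜ[P] (p • w) = residue P p • ((1 : ResidueField P) ⊗ₜ[P] w) := by
  rw [← TensorProduct.smul_tmul, TensorProduct.smul_tmul', Algebra.smul_def, _root_.mul_one,
    smul_eq_mul, _root_.mul_one]
  rfl

theorem span_one_tmul_generators {ι : Type*} [Finite ι] (g : ι → P) (I : Ideal P)
    (hI : I = Ideal.span (Set.range g)) (hg : ∀ i, g i ∈ I) :
    Submodule.span (ResidueField P)
      (Set.range fun i => (1 : ResidueField P) ⊗ₜ[P] (⟨g i, hg i⟩ : I)) = ⊤ := by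
  classical
  haveI := Fintype.ofFinite ι
  rw [eq_top_iff]
  rintro v -
  obtain ⟨x, rfl⟩ := exists_one_tmul v
  have hx : (x : P) ∈ Ideal.span (Set.range g) := hI ▸ x.2
  obtain ⟨a, ha⟩ := (Submodule.mem_span_range_iff_exists_fun P).mp hx
  have hx' : x = ∑ i, a i • (⟨g i, hg i⟩ : I) := by
    apply Subtype.ext
    rw [← ha]
    simp
  rw [hx', TensorProduct.tmul_sum]
  refine Submodule.sum_mem _ fun i _ => ?_
  rw [one_tmul_smul]
  exact Submodule.smul_mem _ _ (Submodule.subset_span ⟨i, rfl⟩)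

/-- `1 ⊗ d(Σ aᵢ gᵢ) = Σ āᵢ (1 ⊗ dgᵢ)` when the `gᵢ` lie in the maximal ideal. -/
theorem one_tmul_D_sum_smul {ι : Type*} [Fintype ι] (g : ι → P) (hg : ∀ i, g i ∈ maximalIdeal P)
    (a : ι → P) :
    (1 : ResidueField P) ⊗ₜ[P] D R P (∑ i, a i • g i) =
      ∑ i, residue P (a i) • ((1 : ResidueField P) ⊗ₜ[P] D R P (g i)) := by
  rw [map_sum, TensorProduct.tmul_sum]
  refine Finset.sum_congr rfl fun i _ => ?_
  rw [smul_eq_mul (a i) (g i), Derivation.leibniz, TensorProduct.tmul_add, one_tmul_smul,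
    one_tmul_smul,
    (residue_eq_zero_iff _).mpr (hg i), zero_smul, add_zero]

/-- **Minimal generators of a smooth quotient have linearly independent differentials.** -/
theorem linearIndependent_D_of_formallySmooth_quotient
    [Algebra.FormallySmooth R P] [Module.Free P Ω[P⁄R]] [Module.Finite P Ω[P⁄R]]
    {r : ℕ} (g : Fin r → P) (I : Ideal P) (hI : I = Ideal.span (Set.range g))
    (hIm : I ≤ maximalIdeal P) [Algebra.FormallySmooth R (P ⧸ I)]
    (hr : Module.finrank (ResidueField P) (ResidueField P ⊗[P] I) = r) :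
    LinearIndependent (ResidueField P) fun i => (1 : ResidueField P) ⊗ₜ[P] D R P (g i) := by
  classical
  have hgI : ∀ i, g i ∈ I := fun i => hI ▸ Ideal.subset_span ⟨i, rfl⟩
  have hfg : I.FG := ⟨Finset.univ.image g, by simp [hI]⟩
  have hsm := (formallySmooth_quotient_iff (R := R) I hfg hIm).mp inferInstance
  have hspan := span_one_tmul_generators g I hI hgI
  haveI : Module.Finite P I := Module.Finite.of_fg hfg
  have hli0 : LinearIndependent (ResidueField P)
      fun i => (1 : ResidueField P) ⊗ₜ[P] (⟨g i, hgI i⟩ : I) := by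
    apply linearIndependent_of_top_le_span_of_card_eq_finrank hspan.ge
    rw [Fintype.card_fin, hr]
  rw [Fintype.linearIndependent_iff]
  intro k hk
  have hlift : ∀ i, ∃ a : P, residue P a = k i := fun i => residue_surjective (k i)
  choose a ha using hlift
  have hx : ∑ i, a i • g i ∈ I := Submodule.sum_mem _ fun i _ => Submodule.smul_mem _ _ (hgI i)
  have hd : (1 : ResidueField P) ⊗ₜ[P] D R P (∑ i, a i • g i) = 0 := by
    rw [one_tmul_D_sum_smul g (fun i => hIm (hgI i)) a, ← hk]
    exact Finset.sum_congr rfl fun i _ => by rw [ha]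
  have hmem := hsm _ hx hd
  have h0 : (1 : ResidueField P) ⊗ₜ[P] (⟨∑ i, a i • g i, hx⟩ : I) = 0 :=
    (one_tmul_eq_zero_iff_mem_smul I _).mpr hmem
  have hsum : (⟨∑ i, a i • g i, hx⟩ : I) = ∑ i, a i • (⟨g i, hgI i⟩ : I) := by
    apply Subtype.ext
    simp
  rw [hsum, TensorProduct.tmul_sum] at h0
  have h1 : ∑ i, k i • ((1 : ResidueField P) ⊗ₜ[P] (⟨g i, hgI i⟩ : I)) = 0 := by
    rw [← h0]
    refine Finset.sum_congr rfl fun i _ => ?_
    rw [← ha, one_tmul_smul]
  exact Fintype.linearIndependent_iff.mp hli0 k h1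

end Local

section Spread

variable {B : Type v} [CommRing B]

/-- If `J` is finitely generated and `J B_q ≤ I B_q`, there is `s ∉ q` with `s J ≤ I`. -/
theorem exists_notMem_smul_le_of_map_le (q : Ideal B) [q.IsPrime] (J I : Ideal B) (hJ : J.FG)
    (h : J.map (algebraMap B (Localization.AtPrime q)) ≤
      I.map (algebraMap B (Localization.AtPrime q))) :
    ∃ s : B, s ∉ q ∧ ∀ j ∈ J, s * j ∈ I := by
  classical
  obtain ⟨t, rfl⟩ := hJ
  have key : ∀ j ∈ (t : Set B), ∃ s : B, s ∉ q ∧ s * j ∈ I := by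
    intro j hj
    have hmem : algebraMap B (Localization.AtPrime q) j ∈
        I.map (algebraMap B (Localization.AtPrime q)) :=
      h (Ideal.mem_map_of_mem _ (Ideal.subset_span hj))
    rw [IsLocalization.mem_map_algebraMap_iff q.primeCompl] at hmem
    obtain ⟨⟨i, s⟩, hs⟩ := hmem
    rw [← map_mul] at hs
    obtain ⟨c, hc⟩ := (IsLocalization.eq_iff_exists q.primeCompl _).mp hs
    refine ⟨c * s, q.primeCompl.mul_mem c.2 s.2, ?_⟩
    have : (c : B) * s * j = c * i := by
      rw [mul_assoc, mul_comm (s : B) j, hc]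
    rw [this]
    exact I.mul_mem_left _ i.2
  choose! s hs1 hs2 using key
  refine ⟨∏ j ∈ t, s j, ?_, ?_⟩
  · intro hmem
    obtain ⟨j, hj, hjq⟩ := (Ideal.IsPrime.prod_mem_iff).mp hmem
    exact hs1 j hj hjq
  · intro x hx
    refine Submodule.span_induction ?_ ?_ ?_ ?_ hx
    · intro j hj
      have : ∏ j ∈ t, s j = (∏ j' ∈ t.erase j, s j') * s j := by
        rw [Finset.prod_erase_mul _ _ hj]
      rw [this, mul_assoc]
      exact I.mul_mem_left _ (hs2 j hj)
    · rw [mul_zero]; exact zero_mem _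
    · intro x y _ _ hx hy
      rw [mul_add]; exact add_mem hx hy
    · intro a x _ hx
      rw [smul_eq_mul, mul_left_comm]
      exact I.mul_mem_left _ hx

end Spread

end Groth.Agent.Lib.Helper25.JacobianCrit
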