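import Mathlib
import Groth.Agent.Lib.Helper25.EtaleCoord2

/-!
# A section of a smooth algebra is cut out by a regular sequence (helper25)

* `isWeaklyRegular_X`: the variables of `A[X₁, …, X_n]` form a weakly regular sequence (any `A`).
* `exists_notMem_smul_mem_span`: Nakayama at a prime: if the `1 ⊗ v i` span `κ(q) ⊗ M` (`M` finite)
  there is `s ∉ q` with `s • M ≤ span (v i)`.
* `mul_mem_sup_sq`: if `B` and `B ⧸ J` are formally smooth over `A`, `b i ∈ J` and
  `s • Ω_{B/A} ≤ span (d b i)`, then `s J ≤ (b) + J²`.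
* `exists_notMem_mul_mem_of_mul_mem_sup_sq`: Nakayama + spreading out: `s J ≤ I + J²` with `s ∉ q`,
  `J ≤ q` finitely generated gives `t ∉ q` with `t J ≤ I`.
* `exists_regular_of_section`: `B` smooth over `A`, `J` an ideal with `A → B ⧸ J` bijective,
  `q ⊇ J` prime: there are `g ∉ q` and `b i ∈ J` such that on `B_g` the `b i` form a weakly regular
  sequence generating `J B_g`.
-/

set_option autoImplicit false
universe u v

open TensorProduct KaehlerDifferential IsLocalRing

namespace Groth.Agent.Lib.Helper25.SectionRegular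

open Groth.Agent.Lib.Helper25.JacobianCrit

section Poly

open MvPolynomial

variable {k : Type*} [CommRing k] {N : ℕ}

theorem mem_span_X_of_X_mul_mem (s : Set (Fin N)) (j : Fin N) (hj : j ∉ s)
    (f : MvPolynomial (Fin N) k) (h : X j * f ∈ Ideal.span (X '' s : Set (MvPolynomial (Fin N) k))) :
    f ∈ Ideal.span (X '' s : Set (MvPolynomial (Fin N) k)) := by
  rw [MvPolynomial.mem_ideal_span_X_image] at h ⊢
  intro d hd
  have hmem : Finsupp.single j 1 + d ∈ (X j * f).support := by
    rw [MvPolynomial.support_X_mul]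
    exact Finset.mem_map_of_mem _ hd
  obtain ⟨i, his, hi⟩ := h _ hmem
  refine ⟨i, his, ?_⟩
  have hij : j ≠ i := fun h' => hj (h' ▸ his)
  rw [Finsupp.add_apply, Finsupp.single_apply, if_neg hij, zero_add] at hi
  exact hi

theorem ofList_take_ofFn_X (i : ℕ) :
    Ideal.ofList ((List.ofFn (X : Fin N → MvPolynomial (Fin N) k)).take i) =
      Ideal.span (X '' {j : Fin N | (j : ℕ) < i}) := by
  unfold Ideal.ofList
  congr 1
  ext r
  simp only [Set.mem_ofPred_eq, Set.mem_image]
  rw [List.mem_take_iff_getElem]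
  constructor
  · rintro ⟨a, ha, rfl⟩
    rw [List.length_ofFn] at ha
    refine ⟨⟨a, (lt_min_iff.1 ha).2⟩, (lt_min_iff.1 ha).1, ?_⟩
    rw [List.getElem_ofFn]
  · rintro ⟨j, hj, rfl⟩
    refine ⟨j, ?_, ?_⟩
    · rw [List.length_ofFn]; exact lt_min hj j.2
    · rw [List.getElem_ofFn]

theorem isWeaklyRegular_X : RingTheory.Sequence.IsWeaklyRegular (MvPolynomial (Fin N) k)
    (List.ofFn (X : Fin N → MvPolynomial (Fin N) k)) := by
  refine ⟨fun i hi => ?_⟩
  rw [List.length_ofFn] at hi
  rw [isSMulRegular_on_quot_iff_lsmul_comap_le, List.getElem_ofFn, smul_eq_mul, Ideal.mul_top,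
    ofList_take_ofFn_X]
  intro f hf
  exact mem_span_X_of_X_mul_mem _ ⟨i, hi⟩ (by simp) f hf

end Poly

section Nak

variable {B : Type*} [CommRing B] (q : Ideal B) [q.IsPrime]

theorem exists_notMem_smul_mem_span {M : Type*} [AddCommGroup M] [Module B M] [Module.Finite B M]
    {ι : Type*} (v : ι → M)
    (hsp : Submodule.span q.ResidueField
      (Set.range fun i => (1 : q.ResidueField) ⊗ₜ[B] v i) = ⊤) :
    ∃ s : B, s ∉ q ∧ ∀ m : M, s • m ∈ Submodule.span B (Set.range v) := by
  set N := Submodule.span B (Set.range v) with hN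
  have hsurj : Function.Surjective (N.mkQ.baseChange q.ResidueField) :=
    LinearMap.lTensor_surjective _ N.mkQ_surjective
  have hzero : ∀ x, N.mkQ.baseChange q.ResidueField x = 0 := by
    intro x
    have hx : x ∈ Submodule.span q.ResidueField
        (Set.range fun i => (1 : q.ResidueField) ⊗ₜ[B] v i) := hsp ▸ Submodule.mem_top
    induction hx using Submodule.span_induction with
    | mem w hw =>
      obtain ⟨i, rfl⟩ := hw
      rw [LinearMap.baseChange_tmul]
      have : N.mkQ (v i) = 0 := by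
        rw [Submodule.mkQ_apply, Submodule.Quotient.mk_eq_zero]
        exact Submodule.subset_span ⟨i, rfl⟩
      rw [this, TensorProduct.tmul_zero]
    | zero => exact map_zero _
    | add x y _ _ hx hy => rw [map_add, hx, hy, add_zero]
    | smul a x _ hx => rw [map_smul, hx, smul_zero]
  have hsub : Subsingleton (q.ResidueField ⊗[B] (M ⧸ N)) := by
    refine ⟨fun a b => ?_⟩
    obtain ⟨a', rfl⟩ := hsurj a
    obtain ⟨b', rfl⟩ := hsurj b
    rw [hzero, hzero]
  have hns : (⟨q, inferInstance⟩ : PrimeSpectrum B) ∉ Module.support B (M ⧸ N) := by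
    rw [Module.mem_support_iff_nontrivial_residueField_tensorProduct]
    exact not_nontrivial_iff_subsingleton.mpr hsub
  rw [Module.mem_support_iff_of_finite] at hns
  obtain ⟨s, hs, hsq⟩ := SetLike.not_le_iff_exists.mp hns
  refine ⟨s, hsq, fun m => ?_⟩
  have h1 := Module.mem_annihilator.mp hs (N.mkQ m)
  rw [← map_smul, Submodule.mkQ_apply, Submodule.Quotient.mk_eq_zero] at h1
  exact h1

theorem exists_notMem_mul_mem_of_mul_mem_sup_sq (J I : Ideal B) (hJ : J.FG) (hJq : J ≤ q)
    (s : B) (hs : s ∉ q) (h : ∀ j ∈ J, s * j ∈ I ⊔ J ^ 2) :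
    ∃ t : B, t ∉ q ∧ ∀ j ∈ J, t * j ∈ I := by
  apply exists_notMem_smul_le_of_map_le q J I hJ
  set P := Localization.AtPrime q with hP
  set f := algebraMap B P with hf
  have h1 : J.map f ≤ I.map f ⊔ J.map f • J.map f := by
    rw [Ideal.map_le_iff_le_comap]
    intro j hj
    have h2 := Ideal.mem_map_of_mem f (h j hj)
    rw [Ideal.map_sup, Ideal.map_pow, map_mul, pow_two] at h2
    have hu : IsUnit (f s) := IsLocalization.map_units P (⟨s, hs⟩ : q.primeCompl)
    rw [Ideal.mem_comap, smul_eq_mul]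
    have h3 := Ideal.mul_mem_left _ (↑hu.unit⁻¹ : P) h2
    rw [← mul_assoc, IsUnit.val_inv_mul, one_mul] at h3
    exact h3
  have hjac : J.map f ≤ Ideal.jacobson ⊥ := by
    rw [IsLocalRing.jacobson_eq_maximalIdeal ⊥ bot_ne_top,
      ← Localization.AtPrime.map_eq_maximalIdeal]
    exact Ideal.map_mono hJq
  exact Submodule.le_of_le_smul_of_le_jacobson_bot (hJ.map f) hjac h1

end Nak

section Smooth

variable {A B : Type*} [CommRing A] [CommRing B] [Algebra A B]

theorem mul_mem_sup_sq [Algebra.FormallySmooth A B] (J : Ideal B)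
    [Algebra.FormallySmooth A (B ⧸ J)] {n : ℕ} (b : Fin n → B) (hb : ∀ i, b i ∈ J) (s : B)
    (hs : ∀ ω : Ω[B⁄A], s • ω ∈ Submodule.span B (Set.range fun i => D A B (b i)))
    (j : B) (hj : j ∈ J) : s * j ∈ Ideal.span (Set.range b) ⊔ J ^ 2 := by
  classical
  obtain ⟨l, hl⟩ := (Algebra.FormallySmooth.iff_split_injection (R := A) (P := B) (A := B ⧸ J)
    Ideal.Quotient.mk_surjective).mp inferInstance
  have hker : RingHom.ker (algebraMap B (B ⧸ J)) = J := Ideal.mk_ker
  obtain ⟨c, hc⟩ := (Submodule.mem_span_range_iff_exists_fun B).mp (hs (D A B j))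
  set j' := s * j - ∑ i, c i * b i with hj'def
  have hj'J : j' ∈ J :=
    sub_mem (J.mul_mem_left _ hj) (Submodule.sum_mem _ fun i _ => J.mul_mem_left _ (hb i))
  have hj' : j' ∈ RingHom.ker (algebraMap B (B ⧸ J)) := hker.symm ▸ hj'J
  have hD : D A B j' = j • D A B s - ∑ i, b i • D A B (c i) := by
    rw [hj'def, map_sub, Derivation.leibniz, map_sum, ← hc]
    simp only [Derivation.leibniz, Finset.sum_add_distrib]
    abel
  have hzero : ∀ (x : B) (ω : Ω[B⁄A]), x ∈ J → (1 : B ⧸ J) ⊗ₜ[B] (x • ω) = 0 := by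
    intro x ω hx
    rw [← TensorProduct.smul_tmul, Algebra.smul_def, mul_one]
    have : algebraMap B (B ⧸ J) x = 0 := Ideal.Quotient.eq_zero_iff_mem.mpr hx
    rw [this, TensorProduct.zero_tmul]
  have h0 : kerCotangentToTensor A B (B ⧸ J) (Ideal.toCotangent _ ⟨j', hj'⟩) = 0 := by
    rw [kerCotangentToTensor_toCotangent, hD, TensorProduct.tmul_sub, TensorProduct.tmul_sum,
      hzero _ _ hj, Finset.sum_eq_zero (fun i _ => hzero _ _ (hb i)), sub_zero]
  have h1 : Ideal.toCotangent _ (⟨j', hj'⟩ : RingHom.ker (algebraMap B (B ⧸ J))) = 0 := by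
    have h2 := LinearMap.congr_fun hl (Ideal.toCotangent _ ⟨j', hj'⟩)
    rw [LinearMap.comp_apply, h0, map_zero, LinearMap.id_apply] at h2
    exact h2.symm
  rw [Ideal.toCotangent_eq_zero] at h1
  have h1' : j' ∈ J ^ 2 := by
    have : ∀ (K : Ideal B), K = J → j' ∈ K ^ 2 → j' ∈ J ^ 2 := by
      rintro K rfl h; exact h
    exact this _ hker h1
  have hsum : s * j = ∑ i, c i * b i + j' := by rw [hj'def]; ring
  rw [hsum]
  refine Submodule.add_mem_sup (Submodule.sum_mem _ fun i _ => ?_) h1'
  exact Ideal.mul_mem_left _ _ (Ideal.subset_span ⟨i, rfl⟩)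

end Smooth

section Main

variable {A B : Type u} [CommRing A] [CommRing B] [Algebra A B]

theorem ofList_ofFn {R : Type*} [CommRing R] {n : ℕ} (f : Fin n → R) :
    Ideal.ofList (List.ofFn f) = Ideal.span (Set.range f) := by
  unfold Ideal.ofList
  congr 1
  ext r
  simp [List.mem_ofFn]

/-- `B` smooth over `A`, `J` an ideal such that `A → B ⧸ J` is bijective (a section), `q ⊇ J` a prime.
Then on a basic open neighbourhood `D(g)` of `q` the ideal `J` is generated by a weakly regular
sequence. -/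
theorem exists_regular_of_section [Algebra.Smooth A B] (J : Ideal B)
    (hbij : Function.Bijective ((Ideal.Quotient.mk J).comp (algebraMap A B)))
    (q : Ideal B) [q.IsPrime] (hJq : J ≤ q) :
    ∃ (g : B) (n : ℕ) (b : Fin n → B), g ∉ q ∧ (∀ i, b i ∈ J) ∧
      ∀ (B' : Type u) [CommRing B'] [Algebra B B'] [IsLocalization.Away g B'],
        RingTheory.Sequence.IsWeaklyRegular B' (List.ofFn fun i => algebraMap B B' (b i)) ∧
        J.map (algebraMap B B') = Ideal.ofList (List.ofFn fun i => algebraMap B B' (b i)) := by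
  classical
  have hsurj := hbij.2
  -- `B ⧸ J ≃ A`
  let e : A ≃ₐ[A] (B ⧸ J) := AlgEquiv.ofBijective (Algebra.ofId A (B ⧸ J)) hbij
  haveI : Algebra.FormallySmooth A (B ⧸ J) := Algebra.FormallySmooth.of_equiv e
  haveI : Algebra.FinitePresentation A (B ⧸ J) := Algebra.FinitePresentation.equiv e
  have hJ : J.FG := by
    have h := Algebra.FinitePresentation.ker_fG_of_surjective (Ideal.Quotient.mkₐ A J)
      (Ideal.Quotient.mkₐ_surjective A J)
    have h2 : RingHom.ker (Ideal.Quotient.mkₐ A J).toRingHom = J := Ideal.mk_ker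
    rwa [h2] at h
  haveI : Algebra.IsSmoothAt A q := by
    show Algebra.FormallySmooth A (Localization.AtPrime q)
    haveI : Algebra.FormallySmooth B (Localization.AtPrime q) :=
      Algebra.FormallySmooth.of_isLocalization q.primeCompl
    exact Algebra.FormallySmooth.comp A B (Localization.AtPrime q)
  have hspan := span_one_tmul_D_eq_top A q.ResidueField J hsurj
  obtain ⟨n, b, hbJ, hli, hsp⟩ := exists_fin_basis_of_span_image
    (fun x : B => (1 : q.ResidueField) ⊗ₜ[B] D A B x) (J : Set B) hspan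
  letI : Algebra (MvPolynomial (Fin n) A) B := (MvPolynomial.aeval b).toAlgebra
  haveI : IsScalarTower A (MvPolynomial (Fin n) A) B :=
    IsScalarTower.of_algebraMap_eq' (MvPolynomial.aeval b).comp_algebraMap.symm
  have hX : ∀ i, algebraMap (MvPolynomial (Fin n) A) B (MvPolynomial.X i) = b i :=
    fun i => MvPolynomial.aeval_X b i
  haveI : Algebra.IsEtaleAt (MvPolynomial (Fin n) A) q :=
    isEtaleAt_mvPolynomial_of_basis A b hX q hli hsp
  haveI : Algebra.FinitePresentation (MvPolynomial (Fin n) A) B :=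
    Algebra.FinitePresentation.of_restrict_scalars_finitePresentation A _ _
  -- étale locus is open
  obtain ⟨_, ⟨_, ⟨g₁, rfl⟩, rfl⟩, hg₁q, hg₁⟩ :=
    PrimeSpectrum.isBasis_basic_opens.exists_subset_of_mem_open
      (show (⟨q, inferInstance⟩ : PrimeSpectrum B) ∈ Algebra.etaleLocus (MvPolynomial (Fin n) A) B
        from ‹Algebra.IsEtaleAt (MvPolynomial (Fin n) A) q›)
      (Algebra.isOpen_etaleLocus (R := MvPolynomial (Fin n) A) (A := B))
  have hg₁q' : g₁ ∉ q := hg₁q
  -- Nakayama
  haveI : Module.Finite B Ω[B⁄A] := inferInstance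
  obtain ⟨s, hsq, hs⟩ := exists_notMem_smul_mem_span q (fun i => D A B (b i)) hsp
  obtain ⟨t, htq, ht⟩ := exists_notMem_mul_mem_of_mul_mem_sup_sq q J (Ideal.span (Set.range b)) hJ hJq
    s hsq (fun j hj => mul_mem_sup_sq J b hbJ s hs j hj)
  refine ⟨g₁ * t, n, b, ?_, hbJ, ?_⟩
  · intro hmem
    rcases (Ideal.IsPrime.mem_or_mem inferInstance hmem) with h | h
    · exact hg₁q' h
    · exact htq h
  intro B' _ _ _
  have hét : Algebra.Etale (MvPolynomial (Fin n) A) (Localization.Away (g₁ * t)) := by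
    rw [← Algebra.basicOpen_subset_etaleLocus_iff_etale]
    refine subset_trans ?_ hg₁
    rw [PrimeSpectrum.basicOpen_mul]
    exact inf_le_left
  letI : Algebra (MvPolynomial (Fin n) A) B' :=
    ((algebraMap B B').comp (algebraMap (MvPolynomial (Fin n) A) B)).toAlgebra
  haveI : IsScalarTower (MvPolynomial (Fin n) A) B B' := IsScalarTower.of_algebraMap_eq' rfl
  haveI : Module.Flat (MvPolynomial (Fin n) A) B' := by
    let e' : Localization.Away (g₁ * t) ≃ₐ[B] B' :=
      IsLocalization.algEquiv (Submonoid.powers (g₁ * t)) _ _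
    haveI : Module.Flat (MvPolynomial (Fin n) A) (Localization.Away (g₁ * t)) := inferInstance
    exact Module.Flat.of_linearEquiv
      (e'.symm.toLinearEquiv.restrictScalars (MvPolynomial (Fin n) A))
  have hreg := (isWeaklyRegular_X (k := A) (N := n)).of_flat (S := B')
  have hfun : (algebraMap (MvPolynomial (Fin n) A) B') ∘ (MvPolynomial.X : Fin n → _) =
      fun i => algebraMap B B' (b i) := by
    funext i
    rw [Function.comp_apply, IsScalarTower.algebraMap_apply (MvPolynomial (Fin n) A) B B', hX]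
  rw [List.map_ofFn, hfun] at hreg
  refine ⟨hreg, ?_⟩
  rw [ofList_ofFn]
  have hrange : Set.range (fun i => algebraMap B B' (b i)) = (algebraMap B B') '' Set.range b := by
    rw [← Set.range_comp]; rfl
  rw [hrange, ← Ideal.map_span]
  apply le_antisymm
  · rw [Ideal.map_le_iff_le_comap]
    intro j hj
    rw [Ideal.mem_comap]
    have h2 := Ideal.mem_map_of_mem (algebraMap B B') (ht j hj)
    rw [map_mul] at h2
    have hu : IsUnit (algebraMap B B' t) := by
      have h3 : IsUnit (algebraMap B B' (g₁ * t)) := IsLocalization.Away.algebraMap_isUnit (g₁ * t)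
      rw [map_mul] at h3
      exact isUnit_of_mul_isUnit_right h3
    have h3 := Ideal.mul_mem_left _ (↑hu.unit⁻¹ : B') h2
    rw [← mul_assoc, IsUnit.val_inv_mul, one_mul] at h3
    exact h3
  · apply Ideal.map_mono
    rw [Ideal.span_le]
    rintro _ ⟨i, rfl⟩
    exact hbJ i

end Main

end Groth.Agent.Lib.Helper25.SectionRegular
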