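import Mathlib

set_option autoImplicit false

namespace Groth.Agent.Lib.Helper25.GFLoc

/-- Free criterion: a family which spans and is independent up to `g`-power torsion becomes a
basis after inverting `g`. -/
theorem free_of_generic_basis {R : Type*} [CommRing R] (g : R) {N : Type*} [AddCommGroup N]
    [Module R N] {ι : Type*} (v : ι → N)
    (hspan : ∀ x : N, ∃ k : ℕ, g ^ k • x ∈ Submodule.span R (Set.range v))
    (hind : ∀ (s : Finset ι) (c : ι → R), ∑ i ∈ s, c i • v i = 0 →
      ∀ i ∈ s, ∃ k : ℕ, g ^ k * c i = 0)
    (R' : Type*) [CommRing R'] [Algebra R R'] [IsLocalization.Away g R']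
    {N' : Type*} [AddCommGroup N'] [Module R N'] [Module R' N'] [IsScalarTower R R' N']
    (f : N →ₗ[R] N') [IsLocalizedModule (Submonoid.powers g) f] : Module.Free R' N' := by
  classical
  have hgu : ∀ k : ℕ, IsUnit (algebraMap R R' (g ^ k)) := fun k =>
    IsLocalization.map_units R' (⟨g ^ k, k, rfl⟩ : Submonoid.powers g)
  have hli : LinearIndependent R' (fun i => f (v i)) := by
    rw [linearIndependent_iff']
    intro s a hsum i hi
    obtain ⟨b, hb⟩ := IsLocalization.exist_integer_multiples (Submonoid.powers g) s a
    obtain ⟨k, hk⟩ := b.2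
    choose! c hc using hb
    -- hc : ∀ i ∈ s, algebraMap R R' (c i) = b • a i
    have h1 : f (∑ i ∈ s, c i • v i) = 0 := by
      rw [map_sum]
      have : ∀ i ∈ s, f (c i • v i) = (b : R) • (a i • f (v i)) := by
        intro i hi
        rw [map_smul, ← smul_assoc, ← hc i hi, algebraMap_smul]
      rw [Finset.sum_congr rfl this, ← Finset.smul_sum, hsum, smul_zero]
    obtain ⟨u, hu⟩ := (IsLocalizedModule.eq_zero_iff (Submonoid.powers g) f).mp h1
    obtain ⟨j, hj⟩ := u.2
    have h2 : ∑ i ∈ s, (g ^ j * c i) • v i = 0 := by
      have : ∀ i ∈ s, (g ^ j * c i) • v i = (u : R) • (c i • v i) := by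
        intro i _
        rw [← hj, smul_smul]
      rw [Finset.sum_congr rfl this, ← Finset.smul_sum]
      exact hu
    obtain ⟨k', hk'⟩ := hind s (fun i => g ^ j * c i) h2 i hi
    have h3 : algebraMap R R' (c i) = 0 := by
      have : algebraMap R R' (g ^ (k' + j)) * algebraMap R R' (c i) = 0 := by
        rw [← map_mul, pow_add, mul_assoc, hk', map_zero]
      exact (hgu _).mul_right_eq_zero.mp this
    have h4 : (b : R) • a i = 0 := by rw [← hc i hi, h3]
    rw [← hk, Algebra.smul_def] at h4
    exact (hgu _).mul_right_eq_zero.mp h4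
  have hsp : ⊤ ≤ Submodule.span R' (Set.range fun i => f (v i)) := by
    intro x' _
    obtain ⟨⟨x, s⟩, hxs⟩ := IsLocalizedModule.surj (Submonoid.powers g) f x'
    obtain ⟨k, hk⟩ := hspan x
    have h1 : f (g ^ k • x) ∈ Submodule.span R' (Set.range fun i => f (v i)) := by
      have : Submodule.map f (Submodule.span R (Set.range v)) ≤
          (Submodule.span R' (Set.range fun i => f (v i))).restrictScalars R := by
        rw [Submodule.map_span, Submodule.span_le]
        rintro _ ⟨_, ⟨i, rfl⟩, rfl⟩
        exact Submodule.subset_span ⟨i, rfl⟩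
      exact this (Submodule.mem_map_of_mem hk)
    obtain ⟨j, hj⟩ := s.2
    have hj' : (s : R) = g ^ j := hj.symm
    have hxs' : (s : R) • x' = f x := hxs
    have h2 : f (g ^ k • x) = algebraMap R R' (g ^ (k + j)) • x' := by
      rw [map_smul, ← hxs', algebraMap_smul, pow_add, mul_smul, hj']
    rw [h2] at h1
    have := Submodule.smul_mem _ ((hgu (k + j)).unit⁻¹ : R'ˣ).1 h1
    rwa [smul_smul, IsUnit.val_inv_mul, one_smul] at this
  exact Module.Free.of_basis (Module.Basis.mk hli hsp)

/-- Cyclic finite presentation criterion. -/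
theorem finitePresentation_of_cyclic {S : Type*} [CommRing S] (s : S) {N : Type*}
    [AddCommGroup N] [Module S N] (n0 : N) (hn0 : ∀ x : N, ∃ a : S, x = a • n0)
    (Q : Finset S) (hQ : ∀ q ∈ Q, q • n0 = 0)
    (hker : ∀ a : S, a • n0 = 0 → ∃ k : ℕ, s ^ k * a ∈ Ideal.span (Q : Set S)) :
    Module.FinitePresentation (Localization.Away s)
      (LocalizedModule (Submonoid.powers s) N) := by
  classical
  let S' := Localization.Away s
  let N' := LocalizedModule (Submonoid.powers s) N
  let n0' : N' := LocalizedModule.mk n0 1
  let l : S' →ₗ[S'] N' := LinearMap.toSpanSingleton S' N' n0'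
  have hl : Function.Surjective l := by
    intro (x : LocalizedModule (Submonoid.powers s) N)
    induction x with
    | _ n t =>
      obtain ⟨a, rfl⟩ := hn0 n
      refine ⟨Localization.mk a t, ?_⟩
      change Localization.mk a t • LocalizedModule.mk n0 (1 : Submonoid.powers s) =
        LocalizedModule.mk (a • n0) t
      rw [LocalizedModule.mk_smul_mk, mul_one]
  have hkerl : LinearMap.ker l = Ideal.map (algebraMap S S') (Ideal.span (Q : Set S)) := by
    apply le_antisymm
    · intro x hx
      obtain ⟨a, t, rfl⟩ := IsLocalization.exists_mk'_eq (Submonoid.powers s) x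
      have h1 : Localization.mk a t • LocalizedModule.mk n0 (1 : Submonoid.powers s) = 0 := by
        rw [Localization.mk_eq_mk']; exact hx
      rw [LocalizedModule.mk_smul_mk, mul_one, ← LocalizedModule.zero_mk t,
        LocalizedModule.mk_eq] at h1
      obtain ⟨u, hu⟩ := h1
      simp only [smul_zero] at hu
      have hu : (u : S) • (t : S) • a • n0 = 0 := hu
      have h2 : ((u : S) * (t : S) * a) • n0 = 0 := by rw [mul_smul, mul_smul]; exact hu
      obtain ⟨k, hk⟩ := hker _ h2
      rw [IsLocalization.mem_map_algebraMap_iff (Submonoid.powers s)]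
      refine ⟨⟨⟨s ^ k * ((u : S) * (t : S) * a), hk⟩, t * (⟨s ^ k, k, rfl⟩ * u * t)⟩, ?_⟩
      simp only [Submonoid.coe_mul, map_mul]
      have := IsLocalization.mk'_spec S' a t
      calc IsLocalization.mk' S' a t * (algebraMap S S' t * (algebraMap S S' (s ^ k) *
            algebraMap S S' u * algebraMap S S' t))
          = (IsLocalization.mk' S' a t * algebraMap S S' t) * (algebraMap S S' (s ^ k) *
            algebraMap S S' u * algebraMap S S' t) := by ring
        _ = algebraMap S S' (s ^ k) * (algebraMap S S' u * algebraMap S S' t *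
            algebraMap S S' a) := by
            rw [this]; ring
    · rw [Ideal.map_le_iff_le_comap, Ideal.span_le]
      intro q hq
      change algebraMap S S' q ∈ LinearMap.ker l
      rw [LinearMap.mem_ker]
      change algebraMap S S' q • LocalizedModule.mk n0 (1 : Submonoid.powers s) = 0
      rw [← Localization.mk_one_eq_algebraMap, LocalizedModule.mk_smul_mk,
        hQ q hq, LocalizedModule.zero_mk]
  have hfg : (LinearMap.ker l).FG := by
    rw [hkerl]
    exact Ideal.FG.map ⟨Q, rfl⟩ _
  exact Module.finitePresentation_of_surjective l hl hfg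

theorem free_of_exact {A : Type*} [CommRing A] {M' M M'' : Type*} [AddCommGroup M']
    [AddCommGroup M] [AddCommGroup M''] [Module A M'] [Module A M] [Module A M'']
    (i : M' →ₗ[A] M) (p : M →ₗ[A] M'') (hi : Function.Injective i) (hp : Function.Surjective p)
    (hex : Function.Exact i p) [Module.Free A M'] [Module.Free A M''] : Module.Free A M := by
  obtain ⟨l, hl⟩ := Module.projective_lifting_property p .id hp
  obtain ⟨e, -, -⟩ := ((Function.Exact.split_tfae' hex).out 0 2 rfl rfl).mp ⟨hi, l, hl⟩
  exact Module.Free.of_equiv e.symm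

theorem finitePresentation_of_exact {A : Type*} [CommRing A] {M' M M'' : Type*} [AddCommGroup M']
    [AddCommGroup M] [AddCommGroup M''] [Module A M'] [Module A M] [Module A M'']
    (i : M' →ₗ[A] M) (p : M →ₗ[A] M'') (hi : Function.Injective i) (hp : Function.Surjective p)
    (hex : Function.Exact i p) [Module.FinitePresentation A M']
    [Module.FinitePresentation A M''] : Module.FinitePresentation A M := by
  have hk : LinearMap.ker p = LinearMap.range i := LinearMap.exact_iff.mp hex
  have : Module.FinitePresentation A (LinearMap.ker p) :=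
    Module.FinitePresentation.of_equiv
      ((LinearEquiv.ofInjective i hi).trans (LinearEquiv.ofEq _ _ hk.symm))
  exact Module.finitePresentation_of_ker p hp

end Groth.Agent.Lib.Helper25.GFLoc
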