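import Mathlib

/-!
# Generic freeness, step 1: the order-theoretic core

For a reduced ring `R`, a well-quasi-ordered partial order `B` and a monotone family of ideals
`L : B → Ideal R`, every nonzero `h : R` has a nonzero multiple `g` such that each `L b`
either contains `g` or is killed by `g`, and the set of `b` of the first kind is the upper set
generated by a finite set.
-/

set_option autoImplicit false

namespace Groth.Agent.Lib.Helper25.GFOrder

variable {R : Type*} [CommRing R] {B : Type*} [PartialOrder B] [WellQuasiOrderedLE B]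

/-- Every subset of a well-quasi-ordered partial order is the upper closure of a finite subset. -/
theorem exists_finset_generating (D : Set B) :
    ∃ G : Finset B, (↑G : Set B) ⊆ D ∧ ∀ b ∈ D, ∃ b' ∈ G, b' ≤ b := by
  classical
  have hpwo := Set.isPWO_of_wellQuasiOrderedLE D
  have hfin : {x | Minimal (· ∈ D) x}.Finite :=
    (setOfPred_minimal_antichain _).finite_of_partiallyWellOrderedOn
      (hpwo.mono (setOfPred_minimal_subset _))
  refine ⟨hfin.toFinset, ?_, ?_⟩
  · intro b hb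
    have : Minimal (· ∈ D) b := by simpa using hb
    exact this.1
  · intro b hb
    obtain ⟨z, hz, hz'⟩ := hpwo.exists_le_minimal hb
    exact ⟨z, by simpa using hz', hz⟩

/-- ACC for the sets `{b | P a b}` when each is an upper set of a WQO. -/
theorem wellFounded_ssubset_of_isUpperSet {A : Type*} (D : A → Set B)
    (hD : ∀ a, IsUpperSet (D a)) : WellFounded (fun a a' : A => D a' ⊂ D a) := by
  rw [wellFounded_iff_isEmpty_descending_chain]
  refine ⟨fun ⟨f, hf⟩ => ?_⟩
  have hmono : ∀ i j, i ≤ j → D (f i) ⊆ D (f j) := by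
    intro i j hij
    induction hij with
    | refl => exact subset_rfl
    | step _ ih => exact ih.trans (hf _).subset
  have hex : ∀ n, ∃ b, b ∈ D (f (n + 1)) ∧ b ∉ D (f n) := fun n =>
    Set.exists_of_ssubset (hf n)
  choose b hb1 hb2 using hex
  obtain ⟨i, j, hij, hle⟩ := (wellQuasiOrdered_le (α := B)) b
  exact hb2 j (hD _ hle (hmono (i + 1) j hij (hb1 i)))

variable [IsReduced R]

theorem exists_good (L : B → Ideal R) (hL : Monotone L) (h : R) (hh : h ≠ 0) :
    ∃ (g : R) (G : Finset B), h ∣ g ∧ g ≠ 0 ∧ (∀ b ∈ G, g ∈ L b) ∧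
      (∀ b, (∀ b' ∈ G, ¬ b' ≤ b) → ∀ c ∈ L b, g * c = 0) := by
  classical
  -- the sets Δ(𝔭)
  let D : PrimeSpectrum R → Set B := fun 𝔭 => {b | ¬ L b ≤ 𝔭.asIdeal}
  have hD : ∀ 𝔭, IsUpperSet (D 𝔭) := fun 𝔭 b b' hbb' hb hle => hb ((hL hbb').trans hle)
  have hwf := wellFounded_ssubset_of_isUpperSet D hD
  -- a prime not containing h
  have hnil : ¬ IsNilpotent h := fun hn => hh (isNilpotent_iff_eq_zero.mp hn)
  rw [nilpotent_iff_mem_prime] at hnil
  push Not at hnil
  obtain ⟨J0, hJ0, hhJ0⟩ := hnil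
  let S : Set (PrimeSpectrum R) := {𝔭 | h ∉ 𝔭.asIdeal}
  have hS : S.Nonempty := ⟨⟨J0, hJ0⟩, hhJ0⟩
  obtain ⟨𝔭, h𝔭S, h𝔭max⟩ := hwf.has_min S hS
  obtain ⟨G, hGD, hGgen⟩ := exists_finset_generating (D 𝔭)
  -- choose elements c b ∈ L b \ 𝔭 for b ∈ G
  have hc : ∀ b : B, ∃ c : R, b ∈ G → (c ∈ L b ∧ c ∉ 𝔭.asIdeal) := by
    intro b
    by_cases hb : b ∈ G
    · have : ¬ L b ≤ 𝔭.asIdeal := hGD hb
      obtain ⟨c, hc1, hc2⟩ := SetLike.not_le_iff_exists.mp this
      exact ⟨c, fun _ => ⟨hc1, hc2⟩⟩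
    · exact ⟨0, fun h' => absurd h' hb⟩
  choose c hc using hc
  refine ⟨h * ∏ b ∈ G, c b, G, Dvd.intro _ rfl, ?_, ?_, ?_⟩
  · -- g ∉ 𝔭
    have : h * ∏ b ∈ G, c b ∉ 𝔭.asIdeal := by
      intro hmem
      rcases 𝔭.isPrime.mem_or_mem hmem with h1 | h1
      · exact h𝔭S h1
      · obtain ⟨b, hbG, hb⟩ := (Ideal.IsPrime.prod_mem_iff).mp h1
        exact (hc b hbG).2 hb
    intro h0
    exact this (h0 ▸ 𝔭.asIdeal.zero_mem)
  · intro b hb
    apply Ideal.mul_mem_left
    rw [← Finset.mul_prod_erase G c hb]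
    exact Ideal.mul_mem_right _ _ (hc b hb).1
  · intro b hb x hx
    -- show g * x is in every prime
    have hred : IsNilpotent ((h * ∏ b ∈ G, c b) * x) := by
      rw [nilpotent_iff_mem_prime]
      intro J hJ
      by_cases hgJ : h * ∏ b ∈ G, c b ∈ J
      · exact Ideal.mul_mem_right _ _ hgJ
      · apply Ideal.mul_mem_left
        let 𝔮 : PrimeSpectrum R := ⟨J, hJ⟩
        have hhq : h ∉ J := fun hh' => hgJ (Ideal.mul_mem_right _ _ hh')
        have hcq : ∀ b ∈ G, c b ∉ J := by
          intro b hbG hcb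
          apply hgJ
          apply Ideal.mul_mem_left
          rw [← Finset.mul_prod_erase G c hbG]
          exact Ideal.mul_mem_right _ _ hcb
        have hsub : D 𝔭 ⊆ D 𝔮 := by
          intro b' hb'
          obtain ⟨b'', hb''G, hle⟩ := hGgen b' hb'
          have : b'' ∈ D 𝔮 := fun hle' => hcq b'' hb''G (hle' (hc b'' hb''G).1)
          exact hD 𝔮 hle this
        have hnot : ¬ (D 𝔭 ⊂ D 𝔮) := h𝔭max 𝔮 hhq
        have hsub' : D 𝔮 ⊆ D 𝔭 := by
          by_contra hcon
          exact hnot ⟨hsub, hcon⟩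
        have hbD : b ∉ D 𝔮 := by
          intro hbq
          obtain ⟨b'', hb''G, hle⟩ := hGgen b (hsub' hbq)
          exact hb b'' hb''G hle
        have : L b ≤ J := by
          by_contra hcon
          exact hbD hcon
        exact this hx
    exact isNilpotent_iff_eq_zero.mp hred

end Groth.Agent.Lib.Helper25.GFOrder
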