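import Mathlib
import Groth.Agent.Lib.Helper25.GFOrder

/-!
# Generic freeness, step 2: pseudo-division in polynomial rings

For an ideal `J` of `MvPolynomial σ R` and `g : R`, `GoodData m J g Δ Q` says that the
leading-coefficient ideals of `J` (w.r.t. the monomial order `m`) are, after inverting `g`,
the unit ideal on `Δ` (witnessed by elements of the ideal generated by the finite set `Q ⊆ J`)
and zero off `Δ`.  Consequences: pseudo-division by `Q` up to powers of `g`.
-/

set_option autoImplicit false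

namespace Groth.Agent.Lib.Helper25.GFPoly

open MvPolynomial MonomialOrder
open scoped MonomialOrder

variable {σ : Type*} {R : Type*} [CommRing R] (m : MonomialOrder σ)

/-- Induction on the leading monomial. -/
theorem induction_degree {Pr : MvPolynomial σ R → Prop} (h0 : Pr 0)
    (hstep : ∀ p, p ≠ 0 → (∀ q, (q = 0 ∨ m.degree q ≺[m] m.degree p) → Pr q) → Pr p) :
    ∀ p, Pr p := by
  classical
  let μ : MvPolynomial σ R → WithBot m.syn := fun p =>
    if p = 0 then ⊥ else ((m.toSyn (m.degree p) : m.syn) : WithBot m.syn)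
  have hwf : WellFounded (fun p q : MvPolynomial σ R => μ p < μ q) :=
    InvImage.wf μ wellFounded_lt
  intro p
  induction p using hwf.induction with
  | _ p ih =>
    by_cases hp : p = 0
    · exact hp ▸ h0
    · refine hstep p hp (fun q hq => ih q ?_)
      rcases hq with rfl | hq
      · simp only [μ, if_true, if_neg hp]
        exact WithBot.bot_lt_coe _
      · by_cases hq0 : q = 0
        · subst hq0
          simp only [μ, if_true, if_neg hp]
          exact WithBot.bot_lt_coe _
        · simp only [μ, if_neg hp, if_neg hq0]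
          exact WithBot.coe_lt_coe.mpr hq

theorem eq_zero_or_degree_lt {p : MvPolynomial σ R} {b : σ →₀ ℕ}
    (h1 : m.degree p ≼[m] b) (h2 : p.coeff b = 0) : p = 0 ∨ m.degree p ≺[m] b := by
  by_cases hp : p = 0
  · exact Or.inl hp
  · refine Or.inr (lt_of_le_of_ne h1 (fun heq => hp ?_))
    have hb : m.degree p = b := m.toSyn.injective heq
    rw [← hb] at h2
    exact m.coeff_degree_eq_zero_iff.mp h2

/-- Shifting a polynomial by a monomial. -/
theorem shift {q : MvPolynomial σ R} {b b' : σ →₀ ℕ} (hq : m.degree q ≼[m] b') (hbb' : b' ≤ b) :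
    m.degree (monomial (b - b') (1 : R) * q) ≼[m] b ∧
      (monomial (b - b') (1 : R) * q).coeff b = q.coeff b' := by
  constructor
  · refine le_trans degree_mul_le ?_
    have h1 : m.degree (monomial (b - b') (1 : R)) ≼[m] (b - b') := degree_monomial_le _
    have : m.toSyn b = m.toSyn (b - b') + m.toSyn b' := by
      rw [← map_add, tsub_add_cancel_of_le hbb']
    rw [map_add, this]
    exact add_le_add h1 hq
  · rw [coeff_monomial_mul', if_pos tsub_le_self, one_mul, tsub_tsub_cancel_of_le hbb']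

structure GoodData (J : Ideal (MvPolynomial σ R)) (g : R) (Δ : Set (σ →₀ ℕ))
    (Q : Finset (MvPolynomial σ R)) : Prop where
  sub : (↑Q : Set (MvPolynomial σ R)) ⊆ J
  lead : ∀ b ∈ Δ, ∃ q ∈ Ideal.span (Q : Set (MvPolynomial σ R)),
    m.degree q ≼[m] b ∧ q.coeff b = g
  kill : ∀ b, b ∉ Δ → ∀ q ∈ J, m.degree q ≼[m] b → g * q.coeff b = 0

namespace GoodData

variable {m} {J : Ideal (MvPolynomial σ R)} {g : R} {Δ : Set (σ →₀ ℕ)}
  {Q : Finset (MvPolynomial σ R)}

theorem span_le (hG : GoodData m J g Δ Q) : Ideal.span (Q : Set (MvPolynomial σ R)) ≤ J :=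
  Ideal.span_le.mpr hG.sub

theorem mul_right (hG : GoodData m J g Δ Q) (g' : R) : GoodData m J (g * g') Δ Q where
  sub := hG.sub
  lead := by
    intro b hb
    obtain ⟨q, hq, hd, hc⟩ := hG.lead b hb
    refine ⟨g' • q, ?_, le_trans degree_smul_le hd, ?_⟩
    · rw [smul_eq_C_mul]; exact Ideal.mul_mem_left _ _ hq
    · rw [coeff_smul, hc, smul_eq_mul, mul_comm]
  kill := by
    intro b hb q hq hd
    rw [mul_comm g g', mul_assoc, hG.kill b hb q hq hd, mul_zero]

/-- Pseudo-division. -/
theorem pseudoDiv (hG : GoodData m J g Δ Q) (p : MvPolynomial σ R) :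
    ∃ (k : ℕ) (r : MvPolynomial σ R), g ^ k • p - r ∈ Ideal.span (Q : Set (MvPolynomial σ R)) ∧
      ∀ c ∈ r.support, c ∉ Δ := by
  classical
  induction p using induction_degree m with
  | h0 => exact ⟨0, 0, by simp, by simp⟩
  | hstep p hp ih =>
    set b := m.degree p with hb
    by_cases hbΔ : b ∈ Δ
    · obtain ⟨q, hq, hd, hc⟩ := hG.lead b hbΔ
      set p' := g • p - m.leadingCoeff p • q with hp'
      have h1 : m.degree p' ≼[m] b := by
        refine le_trans degree_sub_le (sup_le ?_ ?_)
        · exact degree_smul_le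
        · exact le_trans degree_smul_le hd
      have h2 : p'.coeff b = 0 := by
        rw [hp', coeff_sub, coeff_smul, coeff_smul, hc, smul_eq_mul, smul_eq_mul]
        change g * m.leadingCoeff p - m.leadingCoeff p * g = 0
        ring
      obtain ⟨k, r, hk, hr⟩ := ih p' (eq_zero_or_degree_lt m h1 h2)
      refine ⟨k + 1, r, ?_, hr⟩
      have : g ^ (k + 1) • p - r = (g ^ k • p' - r) + (g ^ k * m.leadingCoeff p) • q := by
        rw [hp', smul_sub, smul_smul, smul_smul, pow_succ]
        abel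
      rw [this]
      refine Ideal.add_mem _ hk ?_
      rw [smul_eq_C_mul]
      exact Ideal.mul_mem_left _ _ hq
    · set p' := p - monomial b (m.leadingCoeff p) with hp'
      have h1 : m.degree p' ≼[m] b := by
        refine le_trans degree_sub_le (sup_le le_rfl ?_)
        exact degree_monomial_le _
      have h2 : p'.coeff b = 0 := by
        rw [hp', coeff_sub, coeff_monomial, if_pos rfl]
        change m.leadingCoeff p - m.leadingCoeff p = 0
        exact sub_self _
      obtain ⟨k, r, hk, hr⟩ := ih p' (eq_zero_or_degree_lt m h1 h2)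
      refine ⟨k, r + g ^ k • monomial b (m.leadingCoeff p), ?_, ?_⟩
      · have : g ^ k • p - (r + g ^ k • monomial b (m.leadingCoeff p)) = g ^ k • p' - r := by
          rw [hp', smul_sub]; abel
        rw [this]; exact hk
      · intro c hc
        have := MvPolynomial.support_add hc
        rcases Finset.mem_union.mp this with h | h
        · exact hr c h
        · have h' : c ∈ (monomial b (m.leadingCoeff p)).support :=
            MvPolynomial.support_smul h
          have : c = b := by
            have := support_monomial_subset h'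
            simpa using this
          rw [this]; exact hbΔ

/-- An element of `J` supported off `Δ` is `g`-power torsion. -/
theorem torsion_of_support (hG : GoodData m J g Δ Q) (p : MvPolynomial σ R) :
    p ∈ J → (∀ c ∈ p.support, c ∉ Δ) → ∃ k : ℕ, g ^ k • p = 0 := by
  classical
  induction p using induction_degree m with
  | h0 => exact fun _ _ => ⟨0, by simp⟩
  | hstep p hp ih =>
    intro hpJ hsupp
    set b := m.degree p with hb
    have hbΔ : b ∉ Δ := hsupp b (m.degree_mem_support hp)
    have hkill := hG.kill b hbΔ p hpJ le_rfl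
    have h1 : m.degree (g • p) ≼[m] b := degree_smul_le
    have h2 : (g • p).coeff b = 0 := by rw [coeff_smul, smul_eq_mul, hkill]
    have hJ' : g • p ∈ J := by rw [smul_eq_C_mul]; exact Ideal.mul_mem_left _ _ hpJ
    have hs' : ∀ c ∈ (g • p).support, c ∉ Δ := fun c hc => hsupp c (MvPolynomial.support_smul hc)
    obtain ⟨k, hk⟩ := ih (g • p) (eq_zero_or_degree_lt m h1 h2) hJ' hs'
    exact ⟨k + 1, by rw [pow_succ, ← smul_smul, hk]⟩

theorem exists_pow_smul_mem_span (hG : GoodData m J g Δ Q) {p : MvPolynomial σ R} (hp : p ∈ J) :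
    ∃ k : ℕ, g ^ k • p ∈ Ideal.span (Q : Set (MvPolynomial σ R)) := by
  obtain ⟨k, r, hk, hr⟩ := hG.pseudoDiv p
  have hrJ : r ∈ J := by
    have h1 : g ^ k • p ∈ J := by rw [smul_eq_C_mul]; exact Ideal.mul_mem_left _ _ hp
    have h2 := hG.span_le hk
    have : r = g ^ k • p - (g ^ k • p - r) := by abel
    rw [this]; exact J.sub_mem h1 h2
  obtain ⟨k', hk'⟩ := hG.torsion_of_support r hrJ hr
  refine ⟨k' + k, ?_⟩
  have : g ^ (k' + k) • p = g ^ k' • (g ^ k • p - r) := by
    rw [smul_sub, hk', sub_zero, smul_smul, pow_add]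
  rw [this, smul_eq_C_mul]
  exact Ideal.mul_mem_left _ _ hk

end GoodData

/-- The ideal of coefficients at `b` of elements of `J` of degree `≼ b`. -/
def leadIdeal (J : Ideal (MvPolynomial σ R)) (b : σ →₀ ℕ) : Ideal R where
  carrier := {c | ∃ q ∈ J, m.degree q ≼[m] b ∧ q.coeff b = c}
  add_mem' := by
    rintro _ _ ⟨q1, h1, d1, rfl⟩ ⟨q2, h2, d2, rfl⟩
    exact ⟨q1 + q2, J.add_mem h1 h2, le_trans degree_add_le (sup_le d1 d2), coeff_add _ _ _⟩
  zero_mem' := ⟨0, J.zero_mem, by simp [degree_zero], coeff_zero _⟩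
  smul_mem' := by
    rintro a _ ⟨q, hq, d, rfl⟩
    refine ⟨a • q, ?_, le_trans degree_smul_le d, coeff_smul _ _ _⟩
    rw [smul_eq_C_mul]; exact Ideal.mul_mem_left _ _ hq

theorem mem_leadIdeal {J : Ideal (MvPolynomial σ R)} {b : σ →₀ ℕ} {c : R} :
    c ∈ leadIdeal m J b ↔ ∃ q ∈ J, m.degree q ≼[m] b ∧ q.coeff b = c := Iff.rfl

theorem leadIdeal_mono (J : Ideal (MvPolynomial σ R)) : Monotone (leadIdeal m J) := by
  intro b' b hbb' c hc
  obtain ⟨q, hq, hd, rfl⟩ := hc
  obtain ⟨h1, h2⟩ := shift m hd hbb'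
  exact ⟨_, Ideal.mul_mem_left _ _ hq, h1, h2⟩

theorem exists_goodData [Finite σ] [IsReduced R] (J : Ideal (MvPolynomial σ R)) (h : R)
    (hh : h ≠ 0) :
    ∃ (g : R) (Δ : Set (σ →₀ ℕ)) (Q : Finset (MvPolynomial σ R)),
      h ∣ g ∧ g ≠ 0 ∧ GoodData m J g Δ Q := by
  classical
  obtain ⟨g, G, hdvd, hg0, hG1, hG2⟩ :=
    GFOrder.exists_good (leadIdeal m J) (leadIdeal_mono m J) h hh
  have hq : ∀ b : σ →₀ ℕ, ∃ q : MvPolynomial σ R, b ∈ G →
      (q ∈ J ∧ m.degree q ≼[m] b ∧ q.coeff b = g) := by
    intro b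
    by_cases hb : b ∈ G
    · obtain ⟨q, h1, h2, h3⟩ := hG1 b hb
      exact ⟨q, fun _ => ⟨h1, h2, h3⟩⟩
    · exact ⟨0, fun h' => absurd h' hb⟩
  choose q hq using hq
  refine ⟨g, {b | ∃ b' ∈ G, b' ≤ b}, G.image q, hdvd, hg0, ?_, ?_, ?_⟩
  · intro x hx
    obtain ⟨b, hb, rfl⟩ := Finset.mem_image.mp (Finset.mem_coe.mp hx)
    exact (hq b hb).1
  · rintro b ⟨b', hb', hle⟩
    obtain ⟨h1, h2⟩ := shift m (hq b' hb').2.1 hle
    refine ⟨_, Ideal.mul_mem_left _ _ (Ideal.subset_span ?_), h1, h2.trans (hq b' hb').2.2⟩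
    exact Finset.mem_coe.mpr (Finset.mem_image_of_mem q hb')
  · intro b hb p hp hd
    apply hG2 b
    · intro b' hb' hle
      exact hb ⟨b', hb', hle⟩
    · exact ⟨p, hp, hd, rfl⟩

end Groth.Agent.Lib.Helper25.GFPoly
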