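import Mathlib
import Groth.Agent.Lib.Helper25.GFPoly
import Groth.Agent.Lib.Helper25.GFLoc

/-!
# Generic freeness, step 3: modules over finite type algebras over a reduced ring
-/

set_option autoImplicit false

namespace Groth.Agent.Lib.Helper25.GFMod

open MvPolynomial
open scoped MonomialOrder
open Groth.Agent.Lib.Helper25.GFPoly

universe u

section

variable (R : Type u) [CommRing R] (S : Type u) [CommRing S] [Algebra R S]

/-- The generic freeness property of an `S`-module at `g : R`: for every multiple `g'` of `g`,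
`M[1/g']` is free over `R[1/g']` and finitely presented over `S[1/g']`. -/
def GF (M : Type u) [AddCommGroup M] [Module S M] [Module R M] [IsScalarTower R S M] (g : R) :
    Prop :=
  ∀ g' : R, g ∣ g' →
    Module.Free (Localization.Away g') (LocalizedModule (Submonoid.powers g') M) ∧
    Module.FinitePresentation (Localization.Away (algebraMap R S g'))
      (LocalizedModule (Submonoid.powers (algebraMap R S g')) M)

variable {R S}

theorem GF.mono {M : Type u} [AddCommGroup M] [Module S M] [Module R M] [IsScalarTower R S M]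
    {g g2 : R} (h : GF R S M g) (hd : g ∣ g2) : GF R S M g2 :=
  fun g' hg' => h g' (hd.trans hg')

theorem GF.of_exact {M' M M'' : Type u} [AddCommGroup M'] [Module S M'] [Module R M']
    [IsScalarTower R S M'] [AddCommGroup M] [Module S M] [Module R M] [IsScalarTower R S M]
    [AddCommGroup M''] [Module S M''] [Module R M''] [IsScalarTower R S M'']
    (i : M' →ₗ[S] M) (p : M →ₗ[S] M'') (hi : Function.Injective i) (hp : Function.Surjective p)
    (hex : Function.Exact i p) {g : R} (h' : GF R S M' g) (h'' : GF R S M'' g) :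
    GF R S M g := by
  intro g' hg'
  obtain ⟨f1, p1⟩ := h' g' hg'
  obtain ⟨f2, p2⟩ := h'' g' hg'
  constructor
  · exact GFLoc.free_of_exact
      (LocalizedModule.map (Submonoid.powers g') (i.restrictScalars R))
      (LocalizedModule.map (Submonoid.powers g') (p.restrictScalars R))
      (LocalizedModule.map_injective _ _ hi) (LocalizedModule.map_surjective _ _ hp)
      (LocalizedModule.map_exact _ _ _ hex)
  · exact GFLoc.finitePresentation_of_exact
      (LocalizedModule.map (Submonoid.powers (algebraMap R S g')) i)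
      (LocalizedModule.map (Submonoid.powers (algebraMap R S g')) p)
      (LocalizedModule.map_injective _ _ hi) (LocalizedModule.map_surjective _ _ hp)
      (LocalizedModule.map_exact _ _ _ hex)

theorem GF.of_subsingleton (M : Type u) [AddCommGroup M] [Module S M] [Module R M]
    [IsScalarTower R S M] [Subsingleton M] (g : R) : GF R S M g := by
  intro g' _
  have h1 : Subsingleton (LocalizedModule (Submonoid.powers g') M) := by
    refine ⟨fun x y => ?_⟩
    induction x with | _ n t
    induction y with | _ n' t'
    rw [Subsingleton.elim n 0, Subsingleton.elim n' 0, LocalizedModule.zero_mk,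
      LocalizedModule.zero_mk]
  have h2 : Subsingleton (LocalizedModule (Submonoid.powers (algebraMap R S g')) M) := by
    refine ⟨fun x y => ?_⟩
    induction x with | _ n t
    induction y with | _ n' t'
    rw [Subsingleton.elim n 0, Subsingleton.elim n' 0, LocalizedModule.zero_mk,
      LocalizedModule.zero_mk]
  exact ⟨inferInstance, inferInstance⟩

variable {σ : Type*} (m : MonomialOrder σ) (φ : MvPolynomial σ R →ₐ[R] S)

/-- The cyclic case. -/
theorem GF_of_goodData (hφ : Function.Surjective φ)
    {M : Type u} [AddCommGroup M] [Module S M] [Module R M] [IsScalarTower R S M]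
    (m0 : M) (hm0 : ∀ x : M, ∃ a : S, x = a • m0)
    (J : Ideal (MvPolynomial σ R)) (hJ : ∀ p, p ∈ J ↔ φ p • m0 = 0)
    {g : R} {Δ : Set (σ →₀ ℕ)} {Q : Finset (MvPolynomial σ R)} (hG : GoodData m J g Δ Q) :
    GF R S M g := by
  classical
  rintro _ ⟨e, rfl⟩
  have hG' := hG.mul_right e
  set g' := g * e
  constructor
  · -- freeness
    let v : {b : σ →₀ ℕ // b ∉ Δ} → M := fun b => φ (monomial b.1 1) • m0
    have hmon : ∀ (c : σ →₀ ℕ) (a : R), φ (monomial c a) • m0 = a • (φ (monomial c 1) • m0) := by
      intro c a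
      have : (monomial c a : MvPolynomial σ R) = a • monomial c 1 := by
        rw [smul_monomial, smul_eq_mul, mul_one]
      rw [this, map_smul, smul_assoc]
    apply GFLoc.free_of_generic_basis g' v ?_ ?_ (Localization.Away g')
      (LocalizedModule.mkLinearMap (Submonoid.powers g') M)
    · intro x
      obtain ⟨a, rfl⟩ := hm0 x
      obtain ⟨p, rfl⟩ := hφ a
      obtain ⟨k, r, hk, hr⟩ := hG'.pseudoDiv p
      refine ⟨k, ?_⟩
      have h1 : φ (g' ^ k • p - r) • m0 = 0 := (hJ _).mp (hG'.span_le hk)
      have h2 : g' ^ k • (φ p • m0) = φ r • m0 := by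
        rw [map_sub, sub_smul, map_smul, smul_assoc, sub_eq_zero] at h1
        exact h1
      rw [h2]
      have hr_sum : φ r • m0 = ∑ c ∈ r.support, φ (monomial c (coeff c r)) • m0 := by
        conv_lhs => rw [r.as_sum]
        rw [map_sum, Finset.sum_smul]
      rw [hr_sum]
      refine Submodule.sum_mem _ (fun c hc => ?_)
      rw [hmon]
      exact Submodule.smul_mem _ _ (Submodule.subset_span ⟨⟨c, hr c hc⟩, rfl⟩)
    · intro s c hsum i hi
      set p : MvPolynomial σ R := ∑ j ∈ s, monomial j.1 (c j) with hp
      have hpJ : p ∈ J := by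
        rw [hJ, hp, map_sum, Finset.sum_smul]
        rw [← hsum]
        exact Finset.sum_congr rfl (fun j _ => hmon _ _)
      have hsupp : ∀ c' ∈ p.support, c' ∉ Δ := by
        intro c' hc'
        have h1 := MvPolynomial.support_sum hc'
        obtain ⟨j, hj, hcj⟩ := Finset.mem_biUnion.mp h1
        have := support_monomial_subset hcj
        rw [Finset.mem_singleton] at this
        rw [this]; exact j.2
      obtain ⟨k, hk⟩ := hG'.torsion_of_support p hpJ hsupp
      refine ⟨k, ?_⟩
      have h1 : (g' ^ k • p).coeff i.1 = 0 := by rw [hk, coeff_zero]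
      rw [coeff_smul, smul_eq_mul] at h1
      have h2 : p.coeff i.1 = c i := by
        rw [hp, coeff_sum, Finset.sum_eq_single i]
        · rw [coeff_monomial, if_pos rfl]
        · intro j _ hji
          rw [coeff_monomial, if_neg]
          exact fun h => hji (Subtype.ext h)
        · exact fun h => absurd hi h
      rwa [h2] at h1
  · -- finite presentation
    apply GFLoc.finitePresentation_of_cyclic (algebraMap R S g') m0 hm0 (Q.image φ)
    · intro q' hq'
      obtain ⟨q, hq, rfl⟩ := Finset.mem_image.mp hq'
      exact (hJ q).mp (hG'.sub (Finset.mem_coe.mpr hq))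
    · intro a ha
      obtain ⟨p, rfl⟩ := hφ a
      obtain ⟨k, hk⟩ := hG'.exists_pow_smul_mem_span ((hJ p).mpr ha)
      refine ⟨k, ?_⟩
      have h1 := Ideal.mem_map_of_mem φ hk
      rw [Ideal.map_span] at h1
      rw [Finset.coe_image, ← map_pow, ← Algebra.smul_def, ← map_smul]
      exact h1

end

section Induction

variable {R : Type u} [CommRing R] [IsReduced R] {S : Type u} [CommRing S] [Algebra R S]
  {σ : Type*} [Finite σ]

theorem exists_GF_cyclic (m : MonomialOrder σ) (φ : MvPolynomial σ R →ₐ[R] S)
    (hφ : Function.Surjective φ)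
    {M : Type u} [AddCommGroup M] [Module S M] [Module R M] [IsScalarTower R S M]
    (m0 : M) (hm0 : ∀ x : M, ∃ a : S, x = a • m0) (h : R) (hh : h ≠ 0) :
    ∃ g : R, h ∣ g ∧ g ≠ 0 ∧ GF R S M g := by
  let J : Ideal (MvPolynomial σ R) :=
    Ideal.comap φ (LinearMap.ker (LinearMap.toSpanSingleton S M m0))
  obtain ⟨g, Δ, Q, hd, hg, hG⟩ := exists_goodData m J h hh
  refine ⟨g, hd, hg, GF_of_goodData m φ hφ m0 hm0 J (fun p => ?_) hG⟩
  simp only [J, Ideal.mem_comap, LinearMap.mem_ker, LinearMap.toSpanSingleton_apply]

theorem exists_GF_of_fin (m : MonomialOrder σ) (φ : MvPolynomial σ R →ₐ[R] S)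
    (hφ : Function.Surjective φ) :
    ∀ (t : ℕ) (M : Type u) [AddCommGroup M] [Module S M] [Module R M] [IsScalarTower R S M]
      (v : Fin t → M) (_ : Submodule.span S (Set.range v) = ⊤) (h : R) (_ : h ≠ 0),
      ∃ g : R, h ∣ g ∧ g ≠ 0 ∧ GF R S M g := by
  intro t
  induction t with
  | zero =>
    intro M _ _ _ _ v hv h hh
    have : Subsingleton M := by
      have h1 : (⊤ : Submodule S M) = ⊥ := by
        rw [← hv, Set.range_eq_empty, Submodule.span_empty]
      refine ⟨fun x y => ?_⟩
      have hx : x ∈ (⊥ : Submodule S M) := h1 ▸ Submodule.mem_top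
      have hy : y ∈ (⊥ : Submodule S M) := h1 ▸ Submodule.mem_top
      rw [(Submodule.mem_bot S).mp hx, (Submodule.mem_bot S).mp hy]
    exact ⟨h, dvd_rfl, hh, GF.of_subsingleton M h⟩
  | succ t ih =>
    intro M _ _ _ _ v hv h hh
    let M' : Submodule S M := Submodule.span S {v 0}
    have hq : Submodule.span S (Set.range fun j : Fin t => M'.mkQ (v j.succ)) = ⊤ := by
      rw [eq_top_iff]
      have h1 : Submodule.span S (Set.range v) ≤
          Submodule.comap M'.mkQ
            (Submodule.span S (Set.range fun j : Fin t => M'.mkQ (v j.succ))) := by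
        rw [Submodule.span_le]
        rintro _ ⟨j, rfl⟩
        refine Fin.cases ?_ (fun j' => ?_) j
        · have : M'.mkQ (v 0) = 0 := by
            rw [Submodule.mkQ_apply, Submodule.Quotient.mk_eq_zero]
            exact Submodule.mem_span_singleton_self _
          change M'.mkQ (v 0) ∈
            Submodule.span S (Set.range fun j : Fin t => M'.mkQ (v j.succ))
          rw [this]; exact Submodule.zero_mem _
        · exact Submodule.subset_span ⟨j', rfl⟩
      intro x _
      obtain ⟨y, rfl⟩ := M'.mkQ_surjective x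
      exact h1 (hv ▸ Submodule.mem_top)
    obtain ⟨g1, hd1, hg1, hGF1⟩ := ih (M ⧸ M') (fun j => M'.mkQ (v j.succ)) hq h hh
    have hcyc : ∀ x : M', ∃ a : S, x = a • (⟨v 0, Submodule.mem_span_singleton_self _⟩ : M') := by
      intro x
      obtain ⟨a, ha⟩ := Submodule.mem_span_singleton.mp x.2
      exact ⟨a, Subtype.ext ha.symm⟩
    obtain ⟨g2, hd2, hg2, hGF2⟩ := exists_GF_cyclic m φ hφ (M := M')
      ⟨v 0, Submodule.mem_span_singleton_self _⟩ hcyc g1 hg1
    exact ⟨g2, hd1.trans hd2, hg2, GF.of_exact M'.subtype M'.mkQ M'.injective_subtype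
      M'.mkQ_surjective (LinearMap.exact_subtype_mkQ M') hGF2 (hGF1.mono hd2)⟩

end Induction

section Main

variable (R : Type u) [CommRing R] [IsReduced R] (S : Type u) [CommRing S] [Algebra R S]
  [Algebra.FiniteType R S]

theorem exists_GF (M : Type u) [AddCommGroup M] [Module S M] [Module R M] [IsScalarTower R S M]
    [Module.Finite S M] (h : R) (hh : h ≠ 0) : ∃ g : R, h ∣ g ∧ g ≠ 0 ∧ GF R S M g := by
  obtain ⟨n, φ, hφ⟩ := Algebra.FiniteType.iff_quotient_mvPolynomial''.mp
    (inferInstance : Algebra.FiniteType R S)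
  obtain ⟨t, v, hv⟩ := Module.Finite.exists_fin (R := S) (M := M)
  exact exists_GF_of_fin MonomialOrder.lex φ hφ t M v hv h hh

/-- Generic finite presentation of a finite type algebra over a reduced ring. -/
theorem exists_algFP (h : R) (hh : h ≠ 0) : ∃ g : R, h ∣ g ∧ g ≠ 0 ∧ ∀ g' : R, g ∣ g' →
    Algebra.FinitePresentation (Localization.Away g')
      (TensorProduct R (Localization.Away g') S) := by
  classical
  obtain ⟨n, φ, hφ⟩ := Algebra.FiniteType.iff_quotient_mvPolynomial''.mp
    (inferInstance : Algebra.FiniteType R S)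
  obtain ⟨g, Δ, Q, hd, hg, hG⟩ :=
    exists_goodData (MonomialOrder.lex (σ := Fin n)) (RingHom.ker φ.toRingHom) h hh
  refine ⟨g, hd, hg, ?_⟩
  rintro _ ⟨e, rfl⟩
  have hG' := hG.mul_right e
  set g' := g * e
  let A := Localization.Away g'
  let ψ : TensorProduct R A (MvPolynomial (Fin n) R) →ₐ[A] TensorProduct R A S :=
    Algebra.TensorProduct.map (AlgHom.id A A) φ
  have hψ : Function.Surjective ψ :=
    Algebra.TensorProduct.map_surjective (AlgHom.id A A) φ Function.surjective_id hφ
  have hker : RingHom.ker ψ.toRingHom =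
      (RingHom.ker φ).map (Algebra.TensorProduct.includeRight :
        MvPolynomial (Fin n) R →ₐ[R] TensorProduct R A (MvPolynomial (Fin n) R)) := by
    rw [← Algebra.TensorProduct.lTensor_ker (A := A) φ hφ]
    rfl
  refine Algebra.FinitePresentation.of_surjective hψ ?_
  rw [hker]
  have : (RingHom.ker φ).map (Algebra.TensorProduct.includeRight :
        MvPolynomial (Fin n) R →ₐ[R] TensorProduct R A (MvPolynomial (Fin n) R)) =
      (Ideal.span (Q : Set (MvPolynomial (Fin n) R))).map
        (Algebra.TensorProduct.includeRight :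
        MvPolynomial (Fin n) R →ₐ[R] TensorProduct R A (MvPolynomial (Fin n) R)) := by
    apply le_antisymm
    · rw [Ideal.map_le_iff_le_comap]
      intro p hp
      obtain ⟨k, hk⟩ := hG'.exists_pow_smul_mem_span hp
      rw [Ideal.mem_comap]
      have h1 := Ideal.mem_map_of_mem (Algebra.TensorProduct.includeRight :
        MvPolynomial (Fin n) R →ₐ[R] TensorProduct R A (MvPolynomial (Fin n) R)) hk
      have hu : IsUnit (algebraMap R A (g' ^ k)) :=
        IsLocalization.map_units A (⟨g' ^ k, k, rfl⟩ : Submonoid.powers g')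
      have h2 : (Algebra.TensorProduct.includeRight :
          MvPolynomial (Fin n) R →ₐ[R] TensorProduct R A (MvPolynomial (Fin n) R)) (g' ^ k • p) =
          algebraMap A _ (algebraMap R A (g' ^ k)) *
          (Algebra.TensorProduct.includeRight :
          MvPolynomial (Fin n) R →ₐ[R] TensorProduct R A (MvPolynomial (Fin n) R)) p := by
        rw [map_smul, Algebra.smul_def, ← IsScalarTower.algebraMap_apply]
      rw [h2] at h1
      have h3 := Ideal.mul_mem_left _ (algebraMap A _ ((hu.unit⁻¹ : Aˣ) : A)) h1
      rwa [← mul_assoc, ← map_mul, IsUnit.val_inv_mul, map_one, one_mul] at h3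
    · exact Ideal.map_mono hG'.span_le
  rw [this, Ideal.map_span]
  exact ⟨Q.image _, by rw [Finset.coe_image]⟩

end Main

end Groth.Agent.Lib.Helper25.GFMod
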