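import Groth.Agent.Lib.Helper25.MatlisArtin
import Mathlib.Algebra.Module.SpanRankOperations

/-!
# Matlis duality: reflexivity
-/

set_option autoImplicit false

universe u v

namespace Groth.Agent.Lib.Helper25

open InjHull IsLocalRing

/-- surjectivity of the evaluation map into the double dual, in elementwise form -/
def EvalSurj (R : Type u) [CommRing R] (E : Type u) [AddCommGroup E] [Module R E]
    (M : Type u) [AddCommGroup M] [Module R M] : Prop :=
  ∀ θ : (M →ₗ[R] E) →ₗ[R] E, ∃ v : M, ∀ α : M →ₗ[R] E, θ α = α v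

theorem evalSurj_iff {R : Type u} [CommRing R] {E : Type u} [AddCommGroup E] [Module R E]
    {M : Type u} [AddCommGroup M] [Module R M] :
    EvalSurj R E M ↔
      Function.Surjective (LinearMap.applyₗ : M →ₗ[R] (M →ₗ[R] E) →ₗ[R] E) := by
  constructor
  · intro h θ
    obtain ⟨v, hv⟩ := h θ
    exact ⟨v, LinearMap.ext fun α => (hv α).symm⟩
  · intro h θ
    obtain ⟨v, hv⟩ := h θ
    exact ⟨v, fun α => (LinearMap.congr_fun hv α).symm⟩

section General

variable {R : Type u} [CommRing R] {E : Type u} [AddCommGroup E] [Module R E]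

theorem lcomp_injective_of_surjective {P M : Type u} [AddCommGroup P] [Module R P]
    [AddCommGroup M] [Module R M] (π : P →ₗ[R] M) (hπ : Function.Surjective π) :
    Function.Injective (LinearMap.lcomp R E π) := by
  intro α β h
  apply LinearMap.ext
  intro y
  obtain ⟨x, rfl⟩ := hπ y
  exact LinearMap.congr_fun h x

theorem lcomp_surjective_of_injective [Module.Injective R E] {N P : Type u} [AddCommGroup P]
    [Module R P] [AddCommGroup N] [Module R N] (ι : N →ₗ[R] P) (hι : Function.Injective ι) :
    Function.Surjective (LinearMap.lcomp R E ι) := by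
  intro α
  obtain ⟨β, hβ⟩ := Module.Injective.out ι hι α
  exact ⟨β, LinearMap.ext hβ⟩

theorem evalSurj_of_surjective [Module.Injective R E] {P M : Type u} [AddCommGroup P]
    [Module R P] [AddCommGroup M] [Module R M] (π : P →ₗ[R] M) (hπ : Function.Surjective π)
    (hP : EvalSurj R E P) : EvalSurj R E M := by
  intro θ
  obtain ⟨θ', hθ'⟩ := Module.Injective.out (LinearMap.lcomp R E π)
    (lcomp_injective_of_surjective π hπ) θ
  obtain ⟨v, hv⟩ := hP θ'
  refine ⟨π v, fun α => ?_⟩
  rw [← hθ', hv]
  rfl

theorem evalSurj_pi {ι : Type} [Fintype ι] [DecidableEq ι] {M : Type u} [AddCommGroup M]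
    [Module R M] (hM : EvalSurj R E M) : EvalSurj R E (ι → M) := by
  intro θ
  have hex : ∀ i : ι, ∃ v : M, ∀ α : M →ₗ[R] E, θ (α ∘ₗ LinearMap.proj i) = α v := by
    intro i
    obtain ⟨v, hv⟩ := hM (θ ∘ₗ LinearMap.lcomp R E (LinearMap.proj i))
    exact ⟨v, fun α => hv α⟩
  choose v hv using hex
  refine ⟨v, fun β => ?_⟩
  have hβ : β = ∑ i, (β ∘ₗ LinearMap.single R (fun _ => M) i) ∘ₗ LinearMap.proj i :=
    ((LinearMap.lsum R (fun _ : ι => M) R).apply_symm_apply β).symm
  conv_lhs => rw [hβ]
  rw [map_sum]
  simp_rw [hv]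
  conv_rhs => rw [← Finset.univ_sum_single v, map_sum]
  rfl

end General

section Local

variable {R : Type u} [CommRing R] [IsLocalRing R] {E : Type u} [AddCommGroup E] [Module R E]
  (f : ResidueField R →ₗ[R] E) (hf : IsInjectiveHull f)

include hf in
theorem evalSurj_of_injective {N P : Type u} [AddCommGroup P]
    [Module R P] [AddCommGroup N] [Module R N] (ι : N →ₗ[R] P) (hι : Function.Injective ι)
    (hP : EvalSurj R E P) : EvalSurj R E N := by
  have := hf.isInjective
  intro θ
  obtain ⟨v, hv⟩ := hP (θ ∘ₗ LinearMap.lcomp R E ι)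
  have hvr : v ∈ LinearMap.range ι := by
    by_contra hnot
    have hne : Submodule.Quotient.mk (p := LinearMap.range ι) v ≠ 0 := by
      rwa [Ne, Submodule.Quotient.mk_eq_zero]
    obtain ⟨ψ, hψ⟩ := exists_hom_ne_zero f hf hne
    apply hψ
    have h1 := hv (ψ ∘ₗ (LinearMap.range ι).mkQ)
    have h2 : (LinearMap.lcomp R E ι) (ψ ∘ₗ (LinearMap.range ι).mkQ) = 0 := by
      apply LinearMap.ext
      intro x
      change ψ (Submodule.Quotient.mk (ι x)) = 0
      rw [(Submodule.Quotient.mk_eq_zero _).2 (LinearMap.mem_range_self ι x), map_zero]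
    rw [LinearMap.comp_apply, h2, map_zero] at h1
    exact h1.symm
  obtain ⟨w, rfl⟩ := hvr
  refine ⟨w, fun α => ?_⟩
  obtain ⟨β, rfl⟩ := lcomp_surjective_of_injective (E := E) ι hι α
  exact hv β

include hf in
theorem isArtinian_dual_of_finite [IsNoetherianRing R] (M : Type u) [AddCommGroup M] [Module R M]
    [Module.Finite R M] : IsArtinian R (M →ₗ[R] E) := by
  obtain ⟨n, π, hπ⟩ := Module.Finite.exists_fin' R M
  have hE := isArtinian_of_isInjectiveHull f hf
  have h1 : IsArtinian R ((Fin n → R) →ₗ[R] E) :=
    isArtinian_of_injective (Module.piEquiv (Fin n) R E).symm.toLinearMap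
      (Module.piEquiv (Fin n) R E).symm.injective
  exact isArtinian_of_injective (LinearMap.lcomp R E π) (lcomp_injective_of_surjective π hπ)

include hf in
theorem annihilator_dual_eq (G : Type u) [AddCommGroup G] [Module R G] :
    Module.annihilator R G = Module.annihilator R (G →ₗ[R] E) := by
  ext r
  rw [Module.mem_annihilator, Module.mem_annihilator]
  constructor
  · intro h α
    apply LinearMap.ext
    intro g
    rw [LinearMap.smul_apply, ← map_smul, h g, map_zero, LinearMap.zero_apply]
  · intro h g
    by_contra hne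
    obtain ⟨α, hα⟩ := exists_hom_ne_zero f hf hne
    apply hα
    rw [map_smul, ← LinearMap.smul_apply, h α, LinearMap.zero_apply]

variable [IsNoetherianRing R] [IsAdicComplete (maximalIdeal R) R]

include hf in
/-- over a complete local ring every endomorphism of the hull is a homothety -/
theorem end_eq_smul (φ : Module.End R E) : ∃ r : R, ∀ e, φ e = r • e := by
  obtain ⟨x, rfl⟩ := (hatEnd_bijective f hf).2 φ
  obtain ⟨r, rfl⟩ := AdicCompletion.of_surjective (maximalIdeal R) R x
  refine ⟨r, fun e => ?_⟩
  obtain ⟨N, hN⟩ := isPowerTorsion_of_isInjectiveHull f hf e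
  exact hatEnd_apply _ _ _ e N r hN (AdicCompletion.evalₐ_of _ N r).symm

include hf in
theorem evalSurj_self : EvalSurj R E R := by
  intro θ
  obtain ⟨r, hr⟩ := end_eq_smul f hf
    (θ ∘ₗ (LinearMap.ringLmapEquivSelf R R E).symm.toLinearMap)
  refine ⟨r, fun α => ?_⟩
  have h1 := hr (α 1)
  have h2 : (LinearMap.ringLmapEquivSelf R R E).symm (α 1) = α :=
    (LinearMap.ringLmapEquivSelf R R E).symm_apply_apply α
  rw [LinearMap.comp_apply, LinearEquiv.coe_coe, h2] at h1
  rw [h1, ← map_smul, smul_eq_mul, mul_one]

include hf in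
theorem evalSurj_hull : EvalSurj R E E := by
  intro θ
  refine ⟨θ LinearMap.id, fun α => ?_⟩
  obtain ⟨r, hr⟩ := end_eq_smul f hf α
  have : α = r • LinearMap.id := by
    apply LinearMap.ext
    intro e
    rw [hr e]
    rfl
  rw [hr, this, map_smul]

include hf in
/-- **Matlis duality**: finite modules over a complete local ring are reflexive -/
theorem evalSurj_of_finite (M : Type u) [AddCommGroup M] [Module R M] [Module.Finite R M] :
    EvalSurj R E M := by
  have := hf.isInjective
  obtain ⟨n, π, hπ⟩ := Module.Finite.exists_fin' R M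
  exact evalSurj_of_surjective π hπ (evalSurj_pi (evalSurj_self f hf))

include hf in
theorem finite_end : Module.Finite R (Module.End R E) := by
  refine Module.Finite.of_surjective (LinearMap.toSpanSingleton R (Module.End R E) 1) ?_
  intro φ
  obtain ⟨r, hr⟩ := end_eq_smul f hf φ
  refine ⟨r, ?_⟩
  apply LinearMap.ext
  intro e
  rw [hr e]
  rfl

omit [IsAdicComplete (maximalIdeal R) R] in
include hf in
theorem exists_injective_to_pi_of_isArtinian (M : Type u) [AddCommGroup M] [Module R M]
    [IsArtinian R M] : ∃ (n : ℕ) (g : M →ₗ[R] (Fin n → E)), Function.Injective g := by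
  have := finite_socle_of_isArtinian (R := R) (M := M)
  obtain ⟨g, hg⟩ := exists_injective_to_pi_of_isPowerTorsion f hf
    (isPowerTorsion_of_isArtinian (M := M)) _ rfl
  exact ⟨_, g, hg⟩

include hf in
/-- **Matlis duality**: Artinian modules over a complete local ring are reflexive -/
theorem evalSurj_of_isArtinian (M : Type u) [AddCommGroup M] [Module R M] [IsArtinian R M] :
    EvalSurj R E M := by
  obtain ⟨n, g, hg⟩ := exists_injective_to_pi_of_isArtinian f hf M
  exact evalSurj_of_injective f hf g hg (evalSurj_pi (evalSurj_hull f hf))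

include hf in
/-- the dual of an Artinian module over a complete local ring is finite -/
theorem finite_dual_of_isArtinian (M : Type u) [AddCommGroup M] [Module R M] [IsArtinian R M] :
    Module.Finite R (M →ₗ[R] E) := by
  have := hf.isInjective
  obtain ⟨n, g, hg⟩ := exists_injective_to_pi_of_isArtinian f hf M
  have := finite_end f hf
  have h1 : Module.Finite R ((Fin n → E) →ₗ[R] E) :=
    Module.Finite.equiv (LinearMap.lsum R (fun _ : Fin n => E) R)
  exact Module.Finite.of_surjective (LinearMap.lcomp R E g) (lcomp_surjective_of_injective g hg)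

end Local

section MinGen

variable {R : Type u} [CommRing R] [IsLocalRing R]

/-- length over `R` of a finite module over the residue field is its dimension -/
theorem length_eq_finrank_quotient (V : Type v) [AddCommGroup V] [Module R V]
    [Module (R ⧸ maximalIdeal R) V] [IsScalarTower R (R ⧸ maximalIdeal R) V]
    [Module.Finite R V] :
    Module.length R V = (Module.finrank (R ⧸ maximalIdeal R) V : ℕ∞) := by
  let _ : Field (R ⧸ maximalIdeal R) := Ideal.Quotient.field _
  have : Module.Finite (R ⧸ maximalIdeal R) V := Module.Finite.of_restrictScalars_finite R _ _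
  rw [Module.length_eq_of_surjective (S := R) (R := R ⧸ maximalIdeal R)
    Ideal.Quotient.mk_surjective, Module.length_eq_finrank]

variable {E : Type u} [AddCommGroup E] [Module R E]
  (f : ResidueField R →ₗ[R] E) (hf : IsInjectiveHull f)

omit [IsLocalRing R] in
theorem range_lcomp_mkQ_smul_top (M : Type u) [AddCommGroup M] [Module R M] (J : Ideal R) :
    LinearMap.range (LinearMap.lcomp R E (J • (⊤ : Submodule R M)).mkQ) =
      LocCoh.torsionBy J (M →ₗ[R] E) := by
  ext α
  rw [Submodule.mem_torsionBySet_iff]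
  constructor
  · rintro ⟨β, rfl⟩ ⟨a, ha⟩
    apply LinearMap.ext
    intro x
    change a • β (Submodule.Quotient.mk x) = 0
    rw [← map_smul, ← Submodule.Quotient.mk_smul,
      (Submodule.Quotient.mk_eq_zero _).2 (Submodule.smul_mem_smul ha Submodule.mem_top),
      map_zero]
  · intro h
    have hle : J • (⊤ : Submodule R M) ≤ LinearMap.ker α := by
      rw [Submodule.smul_le]
      intro a ha x _
      rw [LinearMap.mem_ker, map_smul, ← LinearMap.smul_apply]
      have := h ⟨a, ha⟩
      change a • α = 0 at this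
      rw [this, LinearMap.zero_apply]
    exact ⟨Submodule.liftQ _ α hle, LinearMap.ext fun x => rfl⟩

include hf in
theorem spanFinrank_top_eq_length_socle_dual [IsNoetherianRing R] (M : Type u) [AddCommGroup M]
    [Module R M] [Module.Finite R M] :
    ((⊤ : Submodule R M).spanFinrank : ℕ∞) =
      Module.length R (LocCoh.torsionBy (maximalIdeal R) (M →ₗ[R] E)) := by
  have h1 := IsLocalRing.spanFinrank_eq_finrank_quotient (⊤ : Submodule R M) Module.Finite.fg_top
  rw [h1, ← length_eq_finrank_quotient]
  set Q := M ⧸ (maximalIdeal R • (⊤ : Submodule R M)) with hQ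
  have hlen : Module.length R Q = (Module.finrank (R ⧸ maximalIdeal R) Q : ℕ∞) :=
    length_eq_finrank_quotient Q
  have hfl : IsFiniteLength R Q := by
    rw [← Module.length_ne_top_iff, hlen]
    exact ENat.coe_ne_top _
  have hj : Function.Injective
      (LinearMap.lcomp R E (maximalIdeal R • (⊤ : Submodule R M)).mkQ) :=
    lcomp_injective_of_surjective _ (Submodule.mkQ_surjective _)
  rw [← range_lcomp_mkQ_smul_top, ← (LinearEquiv.ofInjective _ hj).length_eq,
    length_hom_eq_length f hf hfl]
  -- compare the two quotients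
  refine LinearEquiv.length_eq ?_
  refine Submodule.Quotient.equiv _ _ (Submodule.topEquiv) ?_
  rw [Submodule.map_smul'', Submodule.map_top, LinearEquiv.range]

end MinGen

section HomQuot

variable {R : Type u} [CommRing R] {E : Type v} [AddCommGroup E] [Module R E]

/-- `Hom(R/J, E) ≃ E[J]` -/
noncomputable def homQuotEquivTorsion (J : Ideal R) (E : Type v) [AddCommGroup E] [Module R E] :
    ((R ⧸ J) →ₗ[R] E) ≃ₗ[R] LocCoh.torsionBy J E := by
  refine LinearEquiv.ofBijective
    ((LinearMap.applyₗ (1 : R ⧸ J)).codRestrict _ (fun φ => hom_quot_one_mem J φ)) ⟨?_, ?_⟩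
  · intro φ ψ h
    have h1 : φ 1 = ψ 1 := congrArg Subtype.val h
    apply LinearMap.ext
    intro k
    obtain ⟨r, rfl⟩ := Ideal.Quotient.mk_surjective k
    rw [hom_quot_apply_mk, hom_quot_apply_mk, h1]
  · rintro ⟨x, hx⟩
    refine ⟨quotToTorsion J x hx, ?_⟩
    apply Subtype.ext
    change quotToTorsion J x hx (Ideal.Quotient.mk J 1) = x
    rw [quotToTorsion_mk, one_smul]

end HomQuot

section Recognize

variable {A : Type u} [CommRing A] [IsLocalRing A] [IsNoetherianRing A]
  {I : Type u} [AddCommGroup I] [Module A I]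

theorem exists_hull_of_lengths (ha : LocCoh.IsPowerTorsion (maximalIdeal A) I)
    (hb : Nonempty ((ResidueField A →ₗ[A] I) ≃ₗ[A] ResidueField A))
    (a : ℕ → Ideal A) (hcof : ∀ n : ℕ, ∃ N : ℕ, maximalIdeal A ^ N ≤ a n)
    (hcof' : ∀ N : ℕ, ∃ n : ℕ, a n ≤ maximalIdeal A ^ N)
    (hlen : ∀ n : ℕ, Module.length A (A ⧸ a n) = Module.length A ((A ⧸ a n) →ₗ[A] I)) :
    ∃ f : ResidueField A →ₗ[A] I, IsInjectiveHull f := by
  obtain ⟨E, _, _, f, hf⟩ := exists_isInjectiveHull (R := A) (ResidueField A)
  have hEinj := hf.isInjective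
  obtain ⟨e₀⟩ := hb
  -- embed `I` into `E`
  let e : LocCoh.torsionBy (maximalIdeal A) I ≃ₗ[A] ResidueField A :=
    (homResidueEquivSocle I).symm.trans e₀
  obtain ⟨g, hg⟩ := Module.Injective.out (LocCoh.torsionBy (maximalIdeal A) I).subtype
    (Submodule.subtype_injective _) (f ∘ₗ e.toLinearMap)
  have hginj : Function.Injective g := by
    apply essInj_injective_of_comp (essIn_top_iff.1 (essIn_socle_of_isPowerTorsion ha)) g
    have : g ∘ₗ (LocCoh.torsionBy (maximalIdeal A) I).subtype = f ∘ₗ e.toLinearMap :=
      LinearMap.ext hg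
    rw [this]
    exact hf.injective.comp e.injective
  -- surjectivity
  have hgsurj : Function.Surjective g := by
    intro x
    obtain ⟨N, hN⟩ := isPowerTorsion_of_isInjectiveHull f hf x
    obtain ⟨n, hn⟩ := hcof' N
    obtain ⟨N', hN'⟩ := hcof n
    have hfl : IsFiniteLength A (A ⧸ a n) := isFiniteLength_quotient_of_pow_le hN'
    have hx : x ∈ LocCoh.torsionBy (a n) E := by
      rw [Submodule.mem_torsionBySet_iff]
      rintro ⟨c, hc⟩
      exact hN c (hn hc)
    -- the restricted map
    have hmaps : ∀ y : LocCoh.torsionBy (a n) I, g y ∈ LocCoh.torsionBy (a n) E := by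
      rintro ⟨y, hy⟩
      rw [Submodule.mem_torsionBySet_iff] at hy ⊢
      intro c
      change (c : A) • g y = 0
      rw [← map_smul, hy c, map_zero]
    let g' : LocCoh.torsionBy (a n) I →ₗ[A] LocCoh.torsionBy (a n) E :=
      (g ∘ₗ (LocCoh.torsionBy (a n) I).subtype).codRestrict _ hmaps
    have hg'inj : Function.Injective g' := by
      intro y z hyz
      exact Subtype.ext (hginj (congrArg Subtype.val hyz))
    have hlenE : Module.length A (LocCoh.torsionBy (a n) E) = Module.length A (A ⧸ a n) := by
      rw [← (homQuotEquivTorsion (a n) E).length_eq, length_hom_eq_length f hf hfl]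
    have hlenI : Module.length A (LocCoh.torsionBy (a n) I) = Module.length A (A ⧸ a n) := by
      rw [← (homQuotEquivTorsion (a n) I).length_eq, hlen n]
    have hflE : IsFiniteLength A (LocCoh.torsionBy (a n) E) := by
      rw [← Module.length_ne_top_iff, hlenE, Module.length_ne_top_iff]
      exact hfl
    obtain ⟨_, _⟩ := isFiniteLength_iff_isNoetherian_isArtinian.1 hflE
    have hrange : LinearMap.range g' = ⊤ := by
      by_contra hne
      have hlt := Submodule.length_lt (R := A) hne
      rw [hlenE, ← (LinearEquiv.ofInjective _ hg'inj).length_eq, hlenI] at hlt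
      exact lt_irrefl _ hlt
    obtain ⟨y, hy⟩ := LinearMap.range_eq_top.1 hrange ⟨x, hx⟩
    exact ⟨y, congrArg Subtype.val hy⟩
  let G : I ≃ₗ[A] E := LinearEquiv.ofBijective g ⟨hginj, hgsurj⟩
  refine ⟨G.symm.toLinearMap ∘ₗ f, ?_, ?_⟩
  · exact essInj_comp hf.toIsEssentialInj (isEssentialInj_of_bijective G.symm.bijective)
  · exact injective_of_linearEquiv G.symm hEinj

end Recognize

end Groth.Agent.Lib.Helper25
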