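import Mathlib
import Groth.Agent.Lib.Helper25.GFMod

/-!
# Transport of ring hom properties from `R[1/f] ⊗ S` to `Localization.awayMap`,
and the ring-hom form of generic flatness.
-/

set_option autoImplicit false

namespace Groth.Agent.Lib.Helper25.GFAway

universe u

open TensorProduct

attribute [local instance] Algebra.TensorProduct.rightAlgebra in
theorem awayMap_iff {P : ∀ {R S : Type u} [CommRing R] [CommRing S], (R →+* S) → Prop}
    (hP : RingHom.RespectsIso @P) {R S : Type u} [CommRing R] [CommRing S] [Algebra R S] (f : R) :
    P (Localization.awayMap (algebraMap R S) f) ↔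
      P (algebraMap (Localization.Away f) (Localization.Away f ⊗[R] S)) := by
  have h0 : IsLocalization (Algebra.algebraMapSubmonoid S (Submonoid.powers f))
      (Localization.Away f ⊗[R] S) := IsLocalization.tensorRight _ (Submonoid.powers f)
  have hsub : Algebra.algebraMapSubmonoid S (Submonoid.powers f) =
      Submonoid.powers (algebraMap R S f) := by
    simp [Algebra.algebraMapSubmonoid, Submonoid.map_powers]
  rw [hsub] at h0
  have h1 : IsLocalization.Away (algebraMap R S f) (Localization.Away f ⊗[R] S) := h0
  rw [hP.isLocalization_away_iff (Localization.Away f) (Localization.Away f ⊗[R] S)]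
  have : IsLocalization.Away.map (Localization.Away f) (Localization.Away f ⊗[R] S)
      (algebraMap R S) f = algebraMap (Localization.Away f) (Localization.Away f ⊗[R] S) := by
    apply IsLocalization.ringHom_ext (Submonoid.powers f)
    ext r
    simp only [RingHom.coe_comp, Function.comp_apply, IsLocalization.Away.map,
      IsLocalization.map_eq]
    change (1 : Localization.Away f) ⊗ₜ[R] (algebraMap R S r) =
      (algebraMap R (Localization.Away f) r) ⊗ₜ[R] (1 : S)
    rw [Algebra.algebraMap_eq_smul_one, Algebra.algebraMap_eq_smul_one, TensorProduct.smul_tmul]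
  rw [this]

theorem awayMap_finitePresentation {R S : Type u} [CommRing R] [CommRing S] [Algebra R S] (f : R)
    (h : Algebra.FinitePresentation (Localization.Away f) (Localization.Away f ⊗[R] S)) :
    (Localization.awayMap (algebraMap R S) f).FinitePresentation := by
  rw [awayMap_iff RingHom.finitePresentation_respectsIso, RingHom.finitePresentation_algebraMap]
  exact h

theorem awayMap_flat {R S : Type u} [CommRing R] [CommRing S] [Algebra R S] (f : R)
    (h : Module.Flat (Localization.Away f) (Localization.Away f ⊗[R] S)) :
    (Localization.awayMap (algebraMap R S) f).Flat := by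
  rw [awayMap_iff RingHom.Flat.respectsIso, RingHom.flat_algebraMap_iff]
  exact h

/-- Generic flatness, ring hom form: for a finite type ring map `φ : R → A` with `R` reduced and
`h ≠ 0`, some nonzero multiple `g` of `h` is such that for all multiples `g'` of `g`,
`R[1/g'] → A[1/g']` is flat and of finite presentation. -/
theorem exists_flat_finitePresentation {R A : Type u} [CommRing R] [IsReduced R] [CommRing A]
    (φ : R →+* A) (hφ : φ.FiniteType) (h : R) (hh : h ≠ 0) :
    ∃ g : R, h ∣ g ∧ g ≠ 0 ∧ ∀ g' : R, g ∣ g' →
      (Localization.awayMap φ g').Flat ∧ (Localization.awayMap φ g').FinitePresentation := by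
  algebraize [φ]
  obtain ⟨g1, hd1, hg1, hGF⟩ := GFMod.exists_GF R A A h hh
  obtain ⟨g2, hd2, hg2, hFP⟩ := GFMod.exists_algFP R A g1 hg1
  refine ⟨g2, hd1.trans hd2, hg2, fun g' hg' => ⟨?_, ?_⟩⟩
  · have hfree := (hGF g' (hd2.trans hg')).1
    have h1 : Module.Free (Localization.Away g') (Localization.Away g' ⊗[R] A) :=
      Module.Free.of_equiv
        (IsLocalizedModule.isBaseChange (Submonoid.powers g') (Localization.Away g')
          (LocalizedModule.mkLinearMap (Submonoid.powers g') A)).equiv.symm
    exact awayMap_flat g' inferInstance
  · exact awayMap_finitePresentation g' (hFP g' hg')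

end Groth.Agent.Lib.Helper25.GFAway
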