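import Mathlib
import Groth.Agent.Lib.Helper25.GFAway

set_option autoImplicit false

open AlgebraicGeometry CategoryTheory

namespace Groth.Agent.Lib.Helper25.GFScheme

universe u

variable {X S : Scheme.{u}} (f : X ⟶ S)

theorem appLE_congr_prop {Q : ∀ {R S : Type u} [CommRing R] [CommRing S], (R →+* S) → Prop}
    {U1 U2 : S.Opens} {W1 W2 : X.Opens} (h1 : U1 = U2) (h2 : W1 = W2) (e1 : W1 ≤ f ⁻¹ᵁ U1)
    (e2 : W2 ≤ f ⁻¹ᵁ U2) : Q (f.appLE U1 W1 e1).hom ↔ Q (f.appLE U2 W2 e2).hom := by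
  subst h1; subst h2; rfl

theorem restrict_of_forall_exists_appLE (P : MorphismProperty Scheme.{u})
    {Q : ∀ {R S : Type u} [CommRing R] [CommRing S], (R →+* S) → Prop} [HasRingHomProperty P Q]
    (hQ : RingHom.StableUnderCompositionWithLocalizationAwaySource Q) (V₀ : S.Opens)
    (H : ∀ x : X, f x ∈ V₀ → ∃ (U : S.affineOpens) (W : X.affineOpens) (_ : x ∈ W.1)
      (e : W.1 ≤ f ⁻¹ᵁ U.1), U.1 ≤ V₀ ∧ Q (f.appLE U.1 W.1 e).hom) : P (f ∣_ V₀) := by
  rw [← Scheme.Hom.resLE_eq_morphismRestrict, HasRingHomProperty.iff_exists_appLE (P := P) hQ]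
  intro x'
  obtain ⟨U, W, hxW, e, hUV, hQ'⟩ := H x'.1 x'.2
  have hW : W.1 ≤ f ⁻¹ᵁ V₀ := e.trans (f.preimage_mono hUV)
  have hU1 : V₀.ι ''ᵁ (V₀.ι ⁻¹ᵁ U.1) = U.1 := by
    rw [Scheme.Hom.image_preimage_eq_opensRange_inf, Scheme.Opens.opensRange_ι]
    exact inf_eq_right.mpr hUV
  have hW1 : (f ⁻¹ᵁ V₀).ι ''ᵁ ((f ⁻¹ᵁ V₀).ι ⁻¹ᵁ W.1) = W.1 := by
    rw [Scheme.Hom.image_preimage_eq_opensRange_inf, Scheme.Opens.opensRange_ι]
    exact inf_eq_right.mpr hW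
  refine ⟨⟨V₀.ι ⁻¹ᵁ U.1, U.2.preimage_of_isOpenImmersion _ (by simpa using hUV)⟩,
    ⟨(f ⁻¹ᵁ V₀).ι ⁻¹ᵁ W.1, W.2.preimage_of_isOpenImmersion _ (by simpa using hW)⟩, hxW, ?_, ?_⟩
  · rw [Scheme.Hom.le_resLE_preimage_iff, hU1, hW1]
    exact e
  · rw [Scheme.Hom.resLE_appLE]
    exact (appLE_congr_prop f (Q := @Q) hU1 hW1 _ e).mpr hQ'

theorem exists_good_basicOpen [IsReduced S] [LocallyOfFiniteType f] [QuasiCompact f]
    (U₀ : S.affineOpens) (hne : (U₀.1 : Set S).Nonempty) :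
    ∃ g : Γ(S, U₀.1), g ≠ 0 ∧ ∀ x : X, f x ∈ S.basicOpen g →
      ∃ (W : X.affineOpens) (_ : x ∈ W.1) (e : W.1 ≤ f ⁻¹ᵁ (S.basicOpen g)),
        RingHom.Flat (f.appLE (S.basicOpen g) W.1 e).hom ∧
        RingHom.FinitePresentation (f.appLE (S.basicOpen g) W.1 e).hom := by
  classical
  have : Nonempty U₀.1 := hne.to_subtype
  have hnt : Nontrivial Γ(S, U₀.1) := inferInstance
  have hc : IsCompact (f ⁻¹ᵁ U₀.1 : Set X) := f.isCompact_preimage U₀.2.isCompact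
  obtain ⟨s, hsfin, hs⟩ := isCompact_iff_finite_and_eq_biUnion_affineOpens.mp hc
  have chain : ∀ t : Finset X.affineOpens, ∀ h : Γ(S, U₀.1), h ≠ 0 → ∃ g : Γ(S, U₀.1),
      h ∣ g ∧ g ≠ 0 ∧ ∀ W ∈ t, ∀ e : W.1 ≤ f ⁻¹ᵁ U₀.1, ∀ g', g ∣ g' →
        (Localization.awayMap (f.appLE U₀.1 W.1 e).hom g').Flat ∧
        (Localization.awayMap (f.appLE U₀.1 W.1 e).hom g').FinitePresentation := by
    intro t
    induction t using Finset.induction_on with
    | empty => exact fun h hh => ⟨h, dvd_rfl, hh, by simp⟩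
    | insert W t hWt ih =>
      intro h hh
      obtain ⟨g1, hd1, hg1, H1⟩ := ih h hh
      by_cases e : W.1 ≤ f ⁻¹ᵁ U₀.1
      · have hft : (f.appLE U₀.1 W.1 e).hom.FiniteType :=
          HasRingHomProperty.appLE @LocallyOfFiniteType f inferInstance U₀ W e
        obtain ⟨g2, hd2, hg2, H2⟩ :=
          GFAway.exists_flat_finitePresentation (f.appLE U₀.1 W.1 e).hom hft g1 hg1
        refine ⟨g2, hd1.trans hd2, hg2, ?_⟩
        intro W' hW' e' g' hg'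
        rcases Finset.mem_insert.mp hW' with rfl | hW'
        · exact H2 g' hg'
        · exact H1 W' hW' e' g' (hd2.trans hg')
      · refine ⟨g1, hd1, hg1, ?_⟩
        intro W' hW' e' g' hg'
        rcases Finset.mem_insert.mp hW' with rfl | hW'
        · exact absurd e' e
        · exact H1 W' hW' e' g' hg'
  obtain ⟨g, -, hg, H⟩ := chain hsfin.toFinset 1 one_ne_zero
  refine ⟨g, hg, ?_⟩
  intro x hx
  have hx0 : x ∈ f ⁻¹ᵁ U₀.1 := S.basicOpen_le g hx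
  rw [hs] at hx0
  simp only [TopologicalSpace.Opens.mem_iSup] at hx0
  obtain ⟨W, hWs, hxW⟩ := hx0
  have e : W.1 ≤ f ⁻¹ᵁ U₀.1 := by
    rw [hs]
    exact le_iSup₂ (f := fun (i : X.affineOpens) (_ : i ∈ s) => (i : X.Opens)) W hWs
  obtain ⟨hfl, hfp⟩ := H W (hsfin.mem_toFinset.mpr hWs) e g dvd_rfl
  have hbo : X.basicOpen (f.appLE U₀.1 W.1 e g) = W.1 ⊓ f ⁻¹ᵁ (S.basicOpen g) :=
    Scheme.basicOpen_appLE f W.1 U₀.1 e g
  have e' : X.basicOpen (f.appLE U₀.1 W.1 e g) ≤ f ⁻¹ᵁ (S.basicOpen g) := by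
    rw [hbo]; exact inf_le_right
  refine ⟨⟨X.basicOpen (f.appLE U₀.1 W.1 e g), W.2.basicOpen _⟩, ?_, e', ?_⟩
  · change x ∈ X.basicOpen (f.appLE U₀.1 W.1 e g)
    rw [hbo]; exact ⟨hxW, hx⟩
  · have key := U₀.2.appLE_eq_away_map f W.2 e g
    have := U₀.2.isLocalization_basicOpen g
    have := W.2.isLocalization_basicOpen (f.appLE U₀.1 W.1 e g)
    constructor
    · rw [key]
      exact (RingHom.Flat.respectsIso.isLocalization_away_iff Γ(S, S.basicOpen g)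
        Γ(X, X.basicOpen (f.appLE U₀.1 W.1 e g)) (f.appLE U₀.1 W.1 e).hom g).mp hfl
    · rw [key]
      exact (RingHom.finitePresentation_respectsIso.isLocalization_away_iff Γ(S, S.basicOpen g)
        Γ(X, X.basicOpen (f.appLE U₀.1 W.1 e g)) (f.appLE U₀.1 W.1 e).hom g).mp hfp

/-- Generic flatness over a reduced base. -/
theorem generic_flatness [IsReduced S] [LocallyOfFiniteType f] [QuasiCompact f] :
    ∃ U : S.Opens, Dense (U : Set S) ∧ Flat (f ∣_ U) ∧ LocallyOfFinitePresentation (f ∣_ U) := by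
  let Good : S.Opens → Prop := fun V => ∀ x : X, f x ∈ V →
    ∃ (U : S.affineOpens) (W : X.affineOpens) (_ : x ∈ W.1) (e : W.1 ≤ f ⁻¹ᵁ U.1), U.1 ≤ V ∧
      RingHom.Flat (f.appLE U.1 W.1 e).hom ∧ RingHom.FinitePresentation (f.appLE U.1 W.1 e).hom
  let U : S.Opens := sSup {V | Good V}
  have hU : Good U := by
    intro x hx
    obtain ⟨V, hV, hxV⟩ := TopologicalSpace.Opens.mem_sSup.mp hx
    obtain ⟨U', W, hxW, e, hle, h1, h2⟩ := hV x hxV
    exact ⟨U', W, hxW, e, hle.trans (le_sSup hV), h1, h2⟩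
  refine ⟨U, ?_, ?_, ?_⟩
  · rw [dense_iff_inter_open]
    intro W₀ hW₀ ⟨y, hy⟩
    obtain ⟨_, ⟨U₀', ⟨hU₀', rfl⟩⟩, hyU₀, hU₀W₀⟩ :=
      S.isBasis_affineOpens.exists_subset_of_mem_open hy hW₀
    let U₀ : S.affineOpens := ⟨U₀', hU₀'⟩
    obtain ⟨g, hg, H⟩ := exists_good_basicOpen f U₀ ⟨y, hyU₀⟩
    have hne : S.basicOpen g ≠ ⊥ := fun h0 => hg ((basicOpen_eq_bot_iff g).mp h0)
    obtain ⟨z, hz⟩ : ∃ z, z ∈ S.basicOpen g := by
      by_contra hcon
      push Not at hcon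
      exact hne (TopologicalSpace.Opens.ext (Set.eq_empty_of_forall_notMem hcon))
    have hGood : Good (S.basicOpen g) := by
      intro x hx
      obtain ⟨W, hxW, e, h1, h2⟩ := H x hx
      exact ⟨⟨S.basicOpen g, U₀.2.basicOpen g⟩, W, hxW, e, le_rfl, h1, h2⟩
    have hle : S.basicOpen g ≤ U := le_sSup (show S.basicOpen g ∈ {V | Good V} from hGood)
    exact ⟨z, hU₀W₀ (S.basicOpen_le g hz), hle hz⟩
  · apply restrict_of_forall_exists_appLE f @Flat
      (RingHom.Flat.stableUnderComposition.stableUnderCompositionWithLocalizationAway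
        RingHom.Flat.holdsForLocalizationAway).left U
    intro x hx
    obtain ⟨U', W, hxW, e, hle, h1, h2⟩ := hU x hx
    exact ⟨U', W, hxW, e, hle, h1⟩
  · apply restrict_of_forall_exists_appLE f @LocallyOfFinitePresentation
      (RingHom.finitePresentation_stableUnderComposition.stableUnderCompositionWithLocalizationAway
        RingHom.finitePresentation_holdsForLocalizationAway).left U
    intro x hx
    obtain ⟨U', W, hxW, e, hle, h1, h2⟩ := hU x hx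
    exact ⟨U', W, hxW, e, hle, h2⟩

end Groth.Agent.Lib.Helper25.GFScheme
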