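import Mathlib

/-! Reducedness of fibres over generic points of irreducible components. -/

open AlgebraicGeometry CategoryTheory Limits TensorProduct

namespace Groth.Agent.Lib.Helper25.RedFiber

universe u

theorem isReduced_fiber_of_mem_minimalPrimes {R S : Type*} [CommRing R] [CommRing S]
    [Algebra R S] [IsReduced S] (p : Ideal R) [p.IsPrime] (hp : p ∈ minimalPrimes R) :
    IsReduced (p.Fiber S) := by
  let _ : Algebra S (p.Fiber S) := Algebra.TensorProduct.rightAlgebra
  let e := Ideal.Fiber.algEquivQuotient (S := S) p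
  have hbot : (IsLocalRing.maximalIdeal (Localization p.primeCompl)).map
      (algebraMap (Localization p.primeCompl)
        (Localization (Algebra.algebraMapSubmonoid S p.primeCompl))) = ⊥ := by
    rw [eq_bot_iff, Ideal.map_le_iff_le_comap]
    intro x hx
    have hnil : IsNilpotent x := by
      have := IsLocalization.subsingleton_primeSpectrum_of_mem_minimalPrimes p hp
        (Localization p.primeCompl)
      rw [← mem_nilradical, nilradical_eq_sInf, Ideal.mem_sInf]
      intro q hq
      have : (⟨q, hq⟩ : PrimeSpectrum _) = IsLocalRing.closedPoint _ := Subsingleton.elim _ _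
      have h2 := congrArg PrimeSpectrum.asIdeal this
      simp only [IsLocalRing.closedPoint] at h2
      rw [h2]
      exact hx
    simp only [Ideal.mem_comap, Ideal.mem_bot]
    exact (hnil.map _).eq_zero
  have : IsReduced ((Localization (Algebra.algebraMapSubmonoid S p.primeCompl)) ⧸
      (IsLocalRing.maximalIdeal (Localization p.primeCompl)).map
      (algebraMap (Localization p.primeCompl)
        (Localization (Algebra.algebraMapSubmonoid S p.primeCompl)))) := by
    rw [← Ideal.isRadical_iff_quotient_reduced, hbot]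
    exact Ideal.isRadical_bot
  exact isReduced_of_injective e.toRingEquiv e.injective

/-- The closed subscheme defined by the nilradical is reduced. -/
theorem isReduced_nilradical_subscheme (X : Scheme.{u}) : IsReduced X.nilradical.subscheme := by
  rw [IsReduced.iff_of_openCover (𝒰 := X.nilradical.subschemeCover.openCover)]
  change (∀ U : X.affineOpens,
    IsReduced (Spec (CommRingCat.of (Γ(X, U) ⧸ X.nilradical.ideal U))))
  intro U
  rw [affine_isReduced_iff]
  change _root_.IsReduced (Γ(X, U) ⧸ X.nilradical.ideal U)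
  rw [← Ideal.isRadical_iff_quotient_reduced]
  exact Ideal.radical_isRadical _

theorem isReduced_fiber_Spec {R S : Type u} [CommRing R] [CommRing S] [Algebra R S]
    [IsReduced S] (p : PrimeSpectrum R) (hp : p.asIdeal ∈ minimalPrimes R) :
    IsReduced ((Spec.map (CommRingCat.ofHom <| algebraMap R S)).fiber p) := by
  have := isReduced_fiber_of_mem_minimalPrimes (S := S) p.asIdeal hp
  have e : (Spec.map (CommRingCat.ofHom <| algebraMap R S)).fiber p ≅
      Spec (CommRingCat.of (p.asIdeal.Fiber S)) :=
    Arrow.leftFunc.mapIso (Spec.fiberToSpecResidueFieldIso R S p)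
  have : IsReduced (Spec (CommRingCat.of (p.asIdeal.Fiber S))) := inferInstance
  exact isReduced_of_isOpenImmersion e.hom

theorem isReduced_fiber_Spec' {R S : CommRingCat.{u}} (φ : R ⟶ S)
    [IsReduced S] (p : PrimeSpectrum R) (hp : p.asIdeal ∈ minimalPrimes R) :
    IsReduced ((Spec.map φ).fiber p) := by
  algebraize [φ.hom]
  exact isReduced_fiber_Spec (R := R) (S := S) p hp

theorem isReduced_fiber_of_closure_mem_irreducibleComponents {X Y : Scheme.{u}} [IsReduced X]
    (g : X ⟶ Y) (η : Y) (hη : closure {η} ∈ irreducibleComponents Y) :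
    IsReduced (g.fiber η) := by
  change IsReduced (pullback g (Y.fromSpecResidueField η))
  suffices H : ∀ t : ↥(pullback g (Y.fromSpecResidueField η)),
      ∃ (Z : Scheme.{u}) (j : Z ⟶ pullback g (Y.fromSpecResidueField η)),
      IsOpenImmersion j ∧ IsReduced Z ∧ t ∈ Set.range j by
    choose Z j hj hZ ht using H
    let 𝒰 : (pullback g (Y.fromSpecResidueField η)).OpenCover :=
      Scheme.Cover.mkOfCovers _ Z j (fun t => ⟨t, ht t⟩) hj
    have : ∀ i, IsReduced (𝒰.X i) := hZ
    exact IsReduced.of_openCover _ 𝒰
  intro t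
  have hgx : g (pullback.fst g (Y.fromSpecResidueField η) t) = η := by
    have : pullback.fst g (Y.fromSpecResidueField η) t ∈ Set.range (g.fiberι η) := ⟨t, rfl⟩
    rw [g.range_fiberι] at this
    exact this
  obtain ⟨_, ⟨V, hV0, rfl⟩, hηV, -⟩ :=
    Y.isBasis_affineOpens.exists_subset_of_mem_open (Set.mem_univ η) isOpen_univ
  obtain ⟨_, ⟨U, hU0, rfl⟩, hxU, hUV⟩ :=
    X.isBasis_affineOpens.exists_subset_of_mem_open
      (show pullback.fst g (Y.fromSpecResidueField η) t ∈ (g ⁻¹ᵁ V : Set X) by
        rw [Scheme.Hom.coe_preimage, Set.mem_preimage, hgx]; exact hηV)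
      (g ⁻¹ᵁ V).isOpen
  have hUV' : U ≤ g ⁻¹ᵁ V := hUV
  have hV : IsAffineOpen V := hV0
  have hU : IsAffineOpen U := hU0
  obtain ⟨p, hp⟩ : ∃ p : Spec Γ(Y, V), hV.fromSpec p = η := by
    have : η ∈ Set.range hV.fromSpec := by rw [hV.range_fromSpec]; exact hηV
    exact this
  subst hp
  have hpmin : (show PrimeSpectrum Γ(Y, V) from p).asIdeal ∈ minimalPrimes Γ(Y, V) := by
    rw [← PrimeSpectrum.vanishingIdeal_singleton, PrimeSpectrum.vanishingIdeal_mem_minimalPrimes]
    have := preimage_mem_irreducibleComponents hη hV.fromSpec.isOpenEmbedding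
      ⟨hV.fromSpec p, subset_closure rfl, p, rfl⟩
    rwa [← Set.image_singleton, ← hV.fromSpec.isOpenEmbedding.closure_eq_preimage_closure_image] at this
  have hred : IsReduced (pullback (Spec.map (g.appLE V U hUV'))
      ((Spec Γ(Y, V)).fromSpecResidueField p)) :=
    isReduced_fiber_Spec' _ p hpmin
  refine ⟨_, pullback.map (Spec.map (g.appLE V U hUV')) ((Spec Γ(Y, V)).fromSpecResidueField p)
    g (Y.fromSpecResidueField (hV.fromSpec p)) hU.fromSpec
    (Spec.map (hV.fromSpec.residueFieldMap p)) hV.fromSpec
    (IsAffineOpen.SpecMap_appLE_fromSpec g hV hU hUV')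
    (Scheme.Hom.SpecMap_residueFieldMap_fromSpecResidueField _ _).symm, inferInstance, hred, ?_⟩
  rw [Scheme.Pullback.range_map]
  refine ⟨?_, ?_⟩
  · rw [Set.mem_preimage, hU.range_fromSpec]
    exact hxU
  · rw [Set.mem_preimage]
    have : Function.Surjective (Spec.map (hV.fromSpec.residueFieldMap p)) := by
      exact (Scheme.Hom.homeomorph (Spec.map (hV.fromSpec.residueFieldMap p))).surjective
    exact this _

end Groth.Agent.Lib.Helper25.RedFiber
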