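import Mathlib

/-! Pointwise descent of flatness along a flat local homomorphism. -/

set_option autoImplicit false
universe u

namespace Groth.Agent.Lib.Helper25.FlatDescentPoint

theorem flat_of_faithfullyFlat_comp (A B C : Type u) [CommRing A] [CommRing B] [CommRing C]
    [Algebra A B] [Algebra B C] [Algebra A C] [IsScalarTower A B C]
    [Module.Flat A C] [Module.FaithfullyFlat B C] :
    Module.Flat A B := by
  rw [Module.Flat.iff_lTensor_preserves_injective_linearMap]
  intro N P _ _ _ _ f hf
  have h1 : Function.Injective (f.baseChange B) := by
    rw [← Module.FaithfullyFlat.lTensor_injective_iff_injective B C]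
    have h2 : Function.Injective (f.baseChange C) := by
      rw [LinearMap.baseChange_eq_ltensor]
      exact Module.Flat.lTensor_preserves_injective_linearMap f hf
    have h3 : (f.baseChange B).lTensor C =
        (TensorProduct.AlgebraTensorModule.cancelBaseChange A B C C P).symm.toLinearMap.restrictScalars B ∘ₗ
          (f.baseChange C).restrictScalars B ∘ₗ
          (TensorProduct.AlgebraTensorModule.cancelBaseChange A B C C N).toLinearMap.restrictScalars B := by
      ext c b
      simp
    rw [h3]
    simp only [LinearMap.coe_comp, LinearMap.coe_restrictScalars, LinearEquiv.coe_coe]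
    exact (LinearEquiv.injective _).comp (h2.comp (LinearEquiv.injective _))
  rw [← LinearMap.baseChange_eq_ltensor]
  exact h1

theorem flat_localization_of_flat {A B C : Type u} [CommRing A] [CommRing B] [CommRing C]
    [Algebra A B] [Algebra B C] [Algebra A C] [IsScalarTower A B C]
    (q : Ideal B) (r : Ideal C) [q.IsPrime] [r.IsPrime] [r.LiesOver q]
    [Module.Flat B (Localization.AtPrime r)] [Module.Flat A (Localization.AtPrime r)] :
    Module.Flat A (Localization.AtPrime q) := by
  let := Localization.AtPrime.algebraOfLiesOver q r
  have hflat : Module.Flat (Localization.AtPrime q) (Localization.AtPrime r) := by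
    rw [Module.flat_iff_of_isLocalization (Localization.AtPrime q) q.primeCompl]
    infer_instance
  have hff : Module.FaithfullyFlat (Localization.AtPrime q) (Localization.AtPrime r) :=
    Module.FaithfullyFlat.of_flat_of_isLocalHom
  have : IsScalarTower A (Localization.AtPrime q) (Localization.AtPrime r) :=
    .to₁₃₄ _ B _ _
  exact flat_of_faithfullyFlat_comp A (Localization.AtPrime q) (Localization.AtPrime r)

end Groth.Agent.Lib.Helper25.FlatDescentPoint
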