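import Mathlib

/-! Descent of unramifiedness / étaleness at a point along a flat local homomorphism. -/

set_option autoImplicit false

open IsLocalRing

namespace Groth.Agent.Lib.Helper25.UnramDescent

variable {A B C : Type*} [CommRing A] [CommRing B] [CommRing C] [Algebra A B] [Algebra B C]
  [Algebra A C] [IsScalarTower A B C]

/-- If `C` is unramified over `A` at `r`, and `C_r` is flat over `B`, then `B` is unramified over `A`
at `q = r ∩ B`. -/
theorem isUnramifiedAt_of_flat [Algebra.EssFiniteType A B] [Algebra.EssFiniteType A C]
    (q : Ideal B) (r : Ideal C) [q.IsPrime] [r.IsPrime] [r.LiesOver q]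
    [Algebra.IsUnramifiedAt A r] [Module.Flat B (Localization.AtPrime r)] :
    Algebra.IsUnramifiedAt A q := by
  let p₀ : Ideal A := q.under A
  have : r.LiesOver p₀ := .trans r q p₀
  let := Localization.AtPrime.algebraOfLiesOver p₀ q
  let := Localization.AtPrime.algebraOfLiesOver q r
  let := Localization.AtPrime.algebraOfLiesOver p₀ r
  rw [Algebra.isUnramifiedAt_iff_map_eq A p₀ q]
  have ⟨h₁, h₂⟩ := (Algebra.isUnramifiedAt_iff_map_eq A p₀ r).mp ‹_›
  refine ⟨Algebra.isSeparable_tower_bot_of_isSeparable _ _ r.ResidueField, ?_⟩
  have hflat : Module.Flat (Localization.AtPrime q) (Localization.AtPrime r) := by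
    rw [Module.flat_iff_of_isLocalization (Localization.AtPrime q) q.primeCompl]
    infer_instance
  have hff : Module.FaithfullyFlat (Localization.AtPrime q) (Localization.AtPrime r) :=
    Module.FaithfullyFlat.of_flat_of_isLocalHom
  have key : ∀ I : Ideal (Localization.AtPrime q),
      (I.map (algebraMap (Localization.AtPrime q) (Localization.AtPrime r))).comap
        (algebraMap (Localization.AtPrime q) (Localization.AtPrime r)) = I :=
    fun I => Ideal.comap_map_eq_self_of_faithfullyFlat I
  rw [← key (p₀.map (algebraMap A (Localization.AtPrime q))), ← key (maximalIdeal _)]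
  congr 1
  apply le_antisymm
  · apply Ideal.map_mono
    rw [Ideal.map_le_iff_le_comap]
    intro a ha
    rw [Ideal.mem_comap, ← Localization.AtPrime.map_eq_maximalIdeal,
      IsScalarTower.algebraMap_apply A B (Localization.AtPrime q)]
    apply Ideal.mem_map_of_mem
    exact ha
  · rw [Ideal.map_map, ← IsScalarTower.algebraMap_eq, h₂]
    have hloc : IsLocalHom (algebraMap (Localization.AtPrime q) (Localization.AtPrime r)) :=
      inferInstance
    exact ((local_hom_TFAE (algebraMap (Localization.AtPrime q) (Localization.AtPrime r))).out 0 2).mp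
      hloc

end Groth.Agent.Lib.Helper25.UnramDescent
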