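import Mathlib
import Groth.Agent.Lib.Helper13.SchemeLocal
import Groth.Agent.Lib.Helper25.UnramDescent
import Groth.Agent.Lib.Helper25.EtaleAtPoint
import Groth.Agent.Lib.Helper25.FlatDescentPoint

/-! Descent of unramifiedness / étaleness at a point along a morphism flat at a point. -/

set_option autoImplicit false
universe u

open CategoryTheory AlgebraicGeometry

namespace Groth.Agent.Lib.Helper25.DescentAtPoint

variable {X Y S : Scheme.{u}}

/-- charts around `x`, `g x`, `f (g x)`. -/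
theorem exists_charts (f : Y ⟶ S) (g : X ⟶ Y) (x : X) :
    ∃ (U : S.Opens) (_ : IsAffineOpen U) (V : Y.Opens) (_ : IsAffineOpen V)
      (W : X.Opens) (_ : IsAffineOpen W), V ≤ f ⁻¹ᵁ U ∧ W ≤ g ⁻¹ᵁ V ∧ x ∈ W := by
  obtain ⟨_, ⟨U, hU, rfl⟩, hxU, -⟩ :=
    S.isBasis_affineOpens.exists_subset_of_mem_open (Set.mem_univ (f (g x))) isOpen_univ
  obtain ⟨_, ⟨V, hV, rfl⟩, hxV, hVU⟩ :=
    Y.isBasis_affineOpens.exists_subset_of_mem_open hxU (U.2.preimage f.continuous)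
  obtain ⟨_, ⟨W, hW, rfl⟩, hxW, hWV⟩ :=
    X.isBasis_affineOpens.exists_subset_of_mem_open hxV (V.2.preimage g.continuous)
  exact ⟨U, hU, V, hV, W, hW, hVU, hWV, hxW⟩

theorem formallyUnramified_stalkMap_of_flat (f : Y ⟶ S) (g : X ⟶ Y)
    [LocallyOfFiniteType f] [LocallyOfFiniteType (g ≫ f)] (x : X)
    (hg : (g.stalkMap x).hom.Flat) (hh : ((g ≫ f).stalkMap x).hom.FormallyUnramified) :
    (f.stalkMap (g x)).hom.FormallyUnramified := by
  obtain ⟨U, hU, V, hV, W, hW, hVU, hWV, hxW⟩ := exists_charts f g x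
  have hWU : W ≤ (g ≫ f) ⁻¹ᵁ U := fun z hz => hVU (hWV hz)
  have hft1 := f.finiteType_appLE hU hV hVU
  have hft2 := (g ≫ f).finiteType_appLE hU hW hWU
  let _ : Algebra Γ(S, U) Γ(Y, V) := (f.appLE U V hVU).hom.toAlgebra
  let _ : Algebra Γ(Y, V) Γ(X, W) := (g.appLE V W hWV).hom.toAlgebra
  let _ : Algebra Γ(S, U) Γ(X, W) := ((g ≫ f).appLE U W hWU).hom.toAlgebra
  have : IsScalarTower Γ(S, U) Γ(Y, V) Γ(X, W) := .of_algebraMap_eq' <| by
    change ((g ≫ f).appLE U W hWU).hom = (g.appLE V W hWV).hom.comp (f.appLE U V hVU).hom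
    rw [← CommRingCat.hom_comp, Scheme.Hom.appLE_comp_appLE]
  have : Algebra.FiniteType Γ(S, U) Γ(Y, V) := hft1
  have : Algebra.FiniteType Γ(S, U) Γ(X, W) := hft2
  rw [Groth.Agent.Lib.Helper13.formallyUnramified_stalkMap_iff U hU V hV hVU (hWV hxW)]
  rw [Groth.Agent.Lib.Helper13.formallyUnramified_stalkMap_iff U hU W hW hWU hxW] at hh
  rw [Groth.Agent.Lib.Helper13.flat_stalkMap_iff V hV W hW hWV hxW] at hg
  let r : Ideal Γ(X, W) := (hW.primeIdealOf ⟨x, hxW⟩).asIdeal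
  let q : Ideal Γ(Y, V) := (hV.primeIdealOf ⟨g x, hWV hxW⟩).asIdeal
  have hrq : r.LiesOver q :=
    ⟨congr($(IsAffineOpen.comap_primeIdealOf_appLE V hV W hW hWV hxW).1).symm⟩
  have : Algebra.IsUnramifiedAt Γ(S, U) r := hh
  have : Module.Flat Γ(Y, V) (Localization.AtPrime r) := hg
  exact UnramDescent.isUnramifiedAt_of_flat q r

theorem formallySmooth_stalkMap_of_flat_of_unramified (f : Y ⟶ S) (g : X ⟶ Y)
    [LocallyOfFinitePresentation f] [LocallyOfFiniteType (g ≫ f)] (x : X)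
    (hg : (g.stalkMap x).hom.Flat) (hh : ((g ≫ f).stalkMap x).hom.FormallyUnramified)
    (hh' : ((g ≫ f).stalkMap x).hom.Flat) :
    (f.stalkMap (g x)).hom.FormallySmooth := by
  obtain ⟨U, hU, V, hV, W, hW, hVU, hWV, hxW⟩ := exists_charts f g x
  have hWU : W ≤ (g ≫ f) ⁻¹ᵁ U := fun z hz => hVU (hWV hz)
  have hft1 := f.finitePresentation_appLE hU hV hVU
  have hft2 := (g ≫ f).finiteType_appLE hU hW hWU
  let _ : Algebra Γ(S, U) Γ(Y, V) := (f.appLE U V hVU).hom.toAlgebra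
  let _ : Algebra Γ(Y, V) Γ(X, W) := (g.appLE V W hWV).hom.toAlgebra
  let _ : Algebra Γ(S, U) Γ(X, W) := ((g ≫ f).appLE U W hWU).hom.toAlgebra
  have : IsScalarTower Γ(S, U) Γ(Y, V) Γ(X, W) := .of_algebraMap_eq' <| by
    change ((g ≫ f).appLE U W hWU).hom = (g.appLE V W hWV).hom.comp (f.appLE U V hVU).hom
    rw [← CommRingCat.hom_comp, Scheme.Hom.appLE_comp_appLE]
  have : Algebra.FinitePresentation Γ(S, U) Γ(Y, V) := hft1
  have : Algebra.FiniteType Γ(S, U) Γ(X, W) := hft2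
  rw [formallySmooth_stalkMap_iff U hU V hV hVU (hWV hxW)]
  rw [Groth.Agent.Lib.Helper13.formallyUnramified_stalkMap_iff U hU W hW hWU hxW] at hh
  rw [Groth.Agent.Lib.Helper13.flat_stalkMap_iff U hU W hW hWU hxW] at hh'
  rw [Groth.Agent.Lib.Helper13.flat_stalkMap_iff V hV W hW hWV hxW] at hg
  let r : Ideal Γ(X, W) := (hW.primeIdealOf ⟨x, hxW⟩).asIdeal
  let q : Ideal Γ(Y, V) := (hV.primeIdealOf ⟨g x, hWV hxW⟩).asIdeal
  have hrq : r.LiesOver q :=
    ⟨congr($(IsAffineOpen.comap_primeIdealOf_appLE V hV W hW hWV hxW).1).symm⟩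
  have : Algebra.IsUnramifiedAt Γ(S, U) r := hh
  have : Module.Flat Γ(Y, V) (Localization.AtPrime r) := hg
  have : Module.Flat Γ(S, U) (Localization.AtPrime r) := hh'
  have : Algebra.IsUnramifiedAt Γ(S, U) q := UnramDescent.isUnramifiedAt_of_flat q r
  have : Module.Flat Γ(S, U) (Localization.AtPrime q) :=
    FlatDescentPoint.flat_localization_of_flat q r
  exact EtaleAtPoint.isSmoothAt_of_isUnramifiedAt_of_flat q

end Groth.Agent.Lib.Helper25.DescentAtPoint
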