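import Mathlib

set_option autoImplicit false
universe u

open TensorProduct IsLocalRing

namespace Groth.Agent.Lib.Helper25.FiberLoc

variable {A B : Type*} [CommRing A] [CommRing B] [Algebra A B]

/-- The algebra structure of `κ(p) ⊗ B_q` over the fibre ring `κ(p) ⊗ B`. -/
@[reducible] noncomputable def fiberLocAlgebra (p : Ideal A) [p.IsPrime] (q : Ideal B) [q.IsPrime] :
    Algebra (p.Fiber B) (p.ResidueField ⊗[A] Localization.AtPrime q) :=
  (Algebra.TensorProduct.map (AlgHom.id A p.ResidueField)
    (IsScalarTower.toAlgHom A B (Localization.AtPrime q))).toRingHom.toAlgebra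

attribute [local instance] fiberLocAlgebra

theorem algebraMap_fiberLoc_eq (p : Ideal A) [p.IsPrime] (q : Ideal B) [q.IsPrime] :
    algebraMap (p.Fiber B) (p.ResidueField ⊗[A] Localization.AtPrime q) =
      (Algebra.TensorProduct.map (AlgHom.id A p.ResidueField)
        (IsScalarTower.toAlgHom A B (Localization.AtPrime q))).toRingHom := rfl

instance (p : Ideal A) [p.IsPrime] (q : Ideal B) [q.IsPrime] :
    IsScalarTower p.ResidueField (p.Fiber B) (p.ResidueField ⊗[A] Localization.AtPrime q) :=
  .of_algebraMap_eq fun (x : p.ResidueField) => by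
    rw [algebraMap_fiberLoc_eq p q, Algebra.TensorProduct.algebraMap_apply,
      Algebra.TensorProduct.algebraMap_apply]
    simp

theorem algebraMap_fiberLoc_tmul (p : Ideal A) [p.IsPrime] (q : Ideal B) [q.IsPrime]
    (c : p.ResidueField) (b : B) :
    algebraMap (p.Fiber B) (p.ResidueField ⊗[A] Localization.AtPrime q) (c ⊗ₜ b) =
      c ⊗ₜ algebraMap B (Localization.AtPrime q) b := by
  rw [algebraMap_fiberLoc_eq p q]; simp

/-- `κ(p) ⊗ B_q` is the localization of the fibre ring at the prime corresponding to `q`. -/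
theorem isLocalization_atPrime (p : Ideal A) [p.IsPrime] (q : Ideal B) [q.IsPrime]
    (q' : Ideal (p.Fiber B)) [q'.IsPrime]
    (hq' : q = q'.comap Algebra.TensorProduct.includeRight.toRingHom) :
    IsLocalization.AtPrime (p.ResidueField ⊗[A] Localization.AtPrime q) q' := by
  have h1 : IsLocalization (q.primeCompl.map
      (Algebra.TensorProduct.includeRight (R := A) (A := p.ResidueField)))
      (p.ResidueField ⊗[A] Localization.AtPrime q) :=
    IsLocalization.tensorProduct_tensorProduct_right A p.ResidueField q.primeCompl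
      (Localization.AtPrime q) (by ext x; simp [algebraMap_fiberLoc_eq p q])
  refine IsLocalization.of_le (M := q.primeCompl.map
      (Algebra.TensorProduct.includeRight (R := A) (A := p.ResidueField))) _ ?_ ?_
  · rintro _ ⟨b, hb, rfl⟩
    intro hmem
    apply hb
    rw [hq']
    exact hmem
  · intro t ht
    obtain ⟨a, ha, b, hab⟩ := Ideal.Fiber.exists_smul_eq_one_tmul p t
    have hau : IsUnit (algebraMap A p.ResidueField a) := by
      rw [isUnit_iff_ne_zero]
      intro h0
      apply ha
      rwa [Ideal.algebraMap_residueField_eq_zero] at h0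
    have hb : b ∉ q := by
      intro hb
      apply ht
      have h2 : (1 : p.ResidueField) ⊗ₜ[A] b ∈ q' := by
        rw [hq'] at hb
        exact hb
      rw [← hab, Algebra.smul_def, IsScalarTower.algebraMap_apply A p.ResidueField (p.Fiber B)] at h2
      rcases (inferInstance : q'.IsPrime).mem_or_mem h2 with h3 | h3
      · exfalso
        exact (inferInstance : q'.IsPrime).ne_top
          (Ideal.eq_top_of_isUnit_mem _ h3 (hau.map _))
      · exact h3
    have h3 : IsUnit (algebraMap (p.Fiber B) (p.ResidueField ⊗[A] Localization.AtPrime q)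
        (a • t)) := by
      rw [hab, algebraMap_fiberLoc_tmul]
      exact (IsLocalization.map_units (M := q.primeCompl) _ ⟨b, hb⟩).map
        (Algebra.TensorProduct.includeRight (R := A) (A := p.ResidueField))
    rw [Algebra.smul_def, map_mul] at h3
    exact isUnit_of_mul_isUnit_right h3

local notation "𝓀[" R "]" => ResidueField R

/-- Local version of `Algebra.IsSmoothAt.of_formallySmooth_fiber`: if `S_q` is flat over `R` and
`κ(p) ⊗ S_q` is formally smooth over `κ(p)`, then `S` is smooth at `q`. -/
theorem isSmoothAt_of_flat_of_formallySmooth_fiberLoc {R S : Type*} [CommRing R] [CommRing S]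
    [Algebra R S] [Algebra.FinitePresentation R S] (p : Ideal R) (q : Ideal S)
    [p.IsPrime] [q.IsPrime] [q.LiesOver p] [Module.Flat R (Localization.AtPrime q)]
    [Algebra.FormallySmooth p.ResidueField (p.ResidueField ⊗[R] Localization.AtPrime q)] :
    Algebra.IsSmoothAt R q := by
  let Rp := Localization.AtPrime p
  let Sp := Localization (Algebra.algebraMapSubmonoid S p.primeCompl)
  let Sq := Localization.AtPrime q
  let := Localization.AtPrime.algebraOfLiesOver p q
  let f : Sp →ₐ[S] Sq := IsLocalization.liftAlgHom (M := Algebra.algebraMapSubmonoid S p.primeCompl)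
        (f := Algebra.ofId _ _) (by
      rintro ⟨_, x, hx, rfl⟩
      simpa using! IsLocalization.map_units (M := q.primeCompl) Sq ⟨algebraMap _ _ x,
        by simp_all [q.over_def p]⟩)
  algebraize [f.toRingHom]
  have : IsScalarTower R Sp Sq := .to₁₃₄ _ S _ _
  have : IsScalarTower Rp Sp Sq := .of_algebraMap_eq' <| by
    apply IsLocalization.ringHom_ext p.primeCompl
    simp only [RingHom.comp_assoc, ← IsScalarTower.algebraMap_eq]
  have : IsLocalization (Algebra.algebraMapSubmonoid Sp q.primeCompl) Sq :=
    .isLocalization_of_submonoid_le _ _ (Algebra.algebraMapSubmonoid S p.primeCompl) _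
    (by rintro _ ⟨x, hx, rfl⟩; simp_all [q.over_def p])
  have : Algebra.FinitePresentation Rp Sp := by
    have : Algebra.IsPushout R Rp S Sp :=
      .symm <| Algebra.isPushout_of_isLocalization p.primeCompl _ _ _
    exact .equiv (Algebra.IsPushout.equiv R Rp S Sp)
  have : Module.Flat Rp Sq := (Module.flat_iff_of_isLocalization Rp p.primeCompl Sq).mpr inferInstance
  have : Algebra.FormallySmooth 𝓀[Rp] (𝓀[Rp] ⊗[Rp] Sq) := by
    let e' : 𝓀[Rp] ⊗[R] Sq ≃ₐ[𝓀[Rp]] 𝓀[Rp] ⊗[Rp] Sq :=
      (Algebra.TensorProduct.equivOfCompatibleSMul R Rp 𝓀[Rp] 𝓀[Rp] Sq).symm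
    have h0 : Algebra.FormallySmooth 𝓀[Rp] (𝓀[Rp] ⊗[R] Sq) := ‹_›
    exact .of_equiv e'
  have := Algebra.FormallySmooth.of_formallySmooth_residueField_tensor
    (R := Rp) (S := Sq) (P := Sp) (Algebra.algebraMapSubmonoid _ q.primeCompl)
  exact .comp R Rp Sq

end Groth.Agent.Lib.Helper25.FiberLoc
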