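import Mathlib
import Groth.Agent.Lib.Helper23.SmoothField
import Groth.Agent.Lib.Helper23.GeomRegular2

set_option autoImplicit false
universe u

open TensorProduct IsLocalRing

namespace Groth.Agent.Lib.Helper25.SmoothFlatField

open Groth.Agent.Lib.Helper23

/-- Field case of descent of formal smoothness along faithfully flat maps, for local rings
essentially of finite type over a field. -/
theorem formallySmooth_of_faithfullyFlat (k B C : Type u) [Field k] [CommRing B] [CommRing C]
    [Algebra k B] [Algebra k C] [Algebra.FiniteType k B] [Algebra.FiniteType k C]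
    (q : Ideal B) [q.IsPrime] (r : Ideal C) [r.IsPrime]
    (R R' : Type u) [CommRing R] [CommRing R'] [Algebra k R] [Algebra k R'] [Algebra R R']
    [IsScalarTower k R R']
    (eB : Localization.AtPrime q ≃ₐ[k] R) (eC : Localization.AtPrime r ≃ₐ[k] R')
    [hff : Module.FaithfullyFlat R R'] [hsm : Algebra.FormallySmooth k R'] :
    Algebra.FormallySmooth k R := by
  have hsmC : Algebra.FormallySmooth k (Localization.AtPrime r) := .of_equiv eC.symm
  have hC : CAlg.IsGeometricallyRegular k (Localization.AtPrime r) :=
    ((SmoothField.tfae_atPrime (k₀ := k) (k := k) (C := C) r).out 0 3).mp hsmC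
  suffices h : CAlg.IsGeometricallyRegular k (Localization.AtPrime q) by
    have : Algebra.FormallySmooth k (Localization.AtPrime q) :=
      ((SmoothField.tfae_atPrime (k₀ := k) (k := k) (C := B) q).out 0 3).mpr h
    exact .of_equiv eB
  intro k' _ _ hfin
  have h1 : IsRegularRing (k' ⊗[k] Localization.AtPrime r) := hC k' hfin
  -- work with `_ ⊗[k] k'`
  have h2 : IsRegularRing (R' ⊗[k] k') :=
    IsRegularRing.of_ringEquiv ((Algebra.TensorProduct.comm k k' (Localization.AtPrime r)).trans
      (Algebra.TensorProduct.congr eC AlgEquiv.refl)).toRingEquiv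
  suffices h3 : IsRegularRing (R ⊗[k] k') from
    IsRegularRing.of_ringEquiv ((Algebra.TensorProduct.congr eB.symm AlgEquiv.refl).trans
      (Algebra.TensorProduct.comm k (Localization.AtPrime q) k')).toRingEquiv
  let : Algebra (R ⊗[k] k') (R' ⊗[k] k') :=
    (Algebra.TensorProduct.map (IsScalarTower.toAlgHom k R R') (AlgHom.id k k')).toRingHom.toAlgebra
  have halg : algebraMap (R ⊗[k] k') (R' ⊗[k] k') =
      (Algebra.TensorProduct.map (IsScalarTower.toAlgHom k R R')
        (AlgHom.id k k')).toRingHom := rfl
  have hst : IsScalarTower R (R ⊗[k] k') (R' ⊗[k] k') :=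
    .of_algebraMap_eq fun (x : R) => by
      rw [halg, Algebra.TensorProduct.algebraMap_apply, Algebra.TensorProduct.algebraMap_apply]
      simp
  have hpo : Algebra.IsPushout R R' (R ⊗[k] k') (R' ⊗[k] k') :=
    Algebra.IsPushout.tensorProduct_tensorProduct k k' R R' (by ext x; simp [halg])
  have hff' : (algebraMap (R ⊗[k] k') (R' ⊗[k] k')).FaithfullyFlat :=
    RingHom.FaithfullyFlat.isStableUnderBaseChange R R' (R ⊗[k] k') (R' ⊗[k] k')
      (RingHom.faithfullyFlat_algebraMap_iff.mpr hff)
  have hff'' : Module.FaithfullyFlat (R ⊗[k] k') (R' ⊗[k] k') :=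
    RingHom.faithfullyFlat_algebraMap_iff.mp hff'
  have hnB : IsNoetherianRing B := Algebra.FiniteType.isNoetherianRing k B
  have hnBq : IsNoetherianRing (Localization.AtPrime q) :=
    IsLocalization.isNoetherianRing q.primeCompl _ inferInstance
  have hnR : IsNoetherianRing R := isNoetherianRing_of_ringEquiv _ eB.toRingEquiv
  have hn : IsNoetherianRing (R ⊗[k] k') := IsNoetherianRing.of_finite R _
  exact GeomRegular2.isRegularRing_of_faithfullyFlat (R ⊗[k] k') (R' ⊗[k] k')

end Groth.Agent.Lib.Helper25.SmoothFlatField
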