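import Mathlib
import Groth.Agent.Lib.Helper25.FiberLoc
import Groth.Agent.Lib.Helper25.SmoothFlatField
import Groth.Agent.Lib.Helper25.FlatDescentPoint

set_option autoImplicit false
universe u

open TensorProduct IsLocalRing

namespace Groth.Agent.Lib.Helper25.SmoothFlatDescent

attribute [local instance] Algebra.TensorProduct.rightAlgebra in
/-- left tensor version of `Algebra.IsPushout.tensorProduct_tensorProduct`. -/
theorem isPushout_left (R S A B : Type*) [CommRing R] [CommRing S] [CommRing A] [CommRing B]
    [Algebra R A] [Algebra R B] [Algebra A B] [IsScalarTower R A B] [Algebra R S]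
    [Algebra (S ⊗[R] A) (S ⊗[R] B)] [IsScalarTower S (S ⊗[R] A) (S ⊗[R] B)]
    [Algebra A (S ⊗[R] B)] [IsScalarTower A B (S ⊗[R] B)]
    [IsScalarTower A (S ⊗[R] A) (S ⊗[R] B)] :
    Algebra.IsPushout A B (S ⊗[R] A) (S ⊗[R] B) := by
  have : IsScalarTower R A (S ⊗[R] B) :=
    .of_algebraMap_eq' <| by
      rw [IsScalarTower.algebraMap_eq A B (S ⊗[R] B), RingHom.comp_assoc,
        ← IsScalarTower.algebraMap_eq R A B, ← IsScalarTower.algebraMap_eq]
  have : IsScalarTower R (S ⊗[R] A) (S ⊗[R] B) := .to₁₃₄ _ A _ _
  rw [← Algebra.IsPushout.comp_iff R _ S]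
  infer_instance

attribute [local instance] Algebra.TensorProduct.rightAlgebra FiberLoc.fiberLocAlgebra in
/-- Smoothness at a point descends along a map which is flat at that point. -/
theorem isSmoothAt_of_flat {A B C : Type u} [CommRing A] [CommRing B] [CommRing C]
    [Algebra A B] [Algebra B C] [Algebra A C] [IsScalarTower A B C]
    [Algebra.FinitePresentation A B] [Algebra.FiniteType A C]
    (q : Ideal B) (r : Ideal C) [q.IsPrime] [r.IsPrime] [r.LiesOver q]
    [Module.Flat B (Localization.AtPrime r)] [Module.Flat A (Localization.AtPrime r)]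
    [hsm : Algebra.IsSmoothAt A r] : Algebra.IsSmoothAt A q := by
  let p : Ideal A := q.under A
  have hqp : q.LiesOver p := ⟨rfl⟩
  have hrp : r.LiesOver p := .trans r q p
  have hflq : Module.Flat A (Localization.AtPrime q) :=
    FlatDescentPoint.flat_localization_of_flat q r
  -- primes of the fibres
  let q' : Ideal (p.Fiber B) :=
    (PrimeSpectrum.primesOverOrderIsoFiber A B p ⟨q, ‹_›, hqp⟩).asIdeal
  have hq' : q = q'.comap Algebra.TensorProduct.includeRight.toRingHom :=
    congr($((PrimeSpectrum.primesOverOrderIsoFiber A B p).symm_apply_apply ⟨q, ‹_›, hqp⟩).1).symm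
  let r' : Ideal (p.Fiber C) :=
    (PrimeSpectrum.primesOverOrderIsoFiber A C p ⟨r, ‹_›, hrp⟩).asIdeal
  have hr' : r = r'.comap Algebra.TensorProduct.includeRight.toRingHom :=
    congr($((PrimeSpectrum.primesOverOrderIsoFiber A C p).symm_apply_apply ⟨r, ‹_›, hrp⟩).1).symm
  have hlocB := FiberLoc.isLocalization_atPrime p q q' hq'
  have hlocC := FiberLoc.isLocalization_atPrime p r r' hr'
  let eB : Localization.AtPrime q' ≃ₐ[p.ResidueField]
      (p.ResidueField ⊗[A] Localization.AtPrime q) :=
    (IsLocalization.algEquiv q'.primeCompl _ _).restrictScalars p.ResidueField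
  let eC : Localization.AtPrime r' ≃ₐ[p.ResidueField]
      (p.ResidueField ⊗[A] Localization.AtPrime r) :=
    (IsLocalization.algEquiv r'.primeCompl _ _).restrictScalars p.ResidueField
  -- algebra structures
  let := Localization.AtPrime.algebraOfLiesOver q r
  let : Algebra (p.ResidueField ⊗[A] Localization.AtPrime q)
      (p.ResidueField ⊗[A] Localization.AtPrime r) :=
    (Algebra.TensorProduct.map (AlgHom.id A p.ResidueField)
      (IsScalarTower.toAlgHom A (Localization.AtPrime q) (Localization.AtPrime r))).toRingHom.toAlgebra
  have halg : algebraMap (p.ResidueField ⊗[A] Localization.AtPrime q)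
      (p.ResidueField ⊗[A] Localization.AtPrime r) =
      (Algebra.TensorProduct.map (AlgHom.id A p.ResidueField)
      (IsScalarTower.toAlgHom A (Localization.AtPrime q) (Localization.AtPrime r))).toRingHom := rfl
  have hst1 : IsScalarTower p.ResidueField (p.ResidueField ⊗[A] Localization.AtPrime q)
      (p.ResidueField ⊗[A] Localization.AtPrime r) :=
    .of_algebraMap_eq fun (x : p.ResidueField) => by
      rw [halg, Algebra.TensorProduct.algebraMap_apply, Algebra.TensorProduct.algebraMap_apply]
      simp
  let : Algebra (Localization.AtPrime q) (p.ResidueField ⊗[A] Localization.AtPrime r) :=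
    .compHom _ (algebraMap (Localization.AtPrime q) (Localization.AtPrime r))
  have hst2 : IsScalarTower (Localization.AtPrime q) (Localization.AtPrime r)
      (p.ResidueField ⊗[A] Localization.AtPrime r) := .of_algebraMap_eq' rfl
  have hst3 : IsScalarTower (Localization.AtPrime q) (p.ResidueField ⊗[A] Localization.AtPrime q)
      (p.ResidueField ⊗[A] Localization.AtPrime r) :=
    .of_algebraMap_eq fun (x : Localization.AtPrime q) => by
      rw [halg, IsScalarTower.algebraMap_apply (Localization.AtPrime q) (Localization.AtPrime r)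
        (p.ResidueField ⊗[A] Localization.AtPrime r)]
      simp [Algebra.TensorProduct.right_algebraMap_apply]
  have hpo : Algebra.IsPushout (Localization.AtPrime q) (Localization.AtPrime r)
      (p.ResidueField ⊗[A] Localization.AtPrime q) (p.ResidueField ⊗[A] Localization.AtPrime r) :=
    isPushout_left A p.ResidueField (Localization.AtPrime q) (Localization.AtPrime r)
  have hfl : Module.Flat (Localization.AtPrime q) (Localization.AtPrime r) :=
    (Module.flat_iff_of_isLocalization (Localization.AtPrime q) q.primeCompl _).mpr inferInstance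
  have hloc : IsLocalHom (algebraMap (Localization.AtPrime q) (Localization.AtPrime r)) :=
    Localization.isLocalHom_localRingHom q r (algebraMap B C) Ideal.LiesOver.over
  have hff : Module.FaithfullyFlat (Localization.AtPrime q) (Localization.AtPrime r) :=
    Module.FaithfullyFlat.of_flat_of_isLocalHom
  have hff' : (algebraMap (p.ResidueField ⊗[A] Localization.AtPrime q)
      (p.ResidueField ⊗[A] Localization.AtPrime r)).FaithfullyFlat :=
    RingHom.FaithfullyFlat.isStableUnderBaseChange (Localization.AtPrime q)
      (Localization.AtPrime r) (p.ResidueField ⊗[A] Localization.AtPrime q)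
      (p.ResidueField ⊗[A] Localization.AtPrime r)
      (RingHom.faithfullyFlat_algebraMap_iff.mpr hff)
  have hff'' : Module.FaithfullyFlat (p.ResidueField ⊗[A] Localization.AtPrime q)
      (p.ResidueField ⊗[A] Localization.AtPrime r) :=
    RingHom.faithfullyFlat_algebraMap_iff.mp hff'
  have hsmC : Algebra.FormallySmooth p.ResidueField
      (p.ResidueField ⊗[A] Localization.AtPrime r) := inferInstance
  have hsmB : Algebra.FormallySmooth p.ResidueField
      (p.ResidueField ⊗[A] Localization.AtPrime q) :=
    SmoothFlatField.formallySmooth_of_faithfullyFlat p.ResidueField (p.Fiber B) (p.Fiber C)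
      q' r' _ _ eB eC
  exact FiberLoc.isSmoothAt_of_flat_of_formallySmooth_fiberLoc p q

end Groth.Agent.Lib.Helper25.SmoothFlatDescent
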