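import Mathlib
import Groth.Agent.Lib.Helper13.SchemeLocal
import Groth.Agent.Lib.Helper25.DescentAtPoint
import Groth.Agent.Lib.Helper25.SmoothFlatDescent

set_option autoImplicit false
universe u

open CategoryTheory AlgebraicGeometry

namespace Groth.Agent.Lib.Helper25.SmoothFlatScheme

variable {X Y S : Scheme.{u}}

open Groth.Agent.Lib.Helper25.DescentAtPoint in
theorem formallySmooth_stalkMap_of_flat (f : Y ⟶ S) (g : X ⟶ Y)
    [LocallyOfFinitePresentation f] [LocallyOfFiniteType (g ≫ f)] (x : X)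
    (hg : (g.stalkMap x).hom.Flat) (hh : ((g ≫ f).stalkMap x).hom.FormallySmooth)
    (hh' : ((g ≫ f).stalkMap x).hom.Flat) :
    (f.stalkMap (g x)).hom.FormallySmooth := by
  obtain ⟨U, hU, V, hV, W, hW, hVU, hWV, hxW⟩ := exists_charts f g x
  have hWU : W ≤ (g ≫ f) ⁻¹ᵁ U := fun z hz => hVU (hWV hz)
  have hft1 := f.finitePresentation_appLE hU hV hVU
  have hft2 := (g ≫ f).finiteType_appLE hU hW hWU
  let _ : Algebra Γ(S, U) Γ(Y, V) := (f.appLE U V hVU).hom.toAlgebra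
  let _ : Algebra Γ(Y, V) Γ(X, W) := (g.appLE V W hWV).hom.toAlgebra
  let _ : Algebra Γ(S, U) Γ(X, W) := ((g ≫ f).appLE U W hWU).hom.toAlgebra
  have : IsScalarTower Γ(S, U) Γ(Y, V) Γ(X, W) := .of_algebraMap_eq' <| by
    change ((g ≫ f).appLE U W hWU).hom = (g.appLE V W hWV).hom.comp (f.appLE U V hVU).hom
    rw [← CommRingCat.hom_comp, Scheme.Hom.appLE_comp_appLE]
  have : Algebra.FinitePresentation Γ(S, U) Γ(Y, V) := hft1
  have : Algebra.FiniteType Γ(S, U) Γ(X, W) := hft2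
  rw [formallySmooth_stalkMap_iff U hU V hV hVU (hWV hxW)]
  rw [formallySmooth_stalkMap_iff U hU W hW hWU hxW] at hh
  rw [Groth.Agent.Lib.Helper13.flat_stalkMap_iff U hU W hW hWU hxW] at hh'
  rw [Groth.Agent.Lib.Helper13.flat_stalkMap_iff V hV W hW hWV hxW] at hg
  let r : Ideal Γ(X, W) := (hW.primeIdealOf ⟨x, hxW⟩).asIdeal
  let q : Ideal Γ(Y, V) := (hV.primeIdealOf ⟨g x, hWV hxW⟩).asIdeal
  have hrq : r.LiesOver q :=
    ⟨congr($(IsAffineOpen.comap_primeIdealOf_appLE V hV W hW hWV hxW).1).symm⟩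
  have : Algebra.IsSmoothAt Γ(S, U) r := hh
  have : Module.Flat Γ(Y, V) (Localization.AtPrime r) := hg
  have : Module.Flat Γ(S, U) (Localization.AtPrime r) := hh'
  exact SmoothFlatDescent.isSmoothAt_of_flat q r

end Groth.Agent.Lib.Helper25.SmoothFlatScheme
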