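import Groth.Agent.Lib.Helper25.Constructible

/-! Subspaces of spectral spaces closed in the constructible topology are spectral. -/

set_option autoImplicit false
universe u

namespace Groth.Agent.Lib.Helper25

open Topology TopologicalSpace

/-- compact opens are closed in the constructible topology. -/
theorem isClosed_constructibleTopology_of_isCompact_of_isOpen {X : Type u} [TopologicalSpace X]
    {s : Set X} (hs1 : IsOpen s) (hs2 : IsCompact s) : @IsClosed X (constructibleTopology X) s := by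
  rw [← @isOpen_compl_iff X s (constructibleTopology X)]
  exact IsCompact.isOpen_constructibleTopology_of_isClosed (by rwa [compl_compl])
    hs1.isClosed_compl

/-- Neighbourhood basis of the constructible topology. -/
theorem exists_compact_open_of_isOpen_constructibleTopology {X : Type u} [TopologicalSpace X]
    [CompactSpace X] [QuasiSeparatedSpace X] {W : Set X}
    (hW : IsOpen[constructibleTopology X] W) {x : X} (hx : x ∈ W) :
    ∃ U V : Set X, IsOpen U ∧ IsCompact U ∧ IsOpen V ∧ IsCompact V ∧ x ∈ U ∩ Vᶜ ∧ U ∩ Vᶜ ⊆ W := by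
  induction hW with
  | basic s hs =>
    rcases hs with ⟨hs1, hs2⟩ | ⟨hs1, hs2⟩
    · exact ⟨s, ∅, hs1, hs2, isOpen_empty, isCompact_empty, by simpa using hx, by simp⟩
    · exact ⟨Set.univ, sᶜ, isOpen_univ, isCompact_univ, hs1.isOpen_compl, hs2,
        by simpa using hx, by simp⟩
  | univ => exact ⟨Set.univ, ∅, isOpen_univ, isCompact_univ, isOpen_empty, isCompact_empty,
      by simp, by simp⟩
  | inter s t _ _ ihs iht =>
    obtain ⟨U₁, V₁, hU₁, hU₁', hV₁, hV₁', hx₁, h₁⟩ := ihs hx.1
    obtain ⟨U₂, V₂, hU₂, hU₂', hV₂, hV₂', hx₂, h₂⟩ := iht hx.2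
    refine ⟨U₁ ∩ U₂, V₁ ∪ V₂, hU₁.inter hU₂,
      QuasiSeparatedSpace.inter_isCompact U₁ U₂ hU₁ hU₁' hU₂ hU₂', hV₁.union hV₂,
      hV₁'.union hV₂', ?_, ?_⟩
    · simp only [Set.mem_inter_iff, Set.mem_compl_iff, Set.mem_union, not_or] at hx₁ hx₂ ⊢
      exact ⟨⟨hx₁.1, hx₂.1⟩, hx₁.2, hx₂.2⟩
    · intro z hz
      simp only [Set.mem_inter_iff, Set.mem_compl_iff, Set.mem_union, not_or] at hz
      exact ⟨h₁ ⟨hz.1.1, hz.2.1⟩, h₂ ⟨hz.1.2, hz.2.2⟩⟩
  | sUnion S _ ih =>
    obtain ⟨s, hsS, hxs⟩ := hx
    obtain ⟨U, V, hU, hU', hV, hV', hxUV, hsub⟩ := ih s hsS hxs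
    exact ⟨U, V, hU, hU', hV, hV', hxUV, hsub.trans (Set.subset_sUnion_of_mem hsS)⟩

theorem spectralSpace_of_isClosed_constructibleTopology {X : Type u} [TopologicalSpace X]
    [SpectralSpace X] (E : Set X) (hE : @IsClosed X (constructibleTopology X) E) :
    SpectralSpace E := by
  have hEc : IsCompact E := isCompact_of_isClosed_constructibleTopology hE
  -- K1
  have K1 : ∀ U : Set X, IsOpen U → IsCompact U → IsCompact (Subtype.val ⁻¹' U : Set E) := by
    intro U hU1 hU2
    rw [IsInducing.subtypeVal.isCompact_iff, Subtype.image_preimage_coe]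
    apply isCompact_of_isClosed_constructibleTopology
    exact @IsClosed.inter X E U (constructibleTopology X) hE
      (isClosed_constructibleTopology_of_isCompact_of_isOpen hU1 hU2)
  have hbasis : IsTopologicalBasis
      (Set.image (Set.preimage (Subtype.val : E → X)) {U : Set X | IsOpen U ∧ IsCompact U}) :=
    PrespectralSpace.isTopologicalBasis.isInducing IsInducing.subtypeVal
  have hcompact_basis : ∀ V ∈ (Set.image (Set.preimage (Subtype.val : E → X))
      {U : Set X | IsOpen U ∧ IsCompact U}), IsCompact V := by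
    rintro _ ⟨U, ⟨hU1, hU2⟩, rfl⟩
    exact K1 U hU1 hU2
  have hpre : PrespectralSpace E := PrespectralSpace.of_isTopologicalBasis hbasis hcompact_basis
  -- compact opens of E are preimages of compact opens of X
  have K2 : ∀ U' : Set E, IsOpen U' → IsCompact U' →
      ∃ U : Set X, IsOpen U ∧ IsCompact U ∧ U' = Subtype.val ⁻¹' U := by
    intro U' hU'1 hU'2
    let b : {U : Set X // IsOpen U ∧ IsCompact U} → Set E := fun U => Subtype.val ⁻¹' U.1
    have hb : IsTopologicalBasis (Set.range b) := by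
      convert hbasis using 1
      ext V
      constructor
      · rintro ⟨U, rfl⟩
        exact ⟨U.1, U.2, rfl⟩
      · rintro ⟨U, hU, rfl⟩
        exact ⟨⟨U, hU⟩, rfl⟩
    obtain ⟨s, hs, hU'⟩ := (isCompact_open_iff_eq_finite_iUnion_of_isTopologicalBasis b hb
      (fun U => K1 U.1 U.2.1 U.2.2) U').mp ⟨hU'2, hU'1⟩
    refine ⟨⋃ i ∈ s, i.1, isOpen_biUnion fun i _ => i.2.1,
      hs.isCompact_biUnion fun i _ => i.2.2, ?_⟩
    rw [hU']
    simp only [b, Set.preimage_iUnion]
  have hqs : QuasiSeparatedSpace E := by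
    refine ⟨fun U' V' hU'1 hU'2 hV'1 hV'2 => ?_⟩
    obtain ⟨U, hU1, hU2, rfl⟩ := K2 U' hU'1 hU'2
    obtain ⟨V, hV1, hV2, rfl⟩ := K2 V' hV'1 hV'2
    rw [← Set.preimage_inter]
    exact K1 _ (hU1.inter hV1) (QuasiSeparatedSpace.inter_isCompact U V hU1 hU2 hV1 hV2)
  have hsober : QuasiSober E := by
    refine ⟨fun {S} hS hSc => ?_⟩
    have hZirr : IsIrreducible (closure (Subtype.val '' S : Set X)) :=
      (hS.image _ continuous_subtype_val.continuousOn).closure
    obtain ⟨η, hη⟩ := QuasiSober.sober hZirr isClosed_closure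
    have hηE : η ∈ E := by
      by_contra hηE
      have hEo : IsOpen[constructibleTopology X] Eᶜ :=
        (@isOpen_compl_iff X E (constructibleTopology X)).mpr hE
      obtain ⟨U, V, hU, -, hV, -, hηUV, hsub⟩ :=
        exists_compact_open_of_isOpen_constructibleTopology hEo hηE
      have hηcl : η ∈ closure (Subtype.val '' S : Set X) := hη ▸ subset_closure rfl
      obtain ⟨z, hzU, ⟨e, heS, rfl⟩⟩ := mem_closure_iff.mp hηcl U hU hηUV.1
      have hzV : (e : X) ∈ V := by
        by_contra hzV
        exact hsub ⟨hzU, hzV⟩ e.2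
      have hzcl : (e : X) ∈ closure ({η} : Set X) := by
        rw [hη.def]
        exact subset_closure ⟨e, heS, rfl⟩
      obtain ⟨w, hwV, hw⟩ := mem_closure_iff.mp hzcl V hV hzV
      rw [Set.mem_singleton_iff] at hw
      exact hηUV.2 (hw ▸ hwV)
    refine ⟨⟨η, hηE⟩, ?_⟩
    rw [isGenericPoint_def, IsInducing.subtypeVal.closure_eq_preimage_closure_image,
      Set.image_singleton, hη.def, ← IsInducing.subtypeVal.closure_eq_preimage_closure_image,
      hSc.closure_eq]
  have hcs : CompactSpace E := isCompact_iff_compactSpace.mp hEc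
  exact { toT0Space := inferInstance, toCompactSpace := hcs, toQuasiSober := hsober,
          toQuasiSeparatedSpace := hqs, toPrespectralSpace := hpre }

end Groth.Agent.Lib.Helper25
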