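import Groth.Prelude.Def_DeltaF

/-!
# Effaceable delta-functors are universal
-/

namespace Groth.Agent.Lib.Helper25.DeltaFEff

open CategoryTheory CategoryTheory.Limits DeltaF

universe v u v' u'
variable {A : Type u} [Category.{v} A] [Abelian A] {B : Type u'} [Category.{v'} B] [Abelian B]

/-- The short complex `X → Y → coker` attached to a morphism. -/
noncomputable abbrev sesOf {X Y : A} (u : X ⟶ Y) : ShortComplex A :=
  ShortComplex.mk u (cokernel.π u) (cokernel.condition u)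

lemma sesOf_shortExact {X Y : A} (u : X ⟶ Y) [Mono u] : (sesOf u).ShortExact :=
  ShortComplex.ShortExact.mk' (ShortComplex.exact_of_g_is_cokernel _ (cokernelIsCokernel u))
    (inferInstanceAs (Mono u)) (inferInstanceAs (Epi (cokernel.π u)))

variable (T T' : DeltaF.CohDeltaFunctor A B ℕ)

lemma epi_δ (S : ShortComplex A) (hS : S.ShortExact) (n : ℕ)
    (h0 : (T.F (n + 1)).map S.f = 0) : Epi (T.δ S hS n (n + 1) rfl) :=
  (T.exact₁ S hS n (n + 1) rfl).epi_f h0

variable {T T'}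

lemma exists_θ {n : ℕ} (τ : T.F n ⟶ T'.F n) (S : ShortComplex A) (hS : S.ShortExact)
    (h0 : (T.F (n + 1)).map S.f = 0) :
    ∃ θ : (T.F (n + 1)).obj S.X₁ ⟶ (T'.F (n + 1)).obj S.X₁,
      T.δ S hS n (n + 1) rfl ≫ θ = τ.app S.X₃ ≫ T'.δ S hS n (n + 1) rfl := by
  have h1 := epi_δ T S hS n h0
  have hex := T.exact₃ S hS n (n + 1) rfl
  have : Epi (ShortComplex.mk _ _ (T.comp_δ S hS n (n + 1) rfl)).g := h1
  exact hex.desc' (τ.app S.X₃ ≫ T'.δ S hS n (n + 1) rfl) (by
    change (T.F n).map S.g ≫ τ.app S.X₃ ≫ T'.δ S hS n (n + 1) rfl = 0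
    rw [← Category.assoc, τ.naturality, Category.assoc, T'.comp_δ, comp_zero])

lemma comparison {n : ℕ} (τ : T.F n ⟶ T'.F n) {S S' : ShortComplex A} (hS : S.ShortExact)
    (hS' : S'.ShortExact) (φ : S ⟶ S') (h0 : (T.F (n + 1)).map S.f = 0)
    (θ : (T.F (n + 1)).obj S.X₁ ⟶ (T'.F (n + 1)).obj S.X₁)
    (hθ : T.δ S hS n (n + 1) rfl ≫ θ = τ.app S.X₃ ≫ T'.δ S hS n (n + 1) rfl)
    (θ' : (T.F (n + 1)).obj S'.X₁ ⟶ (T'.F (n + 1)).obj S'.X₁)
    (hθ' : T.δ S' hS' n (n + 1) rfl ≫ θ' = τ.app S'.X₃ ≫ T'.δ S' hS' n (n + 1) rfl) :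
    θ ≫ (T'.F (n + 1)).map φ.τ₁ = (T.F (n + 1)).map φ.τ₁ ≫ θ' := by
  have h1 := epi_δ T S hS n h0
  rw [← cancel_epi (T.δ S hS n (n + 1) rfl), ← Category.assoc, hθ, Category.assoc,
    ← T'.δ_natural hS hS' φ n (n + 1) rfl, ← Category.assoc, ← τ.naturality, Category.assoc,
    ← hθ', ← Category.assoc, T.δ_natural hS hS' φ n (n + 1) rfl, Category.assoc]

lemma main {n : ℕ} (τ : T.F n ⟶ T'.F n) {S S' : ShortComplex A} (hS : S.ShortExact)
    (hS' : S'.ShortExact) (f : S'.X₁ ⟶ S.X₁) (h0 : (T.F (n + 1)).map S.f = 0)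
    (θ : (T.F (n + 1)).obj S.X₁ ⟶ (T'.F (n + 1)).obj S.X₁)
    (hθ : T.δ S hS n (n + 1) rfl ≫ θ = τ.app S.X₃ ≫ T'.δ S hS n (n + 1) rfl) :
    T.δ S' hS' n (n + 1) rfl ≫ (T.F (n + 1)).map f ≫ θ =
      τ.app S'.X₃ ≫ T'.δ S' hS' n (n + 1) rfl ≫ (T'.F (n + 1)).map f := by
  have := hS.mono_f
  have := hS.epi_g
  have := hS'.mono_f
  have := hS'.epi_g
  let w : S.X₁ ⟶ pushout S'.f (f ≫ S.f) := S.f ≫ pushout.inr S'.f (f ≫ S.f)
  have hw : Mono w := mono_comp _ _
  have hS'' : (sesOf w).ShortExact := sesOf_shortExact w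
  have h0'' : (T.F (n + 1)).map (sesOf w).f = 0 := by
    change (T.F (n + 1)).map (S.f ≫ pushout.inr S'.f (f ≫ S.f)) = 0
    rw [Functor.map_comp, h0, zero_comp]
  obtain ⟨θ'', hθ''⟩ := exists_θ τ (sesOf w) hS'' h0''
  let φ : S ⟶ sesOf w := ShortComplex.homMk (𝟙 _) (pushout.inr S'.f (f ≫ S.f))
    (hS.exact.desc (pushout.inr S'.f (f ≫ S.f) ≫ cokernel.π w) (by
      rw [← Category.assoc]
      exact cokernel.condition w))
    (by
      change 𝟙 _ ≫ w = S.f ≫ pushout.inr S'.f (f ≫ S.f)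
      rw [Category.id_comp])
    (by
      change pushout.inr S'.f (f ≫ S.f) ≫ cokernel.π w = S.g ≫ _
      rw [ShortComplex.Exact.g_desc])
  let ψ : S' ⟶ sesOf w := ShortComplex.homMk f (pushout.inl S'.f (f ≫ S.f))
    (hS'.exact.desc (pushout.inl S'.f (f ≫ S.f) ≫ cokernel.π w) (by
      rw [← Category.assoc, pushout.condition, Category.assoc, Category.assoc]
      have : (S.f ≫ pushout.inr S'.f (f ≫ S.f)) ≫ cokernel.π w = 0 := cokernel.condition w
      rw [Category.assoc] at this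
      rw [this, comp_zero]))
    (by
      change f ≫ w = S'.f ≫ pushout.inl S'.f (f ≫ S.f)
      rw [pushout.condition, Category.assoc])
    (by
      change pushout.inl S'.f (f ≫ S.f) ≫ cokernel.π w = S'.g ≫ _
      rw [ShortComplex.Exact.g_desc])
  have h1 := comparison τ hS hS'' φ h0 θ hθ θ'' hθ''
  have h2 : θ = θ'' := by
    have e1 : φ.τ₁ = 𝟙 _ := rfl
    rw [e1, CategoryTheory.Functor.map_id, CategoryTheory.Functor.map_id, Category.comp_id] at h1
    rw [h1]
    exact Category.id_comp _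
  have e2 : ψ.τ₁ = f := rfl
  have n1 := T.δ_natural hS' hS'' ψ n (n + 1) rfl
  have n2 := T'.δ_natural hS' hS'' ψ n (n + 1) rfl
  rw [e2] at n1 n2
  rw [h2, ← Category.assoc, ← n1, Category.assoc, hθ'', ← Category.assoc, τ.naturality,
    Category.assoc, n2]

section Eff

variable (hT : T.IsEffaceable)

/-- The chosen effacement target. -/
noncomputable def effY (n : ℕ) (X : A) : A := (hT n X).choose

/-- The chosen effacing monomorphism. -/
noncomputable def effU (n : ℕ) (X : A) : X ⟶ effY hT n X := (hT n X).choose_spec.choose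

instance effU_mono (n : ℕ) (X : A) : Mono (effU hT n X) := (hT n X).choose_spec.choose_spec.1

lemma effU_zero (n : ℕ) (X : A) : (T.F (n + 1)).map (effU hT n X) = 0 :=
  (hT n X).choose_spec.choose_spec.2

lemma effS_shortExact (n : ℕ) (X : A) : (sesOf (effU hT n X)).ShortExact :=
  sesOf_shortExact _

/-- The component at `X` of the next natural transformation. -/
noncomputable def stepApp (n : ℕ) (τ : T.F n ⟶ T'.F n) (X : A) :
    (T.F (n + 1)).obj X ⟶ (T'.F (n + 1)).obj X :=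
  (exists_θ τ (sesOf (effU hT n X)) (effS_shortExact hT n X) (effU_zero hT n X)).choose

lemma stepApp_spec (n : ℕ) (τ : T.F n ⟶ T'.F n) (X : A) :
    T.δ (sesOf (effU hT n X)) (effS_shortExact hT n X) n (n + 1) rfl ≫ stepApp hT n τ X =
      τ.app (cokernel (effU hT n X)) ≫
        T'.δ (sesOf (effU hT n X)) (effS_shortExact hT n X) n (n + 1) rfl :=
  (exists_θ τ (sesOf (effU hT n X)) (effS_shortExact hT n X) (effU_zero hT n X)).choose_spec

lemma step_comm' (n : ℕ) (τ : T.F n ⟶ T'.F n) (S : ShortComplex A) (hS : S.ShortExact)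
    {X : A} (f : S.X₁ ⟶ X) :
    T.δ S hS n (n + 1) rfl ≫ (T.F (n + 1)).map f ≫ stepApp hT n τ X =
      τ.app S.X₃ ≫ T'.δ S hS n (n + 1) rfl ≫ (T'.F (n + 1)).map f :=
  main τ (effS_shortExact hT n X) hS f (effU_zero hT n X) (stepApp hT n τ X)
    (stepApp_spec hT n τ X)

/-- The next natural transformation. -/
noncomputable def step (n : ℕ) (τ : T.F n ⟶ T'.F n) : T.F (n + 1) ⟶ T'.F (n + 1) where
  app X := stepApp hT n τ X
  naturality X X' f := by
    have h1 := epi_δ T (sesOf (effU hT n X)) (effS_shortExact hT n X) n (effU_zero hT n X)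
    rw [← cancel_epi (T.δ (sesOf (effU hT n X)) (effS_shortExact hT n X) n (n + 1) rfl)]
    have h2 := step_comm' (T' := T') hT n τ (sesOf (effU hT n X)) (effS_shortExact hT n X) f
    rw [h2, ← Category.assoc, ← Category.assoc, stepApp_spec]

lemma step_comm (n : ℕ) (τ : T.F n ⟶ T'.F n) (S : ShortComplex A) (hS : S.ShortExact) :
    T.δ S hS n (n + 1) rfl ≫ (step hT n τ).app S.X₁ =
      τ.app S.X₃ ≫ T'.δ S hS n (n + 1) rfl := by
  have h := step_comm' (T' := T') hT n τ S hS (𝟙 S.X₁)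
  rw [CategoryTheory.Functor.map_id, CategoryTheory.Functor.map_id, Category.id_comp,
    Category.comp_id] at h
  exact h

/-- The sequence of natural transformations extending `t`. -/
noncomputable def seq (t : T.F 0 ⟶ T'.F 0) : ∀ n : ℕ, T.F n ⟶ T'.F n
  | 0 => t
  | n + 1 => step hT n (seq t n)

lemma seq_succ (t : T.F 0 ⟶ T'.F 0) (n : ℕ) : seq hT t (n + 1) = step hT n (seq hT t n) := rfl

/-- The morphism of delta-functors extending `t`. -/
noncomputable def extend (t : T.F 0 ⟶ T'.F 0) : T ⟶ T' :=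
  ({ app := seq hT t
     comm := fun S hS n₀ n₁ h => by
      subst h
      exact step_comm hT n₀ (seq hT t n₀) S hS } : DeltaF.CohDeltaFunctor.Hom T T')

lemma eq_seq (t : T.F 0 ⟶ T'.F 0) (σ : T ⟶ T') (hσ : σ.app 0 = t) (n : ℕ) :
    σ.app n = seq hT t n := by
  induction n with
  | zero => exact hσ
  | succ n ih =>
    ext X
    have h1 := epi_δ T (sesOf (effU hT n X)) (effS_shortExact hT n X) n (effU_zero hT n X)
    rw [← cancel_epi (T.δ (sesOf (effU hT n X)) (effS_shortExact hT n X) n (n + 1) rfl)]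
    have h2 := σ.comm (sesOf (effU hT n X)) (effS_shortExact hT n X) n (n + 1) rfl
    rw [seq_succ]
    change _ = _ ≫ stepApp hT n (seq hT t n) X
    rw [stepApp_spec, ← ih]
    exact h2

omit T' in
include hT in
theorem isUniversal : T.IsUniversal := by
  intro T' t
  refine ⟨extend hT t, rfl, fun σ hσ => ?_⟩
  apply DeltaF.CohDeltaFunctor.hom_ext
  intro n
  exact eq_seq hT t σ hσ n

end Eff

end Groth.Agent.Lib.Helper25.DeltaFEff
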