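import Groth.Agent.Lib.Helper3.AwayBC
import Groth.Prelude.Def_CohB1
import Mathlib.RingTheory.TensorProduct.MvPolynomial
import Mathlib.RingTheory.MvPolynomial.Homogeneous
/-!
# Base change of projective space over rings
-/
universe u
open CategoryTheory CategoryTheory.Limits AlgebraicGeometry Opposite TopologicalSpace
open scoped HomogeneousIdeal

namespace Groth.Agent.Lib.Helper25.PolyRelProj
open Groth.Agent.Lib.Helper3

variable (n : ℕ) (R R' : Type u) [CommRing R] [CommRing R'] [Algebra R R']

/-- the graded ring homomorphism `R[x₀..xₙ] → R'[x₀..xₙ]` -/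
noncomputable def polyMapG : CohB1.polyGrading n R →+*ᵍ CohB1.polyGrading n R' :=
  { MvPolynomial.map (σ := Fin (n + 1)) (algebraMap R R') with
    map_mem := fun {d x} hx => (MvPolynomial.mem_homogeneousSubmodule _ _).mpr
      (((MvPolynomial.mem_homogeneousSubmodule _ _).mp hx).map _) }

theorem polyMapG_apply (a : MvPolynomial (Fin (n + 1)) R) :
    polyMapG n R R' a = MvPolynomial.map (algebraMap R R') a := rfl

attribute [local instance] MvPolynomial.algebraMvPolynomial

theorem polyMapG_irr : (CohB1.polyGrading n R')₊ ≤ ((CohB1.polyGrading n R)₊).map (polyMapG n R R') :=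
  AwayBC.irrelevant_le_map (R := R) (R' := R') (A := MvPolynomial (Fin (n + 1)) R)
    (B := MvPolynomial (Fin (n + 1)) R') (CohB1.polyGrading n R) (CohB1.polyGrading n R')
    (algebraMap R (CohB1.polyGrading n R 0)) (fun _ => rfl)
    (algebraMap R' (CohB1.polyGrading n R' 0)) (fun _ => rfl) (polyMapG n R R') (fun _ => rfl)

/-- **Projective space commutes with base change of rings.** -/
theorem isPullback_projSpace :
    IsPullback (Proj.map (polyMapG n R R') (polyMapG_irr n R R')) (CohB1.ProjSpace.toSpec n R')
      (CohB1.ProjSpace.toSpec n R) (Spec.map (CommRingCat.ofHom (algebraMap R R'))) :=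
  AwayBC.isPullback_proj (R := R) (R' := R') (A := MvPolynomial (Fin (n + 1)) R)
    (B := MvPolynomial (Fin (n + 1)) R') (CohB1.polyGrading n R) (CohB1.polyGrading n R')
    (algebraMap R (CohB1.polyGrading n R 0)) (fun _ => rfl)
    (algebraMap R' (CohB1.polyGrading n R' 0)) (fun _ => rfl) (polyMapG n R R') (fun _ => rfl)
    (polyMapG_irr n R R')

end Groth.Agent.Lib.Helper25.PolyRelProj
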