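import Mathlib.AlgebraicGeometry.Morphisms.Proper
import Mathlib.AlgebraicGeometry.Morphisms.Immersion
import Mathlib.AlgebraicGeometry.IdealSheaf.Subscheme

/-!
# Properness can be checked on a finite closed cover

* `universallyClosed_of_finite_cover`, `isSeparated_of_finite_cover`, `isProper_of_finite_cover`:
  if `g : W ⟶ S` and `jᵢ : Wᵢ ⟶ W` is a finite jointly surjective family of universally closed
  morphisms with all `jᵢ ≫ g` proper, then `g` is proper (given `g` locally of finite type).
* `isProper_comp_of_range_eq`: properness over the base of a closed subscheme only depends on the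
  underlying closed set.
-/

universe u

open CategoryTheory CategoryTheory.Limits AlgebraicGeometry MorphismProperty

namespace Groth.Agent.Lib.Helper25.ProperUnion

/-- Universally closed can be checked on a finite jointly surjective family. -/
theorem universallyClosed_of_finite_cover {W S : Scheme.{u}} (g : W ⟶ S) {ι : Type*} [Finite ι]
    (Wi : ι → Scheme.{u}) (j : ∀ i, Wi i ⟶ W) (hcov : ∀ x : W, ∃ i, x ∈ Set.range (j i))
    (h : ∀ i, UniversallyClosed (j i ≫ g)) : UniversallyClosed g := by
  constructor
  intro X' Y' i₁ i₂ f' H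
  have key : ∀ i, IsClosedMap (pullback.snd (j i) i₁ ≫ f') := by
    intro i
    have hpb : IsPullback (pullback.snd (j i) i₁ ≫ f') (pullback.fst (j i) i₁) i₂ (j i ≫ g) :=
      (IsPullback.of_hasPullback (j i) i₁).flip.paste_horiz H
    exact (h i).universally_isClosedMap _ _ _ hpb
  intro C hC
  have hEq : f' '' C = ⋃ i, (pullback.snd (j i) i₁ ≫ f') '' ((pullback.snd (j i) i₁) ⁻¹' C) := by
    ext y
    simp only [Set.mem_image, Set.mem_iUnion, Set.mem_preimage]
    constructor
    · rintro ⟨x, hx, rfl⟩
      obtain ⟨i, w, hw⟩ := hcov (i₁ x)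
      obtain ⟨z, hz1, hz2⟩ := Scheme.Pullback.exists_preimage_pullback (f := j i) (g := i₁) w x hw
      exact ⟨i, z, by rw [hz2]; exact hx, by simp [hz2]⟩
    · rintro ⟨i, z, hz, rfl⟩
      exact ⟨_, hz, by simp⟩
  rw [hEq]
  exact isClosed_iUnion_of_finite fun i =>
    key i _ (hC.preimage (pullback.snd (j i) i₁).continuous)

/-- Separatedness can be checked on a finite jointly surjective family of universally closed
morphisms. -/
theorem isSeparated_of_finite_cover {W S : Scheme.{u}} (g : W ⟶ S) {ι : Type*} [Finite ι]
    (Wi : ι → Scheme.{u}) (j : ∀ i, Wi i ⟶ W) (hcov : ∀ x : W, ∃ i, x ∈ Set.range (j i))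
    (hj : ∀ i, UniversallyClosed (j i))
    (h : ∀ i, IsSeparated (j i ≫ g)) : IsSeparated g := by
  constructor
  refine IsClosedImmersion.of_isPreimmersion _ ?_
  have hEq : Set.range (pullback.diagonal g) =
      ⋃ i, Set.range (j i ≫ pullback.diagonal g) := by
    ext y
    simp only [Set.mem_range, Set.mem_iUnion]
    constructor
    · rintro ⟨x, rfl⟩
      obtain ⟨i, w, rfl⟩ := hcov x
      exact ⟨i, w, by simp⟩
    · rintro ⟨i, w, rfl⟩
      exact ⟨j i w, by simp⟩
  rw [hEq]
  refine isClosed_iUnion_of_finite fun i => ?_
  rw [pullback.comp_diagonal]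
  have h1 : UniversallyClosed (pullback.map (j i ≫ g) (j i ≫ g) g g (j i) (j i) (𝟙 S)
      (by simp) (by simp)) :=
    MorphismProperty.pullbackMap (P := @UniversallyClosed) (hj i) (hj i) rfl rfl
  have h2 : IsClosedImmersion (pullback.diagonal (j i ≫ g)) := (h i).1
  have : UniversallyClosed (pullback.diagonal (j i ≫ g) ≫
      pullback.map (j i ≫ g) (j i ≫ g) g g (j i) (j i) (𝟙 S) (by simp) (by simp)) :=
    inferInstance
  exact (Scheme.Hom.isClosedMap _).isClosed_range

/-- Properness can be checked on a finite jointly surjective family of universally closed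
morphisms (e.g. closed immersions). -/
theorem isProper_of_finite_cover {W S : Scheme.{u}} (g : W ⟶ S) [LocallyOfFiniteType g]
    {ι : Type*} [Finite ι]
    (Wi : ι → Scheme.{u}) (j : ∀ i, Wi i ⟶ W) (hcov : ∀ x : W, ∃ i, x ∈ Set.range (j i))
    (hj : ∀ i, UniversallyClosed (j i))
    (h : ∀ i, IsProper (j i ≫ g)) : IsProper g :=
  { toIsSeparated := isSeparated_of_finite_cover g Wi j hcov hj (fun _ => inferInstance)
    toUniversallyClosed := universallyClosed_of_finite_cover g Wi j hcov (fun _ => inferInstance)
    toLocallyOfFiniteType := inferInstance }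

/-- One-member version: if `h` is surjective and universally closed and `h ≫ g` is proper with
`g` locally of finite type, then `g` is proper. -/
theorem isProper_of_comp_surjective {A W S : Scheme.{u}} (h : A ⟶ W) (g : W ⟶ S)
    [LocallyOfFiniteType g] [UniversallyClosed h] (hs : Function.Surjective h)
    [IsProper (h ≫ g)] : IsProper g :=
  isProper_of_finite_cover g (ι := Unit) (fun _ => A) (fun _ => h)
    (fun x => ⟨(), hs x⟩) (fun _ => inferInstance) (fun _ => inferInstance)

/-- The reduced induced closed subscheme on the range of a closed immersion maps to it. -/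
theorem exists_lift_vanishingIdeal {X T : Scheme.{u}} (i : T ⟶ X) [IsClosedImmersion i]
    (Z : TopologicalSpace.Closeds X) (hr : (Z : Set X) ⊆ Set.range i) :
    ∃ j : (Scheme.IdealSheafData.vanishingIdeal Z).subscheme ⟶ T,
      j ≫ i = (Scheme.IdealSheafData.vanishingIdeal Z).subschemeι ∧ IsClosedImmersion j := by
  have H : i.ker ≤ (Scheme.IdealSheafData.vanishingIdeal Z).subschemeι.ker := by
    rw [Scheme.IdealSheafData.ker_subschemeι,
      ← Scheme.IdealSheafData.le_support_iff_le_vanishingIdeal]
    intro x hx
    have h1 : x ∈ ((i.ker.support : TopologicalSpace.Closeds X) : Set X) := by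
      rw [Scheme.Hom.support_ker]
      exact subset_closure (hr hx)
    exact h1
  refine ⟨IsClosedImmersion.lift i _ H, IsClosedImmersion.lift_fac i _ H, ?_⟩
  have : IsClosedImmersion (IsClosedImmersion.lift i _ H ≫ i) := by
    rw [IsClosedImmersion.lift_fac]; infer_instance
  exact IsClosedImmersion.of_comp _ i

/-- Properness of a closed subscheme over the base only depends on the underlying set
(one direction; the statement is symmetric). -/
theorem isProper_comp_of_range_eq {X S T T' : Scheme.{u}} (f : X ⟶ S) [LocallyOfFiniteType f]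
    (i : T ⟶ X) (i' : T' ⟶ X) [IsClosedImmersion i] [IsClosedImmersion i']
    (hr : Set.range i = Set.range i') [IsProper (i ≫ f)] : IsProper (i' ≫ f) := by
  let Z : TopologicalSpace.Closeds X := ⟨Set.range i, i.isClosedEmbedding.isClosed_range⟩
  obtain ⟨j, hj, hjc⟩ := exists_lift_vanishingIdeal i Z (le_refl _)
  obtain ⟨j', hj', hjc'⟩ := exists_lift_vanishingIdeal i' Z hr.le
  have h0 : IsProper ((Scheme.IdealSheafData.vanishingIdeal Z).subschemeι ≫ f) := by
    rw [← hj, Category.assoc]; infer_instance
  have hsurj : Function.Surjective j' := by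
    intro t
    have : i' t ∈ Set.range (Scheme.IdealSheafData.vanishingIdeal Z).subschemeι := by
      rw [Scheme.IdealSheafData.range_subschemeι, Scheme.IdealSheafData.coe_support_vanishingIdeal]
      change i' t ∈ Set.range i
      rw [hr]; exact ⟨t, rfl⟩
    obtain ⟨z, hz⟩ := this
    refine ⟨z, i'.isClosedEmbedding.injective ?_⟩
    rw [← hz, ← hj']; simp
  have : IsProper (j' ≫ i' ≫ f) := by rw [← Category.assoc, hj']; exact h0
  exact isProper_of_comp_surjective j' (i' ≫ f) hsurj

end Groth.Agent.Lib.Helper25.ProperUnion
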