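import Groth.Prelude.Def_ClSub2
import Groth.Agent.Lib.Helper25.ProperUnion

/-!
# `ClSub.IsProperOver`: independence of the closed subscheme structure, images, preimages,
finite unions and base change.
-/

universe u

open CategoryTheory CategoryTheory.Limits AlgebraicGeometry MorphismProperty

namespace Groth.Agent.Lib.Helper25.ProperOver

open Groth.Agent.Lib.Helper25.ProperUnion

variable {X S : Scheme.{u}}

/-- `Z` is proper over `S` iff some/any closed subscheme with underlying set `Z` is. -/
theorem isProperOver_iff_of_range_eq (f : X ⟶ S) [LocallyOfFiniteType f] {T : Scheme.{u}}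
    (i : T ⟶ X) [IsClosedImmersion i] (Z : Set X) (hr : Set.range i = Z) :
    ClSub.IsProperOver f Z ↔ IsProper (i ≫ f) := by
  have hZ : IsClosed Z := hr ▸ i.isClosedEmbedding.isClosed_range
  have hr0 : Set.range (Scheme.IdealSheafData.vanishingIdeal ⟨Z, hZ⟩).subschemeι = Set.range i := by
    rw [Scheme.IdealSheafData.range_subschemeι, Scheme.IdealSheafData.coe_support_vanishingIdeal,
      hr]
    rfl
  constructor
  · rintro ⟨h, hp⟩
    exact isProper_comp_of_range_eq f _ i hr0
  · intro hp
    exact ⟨hZ, isProper_comp_of_range_eq f i _ hr0.symm⟩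

theorem isProperOver_of_isProper (f : X ⟶ S) [LocallyOfFiniteType f] {T : Scheme.{u}}
    (i : T ⟶ X) [IsClosedImmersion i] [IsProper (i ≫ f)] :
    ClSub.IsProperOver f (Set.range i) :=
  (isProperOver_iff_of_range_eq f i _ rfl).2 inferInstance

/-- The image of a closed subscheme proper over `S`, under an `S`-morphism which is universally
closed on it, is again proper over `S`. -/
theorem isProperOver_image_of_universallyClosed {Y : Scheme.{u}} (p : X ⟶ S) (q : Y ⟶ S)
    [LocallyOfFiniteType q] (f : X ⟶ Y) (w : f ≫ q = p) {T : Scheme.{u}} (i : T ⟶ X)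
    [IsProper (i ≫ p)] [UniversallyClosed (i ≫ f)] :
    ClSub.IsProperOver q (f '' Set.range i) := by
  set h : T ⟶ Y := i ≫ f with hh
  have hcl : IsClosed (Set.range h) := (Scheme.Hom.isClosedMap h).isClosed_range
  have hrange : Set.range h.imageι = f '' Set.range i := by
    rw [Scheme.IdealSheafData.range_subschemeι, Scheme.Hom.support_ker, hcl.closure_eq, hh,
      Scheme.Hom.comp_base, TopCat.coe_comp, Set.range_comp]
  have hsurj : Function.Surjective h.toImage := by
    intro y
    have : h.imageι y ∈ Set.range h := by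
      have : h.imageι y ∈ Set.range h.imageι := ⟨y, rfl⟩
      rwa [Scheme.IdealSheafData.range_subschemeι, Scheme.Hom.support_ker, hcl.closure_eq] at this
    obtain ⟨t, ht⟩ := this
    refine ⟨t, h.imageι.isClosedEmbedding.injective ?_⟩
    rw [← ht, ← Scheme.Hom.comp_apply, h.toImage_imageι]
  have : IsProper (h.toImage ≫ h.imageι ≫ q) := by
    rw [← Category.assoc, h.toImage_imageι, hh, Category.assoc, w]; infer_instance
  have : IsProper (h.imageι ≫ q) := isProper_of_comp_surjective h.toImage _ hsurj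
  exact (isProperOver_iff_of_range_eq q h.imageι _ hrange).2 this

theorem range_subschemeι_vanishingIdeal (Z : Set X) (hZ : IsClosed Z) :
    Set.range (Scheme.IdealSheafData.vanishingIdeal ⟨Z, hZ⟩).subschemeι = Z := by
  rw [Scheme.IdealSheafData.range_subschemeι, Scheme.IdealSheafData.coe_support_vanishingIdeal]
  rfl

/-- Preimage of a set proper over `S` along a proper `S`-morphism. -/
theorem isProperOver_preimage_of_isProper {Y : Scheme.{u}} (p : X ⟶ S) (q : Y ⟶ S)
    [LocallyOfFiniteType p] (f : X ⟶ Y) [IsProper f] (w : f ≫ q = p)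
    (Z : Set Y) (hZ : ClSub.IsProperOver q Z) : ClSub.IsProperOver p (f ⁻¹' Z) := by
  obtain ⟨hcl, hp⟩ := hZ
  set i₀ := (Scheme.IdealSheafData.vanishingIdeal ⟨Z, hcl⟩).subschemeι with hi₀
  have hr : Set.range (pullback.fst f i₀) = f ⁻¹' Z := by
    rw [Scheme.Pullback.range_fst, range_subschemeι_vanishingIdeal]
  have : IsProper (pullback.fst f i₀ ≫ p) := by
    rw [← w, ← Category.assoc, pullback.condition, Category.assoc]
    infer_instance
  exact (isProperOver_iff_of_range_eq p (pullback.fst f i₀) _ hr).2 this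

/-- Base change of a set proper over `S`. -/
theorem isProperOver_preimage_of_isPullback {X' S' : Scheme.{u}} (f : X ⟶ S)
    (g : S' ⟶ S) (g' : X' ⟶ X) (f' : X' ⟶ S') [LocallyOfFiniteType f'] (sq : IsPullback g' f' f g)
    (Z : Set X) (hZ : ClSub.IsProperOver f Z) : ClSub.IsProperOver f' (g' ⁻¹' Z) := by
  obtain ⟨hcl, hp⟩ := hZ
  set i₀ := (Scheme.IdealSheafData.vanishingIdeal ⟨Z, hcl⟩).subschemeι with hi₀
  have hr : Set.range (pullback.fst g' i₀) = g' ⁻¹' Z := by
    rw [Scheme.Pullback.range_fst, range_subschemeι_vanishingIdeal]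
  have hpb : IsPullback (pullback.snd g' i₀) (pullback.fst g' i₀ ≫ f') (i₀ ≫ f) g :=
    (IsPullback.of_hasPullback g' i₀).flip.paste_vert sq
  have : IsProper (pullback.fst g' i₀ ≫ f') :=
    MorphismProperty.of_isPullback (P := @IsProper) hpb hp
  exact (isProperOver_iff_of_range_eq f' (pullback.fst g' i₀) _ hr).2 this

/-- Finite unions of sets proper over `S`. -/
theorem isProperOver_iUnion (f : X ⟶ S) [LocallyOfFiniteType f] {ι : Type*} [Finite ι]
    (Z : ι → Set X) (hZ : ∀ i, ClSub.IsProperOver f (Z i)) :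
    ClSub.IsProperOver f (Set.iUnion Z) := by
  have hcl : IsClosed (Set.iUnion Z) := isClosed_iUnion_of_finite fun i => (hZ i).1
  refine ⟨hcl, ?_⟩
  have hle : ∀ i, Scheme.IdealSheafData.vanishingIdeal ⟨Set.iUnion Z, hcl⟩ ≤
      Scheme.IdealSheafData.vanishingIdeal ⟨Z i, (hZ i).1⟩ := fun i =>
    Scheme.IdealSheafData.vanishingIdeal_antimono
      (show (⟨Z i, (hZ i).1⟩ : TopologicalSpace.Closeds X) ≤ ⟨Set.iUnion Z, hcl⟩ from
        Set.subset_iUnion Z i)
  refine isProper_of_finite_cover _
    (fun i => (Scheme.IdealSheafData.vanishingIdeal ⟨Z i, (hZ i).1⟩).subscheme)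
    (fun i => Scheme.IdealSheafData.inclusion (hle i)) ?_ (fun i => inferInstance) ?_
  · intro x
    have hx : (Scheme.IdealSheafData.vanishingIdeal ⟨Set.iUnion Z, hcl⟩).subschemeι x ∈
        Set.iUnion Z := by
      have := range_subschemeι_vanishingIdeal (Set.iUnion Z) hcl
      exact this.le ⟨x, rfl⟩
    obtain ⟨i, hi⟩ := Set.mem_iUnion.1 hx
    obtain ⟨z, hz⟩ := (range_subschemeι_vanishingIdeal (Z i) (hZ i).1).ge hi
    refine ⟨i, z, ?_⟩
    apply (Scheme.IdealSheafData.vanishingIdeal
      ⟨Set.iUnion Z, hcl⟩).subschemeι.isClosedEmbedding.injective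
    rw [← hz, ← Scheme.Hom.comp_apply, Scheme.IdealSheafData.inclusion_subschemeι]
  · intro i
    rw [← Category.assoc, Scheme.IdealSheafData.inclusion_subschemeι]
    exact (hZ i).2

end Groth.Agent.Lib.Helper25.ProperOver
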