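import Groth.Agent.Lib.Helper25.HypTwist1
import Groth.Agent.Lib.Helper29.QCohExact

/-!
# The ideal sheaf sequence `0 → I → O_X → i_* O_Z → 0`
-/

set_option autoImplicit false

universe u

open CategoryTheory CategoryTheory.Limits AlgebraicGeometry Opposite TopologicalSpace

namespace Groth.Agent.Lib.Helper25.HypTwist

open Groth.Agent.Lib.Helper29.QCoh

variable {X : Scheme.{u}} (I : X.IdealSheafData)

theorem epi_toSubscheme : Epi (ClSub.toSubscheme I) := by
  rw [epi_iff_stalkMap_surjective]
  intro x t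
  obtain ⟨U, hU, hxU, -⟩ := exists_isAffineOpen_mem_and_subset (x := x) (U := ⊤) trivial
  obtain ⟨V, hVU, hxV, s, rfl⟩ := (ClSub.quotMod I).presheaf.exists_le_germ_eq t hxU
  obtain ⟨W, hW, hxW, hWV⟩ := exists_isAffineOpen_mem_and_subset (x := x) (U := V) hxV
  obtain ⟨a, ha⟩ := I.subschemeι_app_surjective ⟨W, hW⟩ (res (ClSub.quotMod I) hWV s)
  refine ⟨(unitM X).presheaf.germ W x hxW (toUnit a), ?_⟩
  rw [stalkMap_germ, ← germ_res (ClSub.quotMod I) hWV x hxW s]
  congr 1

/-- The ideal sheaf sequence. -/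
noncomputable abbrev idealSeq : ShortComplex X.Modules :=
  ShortComplex.mk (ClSub.idealModι I) (ClSub.toSubscheme I) (kernel.condition _)

theorem shortExact_idealSeq : (idealSeq I).ShortExact := by
  haveI : Mono (idealSeq I).f := inferInstanceAs (Mono (ClSub.idealModι I))
  haveI : Epi (idealSeq I).g := epi_toSubscheme I
  exact ShortComplex.ShortExact.mk (ShortComplex.exact_kernel _)

end Groth.Agent.Lib.Helper25.HypTwist
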