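import Groth.Agent.Lib.Helper25.HypTwist2
import Groth.Agent.Lib.Helper29.Twist
import Groth.Agent.Lib.Helper29.TwistPn

/-!
# The ideal module of a hypersurface of degree `d` in `P^r_k` is isomorphic to `O(-d)`
-/

set_option autoImplicit false

universe u

open CategoryTheory CategoryTheory.Limits AlgebraicGeometry Opposite TopologicalSpace

namespace Groth.Agent.Lib.Helper25.HypTwist

open Groth.Agent.Lib.Helper29.QCoh Groth.Agent.Lib.Helper25.BertiniPn
  Groth.Agent.Lib.Helper25.ChartPoly

variable (k : Type u) [Field k] (r : ℕ) (d : ℕ)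

/-- The generator `1 / T_j^d` of `O(-d)` on the chart `D_+(T_j)`. -/
noncomputable def nGen (j : Fin (r + 1)) :
    Γ(Twist.twist (CohB1.polyGrading r k) (-(d : ℤ)),
      Proj.basicOpen (CohB1.polyGrading r k) (MvPolynomial.X j)) :=
  eSec (-(d : ℤ)) (Xi r k j) 0 d (by push_cast; ring)
    (Proj.basicOpen (CohB1.polyGrading r k) (MvPolynomial.X j)) le_rfl

theorem isTriv_nGen (j : Fin (r + 1)) :
    IsTriv (Twist.twist (CohB1.polyGrading r k) (-(d : ℤ)))
      (Proj.basicOpen (CohB1.polyGrading r k) (MvPolynomial.X j)) (nGen k r d j) :=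
  isTriv_eSec _ _ _ _ _ _ _

/-- The transition function `(T_j / T_i)^d` on `D_+(T_i) ∩ D_+(T_j)`. -/
noncomputable def gTrans (i j : Fin (r + 1)) :
    Γ(Proj (CohB1.polyGrading r k),
      Proj.basicOpen (CohB1.polyGrading r k) (MvPolynomial.X i) ⊓
        Proj.basicOpen (CohB1.polyGrading r k) (MvPolynomial.X j)) :=
  mkO (CohB1.polyGrading r k) _
    (⟨(MvPolynomial.X j : MvPolynomial (Fin (r + 1)) k) ^ d,
      SetLike.pow_mem_graded d (Xi r k j).2⟩ : CohB1.polyGrading r k (d • 1))
    ⟨(MvPolynomial.X i : MvPolynomial (Fin (r + 1)) k) ^ d,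
      SetLike.pow_mem_graded d (Xi r k i).2⟩
    (fun x => pow_not_mem_of_not_mem x.2.1 d)

theorem res_nGen (i j : Fin (r + 1)) :
    res (Twist.twist (CohB1.polyGrading r k) (-(d : ℤ))) inf_le_left (nGen k r d i) =
      gTrans k r d i j •
        res (Twist.twist (CohB1.polyGrading r k) (-(d : ℤ))) inf_le_right (nGen k r d j) := by
  apply tfun_ext
  intro x
  rw [tfun_smul, tfun_res, tfun_res]
  unfold nGen gTrans
  rw [tfun_eSec, tfun_eSec, ofun_mkO, Localization.mk_mul, Localization.mk_eq_mk_iff]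
  apply Localization.r_of_eq
  simp only [pow_zero, Submonoid.coe_mul, mul_one]

/-- The transition function, as a function on projective space. -/
noncomputable def gTransA (i j : Fin (r + 1)) :
    Γ(CohB1.ProjSpace r k, (chartA k r i).1 ⊓ (chartA k r j).1) :=
  gTrans k r d i j

variable {k r d}

theorem frac_cocycle (G : CohB1.polyGrading r k d) (i j : Fin (r + 1)) :
    rres (Proj (CohB1.polyGrading r k))
        (inf_le_left : Proj.basicOpen (CohB1.polyGrading r k) (MvPolynomial.X i) ⊓
          Proj.basicOpen (CohB1.polyGrading r k) (MvPolynomial.X j) ≤ _)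
        (frac (CohB1.polyGrading r k) (fXu k r) ⟨i⟩
          (Proj.basicOpen (CohB1.polyGrading r k) (MvPolynomial.X i)) le_rfl G) =
      gTrans k r d i j * rres (Proj (CohB1.polyGrading r k))
        (inf_le_right : Proj.basicOpen (CohB1.polyGrading r k) (MvPolynomial.X i) ⊓
          Proj.basicOpen (CohB1.polyGrading r k) (MvPolynomial.X j) ≤ _)
        (frac (CohB1.polyGrading r k) (fXu k r) ⟨j⟩
          (Proj.basicOpen (CohB1.polyGrading r k) (MvPolynomial.X j)) le_rfl G) := by
  apply ofun_ext (CohB1.polyGrading r k)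
  intro x
  have h1 : ofun (CohB1.polyGrading r k) (rres (Proj (CohB1.polyGrading r k))
        (inf_le_left : Proj.basicOpen (CohB1.polyGrading r k) (MvPolynomial.X i) ⊓
          Proj.basicOpen (CohB1.polyGrading r k) (MvPolynomial.X j) ≤ _)
        (frac (CohB1.polyGrading r k) (fXu k r) ⟨i⟩
          (Proj.basicOpen (CohB1.polyGrading r k) (MvPolynomial.X i)) le_rfl G)) x =
      Localization.mk G.1 ⟨(MvPolynomial.X i : MvPolynomial (Fin (r + 1)) k) ^ d,
        pow_not_mem_of_not_mem x.2.1 d⟩ := rfl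
  have h2 : ofun (CohB1.polyGrading r k) (gTrans k r d i j * rres (Proj (CohB1.polyGrading r k))
        (inf_le_right : Proj.basicOpen (CohB1.polyGrading r k) (MvPolynomial.X i) ⊓
          Proj.basicOpen (CohB1.polyGrading r k) (MvPolynomial.X j) ≤ _)
        (frac (CohB1.polyGrading r k) (fXu k r) ⟨j⟩
          (Proj.basicOpen (CohB1.polyGrading r k) (MvPolynomial.X j)) le_rfl G)) x =
      Localization.mk ((MvPolynomial.X j : MvPolynomial (Fin (r + 1)) k) ^ d)
        ⟨(MvPolynomial.X i : MvPolynomial (Fin (r + 1)) k) ^ d,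
          pow_not_mem_of_not_mem x.2.1 d⟩ *
      Localization.mk G.1 ⟨(MvPolynomial.X j : MvPolynomial (Fin (r + 1)) k) ^ d,
        pow_not_mem_of_not_mem x.2.2 d⟩ := ofun_mul (CohB1.polyGrading r k) _ _ x
  rw [h1, h2, Localization.mk_mul, Localization.mk_eq_mk_iff]
  apply Localization.r_of_eq
  simp only [Submonoid.coe_mul]
  ring

theorem res_mGen (G : LefPen.Form r k d) (i j : Fin (r + 1)) :
    res (ClSub.idealMod (LefPen.hypIdeal G)) inf_le_left (mGen k r G i) =
      gTransA k r d i j •
        res (ClSub.idealMod (LefPen.hypIdeal G)) inf_le_right (mGen k r G j) := by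
  apply ifun_injective
  rw [ifun_smul, ifun_res, ifun_res, ifun_mGen, ifun_mGen, dehom_eq_frac, dehom_eq_frac]
  exact frac_cocycle G i j

/-- **The ideal sheaf of a hypersurface of degree `d` is `O(-d)`.** -/
theorem nonempty_idealMod_iso_twist (G : LefPen.Form r k d) (hG : G ≠ 0) :
    Nonempty (ClSub.idealMod (LefPen.hypIdeal G) ≅ Twist.twistProjSpace r k (-(d : ℤ))) := by
  obtain ⟨φ, -⟩ := exists_iso_of_cocycle (X := CohB1.ProjSpace r k)
    (M := ClSub.idealMod (LefPen.hypIdeal G)) (N := Twist.twistProjSpace r k (-(d : ℤ)))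
    (U := fun j : Fin (r + 1) => (chartA k r j).1) (m := fun j => mGen k r G j)
    (n := fun j => nGen k r d j)
    (fun x => exists_mem_basicOpen_X r k x)
    (fun j => isTriv_mGen hG j) (fun j => isTriv_nGen k r d j)
    (fun i j => ⟨gTransA k r d i j, res_mGen G i j, res_nGen k r d i j⟩)
  exact ⟨φ⟩

end Groth.Agent.Lib.Helper25.HypTwist
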