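import Groth.Agent.Lib.Helper25.ReesAway
import Groth.Prelude.Def_CAlgX

/-!
# Charts of the blowing up in a quasi-regular ideal

For `I = (f₁, …, f_c)` generated by a quasi-regular sequence and the chart `B = (R(I)_{f_k X})₀` of the
blowing up, the quotient `B / I B` is a polynomial algebra over `A / I` in the variables
`f_j / f_k`, `j ≠ k`; in particular `A / I → B / I B` is smooth.
-/

set_option autoImplicit false

namespace Groth.Agent.Lib.Helper25.RegChart

open Groth.Agent.Lib.Helper25.ReesAway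

universe u

section general

variable {ι R S : Type*} [CommRing R] [CommRing S]

/-- scaling the arguments of a homogeneous polynomial -/
lemma eval₂_mul_of_isHomogeneous (κ : R →+* S) (s : S) (t : ι → S)
    {Q : MvPolynomial ι R} {n : ℕ} (hQ : Q.IsHomogeneous n) :
    MvPolynomial.eval₂ κ (fun j => s * t j) Q = s ^ n * MvPolynomial.eval₂ κ t Q := by
  rw [MvPolynomial.eval₂_eq, MvPolynomial.eval₂_eq, Finset.mul_sum]
  refine Finset.sum_congr rfl fun d hd => ?_
  have hdeg := hQ.degree_eq_sum_deg_support hd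
  simp_rw [mul_pow]
  rw [Finset.prod_mul_distrib, Finset.prod_pow_eq_pow_sum, ← hdeg]
  ring

end general

section dehom

variable (R : Type*) [CommRing R] {c : ℕ} (k : Fin c)

/-- dehomogenization `T_k ↦ 1` -/
noncomputable def D : MvPolynomial (Fin c) R →+* MvPolynomial {j : Fin c // j ≠ k} R :=
  MvPolynomial.eval₂Hom MvPolynomial.C
    (fun j => if h : j = k then 1 else MvPolynomial.X ⟨j, h⟩)

@[simp] lemma D_C (r : R) : D R k (MvPolynomial.C r) = MvPolynomial.C r := by
  simp [D]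

@[simp] lemma D_X_self : D R k (MvPolynomial.X k) = 1 := by
  simp [D]

lemma D_X_ne (j : {j : Fin c // j ≠ k}) : D R k (MvPolynomial.X j.1) = MvPolynomial.X j := by
  simp [D, j.2]

variable {R}

lemma map_D {S : Type*} [CommRing S] (φ : R →+* S) (Q : MvPolynomial (Fin c) R) :
    MvPolynomial.map φ (D R k Q) = D S k (MvPolynomial.map φ Q) := by
  have : (MvPolynomial.map φ).comp (D R k) = (D S k).comp (MvPolynomial.map φ) := by
    refine MvPolynomial.ringHom_ext (fun r => ?_) (fun j => ?_)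
    · simp
    · by_cases h : j = k
      · subst h; simp
      · have h1 := D_X_ne R k ⟨j, h⟩
        have h2 := D_X_ne S k ⟨j, h⟩
        simp only at h1 h2
        simp [h1, h2]
  exact RingHom.congr_fun this Q

/-- every polynomial is the dehomogenization of a homogeneous polynomial of any large degree -/
lemma exists_isHomogeneous_D (P : MvPolynomial {j : Fin c // j ≠ k} R) :
    ∃ n₀ : ℕ, ∀ n, n₀ ≤ n → ∃ Q : MvPolynomial (Fin c) R, Q.IsHomogeneous n ∧ D R k Q = P := by
  induction P using MvPolynomial.induction_on with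
  | C r =>
    refine ⟨0, fun n _ => ⟨MvPolynomial.C r * MvPolynomial.X k ^ n,
      MvPolynomial.isHomogeneous_C_mul_X_pow r k n, ?_⟩⟩
    simp
  | add p q hp hq =>
    obtain ⟨n₁, h₁⟩ := hp
    obtain ⟨n₂, h₂⟩ := hq
    refine ⟨max n₁ n₂, fun n hn => ?_⟩
    obtain ⟨Q₁, hQ₁, e₁⟩ := h₁ n (le_trans (le_max_left _ _) hn)
    obtain ⟨Q₂, hQ₂, e₂⟩ := h₂ n (le_trans (le_max_right _ _) hn)
    exact ⟨Q₁ + Q₂, hQ₁.add hQ₂, by rw [map_add, e₁, e₂]⟩
  | mul_X p j hp =>
    obtain ⟨n₁, h₁⟩ := hp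
    refine ⟨n₁ + 1, fun n hn => ?_⟩
    obtain ⟨m, rfl⟩ : ∃ m, n = m + 1 := ⟨n - 1, by omega⟩
    obtain ⟨Q₁, hQ₁, e₁⟩ := h₁ m (by omega)
    exact ⟨Q₁ * MvPolynomial.X j.1, hQ₁.mul (MvPolynomial.isHomogeneous_X R j.1),
      by rw [map_mul, e₁, D_X_ne]⟩

end dehom

/-- `κ : A → B` looks like the chart `A → A[I/a]` of the blowing up of `I`. -/
structure IsChart {A B : Type*} [CommRing A] [CommRing B] (I : Ideal A) (a : A) (κ : A →+* B) :
    Prop where
  mem : a ∈ I
  nzd : κ a ∈ nonZeroDivisors B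
  surj : ∀ z : B, ∃ (m : ℕ) (x : A), x ∈ I ^ m ∧ κ a ^ m * z = κ x
  ker : ∀ y : A, κ y = 0 → ∃ N : ℕ, a ^ N * y = 0
  dvd : ∀ x ∈ I, ∃ z : B, κ a * z = κ x

section abstract

variable {A B : Type*} [CommRing A] [CommRing B] {I : Ideal A} {a : A} {κ : A →+* B}

lemma IsChart.map_eq (h : IsChart I a κ) : I.map κ = Ideal.span {κ a} := by
  apply le_antisymm
  · rw [Ideal.map_le_iff_le_comap]
    intro x hx
    rw [Ideal.mem_comap, Ideal.mem_span_singleton]
    obtain ⟨z, hz⟩ := h.dvd x hx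
    exact ⟨z, hz.symm⟩
  · rw [Ideal.span_le, Set.singleton_subset_iff]
    exact Ideal.mem_map_of_mem _ h.mem

lemma IsChart.of_ringEquiv {B' : Type*} [CommRing B'] (h : IsChart I a κ) (e : B ≃+* B') :
    IsChart I a (e.toRingHom.comp κ) where
  mem := h.mem
  nzd := by
    change e (κ a) ∈ nonZeroDivisors B'
    refine mem_nonZeroDivisors_iff_right.2 fun z hz => ?_
    have h1 : e.symm z * κ a = 0 := by
      apply e.injective
      rw [map_mul, e.apply_symm_apply, map_zero]
      exact hz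
    have h0 := (mem_nonZeroDivisors_iff_right.1 h.nzd) _ h1
    simpa using congrArg e h0
  surj z := by
    obtain ⟨m, x, hx, hz⟩ := h.surj (e.symm z)
    refine ⟨m, x, hx, ?_⟩
    change e (κ a) ^ m * z = e (κ x)
    rw [← hz, map_mul, map_pow, e.apply_symm_apply]
  ker y hy := h.ker y (e.injective (by rw [map_zero]; exact hy))
  dvd x hx := by
    obtain ⟨z, hz⟩ := h.dvd x hx
    refine ⟨e z, ?_⟩
    change e (κ a) * e z = e (κ x)
    rw [← map_mul, hz]

variable {c : ℕ} (f : Fin c → A) (hfI : ∀ j, f j ∈ I) (h : IsChart I a κ) (k : Fin c) (hk : f k = a)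

/-- the fractions `f_j / a` -/
noncomputable def t (j : Fin c) : B := (h.dvd (f j) (hfI j)).choose

lemma kap_mul_t (j : Fin c) : κ a * t f hfI h j = κ (f j) := (h.dvd (f j) (hfI j)).choose_spec

include hk in
lemma t_self : t f hfI h k = 1 := by
  have h1 := kap_mul_t f hfI h k
  rw [hk] at h1
  have h2 : κ a * (t f hfI h k - 1) = 0 := by rw [mul_sub, h1, mul_one, sub_self]
  have h3 := (mem_nonZeroDivisors_iff.1 h.nzd).1 _ h2
  exact sub_eq_zero.1 h3

/-- the presentation map `A[T_j : j ≠ k] → B` -/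
noncomputable def Θ : MvPolynomial {j : Fin c // j ≠ k} A →+* B :=
  MvPolynomial.eval₂Hom κ (fun j => t f hfI h j.1)

include hk in
lemma Θ_D (Q : MvPolynomial (Fin c) A) :
    Θ f hfI h k (D A k Q) = MvPolynomial.eval₂ κ (t f hfI h) Q := by
  have : (Θ f hfI h k).comp (D A k) = MvPolynomial.eval₂Hom κ (t f hfI h) := by
    refine MvPolynomial.ringHom_ext (fun r => ?_) (fun j => ?_)
    · simp [Θ]
    · by_cases hj : j = k
      · subst hj
        simp [t_self f hfI h j hk]
      · have h1 := D_X_ne A k ⟨j, hj⟩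
        simp only at h1
        simp [h1, Θ]
  exact RingHom.congr_fun this Q

lemma kap_eval (Q : MvPolynomial (Fin c) A) {n : ℕ} (hQ : Q.IsHomogeneous n) :
    κ (MvPolynomial.eval f Q) = κ a ^ n * MvPolynomial.eval₂ κ (t f hfI h) Q := by
  rw [← eval₂_mul_of_isHomogeneous _ _ _ hQ]
  have h1 : (fun j => κ a * t f hfI h j) = fun j => κ (f j) :=
    funext fun j => kap_mul_t f hfI h j
  rw [h1, MvPolynomial.eval, MvPolynomial.coe_eval₂Hom, MvPolynomial.eval₂_comp_left]
  rfl

include hk in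
/-- Quasi-regularity: a polynomial in the `f_j / a` lying in `I B` has coefficients in `I`. -/
theorem coeff_mem_of_Θ_mem (hI : I = Ideal.span (Set.range f)) (hq : CAlgX.IsQuasiRegular f)
    (P : MvPolynomial {j : Fin c // j ≠ k} A)
    (hP : Θ f hfI h k P ∈ I.map κ) (d : {j : Fin c // j ≠ k} →₀ ℕ) :
    MvPolynomial.coeff d P ∈ I := by
  rw [h.map_eq, Ideal.mem_span_singleton] at hP
  obtain ⟨z, hz⟩ := hP
  obtain ⟨m, x, hx, hzx⟩ := h.surj z
  obtain ⟨n₀, hn₀⟩ := exists_isHomogeneous_D k P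
  obtain ⟨Q, hQ, hDQ⟩ := hn₀ n₀ le_rfl
  -- the key identity in `B`
  have e1 : κ (a ^ m * MvPolynomial.eval f Q - a ^ (n₀ + 1) * x) = 0 := by
    have h1 := kap_eval f hfI h Q hQ
    rw [← Θ_D f hfI h k hk, hDQ, hz] at h1
    rw [map_sub, map_mul, map_mul, map_pow, map_pow, h1, ← hzx]
    ring
  obtain ⟨N, hN⟩ := h.ker _ e1
  have e2 : a ^ (N + m) * MvPolynomial.eval f Q = a ^ (N + n₀ + 1) * x := by
    have : a ^ N * (a ^ m * MvPolynomial.eval f Q - a ^ (n₀ + 1) * x) = 0 := hN
    rw [mul_sub, sub_eq_zero] at this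
    calc a ^ (N + m) * MvPolynomial.eval f Q = a ^ N * (a ^ m * MvPolynomial.eval f Q) := by ring
      _ = a ^ N * (a ^ (n₀ + 1) * x) := this
      _ = a ^ (N + n₀ + 1) * x := by ring
  -- apply quasi-regularity to `X_k ^ (N + m) * Q`
  set Q' : MvPolynomial (Fin c) A := MvPolynomial.X k ^ (N + m) * Q with hQ'
  have hQ'h : Q'.IsHomogeneous (N + m + n₀) := (MvPolynomial.isHomogeneous_X_pow k (N + m)).mul hQ
  have hev : MvPolynomial.eval f Q' ∈ Ideal.span (Set.range f) ^ (N + m + n₀ + 1) := by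
    rw [hQ', map_mul, map_pow, MvPolynomial.eval_X, hk, e2, ← hI]
    have : N + m + n₀ + 1 = (N + n₀ + 1) + m := by ring
    rw [this, pow_add]
    exact Ideal.mul_mem_mul (Ideal.pow_mem_pow h.mem _) hx
  have hcoef := hq _ Q' hQ'h hev
  rw [← hI] at hcoef
  have hmap : MvPolynomial.map (Ideal.Quotient.mk I) Q' = 0 := by
    ext e
    rw [MvPolynomial.coeff_map, MvPolynomial.coeff_zero]
    exact Ideal.Quotient.eq_zero_iff_mem.2 (hcoef e)
  have hP0 : MvPolynomial.map (Ideal.Quotient.mk I) P = 0 := by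
    have h1 : D A k Q' = P := by rw [hQ', map_mul, map_pow, D_X_self, one_pow, one_mul, hDQ]
    rw [← h1, map_D, hmap, map_zero]
  have := congrArg (MvPolynomial.coeff d) hP0
  rw [MvPolynomial.coeff_map, MvPolynomial.coeff_zero] at this
  exact Ideal.Quotient.eq_zero_iff_mem.1 this

include hk in
/-- every element of the chart is a polynomial in the `f_j / a` -/
theorem Θ_surjective (hI : I = Ideal.span (Set.range f)) :
    Function.Surjective (Θ f hfI h k) := by
  intro z
  obtain ⟨m, x, hx, hzx⟩ := h.surj z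
  rw [hI, Ideal.mem_span_pow_iff_exists_isHomogeneous] at hx
  obtain ⟨Q, hQ, hQx⟩ := hx
  refine ⟨D A k Q, ?_⟩
  rw [Θ_D f hfI h k hk]
  have h1 := kap_eval f hfI h Q hQ
  rw [hQx, ← hzx] at h1
  have h3 : κ a ^ m * (MvPolynomial.eval₂ κ (t f hfI h) Q - z) = 0 := by
    rw [mul_sub, ← h1, sub_self]
  have h4 := (mem_nonZeroDivisors_iff.1 (pow_mem h.nzd m)).1 _ h3
  exact sub_eq_zero.1 h4

end abstract

section smooth

variable {A B : Type u} [CommRing A] [CommRing B] {I : Ideal A} {a : A} {κ : A →+* B}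
  {c : ℕ} (f : Fin c → A) (k : Fin c) (hk : f k = a)

include hk in
/-- **The exceptional divisor of the chart is a polynomial algebra**: the ring map `A/I → B/IB`
is smooth. -/
theorem IsChart.smooth (h : IsChart I a κ) (hI : I = Ideal.span (Set.range f)) (hq : CAlgX.IsQuasiRegular f)
    {A' B' : Type u} [CommRing A'] [CommRing B'] (πA : A →+* A') (πB : B →+* B') (φ : A' →+* B')
    (hA : Function.Surjective πA) (hB : Function.Surjective πB) (hkA : RingHom.ker πA = I)
    (hkB : RingHom.ker πB = I.map κ) (hcomm : φ.comp πA = πB.comp κ) :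
    φ.Smooth := by
  classical
  have hfI : ∀ j, f j ∈ I := fun j => hI ▸ Ideal.subset_span ⟨j, rfl⟩
  let ψ : MvPolynomial {j : Fin c // j ≠ k} A' →+* B' :=
    MvPolynomial.eval₂Hom φ (fun j => πB (t f hfI h j.1))
  have hcompat : ψ.comp (MvPolynomial.map πA) = πB.comp (Θ f hfI h k) := by
    refine MvPolynomial.ringHom_ext (fun r => ?_) (fun j => ?_)
    · have := RingHom.congr_fun hcomm r
      simpa [ψ, Θ] using this
    · simp [ψ, Θ]
  have hsurj : Function.Surjective ψ := by
    intro z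
    obtain ⟨z', rfl⟩ := hB z
    obtain ⟨P, rfl⟩ := Θ_surjective f hfI h k hk hI z'
    exact ⟨MvPolynomial.map πA P, RingHom.congr_fun hcompat P⟩
  have hinj : Function.Injective ψ := by
    rw [injective_iff_map_eq_zero]
    intro P hP
    obtain ⟨P', rfl⟩ := MvPolynomial.map_surjective πA hA P
    have h1 : πB (Θ f hfI h k P') = 0 := by
      rw [← hP]; exact (RingHom.congr_fun hcompat P').symm
    have h2 : Θ f hfI h k P' ∈ I.map κ := by
      rw [← hkB]; exact h1
    ext d
    rw [MvPolynomial.coeff_map, MvPolynomial.coeff_zero]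
    have h3 := coeff_mem_of_Θ_mem f hfI h k hk hI hq P' h2 d
    rw [← hkA] at h3
    exact h3
  have hφ : φ = ψ.comp (MvPolynomial.C) := by
    ext r
    simp [ψ]
  rw [hφ]
  refine RingHom.Smooth.comp ?_ (RingHom.Smooth.of_bijective ⟨hinj, hsurj⟩)
  have : Algebra.Smooth A' (MvPolynomial {j : Fin c // j ≠ k} A') := ⟨inferInstance, inferInstance⟩
  exact RingHom.smooth_algebraMap.2 this

end smooth

section rees

variable {A : Type u} [CommRing A] (I : Ideal A) (a : A) (ha : a ∈ I)

/-- the kernel of `A → (R(I)_{aX})₀` is the `a`-power torsion -/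
lemma exists_pow_mul_eq_zero_of_kap_eq_zero (y : A) (hy : kap I a ha y = 0) :
    ∃ N : ℕ, a ^ N * y = 0 := by
  have hu : IsUnit (algebraMap A (Localization.Away a) a) :=
    IsLocalization.Away.algebraMap_isUnit a
  obtain ⟨ψ, hψ⟩ := exists_lift I (algebraMap A (Localization.Away a)) a ha
    (IsUnit.mem_nonZeroDivisors hu) (fun x _ => hu.dvd)
  have h0 : algebraMap A (Localization.Away a) y = 0 := by
    rw [← hψ, RingHom.comp_apply, hy, map_zero]
  obtain ⟨⟨_, N, rfl⟩, hN⟩ := (IsLocalization.map_eq_zero_iff (Submonoid.powers a) _ _).1 h0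
  exact ⟨N, hN⟩

/-- the chart of the Rees algebra is a chart -/
theorem isChart_kap : IsChart I a (kap I a ha) where
  mem := ha
  nzd := kap_mem_nonZeroDivisors I a ha
  surj z := by
    obtain ⟨m, x, hx, rfl⟩ := frac_surjective I a ha z
    exact ⟨m, x, hx, kap_pow_mul_frac I a ha m x hx⟩
  ker := exists_pow_mul_eq_zero_of_kap_eq_zero I a ha
  dvd x hx := by
    have hx1 : x ∈ I ^ 1 := by simpa using hx
    refine ⟨frac I a ha 1 x hx1, ?_⟩
    exact (congrArg (· * frac I a ha 1 x hx1) (pow_one (kap I a ha a))).symm.trans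
      (kap_pow_mul_frac I a ha 1 x hx1)

end rees

end Groth.Agent.Lib.Helper25.RegChart
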