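import Groth.Agent.Lib.Helper25.ProjReesMap

/-!
# The strict transform of a closed subscheme is a closed subscheme of the blowing up
-/

set_option autoImplicit false
universe u
open CategoryTheory CategoryTheory.Limits AlgebraicGeometry TopologicalSpace

namespace Groth.Agent.Lib.Helper25.BlowUpUP

open Groth.Agent.Lib.Helper25.ProjRees

variable {X Y X' Y' : Scheme.{u}}

/-- The morphism between blowing ups covering `f` is unique. -/
theorem strict_map_unique (𝓘 : X.IdealSheafData) (f : Y ⟶ X)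
    (b : X' ⟶ X) (hb : BlowUp.IsBlowUp b 𝓘) (b' : Y' ⟶ Y) (hb' : BlowUp.IsBlowUp b' (𝓘.comap f))
    (f' f'' : Y' ⟶ X') (h1 : f' ≫ b = b' ≫ f) (h2 : f'' ≫ b = b' ≫ f) : f' = f'' := by
  have hE : BlowUp.IsEffCartierIdeal (𝓘.comap (b' ≫ f)) := by
    rw [Scheme.IdealSheafData.comap_comp]; exact hb'.1
  obtain ⟨_, _, hu⟩ := hb.2 Y' (b' ≫ f) hE
  rw [hu f' h1, hu f'' h2]

/-- To show that the morphism between blowing ups covering `f` is a closed immersion,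
it suffices to do it for one model. -/
theorem isClosedImmersion_of_model (𝓘 : X.IdealSheafData) (f : Y ⟶ X)
    (b : X' ⟶ X) (hb : BlowUp.IsBlowUp b 𝓘) (b' : Y' ⟶ Y) (hb' : BlowUp.IsBlowUp b' (𝓘.comap f))
    (f' : Y' ⟶ X') (hf' : f' ≫ b = b' ≫ f)
    {X₁ Y₁ : Scheme.{u}} (b₁ : X₁ ⟶ X) (hb₁ : BlowUp.IsBlowUp b₁ 𝓘) (b₁' : Y₁ ⟶ Y)
    (hb₁' : BlowUp.IsBlowUp b₁' (𝓘.comap f)) (f₁ : Y₁ ⟶ X₁) (hf₁ : f₁ ≫ b₁ = b₁' ≫ f)
    [IsClosedImmersion f₁] : IsClosedImmersion f' := by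
  obtain ⟨e, he⟩ := exists_iso_of_isBlowUp b b₁ 𝓘 hb hb₁
  obtain ⟨e', he'⟩ := exists_iso_of_isBlowUp b' b₁' _ hb' hb₁'
  have h2 : (e'.hom ≫ f₁ ≫ e.inv) ≫ b = b' ≫ f := by
    have : e.inv ≫ b = b₁ := by rw [← he, Iso.inv_hom_id_assoc]
    rw [Category.assoc, Category.assoc, this, hf₁, ← Category.assoc, he']
  rw [strict_map_unique 𝓘 f b hb b' hb' f' _ hf' h2]
  infer_instance

theorem isBlowUp_proj_isoSpec_inv (Z : Scheme.{u}) [IsAffine Z] (𝓙 : Z.IdealSheafData) :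
    BlowUp.IsBlowUp (proj (𝓙.ideal ⟨⊤, isAffineOpen_top Z⟩) ≫ Z.isoSpec.inv) 𝓙 := by
  have := isBlowUp_comp_iso_inv _ _ Z.isoSpec (isBlowUp_proj (𝓙.ideal ⟨⊤, isAffineOpen_top Z⟩))
  rwa [specIdeal_comap_isoSpec_hom] at this

/-- The strict transform is a closed subscheme: affine base. -/
theorem isClosedImmersion_strict_of_isAffine [IsAffine X] (𝓘 : X.IdealSheafData) (f : Y ⟶ X)
    [IsClosedImmersion f]
    (b : X' ⟶ X) (hb : BlowUp.IsBlowUp b 𝓘) (b' : Y' ⟶ Y) (hb' : BlowUp.IsBlowUp b' (𝓘.comap f))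
    (f' : Y' ⟶ X') (hf' : f' ≫ b = b' ≫ f) : IsClosedImmersion f' := by
  obtain ⟨hY, hsurj⟩ := IsClosedImmersion.isAffine_surjective_of_isAffine f
  set I := 𝓘.ideal ⟨⊤, isAffineOpen_top X⟩ with hI
  set q : Γ(X, ⊤) →+* Γ(Y, ⊤) := f.appTop.hom with hq
  have hcomap : (specIdeal (I.map q)).comap Y.isoSpec.hom = 𝓘.comap f := by
    conv_rhs => rw [← specIdeal_comap_isoSpec_hom X 𝓘]
    rw [← Scheme.IdealSheafData.comap_comp, ← Scheme.isoSpec_hom_naturality,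
      Scheme.IdealSheafData.comap_comp]
    congr 1
    exact (specIdeal_comap_SpecMap I q).symm
  have hb₁ := isBlowUp_proj_isoSpec_inv X 𝓘
  have hb₁' : BlowUp.IsBlowUp (proj (I.map q) ≫ Y.isoSpec.inv) (𝓘.comap f) := by
    have := isBlowUp_comp_iso_inv _ _ Y.isoSpec (isBlowUp_proj (I.map q))
    rwa [hcomap] at this
  have hci : IsClosedImmersion (projMap I q) := isClosedImmersion_projMap I q hsurj
  refine isClosedImmersion_of_model 𝓘 f b hb b' hb' f' hf' _ hb₁ _ hb₁' (projMap I q) ?_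
  rw [← Category.assoc, projMap_proj, Category.assoc, Category.assoc]
  congr 1
  exact Scheme.isoSpec_inv_naturality f


/-- The restriction of a blowing up to an open subscheme of the base is a blowing up. -/
theorem isBlowUp_morphismRestrict (𝓘 : X.IdealSheafData) (b : X' ⟶ X)
    (hb : BlowUp.IsBlowUp b 𝓘) (U : X.Opens) :
    BlowUp.IsBlowUp (b ∣_ U) (𝓘.comap U.ι) := by
  have h1 := isBlowUp_pullback_fst_of_flat U.ι 𝓘 b hb
  have hpb := isPullback_morphismRestrict b U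
  have h2 := isBlowUp_iso_comp _ _ hpb.isoPullback h1
  rwa [hpb.isoPullback_hom_fst] at h2

/-- The strict transform of a closed subscheme is a closed subscheme of the blowing up. -/
theorem isClosedImmersion_strict (𝓘 : X.IdealSheafData) (f : Y ⟶ X)
    [IsClosedImmersion f]
    (b : X' ⟶ X) (hb : BlowUp.IsBlowUp b 𝓘) (b' : Y' ⟶ Y) (hb' : BlowUp.IsBlowUp b' (𝓘.comap f))
    (f' : Y' ⟶ X') (hf' : f' ≫ b = b' ≫ f) : IsClosedImmersion f' := by
  refine IsZariskiLocalAtTarget.of_iSup_eq_top (P := @IsClosedImmersion)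
    (fun U : X.affineOpens => b ⁻¹ᵁ U.1) ?_ ?_
  · exact b.iSup_preimage_eq_top (iSup_affineOpens_eq_top X)
  · intro U
    have : IsAffine U.1.toScheme := U.2
    have heq : f' ⁻¹ᵁ (b ⁻¹ᵁ U.1) = b' ⁻¹ᵁ (f ⁻¹ᵁ U.1) := by
      rw [← Scheme.Hom.comp_preimage, ← Scheme.Hom.comp_preimage, hf']
    have : IsClosedImmersion (f ∣_ U.1) :=
      IsZariskiLocalAtTarget.restrict (P := @IsClosedImmersion) inferInstance U.1
    have hbU := isBlowUp_morphismRestrict 𝓘 b hb U.1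
    have hbU' : BlowUp.IsBlowUp ((Y'.isoOfEq heq).hom ≫ (b' ∣_ (f ⁻¹ᵁ U.1)))
        ((𝓘.comap U.1.ι).comap (f ∣_ U.1)) := by
      have h1 := isBlowUp_morphismRestrict (𝓘.comap f) b' hb' (f ⁻¹ᵁ U.1)
      have h2 := isBlowUp_iso_comp _ _ (Y'.isoOfEq heq) h1
      rwa [← Scheme.IdealSheafData.comap_comp, ← morphismRestrict_ι,
        Scheme.IdealSheafData.comap_comp] at h2
    refine isClosedImmersion_strict_of_isAffine (𝓘.comap U.1.ι) (f ∣_ U.1) (b ∣_ U.1) hbU _ hbU'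
      (f' ∣_ (b ⁻¹ᵁ U.1)) ?_
    rw [← cancel_mono U.1.ι]
    simp only [Category.assoc, morphismRestrict_ι, morphismRestrict_ι_assoc,
      Scheme.isoOfEq_hom_ι_assoc, hf']

end Groth.Agent.Lib.Helper25.BlowUpUP
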