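import Groth.Agent.Lib.Helper25.ReesBlowUp
import Groth.Agent.Lib.Helper25.StrictClosed
import Groth.Agent.Lib.Helper25.RegChartAlg

/-!
# Local charts of an abstract blowing up

Every point of a blowing up `b : X' ⟶ X` of `𝓘` lying over an affine open `U` of `X` has an affine open
neighbourhood `V` such that `Γ(X, U) → Γ(X', V)` is (isomorphic to) the affine blow-up algebra
`A → A[I/a]`, with `a` in a prescribed generating set of `I = 𝓘(U)`.
-/

set_option autoImplicit false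
universe u
open CategoryTheory CategoryTheory.Limits AlgebraicGeometry TopologicalSpace
open HomogeneousLocalization

namespace Groth.Agent.Lib.Helper25.BlowUpChart

open Groth.Agent.Lib.Helper25.ReesAway Groth.Agent.Lib.Helper25.BlowUpUP
  Groth.Agent.Lib.Helper25.ProjRees Groth.Agent.Lib.Helper25.RegChart

section ring

variable {A : Type u} [CommRing A] (I : Ideal A)

theorem tilde_mem_of_span (S : Set A) (hS : Ideal.span S = I)
    (J : Ideal (reesAlgebra I)) (hJ : ∀ s (hs : s ∈ S), tilde I s (hS ▸ Ideal.subset_span hs) ∈ J)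
    (a : A) (ha : a ∈ I) : tilde I a ha ∈ J := by
  have key : ∀ a ∈ Ideal.span S, ∀ ha : a ∈ I, tilde I a ha ∈ J := by
    intro a ha'
    refine Submodule.span_induction (p := fun a _ => ∀ ha : a ∈ I, tilde I a ha ∈ J)
      ?_ ?_ ?_ ?_ ha'
    · intro s hs _
      exact hJ s hs
    · intro _
      have : tilde I 0 (zero_mem I) = 0 := by
        apply Subtype.ext
        change Polynomial.monomial 1 (0 : A) = 0
        simp
      rw [this]; exact zero_mem J
    · intro x y hx hy h1 h2 hxy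
      have hx' : x ∈ I := hS ▸ hx
      have hy' : y ∈ I := hS ▸ hy
      have : tilde I (x + y) hxy = tilde I x hx' + tilde I y hy' := by
        apply Subtype.ext
        change Polynomial.monomial 1 (x + y) = Polynomial.monomial 1 x + Polynomial.monomial 1 y
        simp
      rw [this]; exact add_mem (h1 hx') (h2 hy')
    · intro r x hx h1 hrx
      have hx' : x ∈ I := hS ▸ hx
      have : tilde I (r • x) hrx = algebraMap A (reesAlgebra I) r * tilde I x hx' := by
        apply Subtype.ext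
        change Polynomial.monomial 1 (r • x) = Polynomial.C r * Polynomial.monomial 1 x
        rw [Polynomial.C_mul_monomial, smul_eq_mul]
      rw [this]; exact Ideal.mul_mem_left _ _ (h1 hx')
  exact key a (hS ▸ ha) ha

theorem exists_mem_basicOpen_of_span (S : Set A) (hS : Ideal.span S = I)
    (x : Proj (Rees.deg (reesAlgebra I))) :
    ∃ (a : A) (ha : a ∈ I), a ∈ S ∧
      x ∈ Proj.basicOpen (Rees.deg (reesAlgebra I)) (tilde I a ha) := by
  by_contra hcon
  push Not at hcon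
  obtain ⟨a₀, ha₀, hx₀⟩ := exists_mem_basicOpen I x
  rw [Proj.mem_basicOpen] at hx₀
  apply hx₀
  refine tilde_mem_of_span I S hS x.asHomogeneousIdeal.toIdeal (fun s hs => ?_) a₀ ha₀
  have := hcon s (hS ▸ Ideal.subset_span hs) hs
  rw [Proj.mem_basicOpen, not_not] at this
  exact this

end ring

variable {X X' : Scheme.{u}}

/-- **Local charts of a blowing up.** -/
theorem exists_chart (𝓘 : X.IdealSheafData) (b : X' ⟶ X) (hb : BlowUp.IsBlowUp b 𝓘)
    (U : X.Opens) (hU : IsAffineOpen U) (S : Set Γ(X, U)) (hS : Ideal.span S = 𝓘.ideal ⟨U, hU⟩)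
    (x' : X') (hx' : x' ∈ b ⁻¹ᵁ U) :
    ∃ a ∈ S, ∃ (V : X'.Opens) (_ : IsAffineOpen V) (hVU : V ≤ b ⁻¹ᵁ U), x' ∈ V ∧
      IsChart (𝓘.ideal ⟨U, hU⟩) a (b.appLE U V hVU).hom := by
  set I := 𝓘.ideal ⟨U, hU⟩ with hI
  have hbU := isBlowUp_morphismRestrict 𝓘 b hb U
  have hP : BlowUp.IsBlowUp (proj I ≫ hU.isoSpec.inv) (𝓘.comap U.ι) := by
    have := isBlowUp_comp_iso_inv (proj I) (specIdeal I) hU.isoSpec (isBlowUp_proj I)
    rwa [Groth.Agent.Lib.Helper25.ReesQC.specIdeal_comap_isoSpec] at this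
  obtain ⟨θ, hθ⟩ := exists_iso_of_isBlowUp (b ∣_ U) (proj I ≫ hU.isoSpec.inv) _ hbU hP
  obtain ⟨a, ha, haS, hxa⟩ := exists_mem_basicOpen_of_span I S hS (θ.hom ⟨x', hx'⟩)
  let j : Spec (CommRingCat.of (Away (Rees.deg (reesAlgebra I)) (tilde I a ha))) ⟶ X' :=
    chart I a ha ≫ θ.inv ≫ (b ⁻¹ᵁ U).ι
  have hjb : j ≫ b = Spec.map (CommRingCat.ofHom (kap I a ha)) ≫ hU.fromSpec := by
    have h1 : θ.inv ≫ (b ∣_ U) = proj I ≫ hU.isoSpec.inv := by
      rw [Iso.inv_comp_eq]; exact hθ.symm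
    change (chart I a ha ≫ θ.inv ≫ (b ⁻¹ᵁ U).ι) ≫ b = _
    rw [Category.assoc, Category.assoc, ← morphismRestrict_ι, ← Category.assoc θ.inv, h1,
      Category.assoc, hU.isoSpec_inv_ι, ← Category.assoc, chart_proj]
  let V : X'.Opens := j.opensRange
  have hV : IsAffineOpen V := isAffineOpen_opensRange j
  have hxV : x' ∈ V := by
    have h1 : θ.hom ⟨x', hx'⟩ ∈ Set.range (chart I a ha) := by
      rw [range_chart]; exact hxa
    obtain ⟨w, hw⟩ := h1
    refine ⟨w, ?_⟩
    change ((chart I a ha ≫ θ.inv ≫ (b ⁻¹ᵁ U).ι) w) = x'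
    rw [Scheme.Hom.comp_apply, Scheme.Hom.comp_apply, hw]
    have : θ.inv (θ.hom ⟨x', hx'⟩) = ⟨x', hx'⟩ := by
      rw [← Scheme.Hom.comp_apply, Iso.hom_inv_id]; rfl
    rw [this]; rfl
  have hVU : V ≤ b ⁻¹ᵁ U := by
    rintro _ ⟨w, rfl⟩
    change ((chart I a ha ≫ θ.inv ≫ (b ⁻¹ᵁ U).ι) w) ∈ b ⁻¹ᵁ U
    rw [Scheme.Hom.comp_apply, Scheme.Hom.comp_apply]
    exact (θ.inv (chart I a ha w)).2
  refine ⟨a, haS, V, hV, hVU, hxV, ?_⟩
  -- the comparison of `Spec` of the chart ring with `Spec Γ(X', V)`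
  have hrange : Set.range j = Set.range hV.fromSpec := by
    rw [hV.range_fromSpec]; rfl
  let γ := IsOpenImmersion.isoOfRangeEq j hV.fromSpec hrange
  have hγ : γ.hom ≫ hV.fromSpec = j := IsOpenImmersion.isoOfRangeEq_hom_fac _ _ _
  obtain ⟨ε₀, hε₀⟩ := Spec.map_surjective γ.hom
  obtain ⟨ε₁, hε₁⟩ := Spec.map_surjective γ.inv
  have h01 : ε₀ ≫ ε₁ = 𝟙 _ := by
    apply Spec.map_injective
    rw [Spec.map_comp, hε₀, hε₁, Iso.inv_hom_id, Spec.map_id]
  have h10 : ε₁ ≫ ε₀ = 𝟙 _ := by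
    apply Spec.map_injective
    rw [Spec.map_comp, hε₀, hε₁, Iso.hom_inv_id, Spec.map_id]
  have hcomp : b.appLE U V hVU ≫ ε₀ = CommRingCat.ofHom (kap I a ha) := by
    apply Spec.map_injective
    rw [← cancel_mono hU.fromSpec, Spec.map_comp, Category.assoc,
      IsAffineOpen.SpecMap_appLE_fromSpec b hU hV hVU, hε₀, ← Category.assoc, hγ, hjb]
  have hcomp' : b.appLE U V hVU = CommRingCat.ofHom (kap I a ha) ≫ ε₁ := by
    rw [← hcomp, Category.assoc, h01, Category.comp_id]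
  let e : Away (Rees.deg (reesAlgebra I)) (tilde I a ha) ≃+* Γ(X', V) :=
    RingEquiv.ofRingHom ε₁.hom ε₀.hom
      (by
        have := congrArg CommRingCat.Hom.hom h01
        exact this)
      (by
        have := congrArg CommRingCat.Hom.hom h10
        exact this)
  have hfin : (b.appLE U V hVU).hom = e.toRingHom.comp (kap I a ha) := by
    rw [hcomp']; rfl
  rw [hfin]
  exact (isChart_kap I a ha).of_ringEquiv e

end Groth.Agent.Lib.Helper25.BlowUpChart
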