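import Groth.Agent.Lib.Helper25.BlowUpUP

/-!
# Regular sections pull back to regular sections under a blowing up
-/

set_option autoImplicit false
universe u
open CategoryTheory CategoryTheory.Limits AlgebraicGeometry TopologicalSpace

namespace Groth.Agent.Lib.Helper25.BlowUpUP

variable {X : Scheme.{u}}

/-- Restriction from an affine open to the basic open of a nonzerodivisor is injective. -/
theorem res_basicOpen_injective {U : X.Opens} (hU : IsAffineOpen U) (f : Γ(X, U))
    (hf : f ∈ nonZeroDivisors Γ(X, U)) :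
    Function.Injective (X.presheaf.map (homOfLE (X.basicOpen_le f)).op).hom := by
  let _ := (X.presheaf.map (homOfLE (X.basicOpen_le f)).op).hom.toAlgebra
  have := hU.isLocalization_basicOpen f
  exact IsLocalization.injective (M := Submonoid.powers f) Γ(X, X.basicOpen f)
    ((Submonoid.powers_le).2 hf)

/-- Restriction to a basic open preserves nonzerodivisors (on an affine open). -/
theorem res_basicOpen_mem_nonZeroDivisors {U : X.Opens} (hU : IsAffineOpen U) (g f : Γ(X, U))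
    (hf : f ∈ nonZeroDivisors Γ(X, U)) :
    (X.presheaf.map (homOfLE (X.basicOpen_le g)).op).hom f ∈
      nonZeroDivisors Γ(X, X.basicOpen g) := by
  let _ := (X.presheaf.map (homOfLE (X.basicOpen_le g)).op).hom.toAlgebra
  have := hU.isLocalization_basicOpen g
  exact IsLocalization.map_nonZeroDivisors_le (Submonoid.powers g) Γ(X, X.basicOpen g)
    ⟨f, hf, rfl⟩

/-- Around any point an effective Cartier ideal is principal, generated by a nonzerodivisor, on
arbitrarily small affine opens. -/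
theorem exists_affine_principal_le (𝓙 : X.IdealSheafData) (h : BlowUp.IsEffCartierIdeal 𝓙)
    (x : X) (W : X.Opens) (hW : x ∈ W) :
    ∃ (U : X.affineOpens) (f : Γ(X, U.1)), x ∈ U.1 ∧ U.1 ≤ W ∧
      f ∈ nonZeroDivisors Γ(X, U.1) ∧ 𝓙.ideal U = Ideal.span {f} := by
  obtain ⟨U₀, hxU₀, f₀, hf₀, hI⟩ := h x
  obtain ⟨g, hgW, hxg⟩ := U₀.2.exists_basicOpen_le (V := W) ⟨x, hW⟩ hxU₀
  refine ⟨X.affineBasicOpen g, (X.presheaf.map (homOfLE (X.basicOpen_le g)).op).hom f₀, hxg, hgW,
    res_basicOpen_mem_nonZeroDivisors U₀.2 g f₀ hf₀, ?_⟩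
  rw [← 𝓙.map_ideal_basicOpen U₀ g, hI, Ideal.map_span, Set.image_singleton]
  rfl

/-- Points of the basic open of a generator are outside the support. -/
theorem notMem_support_of_mem_basicOpen (𝓙 : X.IdealSheafData) (U : X.affineOpens)
    (f : Γ(X, U.1)) (hI : 𝓙.ideal U = Ideal.span {f}) (y : X) (hy : y ∈ X.basicOpen f) :
    y ∉ 𝓙.support := by
  intro hys
  have hyU : y ∈ U.1 := X.basicOpen_le f hy
  rw [Scheme.IdealSheafData.mem_support_iff_of_mem hyU, Scheme.mem_zeroLocus_iff] at hys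
  exact hys f (by rw [SetLike.mem_coe, hI]; exact Ideal.mem_span_singleton_self f) hy

/-- A section is a nonzerodivisor if all its germs are. -/
theorem mem_nonZeroDivisors_of_germ (U : X.Opens) (t : Γ(X, U))
    (h : ∀ (x : X) (hx : x ∈ U), X.presheaf.germ U x hx t ∈ nonZeroDivisors (X.presheaf.stalk x)) :
    t ∈ nonZeroDivisors Γ(X, U) := by
  rw [mem_nonZeroDivisors_iff_right]
  intro s hs
  refine TopCat.Presheaf.section_ext X.sheaf U s 0 (fun x hx => ?_)
  have h1 := congrArg (X.presheaf.germ U x hx) hs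
  rw [map_mul, map_zero] at h1
  rw [map_zero]
  exact (mem_nonZeroDivisors_iff_right.1 (h x hx)) _ h1

/-- On an affine open, germs of a nonzerodivisor are nonzerodivisors. -/
theorem germ_mem_nonZeroDivisors_of_isAffineOpen {U : X.Opens} (hU : IsAffineOpen U)
    (t : Γ(X, U)) (ht : t ∈ nonZeroDivisors Γ(X, U)) (x : X) (hx : x ∈ U) :
    X.presheaf.germ U x hx t ∈ nonZeroDivisors (X.presheaf.stalk x) := by
  let _ := X.presheaf.algebra_section_stalk (U := U) ⟨x, hx⟩
  have hloc := hU.isLocalization_stalk ⟨x, hx⟩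
  have h := IsLocalization.map_nonZeroDivisors_le
    (hU.primeIdealOf ⟨x, hx⟩).asIdeal.primeCompl (X.presheaf.stalk x)
  exact h ⟨t, ht, rfl⟩

/-- The stalk maps of a blowing up are isomorphisms off the exceptional divisor. -/
theorem isIso_stalkMap_of_notMem_support {X' : Scheme.{u}} (𝓘 : X.IdealSheafData) (b : X' ⟶ X)
    (hb : BlowUp.IsBlowUp b 𝓘) (y : X') (hy : b y ∉ 𝓘.support) : IsIso (b.stalkMap y) := by
  have h1 := isIso_restrict_compl_support 𝓘 b hb
  let y' : (b ⁻¹ᵁ complSupport 𝓘 : X'.Opens) := ⟨y, hy⟩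
  have h2 : IsIso ((b ∣_ complSupport 𝓘).stalkMap y') := inferInstance
  exact ((MorphismProperty.isomorphisms CommRingCat).arrow_mk_iso_iff
    (morphismRestrictStalkMap b (complSupport 𝓘) y')).1 h2

theorem map_mem_nonZeroDivisors_of_isIso {R S : CommRingCat.{u}} (φ : R ⟶ S) [IsIso φ] {r : R}
    (hr : r ∈ nonZeroDivisors R) : φ.hom r ∈ nonZeroDivisors S := by
  refine map_mem_nonZeroDivisors_of_flat φ.hom (RingHom.Flat.of_bijective ?_) hr
  exact (ConcreteCategory.isIso_iff_bijective φ).1 inferInstance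

/-- **Regular sections pull back to regular sections under a blowing up**: if all germs of `s` on
`U` are nonzerodivisors, so are all germs of `b^♯ s` on `b⁻¹ U`. -/
theorem germ_app_mem_nonZeroDivisors {X' : Scheme.{u}} (𝓘 : X.IdealSheafData) (b : X' ⟶ X)
    (hb : BlowUp.IsBlowUp b 𝓘) (U : X.Opens) (s : Γ(X, U))
    (hs : ∀ (x : X) (hx : x ∈ U),
      X.presheaf.germ U x hx s ∈ nonZeroDivisors (X.presheaf.stalk x))
    (x' : X') (hx' : b x' ∈ U) :
    X'.presheaf.germ (b ⁻¹ᵁ U) x' hx' (b.app U s) ∈ nonZeroDivisors (X'.presheaf.stalk x') := by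
  rw [mem_nonZeroDivisors_iff_right]
  intro τ hτ
  obtain ⟨U₁, hx₁, τ₁, rfl⟩ := X'.presheaf.exists_germ_eq (x := x') τ
  let U₂ : X'.Opens := U₁ ⊓ b ⁻¹ᵁ U
  have hx₂ : x' ∈ U₂ := ⟨hx₁, hx'⟩
  let p : Γ(X', U₂) := X'.presheaf.map (homOfLE (inf_le_left : U₂ ≤ U₁)).op τ₁ *
    X'.presheaf.map (homOfLE (inf_le_right : U₂ ≤ b ⁻¹ᵁ U)).op (b.app U s)
  have hp : X'.presheaf.germ U₂ x' hx₂ p = 0 := by
    rw [map_mul, TopCat.Presheaf.germ_res_apply, TopCat.Presheaf.germ_res_apply]
    exact hτ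
  obtain ⟨U₃, hx₃, i₃, i₃', h₃⟩ := X'.presheaf.germ_eq x' hx₂ hx₂ p 0 (by rw [hp, map_zero])
  rw [map_zero] at h₃
  obtain ⟨U'', f, hxU'', hU''3, hf, hI⟩ :=
    exists_affine_principal_le (𝓘.comap b) hb.1 x' U₃ hx₃
  have hU''2 : U''.1 ≤ U₂ := hU''3.trans i₃.le
  have hU''1 : U''.1 ≤ U₁ := hU''2.trans inf_le_left
  have hU''U : U''.1 ≤ b ⁻¹ᵁ U := hU''2.trans inf_le_right
  have h₂ : X'.presheaf.map (homOfLE hU''1).op τ₁ *
      X'.presheaf.map (homOfLE hU''U).op (b.app U s) = 0 := by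
    have e1 : X'.presheaf.map (homOfLE hU''2).op p = 0 := by
      have : X'.presheaf.map (homOfLE hU''2).op p =
          X'.presheaf.map (homOfLE hU''3).op (X'.presheaf.map i₃.op p) := by
        rw [← CommRingCat.comp_apply, ← Functor.map_comp]
        rfl
      rw [this, h₃, map_zero]
    rw [map_mul] at e1
    have r1 : X'.presheaf.map (homOfLE hU''2).op
        (X'.presheaf.map (homOfLE (inf_le_left : U₂ ≤ U₁)).op τ₁) =
        X'.presheaf.map (homOfLE hU''1).op τ₁ := by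
      rw [← CommRingCat.comp_apply, ← Functor.map_comp]
      rfl
    have r2 : X'.presheaf.map (homOfLE hU''2).op
        (X'.presheaf.map (homOfLE (inf_le_right : U₂ ≤ b ⁻¹ᵁ U)).op (b.app U s)) =
        X'.presheaf.map (homOfLE hU''U).op (b.app U s) := by
      rw [← CommRingCat.comp_apply, ← Functor.map_comp]
      rfl
    rw [r1, r2] at e1
    exact e1
  have hτ₂ : X'.presheaf.map (homOfLE hU''1).op τ₁ = 0 := by
    apply res_basicOpen_injective U''.2 f hf
    rw [map_zero]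
    refine TopCat.Presheaf.section_ext X'.sheaf _ _ 0 (fun y hy => ?_)
    have hyU'' : y ∈ U''.1 := X'.basicOpen_le f hy
    have hby : b y ∉ 𝓘.support := by
      have h5 := notMem_support_of_mem_basicOpen (𝓘.comap b) U'' f hI y hy
      rw [Scheme.IdealSheafData.support_comap] at h5
      exact h5
    have hiso := isIso_stalkMap_of_notMem_support 𝓘 b hb y hby
    have hyU : b y ∈ U := hU''U hyU''
    have hnzd : X'.presheaf.germ U''.1 y hyU'' (X'.presheaf.map (homOfLE hU''U).op (b.app U s)) ∈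
        nonZeroDivisors (X'.presheaf.stalk y) := by
      rw [TopCat.Presheaf.germ_res_apply, ← Scheme.Hom.germ_stalkMap_apply]
      exact map_mem_nonZeroDivisors_of_isIso _ (hs (b y) hyU)
    have h4 := congrArg (X'.presheaf.germ U''.1 y hyU'') h₂
    rw [map_mul, map_zero] at h4
    have h6 := mem_nonZeroDivisors_iff_right.1 hnzd _ h4
    have h7 : X'.presheaf.germ (X'.basicOpen f) y hy
        (X'.presheaf.map (homOfLE (X'.basicOpen_le f)).op
          (X'.presheaf.map (homOfLE hU''1).op τ₁)) = 0 :=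
      (TopCat.Presheaf.germ_res_apply X'.presheaf (homOfLE (X'.basicOpen_le f)) y hy _).trans h6
    exact h7.trans (map_zero _).symm
  rw [← TopCat.Presheaf.germ_res_apply X'.presheaf (homOfLE hU''1) x' hxU'' τ₁, hτ₂, map_zero]

/-- Pull-back of a nonzerodivisor on an affine open under a blowing up is a nonzerodivisor on every
open of the preimage. -/
theorem appLE_mem_nonZeroDivisors_of_isBlowUp {X' : Scheme.{u}} (𝓘 : X.IdealSheafData) (b : X' ⟶ X)
    (hb : BlowUp.IsBlowUp b 𝓘) (V : X.affineOpens) (t : Γ(X, V.1))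
    (ht : t ∈ nonZeroDivisors Γ(X, V.1)) (U' : X'.Opens) (e : U' ≤ b ⁻¹ᵁ V.1) :
    (b.appLE V.1 U' e).hom t ∈ nonZeroDivisors Γ(X', U') := by
  refine mem_nonZeroDivisors_of_germ U' _ (fun x' hx' => ?_)
  have h1 := germ_app_mem_nonZeroDivisors 𝓘 b hb V.1 t
    (fun x hx => germ_mem_nonZeroDivisors_of_isAffineOpen V.2 t ht x hx) x' (e hx')
  have h2 : X'.presheaf.germ U' x' hx' ((b.appLE V.1 U' e).hom t) =
      X'.presheaf.germ (b ⁻¹ᵁ V.1) x' (e hx') (b.app V.1 t) := by
    rw [Scheme.Hom.appLE, CommRingCat.comp_apply]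
    exact TopCat.Presheaf.germ_res_apply X'.presheaf (homOfLE e) x' hx' _
  rw [h2]
  exact h1

/-- The inverse image of an effective Cartier ideal under a blowing up is effective Cartier. -/
theorem isEffCartierIdeal_comap_of_isBlowUp {X' : Scheme.{u}} (𝓘 : X.IdealSheafData) (b : X' ⟶ X)
    (hb : BlowUp.IsBlowUp b 𝓘) (𝓓 : X.IdealSheafData) (h𝓓 : BlowUp.IsEffCartierIdeal 𝓓) :
    BlowUp.IsEffCartierIdeal (𝓓.comap b) := by
  intro x'
  obtain ⟨V, hxV, t, ht, hI⟩ := h𝓓 (b x')
  obtain ⟨U, hxU, hUV, -⟩ := exists_affineOpens_le_preimage b x' V.1 hxV ⊤ trivial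
  refine ⟨U, hxU, (b.appLE V.1 U.1 hUV).hom t,
    appLE_mem_nonZeroDivisors_of_isBlowUp 𝓘 b hb V t ht U.1 hUV, ?_⟩
  rw [Groth.Agent.Lib.Helper1.ideal_comap 𝓓 b U V hUV, hI, Ideal.map_span, Set.image_singleton]

/-- Stalks of a blowing up of a reduced scheme are reduced. -/
theorem isReduced_stalk_of_isBlowUp {X' : Scheme.{u}} [IsReduced X] (𝓘 : X.IdealSheafData)
    (b : X' ⟶ X) (hb : BlowUp.IsBlowUp b 𝓘) (x' : X') :
    _root_.IsReduced (X'.presheaf.stalk x') := by
  constructor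
  rintro τ ⟨n, e⟩
  obtain ⟨U₁, hx₁, τ₁, rfl⟩ := X'.presheaf.exists_germ_eq (x := x') τ
  rw [← map_pow] at e
  obtain ⟨U₃, hx₃, i₃, i₃', h₃⟩ :=
    X'.presheaf.germ_eq x' hx₁ hx₁ (τ₁ ^ n) 0 (by rw [e, map_zero])
  rw [map_zero, map_pow] at h₃
  obtain ⟨U'', f, hxU'', hU''3, hf, hI⟩ :=
    exists_affine_principal_le (𝓘.comap b) hb.1 x' U₃ hx₃
  have hU''1 : U''.1 ≤ U₁ := hU''3.trans i₃.le
  have h₂ : (X'.presheaf.map (homOfLE hU''1).op τ₁) ^ n = 0 := by
    have e1 : X'.presheaf.map (homOfLE hU''1).op τ₁ =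
        X'.presheaf.map (homOfLE hU''3).op (X'.presheaf.map i₃.op τ₁) := by
      rw [← CommRingCat.comp_apply, ← Functor.map_comp]
      rfl
    rw [e1, ← map_pow, h₃, map_zero]
  have hτ₂ : X'.presheaf.map (homOfLE hU''1).op τ₁ = 0 := by
    apply res_basicOpen_injective U''.2 f hf
    rw [map_zero]
    refine TopCat.Presheaf.section_ext X'.sheaf _ _ 0 (fun y hy => ?_)
    have hyU'' : y ∈ U''.1 := X'.basicOpen_le f hy
    have hby : b y ∉ 𝓘.support := by
      have h5 := notMem_support_of_mem_basicOpen (𝓘.comap b) U'' f hI y hy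
      rw [Scheme.IdealSheafData.support_comap] at h5
      exact h5
    have hiso := isIso_stalkMap_of_notMem_support 𝓘 b hb y hby
    have hred : _root_.IsReduced (X'.presheaf.stalk y) :=
      isReduced_of_injective (inv (b.stalkMap y)).hom
        ((ConcreteCategory.isIso_iff_bijective (inv (b.stalkMap y))).1 inferInstance).1
    have h4 := congrArg (X'.presheaf.germ U''.1 y hyU'') h₂
    rw [map_pow, map_zero] at h4
    have h6 : X'.presheaf.germ U''.1 y hyU'' (X'.presheaf.map (homOfLE hU''1).op τ₁) = 0 :=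
      (IsNilpotent.mk _ n h4).eq_zero
    have h7 : X'.presheaf.germ (X'.basicOpen f) y hy
        (X'.presheaf.map (homOfLE (X'.basicOpen_le f)).op
          (X'.presheaf.map (homOfLE hU''1).op τ₁)) = 0 :=
      (TopCat.Presheaf.germ_res_apply X'.presheaf (homOfLE (X'.basicOpen_le f)) y hy _).trans h6
    exact h7.trans (map_zero _).symm
  rw [← TopCat.Presheaf.germ_res_apply X'.presheaf (homOfLE hU''1) x' hxU'' τ₁, hτ₂, map_zero]

/-- A blowing up of a reduced scheme is reduced. -/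
theorem isReduced_of_isBlowUp {X' : Scheme.{u}} [IsReduced X] (𝓘 : X.IdealSheafData)
    (b : X' ⟶ X) (hb : BlowUp.IsBlowUp b 𝓘) : IsReduced X' := by
  have := isReduced_stalk_of_isBlowUp 𝓘 b hb
  exact isReduced_of_isReduced_stalk X'

/-- A principal ideal generated by a nonzerodivisor stays so on smaller affine opens. -/
theorem principal_of_le (𝓙 : X.IdealSheafData) {U V : X.affineOpens} (h : V ≤ U) (f : Γ(X, U.1))
    (hf : f ∈ nonZeroDivisors Γ(X, U.1)) (hI : 𝓙.ideal U = Ideal.span {f}) :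
    (X.presheaf.map (homOfLE h).op).hom f ∈ nonZeroDivisors Γ(X, V.1) ∧
      𝓙.ideal V = Ideal.span {(X.presheaf.map (homOfLE h).op).hom f} := by
  constructor
  · refine mem_nonZeroDivisors_of_germ V.1 _ (fun x hx => ?_)
    have h1 := germ_mem_nonZeroDivisors_of_isAffineOpen U.2 f hf x (h hx)
    have h2 : X.presheaf.germ V.1 x hx ((X.presheaf.map (homOfLE h).op).hom f) =
        X.presheaf.germ U.1 x (h hx) f :=
      TopCat.Presheaf.germ_res_apply X.presheaf (homOfLE h) x hx f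
    rw [h2]
    exact h1
  · rw [← 𝓙.map_ideal h, hI, Ideal.map_span, Set.image_singleton]

/-- The product of two effective Cartier ideals is effective Cartier. -/
theorem isEffCartierIdeal_mul (𝓐 𝓑 : X.IdealSheafData) (hA : BlowUp.IsEffCartierIdeal 𝓐)
    (hB : BlowUp.IsEffCartierIdeal 𝓑) : BlowUp.IsEffCartierIdeal (𝓐 * 𝓑) := by
  intro x
  obtain ⟨U₁, hxU₁, f₁, hf₁, hI₁⟩ := hA x
  obtain ⟨U, f₂, hxU, hUU₁, hf₂, hI₂⟩ := exists_affine_principal_le 𝓑 hB x U₁.1 hxU₁
  obtain ⟨hf₁', hI₁'⟩ := principal_of_le 𝓐 (show U ≤ U₁ from hUU₁) f₁ hf₁ hI₁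
  refine ⟨U, hxU, (X.presheaf.map (homOfLE hUU₁).op).hom f₁ * f₂, Submonoid.mul_mem _ hf₁' hf₂, ?_⟩
  rw [Scheme.IdealSheafData.ideal_mul, Pi.mul_apply, hI₁', hI₂,
    Ideal.span_singleton_mul_span_singleton]
  rfl

end Groth.Agent.Lib.Helper25.BlowUpUP
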