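import Groth.Prelude.Def_BlowUp2
import Groth.Agent.Lib.Helper1.IdealSheafComap

/-!
# Consequences of the universal property of blowing up
-/

set_option autoImplicit false
universe u
open CategoryTheory CategoryTheory.Limits AlgebraicGeometry TopologicalSpace

namespace Groth.Agent.Lib.Helper25.BlowUpUP

variable {X : Scheme.{u}}

/-- The unit ideal sheaf is the ideal of an effective Cartier divisor (the empty one). -/
theorem isEffCartierIdeal_top : BlowUp.IsEffCartierIdeal (⊤ : X.IdealSheafData) := by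
  intro x
  obtain ⟨_, ⟨U, hU, rfl⟩, hxU, -⟩ :=
    X.isBasis_affineOpens.exists_subset_of_mem_open (Set.mem_univ x) isOpen_univ
  refine ⟨⟨U, hU⟩, hxU, 1, one_mem _, ?_⟩
  rw [Ideal.span_singleton_one]
  rfl

theorem comap_eq_top_of_support (𝓘 : X.IdealSheafData) {Y : Scheme.{u}} (g : Y ⟶ X)
    (h : ∀ y : Y, g y ∉ 𝓘.support) : 𝓘.comap g = ⊤ := by
  rw [← Scheme.IdealSheafData.support_eq_bot_iff, Scheme.IdealSheafData.support_comap]
  ext y
  simp only [Closeds.coe_preimage, Set.mem_preimage, SetLike.mem_coe, Closeds.coe_bot,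
    Set.mem_empty_iff_false, iff_false]
  exact h y

/-- The open complement of the support, as an open of the scheme. -/
abbrev complSupport (𝓘 : X.IdealSheafData) : X.Opens := 𝓘.support.compl

theorem comap_ι_compl_support (𝓘 : X.IdealSheafData) :
    𝓘.comap (complSupport 𝓘).ι = ⊤ := by
  refine comap_eq_top_of_support 𝓘 _ (fun y hy => ?_)
  exact y.2 hy

/-- A blowing up is an isomorphism over the complement of the centre. -/
theorem isIso_restrict_compl_support {X' : Scheme.{u}} (𝓘 : X.IdealSheafData) (b : X' ⟶ X)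
    (hb : BlowUp.IsBlowUp b 𝓘) : IsIso (b ∣_ 𝓘.support.compl) := by
  set W : X.Opens := complSupport 𝓘 with hW
  obtain ⟨s, hs, -⟩ := hb.2 W.toScheme W.ι (by
    rw [comap_ι_compl_support]; exact isEffCartierIdeal_top)
  have hrange : Set.range s ⊆ Set.range (b ⁻¹ᵁ W).ι := by
    rintro _ ⟨w, rfl⟩
    rw [Scheme.Opens.range_ι]
    change b (s w) ∈ W
    rw [← Scheme.Hom.comp_apply, hs]
    exact w.2
  let s' : W.toScheme ⟶ (b ⁻¹ᵁ W).toScheme := IsOpenImmersion.lift (b ⁻¹ᵁ W).ι s hrange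
  have hs' : s' ≫ (b ⁻¹ᵁ W).ι = s := IsOpenImmersion.lift_fac _ _ _
  have h1 : s' ≫ (b ∣_ W) = 𝟙 _ := by
    rw [← cancel_mono W.ι, Category.assoc, morphismRestrict_ι, ← Category.assoc, hs', hs,
      Category.id_comp]
  have h2 : (b ∣_ W) ≫ s' = 𝟙 _ := by
    rw [← cancel_mono (b ⁻¹ᵁ W).ι, Category.assoc, hs', Category.id_comp]
    have hE : BlowUp.IsEffCartierIdeal (𝓘.comap ((b ⁻¹ᵁ W).ι ≫ b)) := by
      rw [← morphismRestrict_ι, Scheme.IdealSheafData.comap_comp, comap_ι_compl_support,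
        Scheme.IdealSheafData.comap_top]
      exact isEffCartierIdeal_top
    obtain ⟨t, -, ht⟩ := hb.2 _ ((b ⁻¹ᵁ W).ι ≫ b) hE
    have e1 : ((b ∣_ W) ≫ s) ≫ b = (b ⁻¹ᵁ W).ι ≫ b := by
      rw [Category.assoc, hs, morphismRestrict_ι]
    rw [ht ((b ∣_ W) ≫ s) e1, ht (b ⁻¹ᵁ W).ι rfl]
  exact ⟨s', h2, h1⟩

/-! ### Flat pullback of effective Cartier ideals -/

theorem map_mem_nonZeroDivisors_of_flat {R S : Type*} [CommRing R] [CommRing S] (φ : R →+* S)
    (hφ : φ.Flat) {r : R} (hr : r ∈ nonZeroDivisors R) : φ r ∈ nonZeroDivisors S := by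
  let _ := φ.toAlgebra
  have : Module.Flat R S := hφ
  have h := Module.Flat.isSMulRegular_of_nonZeroDivisors (M := S) hr
  rw [mem_nonZeroDivisors_iff_right]
  intro s hs
  apply h
  change r • s = r • (0 : S)
  rw [smul_zero, Algebra.smul_def]
  change φ r * s = 0
  rw [mul_comm]
  exact hs

theorem exists_affineOpens_le_preimage {Y : Scheme.{u}} (f : X ⟶ Y) (x : X) (V : Y.Opens)
    (hV : f x ∈ V) (W : X.Opens) (hW : x ∈ W) :
    ∃ U : X.affineOpens, x ∈ U.1 ∧ U.1 ≤ f ⁻¹ᵁ V ∧ U.1 ≤ W := by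
  obtain ⟨_, ⟨U, hU, rfl⟩, hxU, hUV⟩ :=
    X.isBasis_affineOpens.exists_subset_of_mem_open
      (show x ∈ ((f ⁻¹ᵁ V ⊓ W : X.Opens) : Set X) from ⟨hV, hW⟩) (f ⁻¹ᵁ V ⊓ W).2
  exact ⟨⟨U, hU⟩, hxU, fun y hy => (hUV hy).1, fun y hy => (hUV hy).2⟩

/-- The inverse image of an effective Cartier ideal under a flat morphism is effective Cartier. -/
theorem isEffCartierIdeal_comap_of_flat {Y : Scheme.{u}} (f : X ⟶ Y) [Flat f]
    (𝓘 : Y.IdealSheafData) (hD : BlowUp.IsEffCartierIdeal 𝓘) :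
    BlowUp.IsEffCartierIdeal (𝓘.comap f) := by
  intro x
  obtain ⟨V, hxV, t, ht, hI⟩ := hD (f x)
  obtain ⟨U, hxU, hUV, -⟩ := exists_affineOpens_le_preimage f x V.1 hxV ⊤ trivial
  refine ⟨U, hxU, (f.appLE V.1 U.1 hUV).hom t, ?_, ?_⟩
  · exact map_mem_nonZeroDivisors_of_flat _
      (HasRingHomProperty.appLE (P := @Flat) f inferInstance V U hUV) ht
  · rw [Groth.Agent.Lib.Helper1.ideal_comap 𝓘 f U V hUV, hI, Ideal.map_span, Set.image_singleton]

/-- Flat base change of a blowing up is a blowing up of the inverse image ideal. -/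
theorem isBlowUp_pullback_fst_of_flat {X₁ X₂ X₂' : Scheme.{u}} (g : X₁ ⟶ X₂) [Flat g]
    (𝓘 : X₂.IdealSheafData) (b : X₂' ⟶ X₂) (hb : BlowUp.IsBlowUp b 𝓘) :
    BlowUp.IsBlowUp (pullback.fst g b) (𝓘.comap g) := by
  refine ⟨?_, fun Y h hh => ?_⟩
  · rw [← Scheme.IdealSheafData.comap_comp, pullback.condition,
      Scheme.IdealSheafData.comap_comp]
    exact isEffCartierIdeal_comap_of_flat _ _ hb.1
  · rw [← Scheme.IdealSheafData.comap_comp] at hh
    obtain ⟨k, hk, hk'⟩ := hb.2 Y (h ≫ g) hh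
    refine ⟨pullback.lift h k hk.symm, pullback.lift_fst _ _ _, fun m hm => ?_⟩
    have hm2 : m ≫ pullback.snd g b = k := by
      apply hk'
      rw [Category.assoc, ← pullback.condition, ← Category.assoc, hm]
    apply pullback.hom_ext
    · rw [pullback.lift_fst]; exact hm
    · rw [pullback.lift_snd]; exact hm2

end Groth.Agent.Lib.Helper25.BlowUpUP
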