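import Groth.Agent.Lib.Helper25.ChartPres
import Groth.Agent.Lib.Helper25.BlowUpChart
import Groth.Agent.Lib.Helper25.BlowUpReg
import Groth.Agent.Lib.Helper25.BlowUpUP
import Groth.Agent.Helper19.RegInter4
import Groth.Agent.S15821
import Groth.Prelude.Def_Mor2

/-!
# The blowing up along a regular closed immersion is locally of finite presentation
-/

set_option autoImplicit false
universe u
open CategoryTheory CategoryTheory.Limits AlgebraicGeometry TopologicalSpace

namespace Groth.Agent.Lib.Helper25.BlowUpFP

open Groth.Agent.Lib.Helper25.BlowUpChart Groth.Agent.Lib.Helper25.RegChart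
  Groth.Agent.Lib.Helper25.BlowUpUP

/-- A regular sequence is `H_1`-regular. -/
theorem isH1Regular_get_of_isRegular {R : Type u} [CommRing R] (rs : List R)
    (hrs : RingTheory.Sequence.IsRegular R rs) : CAlgX.IsH1Regular rs.get :=
  Groth.Agent.Helper19.RegInter.isH1Regular_of_koszul rs
    (Groth.Agent.S15821.result R rs hrs.toIsWeaklyRegular).1

/-- **The blowing up along a regular closed immersion is locally of finite presentation.** -/
theorem locallyOfFinitePresentation_blowUp {X X' Y : Scheme.{u}} (i : Y ⟶ X)
    (hi : Mor2.IsRegularClosedImmersion i) (b : X' ⟶ X) (hb : BlowUp.IsBlowUp b i.ker) :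
    LocallyOfFinitePresentation b := by
  haveI : IsClosedImmersion i := hi.1
  haveI : MorphismProperty.RespectsRight (@LocallyOfFinitePresentation) @IsOpenImmersion :=
    ⟨fun j hj g hg => by
      haveI : IsOpenImmersion j := hj
      haveI : LocallyOfFinitePresentation g := hg
      infer_instance⟩
  rw [IsZariskiLocalAtSource.iff_exists_resLE (P := @LocallyOfFinitePresentation)]
  intro x'
  by_cases hx : b x' ∈ i.ker.support
  · -- a point of the centre below `x'`
    obtain ⟨y, hy⟩ : ∃ y : Y, i y = b x' := by
      have h1 : (i.ker.support : Set X) = Set.range i := by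
        rw [Scheme.Hom.support_ker, i.isClosedEmbedding.isClosed_range.closure_eq]
      have : b x' ∈ Set.range i := by rw [← h1]; exact hx
      exact this
    obtain ⟨U, hU, hiU, rs, hrs, hker⟩ := hi.2 y
    have hx'U : x' ∈ b ⁻¹ᵁ U := by
      change b x' ∈ U
      rw [← hy]; exact hiU
    let f : Fin rs.length → Γ(X, U) := fun j => rs.get j
    have hf : List.ofFn f = rs := List.ofFn_get rs
    have hspan : Ideal.span (Set.range f) = i.ker.ideal ⟨U, hU⟩ := by
      rw [hker, Ideal.ofList]
      congr 1
      ext z
      simp [f, List.mem_iff_get]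
    obtain ⟨a, ⟨k, hk⟩, V, hV, hVU, hxV, hchart⟩ :=
      exists_chart i.ker b hb U hU (Set.range f) hspan x' hx'U
    have hfp : (b.appLE U V hVU).hom.FinitePresentation :=
      Groth.Agent.Lib.Helper25.ChartPres.finitePresentation f hchart k hk hspan.symm
        (isH1Regular_get_of_isRegular rs hrs)
    refine ⟨U, V, hxV, hVU, ?_⟩
    haveI : IsAffine U := hU
    haveI : IsAffine V := hV
    rw [HasRingHomProperty.iff_of_isAffine (P := @LocallyOfFinitePresentation)]
    exact (RingHom.finitePresentation_respectsIso.arrow_mk_iso_iff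
      (arrowResLEAppIso b U V hVU)).mpr hfp
  · refine ⟨complSupport i.ker, b ⁻¹ᵁ complSupport i.ker, hx, le_rfl, ?_⟩
    rw [Scheme.Hom.resLE_eq_morphismRestrict]
    haveI := isIso_restrict_compl_support i.ker b hb
    infer_instance

end Groth.Agent.Lib.Helper25.BlowUpFP
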