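import Mathlib

/-!
Dual-number points of a local algebra with a rational point (helper25).

For a local `K`-algebra `A` with a `K`-algebra retraction `ε : A → K`:
* `selfMap f : R[ε] → R'[ε]` for a ring map `f : R → R'`;
* `tangentHom ε ℓ : A →+* K[ε]` attached to a functional `ℓ` on the cotangent space;
* a ring map `P : A → A[ε]` with `fst ∘ P = id` gives a derivation `snd ∘ P` of `A`.
-/

set_option autoImplicit false
universe u
open IsLocalRing

namespace Groth.Agent.Lib.Helper25.DualPoint

section selfMap

variable {R R' R'' : Type*} [CommRing R] [CommRing R'] [CommRing R'']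

/-- Functoriality of the dual numbers `R[ε] = TrivSqZeroExt R R` in the ring `R`. -/
def selfMap (f : R →+* R') : TrivSqZeroExt R R →+* TrivSqZeroExt R' R' where
  toFun x := TrivSqZeroExt.inl (f x.fst) + TrivSqZeroExt.inr (f x.snd)
  map_one' := by
    apply TrivSqZeroExt.ext <;> simp
  map_mul' x y := by
    apply TrivSqZeroExt.ext
    · simp
    · simp only [TrivSqZeroExt.snd_mul, TrivSqZeroExt.snd_add, TrivSqZeroExt.snd_inl,
        TrivSqZeroExt.snd_inr, zero_add, TrivSqZeroExt.fst_add, TrivSqZeroExt.fst_inl,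
        TrivSqZeroExt.fst_inr, add_zero, smul_eq_mul, MulOpposite.smul_eq_mul_unop,
        MulOpposite.unop_op, map_add, map_mul]
  map_zero' := by
    apply TrivSqZeroExt.ext <;> simp
  map_add' x y := by
    apply TrivSqZeroExt.ext <;> simp

@[simp] theorem fst_selfMap (f : R →+* R') (x : TrivSqZeroExt R R) : (selfMap f x).fst = f x.fst := by
  simp [selfMap]

@[simp] theorem snd_selfMap (f : R →+* R') (x : TrivSqZeroExt R R) : (selfMap f x).snd = f x.snd := by
  simp [selfMap]

theorem selfMap_inl (f : R →+* R') (r : R) :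
    selfMap f (TrivSqZeroExt.inl r) = TrivSqZeroExt.inl (f r) := by
  apply TrivSqZeroExt.ext <;> simp

theorem selfMap_comp (f : R →+* R') (g : R' →+* R'') :
    (selfMap g).comp (selfMap f) = selfMap (g.comp f) := by
  apply RingHom.ext
  intro x
  apply TrivSqZeroExt.ext <;> simp

theorem selfMap_id : selfMap (RingHom.id R) = RingHom.id _ := by
  apply RingHom.ext
  intro x
  apply TrivSqZeroExt.ext <;> simp

end selfMap

section der

variable {K A : Type*} [CommRing K] [CommRing A] [Algebra K A]

/-- A `K`-linear ring map `P : A → A[ε]` with `fst ∘ P = id` gives the `K`-derivation `snd ∘ P`. -/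
def derOfSection (P : A →+* TrivSqZeroExt A A) (h1 : ∀ a, (P a).fst = a)
    (h2 : ∀ k : K, P (algebraMap K A k) = TrivSqZeroExt.inl (algebraMap K A k)) :
    Derivation K A A :=
  Derivation.mk'
    { toFun := fun a => (P a).snd
      map_add' := fun a b => by rw [map_add, TrivSqZeroExt.snd_add]
      map_smul' := fun k a => by
        rw [Algebra.smul_def, map_mul, h2, TrivSqZeroExt.snd_mul, TrivSqZeroExt.fst_inl,
          TrivSqZeroExt.snd_inl, RingHom.id_apply]
        simp [Algebra.smul_def] }
    (fun a b => by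
      change (P (a * b)).snd = a • (P b).snd + b • (P a).snd
      rw [map_mul, TrivSqZeroExt.snd_mul, h1, h1]
      simp [mul_comm])

theorem derOfSection_apply (P : A →+* TrivSqZeroExt A A) (h1 : ∀ a, (P a).fst = a)
    (h2 : ∀ k : K, P (algebraMap K A k) = TrivSqZeroExt.inl (algebraMap K A k)) (a : A) :
    derOfSection P h1 h2 a = (P a).snd := rfl

end der

section tangent

variable {K A : Type u} [Field K] [CommRing A] [Algebra K A] [IsLocalRing A] (ε : A →ₐ[K] K)
include ε

theorem ker_eq_maximalIdeal : RingHom.ker (ε : A →+* K) = maximalIdeal A := by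
  have hsurj : Function.Surjective (ε : A →+* K) := fun k => ⟨algebraMap K A k, ε.commutes k⟩
  have := RingHom.ker_isMaximal_of_surjective (ε : A →+* K) hsurj
  exact IsLocalRing.eq_maximalIdeal this

theorem sub_mem (a : A) : a - algebraMap K A (ε a) ∈ maximalIdeal A := by
  rw [← ker_eq_maximalIdeal ε, RingHom.mem_ker]
  change ε (a - algebraMap K A (ε a)) = 0
  rw [map_sub, ε.commutes]
  simp

theorem apply_eq_zero_of_mem {x : A} (hx : x ∈ maximalIdeal A) : ε x = 0 := by
  rw [← ker_eq_maximalIdeal ε] at hx
  exact hx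

theorem residue_eq (a : A) : residue A a = algebraMap K (ResidueField A) (ε a) := by
  have := sub_mem ε a
  rw [← IsLocalRing.residue_eq_zero_iff, map_sub, sub_eq_zero] at this
  rw [this]
  rfl

theorem algebraMap_residueField_bijective :
    Function.Bijective (algebraMap K (ResidueField A)) := by
  refine ⟨(algebraMap K (ResidueField A)).injective, fun y => ?_⟩
  obtain ⟨a, rfl⟩ := IsLocalRing.residue_surjective y
  exact ⟨ε a, (residue_eq ε a).symm⟩

/-- The universal point derivation `a ↦ [a - a(e)] ∈ 𝔪/𝔪²`. -/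
noncomputable def d₀ (a : A) : CotangentSpace A :=
  (maximalIdeal A).toCotangent ⟨a - algebraMap K A (ε a), sub_mem ε a⟩

theorem d₀_add (a b : A) : d₀ ε (a + b) = d₀ ε a + d₀ ε b := by
  unfold d₀
  rw [← map_add]
  congr 1
  ext
  simp only [map_add, AddMemClass.mk_add_mk]
  ring

theorem d₀_of_mem {x : A} (hx : x ∈ maximalIdeal A) :
    d₀ ε x = (maximalIdeal A).toCotangent ⟨x, hx⟩ := by
  unfold d₀
  congr 1
  ext
  simp [apply_eq_zero_of_mem ε hx]

theorem d₀_algebraMap (k : K) : d₀ ε (algebraMap K A k) = 0 := by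
  unfold d₀
  rw [Ideal.toCotangent_eq_zero]
  simp only [AlgHom.commutes]
  simp

theorem d₀_mul (a b : A) :
    d₀ ε (a * b) = residue A a • d₀ ε b + residue A b • d₀ ε a := by
  unfold d₀
  have h1 : ∀ (r : A) (y : maximalIdeal A), residue A r • (maximalIdeal A).toCotangent y =
      (maximalIdeal A).toCotangent (r • y) := by
    intro r y
    rw [map_smul]
    rfl
  rw [h1, h1, ← map_add, ← sub_eq_zero, ← map_sub, Ideal.toCotangent_eq_zero]
  have : ((⟨a * b - algebraMap K A (ε (a * b)), sub_mem ε (a * b)⟩ -
      (a • ⟨b - algebraMap K A (ε b), sub_mem ε b⟩ +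
        b • ⟨a - algebraMap K A (ε a), sub_mem ε a⟩) : maximalIdeal A) : A) =
      - ((a - algebraMap K A (ε a)) * (b - algebraMap K A (ε b))) := by
    simp only [map_mul, AddSubgroupClass.coe_sub, Submodule.coe_add, Submodule.coe_smul,
      smul_eq_mul]
    ring
  rw [this, neg_mem_iff, pow_two]
  exact Ideal.mul_mem_mul (sub_mem ε a) (sub_mem ε b)

/-- The inverse of the bijection `K → κ(A)`. -/
noncomputable def toBase : ResidueField A ≃+* K :=
  (RingEquiv.ofBijective (algebraMap K (ResidueField A)) (algebraMap_residueField_bijective ε)).symm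

theorem algebraMap_toBase (y : ResidueField A) :
    algebraMap K (ResidueField A) (toBase ε y) = y :=
  (RingEquiv.ofBijective (algebraMap K (ResidueField A))
    (algebraMap_residueField_bijective ε)).apply_symm_apply y

theorem toBase_residue (a : A) : toBase ε (residue A a) = ε a := by
  apply (algebraMap K (ResidueField A)).injective
  rw [algebraMap_toBase, residue_eq ε]

/-- The dual-number point `a ↦ (a(e), ℓ[a - a(e)])` attached to a cotangent functional. -/
noncomputable def tangentHom (ℓ : CotangentSpace A →ₗ[ResidueField A] ResidueField A) :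
    A →+* TrivSqZeroExt K K where
  toFun a := TrivSqZeroExt.inl (ε a) + TrivSqZeroExt.inr (toBase ε (ℓ (d₀ ε a)))
  map_one' := by
    have : d₀ ε (1 : A) = 0 := by
      have := d₀_algebraMap ε (1 : K)
      rwa [map_one] at this
    rw [this, map_zero, map_zero, TrivSqZeroExt.inr_zero, add_zero, map_one,
      TrivSqZeroExt.inl_one]
    
  map_mul' a b := by
    apply TrivSqZeroExt.ext
    · simp
    · simp only [TrivSqZeroExt.snd_add, TrivSqZeroExt.snd_inl, TrivSqZeroExt.snd_inr, zero_add,
        TrivSqZeroExt.snd_mul, TrivSqZeroExt.fst_add, TrivSqZeroExt.fst_inl,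
        TrivSqZeroExt.fst_inr, add_zero, smul_eq_mul, MulOpposite.smul_eq_mul_unop,
        MulOpposite.unop_op]
      rw [d₀_mul, map_add, map_smul, map_smul, map_add, smul_eq_mul, smul_eq_mul, map_mul,
        map_mul, toBase_residue, toBase_residue]
      ring
  map_zero' := by
    have : d₀ ε (0 : A) = 0 := by
      have := d₀_algebraMap ε (0 : K)
      rwa [map_zero] at this
    simp [this]
  map_add' a b := by
    rw [d₀_add, map_add, map_add, map_add, TrivSqZeroExt.inl_add, TrivSqZeroExt.inr_add]
    abel

theorem fst_tangentHom (ℓ : CotangentSpace A →ₗ[ResidueField A] ResidueField A) (a : A) :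
    (tangentHom ε ℓ a).fst = ε a := by
  simp [tangentHom]

theorem tangentHom_algebraMap (ℓ : CotangentSpace A →ₗ[ResidueField A] ResidueField A) (k : K) :
    tangentHom ε ℓ (algebraMap K A k) = TrivSqZeroExt.inl k := by
  change TrivSqZeroExt.inl (ε (algebraMap K A k)) +
    TrivSqZeroExt.inr (toBase ε (ℓ (d₀ ε (algebraMap K A k)))) = _
  rw [d₀_algebraMap, map_zero, map_zero, TrivSqZeroExt.inr_zero, add_zero, ε.commutes]
  rfl

theorem snd_tangentHom_of_mem (ℓ : CotangentSpace A →ₗ[ResidueField A] ResidueField A) {x : A}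
    (hx : x ∈ maximalIdeal A) :
    algebraMap K (ResidueField A) (tangentHom ε ℓ x).snd =
      ℓ ((maximalIdeal A).toCotangent ⟨x, hx⟩) := by
  change algebraMap K (ResidueField A)
    (TrivSqZeroExt.inl (ε x) + TrivSqZeroExt.inr (toBase ε (ℓ (d₀ ε x)))).snd = _
  rw [TrivSqZeroExt.snd_add, TrivSqZeroExt.snd_inl, TrivSqZeroExt.snd_inr, zero_add,
    algebraMap_toBase, d₀_of_mem ε hx]

end tangent

section localRing

variable {R R' : Type*} [CommRing R] [CommRing R']

/-- The projection `R[ε] → R` as a ring homomorphism. -/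
def fstR : TrivSqZeroExt R R →+* R := (TrivSqZeroExt.fstHom R R R : TrivSqZeroExt R R →+* R)

@[simp] theorem fstR_apply (x : TrivSqZeroExt R R) : fstR x = x.fst := rfl

theorem fstR_comp_inlHom : (fstR (R := R)).comp (TrivSqZeroExt.inlHom R R) = RingHom.id R := by
  refine RingHom.ext fun x => ?_
  simp

theorem fstR_comp_selfMap (f : R →+* R') : (fstR (R := R')).comp (selfMap f) = f.comp fstR := by
  refine RingHom.ext fun x => ?_
  simp

theorem selfMap_comp_inlHom (f : R →+* R') :
    (selfMap f).comp (TrivSqZeroExt.inlHom R R) = (TrivSqZeroExt.inlHom R' R').comp f := by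
  refine RingHom.ext fun x => ?_
  apply TrivSqZeroExt.ext <;> simp

theorem isLocalRing_tsze [IsLocalRing R] : IsLocalRing (TrivSqZeroExt R R) := by
  apply IsLocalRing.of_isUnit_or_isUnit_one_sub_self
  intro a
  rw [TrivSqZeroExt.isUnit_iff_isUnit_fst, TrivSqZeroExt.isUnit_iff_isUnit_fst,
    TrivSqZeroExt.fst_sub, TrivSqZeroExt.fst_one]
  exact IsLocalRing.isUnit_or_isUnit_one_sub_self a.fst

end localRing

end Groth.Agent.Lib.Helper25.DualPoint
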