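import Groth.Agent.Lib.Helper25.BlowUpAffine

/-!
# Uniqueness of blowing ups and locality on the base
-/

set_option autoImplicit false
universe u
open CategoryTheory CategoryTheory.Limits AlgebraicGeometry TopologicalSpace

namespace Groth.Agent.Lib.Helper25.BlowUpUP

variable {X : Scheme.{u}}

/-- Transport of a blowing up along an isomorphism of the base. -/
theorem isBlowUp_comp_iso_inv {X' S Z : Scheme.{u}} (b : X' ⟶ S) (𝓚 : S.IdealSheafData)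
    (e : Z ≅ S) (hb : BlowUp.IsBlowUp b 𝓚) :
    BlowUp.IsBlowUp (b ≫ e.inv) (𝓚.comap e.hom) := by
  refine ⟨?_, fun Y g hg => ?_⟩
  · rw [← Scheme.IdealSheafData.comap_comp, Category.assoc, Iso.inv_hom_id, Category.comp_id]
    exact hb.1
  · rw [← Scheme.IdealSheafData.comap_comp] at hg
    obtain ⟨h, hh, hu⟩ := hb.2 Y (g ≫ e.hom) hg
    refine ⟨h, ?_, fun m hm => hu m ?_⟩
    · change h ≫ b ≫ e.inv = g
      rw [← Category.assoc, hh, Category.assoc, Iso.hom_inv_id, Category.comp_id]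
    · change m ≫ b = g ≫ e.hom
      have hm' : m ≫ b ≫ e.inv = g := hm
      rw [← hm', Category.assoc, Category.assoc, Iso.inv_hom_id, Category.comp_id]

/-- Transport of a blowing up along an isomorphism of the source. -/
theorem isBlowUp_iso_comp {X' X'' : Scheme.{u}} (b : X' ⟶ X) (𝓘 : X.IdealSheafData)
    (e : X'' ≅ X') (hb : BlowUp.IsBlowUp b 𝓘) : BlowUp.IsBlowUp (e.hom ≫ b) 𝓘 := by
  refine ⟨?_, fun Y g hg => ?_⟩
  · rw [Scheme.IdealSheafData.comap_comp]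
    exact isEffCartierIdeal_comap_of_flat _ _ hb.1
  · obtain ⟨h, hh, hu⟩ := hb.2 Y g hg
    refine ⟨h ≫ e.inv, ?_, fun m hm => ?_⟩
    · change (h ≫ e.inv) ≫ e.hom ≫ b = g
      rw [Category.assoc, Iso.inv_hom_id_assoc, hh]
    · have hm' : m ≫ e.hom ≫ b = g := hm
      have : m ≫ e.hom = h := hu (m ≫ e.hom) (by change (m ≫ e.hom) ≫ b = g; rw [Category.assoc, hm'])
      rw [← this, Category.assoc, Iso.hom_inv_id, Category.comp_id]

/-- A morphism between two blowing ups of the same centre, compatible with the structure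
morphisms, is an isomorphism. -/
theorem isIso_of_isBlowUp {X' X'' : Scheme.{u}} (b : X' ⟶ X) (b' : X'' ⟶ X)
    (𝓘 : X.IdealSheafData) (hb : BlowUp.IsBlowUp b 𝓘) (hb' : BlowUp.IsBlowUp b' 𝓘)
    (f : X' ⟶ X'') (hf : f ≫ b' = b) : IsIso f := by
  obtain ⟨k, hk, -⟩ := hb.2 X'' b' hb'.1
  refine ⟨k, ?_, ?_⟩
  · obtain ⟨_, _, hu⟩ := hb.2 X' b hb.1
    rw [hu (f ≫ k) (by change (f ≫ k) ≫ b = b; rw [Category.assoc, hk, hf]),
      hu (𝟙 _) (Category.id_comp _)]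
  · obtain ⟨_, _, hu⟩ := hb'.2 X'' b' hb'.1
    rw [hu (k ≫ f) (by change (k ≫ f) ≫ b' = b'; rw [Category.assoc, hf, hk]),
      hu (𝟙 _) (Category.id_comp _)]

/-- Two blowing ups of the same centre are isomorphic over the base. -/
theorem exists_iso_of_isBlowUp {X' X'' : Scheme.{u}} (b : X' ⟶ X) (b' : X'' ⟶ X)
    (𝓘 : X.IdealSheafData) (hb : BlowUp.IsBlowUp b 𝓘) (hb' : BlowUp.IsBlowUp b' 𝓘) :
    ∃ e : X' ≅ X'', e.hom ≫ b' = b := by
  obtain ⟨f, hf, -⟩ := hb'.2 X' b hb.1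
  have := isIso_of_isBlowUp b b' 𝓘 hb hb' f hf
  exact ⟨asIso f, hf⟩

theorem hom_ext_of_forall_opens {Y P : Scheme.{u}} (h h' : Y ⟶ P)
    (H : ∀ y : Y, ∃ U : Y.Opens, y ∈ U ∧ U.ι ≫ h = U.ι ≫ h') : h = h' := by
  choose U hyU heq using H
  have hcov : IsOpenCover U := by
    rw [IsOpenCover, eq_top_iff]
    intro y _
    exact Opens.mem_iSup.mpr ⟨y, hyU y⟩
  refine Scheme.Cover.hom_ext (Y.openCoverOfIsOpenCover U hcov) _ _ fun y => ?_
  exact heq y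

/-- Restricting a morphism to the preimage of the range of an open immersion. -/
theorem exists_lift_preimage_opensRange {Y U : Scheme.{u}} (g : Y ⟶ X) (j : U ⟶ X)
    [IsOpenImmersion j] :
    ∃ gU : (g ⁻¹ᵁ j.opensRange).toScheme ⟶ U, gU ≫ j = (g ⁻¹ᵁ j.opensRange).ι ≫ g := by
  refine ⟨IsOpenImmersion.lift j ((g ⁻¹ᵁ j.opensRange).ι ≫ g) ?_, IsOpenImmersion.lift_fac _ _ _⟩
  rintro _ ⟨z, rfl⟩
  exact z.2

/-- (E2) Being a blowing up is local on the base. -/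
theorem isBlowUp_of_isPullback_cover {X' : Scheme.{u}} (b : X' ⟶ X) (𝓘 : X.IdealSheafData)
    (𝒰 : X.OpenCover) (P : 𝒰.I₀ → Scheme.{u}) (p : ∀ i, P i ⟶ 𝒰.X i) (q : ∀ i, P i ⟶ X')
    (hpb : ∀ i, IsPullback (p i) (q i) (𝒰.f i) b)
    (hbl : ∀ i, BlowUp.IsBlowUp (p i) (𝓘.comap (𝒰.f i))) : BlowUp.IsBlowUp b 𝓘 := by
  have hq : ∀ i, IsOpenImmersion (q i) := fun i =>
    MorphismProperty.of_isPullback (P := @IsOpenImmersion) (hpb i) inferInstance
  refine isBlowUp_of_local b 𝓘 ?_ ?_ ?_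
  · refine isEffCartierIdeal_of_forall_openImmersion _ fun x' => ?_
    obtain ⟨i, u, hu⟩ := 𝒰.exists_eq (b x')
    obtain ⟨z, -, hz⟩ := Scheme.exists_preimage_of_isPullback (hpb i) u x' hu
    refine ⟨P i, q i, hq i, ⟨z, hz⟩, ?_⟩
    rw [← Scheme.IdealSheafData.comap_comp, ← (hpb i).w, Scheme.IdealSheafData.comap_comp]
    exact (hbl i).1
  · intro Y h h' heq hE
    refine hom_ext_of_forall_opens h h' fun y => ?_
    obtain ⟨i, u, hu⟩ := 𝒰.exists_eq ((h ≫ b) y)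
    refine ⟨(h ≫ b) ⁻¹ᵁ (𝒰.f i).opensRange, ⟨u, hu⟩, ?_⟩
    set U := (h ≫ b) ⁻¹ᵁ (𝒰.f i).opensRange with hU
    obtain ⟨gU, hgU⟩ : ∃ gU : U.toScheme ⟶ 𝒰.X i, gU ≫ 𝒰.f i = U.ι ≫ h ≫ b :=
      exists_lift_preimage_opensRange (h ≫ b) (𝒰.f i)
    have hE' : BlowUp.IsEffCartierIdeal ((𝓘.comap (𝒰.f i)).comap gU) := by
      rw [← Scheme.IdealSheafData.comap_comp, hgU, Scheme.IdealSheafData.comap_comp]
      exact isEffCartierIdeal_comap_of_flat _ _ hE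
    have hc : gU ≫ 𝒰.f i = (U.ι ≫ h) ≫ b := by rw [hgU, Category.assoc]
    have hc' : gU ≫ 𝒰.f i = (U.ι ≫ h') ≫ b := by rw [hgU, Category.assoc, heq]
    have e1 : (hpb i).lift gU (U.ι ≫ h) hc ≫ p i = gU := (hpb i).lift_fst _ _ _
    have e2 : (hpb i).lift gU (U.ι ≫ h') hc' ≫ p i = gU := (hpb i).lift_fst _ _ _
    have := ((hbl i).2 _ gU hE').unique e1 e2
    rw [← (hpb i).lift_snd gU (U.ι ≫ h) hc, ← (hpb i).lift_snd gU (U.ι ≫ h') hc', this]
  · intro Y g hg y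
    obtain ⟨i, u, hu⟩ := 𝒰.exists_eq (g y)
    obtain ⟨gU, hgU⟩ := exists_lift_preimage_opensRange g (𝒰.f i)
    refine ⟨g ⁻¹ᵁ (𝒰.f i).opensRange, ⟨u, hu⟩, ?_⟩
    have hE' : BlowUp.IsEffCartierIdeal ((𝓘.comap (𝒰.f i)).comap gU) := by
      rw [← Scheme.IdealSheafData.comap_comp, hgU, Scheme.IdealSheafData.comap_comp]
      exact isEffCartierIdeal_comap_of_flat _ _ hg
    obtain ⟨k, hk, -⟩ := (hbl i).2 _ gU hE'
    refine ⟨k ≫ q i, ?_⟩
    rw [Category.assoc, ← (hpb i).w, ← Category.assoc, hk, hgU]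

end Groth.Agent.Lib.Helper25.BlowUpUP
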