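import Mathlib
import Groth.Prelude.Def_CAlgX
import Groth.Agent.Lib.Helper23.QuasiRegReg

/-!
A Zariski–Lipman/Cartier-type regularity criterion (helper25): a Noetherian local algebra `A` over a
field `K` of characteristic zero, with residue field `K`, whose maximal ideal is generated by
`x₁, …, xₙ` and which carries `K`-derivations `D₁, …, Dₙ` with `Dᵢ xⱼ ≡ δᵢⱼ mod 𝔪`, is regular.
-/

set_option autoImplicit false
universe u
open IsLocalRing MvPolynomial

namespace Groth.Agent.Lib.Helper25.DerRegular

section chain

variable {K A : Type*} [CommRing K] [CommRing A] [Algebra K A] {σ : Type*} [Fintype σ]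

/-- Chain rule for a derivation applied to a polynomial expression with constant coefficients. -/
theorem derivation_aeval (D : Derivation K A A) (x : σ → A) (P : MvPolynomial σ K) :
    D (aeval x P) = ∑ j, aeval x (pderiv j P) * D (x j) := by
  induction P using MvPolynomial.induction_on with
  | C r => simp
  | add p q hp hq => simp only [map_add, hp, hq, add_mul, Finset.sum_add_distrib]
  | mul_X p i hp =>
    classical
    have key : ∀ j, aeval x (pderiv j (p * X i)) =
        aeval x (pderiv j p) * x i + aeval x p * (if j = i then 1 else 0) := by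
      intro j
      rw [Derivation.leibniz, pderiv_X, smul_eq_mul, smul_eq_mul, map_add, map_mul, map_mul,
        aeval_X, add_comm, mul_comm (x i)]
      congr 2
      by_cases h : j = i
      · subst h; simp
      · simp [h, Ne.symm h]
    rw [map_mul, aeval_X, Derivation.leibniz, smul_eq_mul, smul_eq_mul, hp]
    simp only [key, add_mul, Finset.sum_add_distrib]
    rw [add_comm]
    congr 1
    · rw [Finset.mul_sum]
      apply Finset.sum_congr rfl
      intro j _
      ring
    · rw [Finset.sum_eq_single i]
      · simp
      · intro j _ hji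
        simp [hji]
      · intro h
        exact absurd (Finset.mem_univ i) h

theorem derivation_mem_pow (J : Ideal A) (D : Derivation K A A) (k : ℕ) {a : A}
    (ha : a ∈ J ^ (k + 1)) : D a ∈ J ^ k := by
  induction k generalizing a with
  | zero => simp
  | succ k ih =>
    rw [pow_succ] at ha
    refine Submodule.mul_induction_on ha ?_ ?_
    · intro b hb c hc
      rw [Derivation.leibniz, smul_eq_mul, smul_eq_mul]
      refine add_mem (Ideal.mul_mem_right _ _ hb) ?_
      rw [pow_succ, mul_comm (J ^ k)]
      exact Ideal.mul_mem_mul hc (ih hb)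
    · intro b c hb hc
      rw [map_add]
      exact add_mem hb hc

omit [Fintype σ] in
theorem aeval_mem_pow (x : σ → A) (J : Ideal A) (hx : ∀ i, x i ∈ J) (N : ℕ)
    {P : MvPolynomial σ K} (hP : P.IsHomogeneous N) : aeval x P ∈ J ^ N := by
  rw [P.as_sum, map_sum]
  refine Ideal.sum_mem _ fun d hd => ?_
  rw [aeval_monomial]
  refine Ideal.mul_mem_left _ _ ?_
  have hdeg : (d.sum fun _ k => k) = N := by
    have := hP (mem_support_iff.mp hd)
    rw [Finsupp.weight_apply] at this
    simpa using this
  rw [← hdeg]
  unfold Finsupp.prod Finsupp.sum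
  rw [← Finset.prod_pow_eq_pow_sum]
  exact Ideal.prod_mem_prod fun i _ => Ideal.pow_mem_pow (hx i) _

end chain

section main

variable {K A : Type u} [Field K] [CharZero K] [CommRing A] [Algebra K A] [IsLocalRing A]
  {n : ℕ} (x : Fin n → A) (hxm : ∀ i, x i ∈ maximalIdeal A) (D : Fin n → Derivation K A A)
  (hD : ∀ i j, D i (x j) - (if i = j then 1 else 0) ∈ maximalIdeal A)

include hxm hD in
theorem eq_zero_of_aeval_mem : ∀ (N : ℕ) (P : MvPolynomial (Fin n) K), P.IsHomogeneous N →
    aeval x P ∈ maximalIdeal A ^ (N + 1) → P = 0 := by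
  intro N
  induction N with
  | zero =>
    intro P hP hmem
    rw [← totalDegree_zero_iff_isHomogeneous, totalDegree_eq_zero_iff_eq_C] at hP
    rw [hP] at hmem ⊢
    rw [aeval_C, zero_add, pow_one] at hmem
    by_contra hne
    have hc : coeff 0 P ≠ 0 := fun h => hne (by rw [h, map_zero])
    have : IsUnit (algebraMap K A (coeff 0 P)) := (Ne.isUnit hc).map _
    exact (IsLocalRing.mem_maximalIdeal _).mp hmem this
  | succ N ih =>
    intro P hP hmem
    have hpd : ∀ i, pderiv i P = 0 := by
      intro i
      have hhom : ∀ j, (pderiv j P).IsHomogeneous N := fun j => by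
        have := hP.pderiv (i := j)
        simpa using this
      refine ih _ (hhom i) ?_
      have h1 : D i (aeval x P) ∈ maximalIdeal A ^ (N + 1) :=
        derivation_mem_pow (maximalIdeal A) (D i) (N + 1) hmem
      rw [derivation_aeval] at h1
      have h2 : ∑ j, aeval x (pderiv j P) * D i (x j) =
          aeval x (pderiv i P) +
            ∑ j, aeval x (pderiv j P) * (D i (x j) - (if i = j then 1 else 0)) := by
        have hδ : ∑ j, aeval x (pderiv j P) * (if i = j then (1 : A) else 0) =
            aeval x (pderiv i P) := by simp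
        simp only [mul_sub, Finset.sum_sub_distrib, hδ]
        ring
      rw [h2] at h1
      have h3 : ∑ j, aeval x (pderiv j P) * (D i (x j) - (if i = j then 1 else 0)) ∈
          maximalIdeal A ^ (N + 1) := by
        refine Ideal.sum_mem _ fun j _ => ?_
        rw [pow_succ]
        exact Ideal.mul_mem_mul (aeval_mem_pow x _ hxm N (hhom j)) (hD i j)
      exact (Ideal.add_mem_iff_left _ h3).mp h1
    have hE := hP.sum_X_mul_pderiv
    simp only [hpd, mul_zero, Finset.sum_const_zero] at hE
    have h4 : ((N + 1 : ℕ) : MvPolynomial (Fin n) K) * P = 0 := by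
      rw [← nsmul_eq_mul]; exact hE.symm
    rcases mul_eq_zero.mp h4 with h5 | h5
    · exfalso
      have : ((N + 1 : ℕ) : MvPolynomial (Fin n) K) = C ((N + 1 : ℕ) : K) := by simp
      rw [this, C_eq_zero] at h5
      exact (Nat.cast_ne_zero.mpr (Nat.succ_ne_zero N)) h5
    · exact h5

include hxm hD in
theorem isQuasiRegular_of_derivations
    (hres : Function.Surjective (algebraMap K (ResidueField A)))
    (hspan : Ideal.span (Set.range x) = maximalIdeal A) : CAlgX.IsQuasiRegular x := by
  classical
  intro N P hP hmem d
  rw [hspan] at hmem ⊢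
  choose κ hκ using fun d => hres (residue A (coeff d P))
  have hκ' : ∀ d, algebraMap K A (κ d) - coeff d P ∈ maximalIdeal A := by
    intro d
    rw [← IsLocalRing.residue_eq_zero_iff, map_sub, sub_eq_zero, ← hκ d]
    rfl
  have hdeg : ∀ d ∈ P.support, (d.sum fun _ k => k) = N := by
    intro d hd
    have := hP (mem_support_iff.mp hd)
    rw [Finsupp.weight_apply] at this
    simpa using this
  have hmon : ∀ d ∈ P.support, (d.prod fun i k => x i ^ k) ∈ maximalIdeal A ^ N := by
    intro d hd
    rw [← hdeg d hd]
    unfold Finsupp.prod Finsupp.sum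
    rw [← Finset.prod_pow_eq_pow_sum]
    exact Ideal.prod_mem_prod fun i _ => Ideal.pow_mem_pow (hxm i) _
  let P₀ : MvPolynomial (Fin n) K := ∑ d ∈ P.support, monomial d (κ d)
  have hP₀ : P₀.IsHomogeneous N := by
    refine IsHomogeneous.sum _ _ _ fun d hd => ?_
    refine isHomogeneous_monomial _ ?_
    rw [Finsupp.degree_apply]
    exact hdeg d hd
  have h1 : aeval x P₀ - eval x P ∈ maximalIdeal A ^ (N + 1) := by
    have hPsum : eval x P = ∑ d ∈ P.support, coeff d P * d.prod fun i k => x i ^ k := by
      conv_lhs => rw [P.as_sum]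
      rw [map_sum]
      simp only [eval_monomial]
    rw [hPsum]
    simp only [P₀, map_sum, aeval_monomial]
    rw [← Finset.sum_sub_distrib]
    refine Ideal.sum_mem _ fun d hd => ?_
    rw [← sub_mul, pow_succ, mul_comm (maximalIdeal A ^ N)]
    exact Ideal.mul_mem_mul (hκ' d) (hmon d hd)
  have h2 : aeval x P₀ ∈ maximalIdeal A ^ (N + 1) := by
    have := add_mem h1 hmem
    rwa [sub_add_cancel] at this
  have h3 : P₀ = 0 := eq_zero_of_aeval_mem x hxm D hD N P₀ hP₀ h2
  by_cases hd : d ∈ P.support
  · have h4 : coeff d P₀ = κ d := by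
      simp only [P₀, coeff_sum, coeff_monomial]
      rw [Finset.sum_ite_eq' P.support d]
      simp [hd]
    rw [h3, coeff_zero] at h4
    have := hκ' d
    rw [← h4, map_zero, zero_sub, neg_mem_iff] at this
    exact this
  · rw [notMem_support_iff.mp hd]
    exact zero_mem _

include hxm hD in
theorem isRegularLocalRing_of_derivations [IsNoetherianRing A]
    (hres : Function.Surjective (algebraMap K (ResidueField A)))
    (hspan : Ideal.span (Set.range x) = maximalIdeal A) : IsRegularLocalRing A := by
  have hq := isQuasiRegular_of_derivations x hxm D hD hres hspan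
  have hwr := Groth.Agent.Lib.Helper23.QRR.isWeaklyRegular_of_isQuasiRegular n A x hxm hq
  have hreg : RingTheory.Sequence.IsRegular A (List.ofFn x) :=
    RingTheory.Sequence.IsRegular.of_isWeaklyRegular_of_mem_maximalIdeal A (by
      intro r hr
      rw [List.mem_ofFn] at hr
      obtain ⟨i, rfl⟩ := hr
      exact hxm i) hwr
  have hdim := ringKrullDim_add_length_eq_ringKrullDim_of_isRegular _ hreg
  rw [List.length_ofFn] at hdim
  apply IsRegularLocalRing.of_spanFinrank_maximalIdeal_le
  have h1 : (maximalIdeal A).spanFinrank ≤ n := by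
    rw [← hspan]
    refine (Submodule.spanFinrank_span_le_ncard_of_finite (Set.finite_range _)).trans ?_
    have := Set.ncard_image_le (f := x) (s := Set.univ) Set.finite_univ
    simpa [Set.image_univ, Set.ncard_univ, Nat.card_eq_fintype_card] using this
  have h2 : (n : WithBot ℕ∞) ≤ ringKrullDim A := by
    rw [← hdim]
    have h0 : (0 : WithBot ℕ∞) ≤ ringKrullDim (A ⧸ Ideal.ofList (List.ofFn x)) := by
      have : Nontrivial (A ⧸ Ideal.ofList (List.ofFn x)) := by
        rw [Ideal.Quotient.nontrivial_iff]
        intro htop
        have hle : Ideal.ofList (List.ofFn x) ≤ maximalIdeal A := by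
          unfold Ideal.ofList
          rw [Ideal.span_le]
          intro r hr
          simp only [Set.mem_ofPred_eq, List.mem_ofFn] at hr
          obtain ⟨i, rfl⟩ := hr
          exact hxm i
        rw [htop] at hle
        exact (maximalIdeal.isMaximal A).ne_top (top_le_iff.mp hle)
      exact ringKrullDim_nonneg_of_nontrivial
    calc (n : WithBot ℕ∞) = 0 + n := by rw [zero_add]
      _ ≤ _ := add_le_add_left h0 _
  exact le_trans (by exact_mod_cast h1) h2

end main

end Groth.Agent.Lib.Helper25.DerRegular
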