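import Mathlib
import Groth.Agent.Lib.Helper25.DualPoint

/-!
Invariant derivations on the local ring at the unit section of a monoid scheme over a field
(helper25).  Only the unit and the multiplication are used.
-/

set_option autoImplicit false
universe u
open CategoryTheory MonoidalCategory CartesianMonoidalCategory MonObj AlgebraicGeometry IsLocalRing

namespace Groth.Agent.Lib.Helper25.GrpTangent

open Groth.Agent.Lib.Helper25.DualPoint

/-- A morphism from a local spectrum sending the closed point to `x` factors through the local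
ring at `x`. -/
theorem exists_of_closedPoint {X : Scheme.{u}} {R : CommRingCat.{u}} [IsLocalRing R]
    (f : Spec R ⟶ X) (x : X) (hx : f (closedPoint R) = x) :
    ∃ φ : X.presheaf.stalk x ⟶ R, Spec.map φ ≫ X.fromSpecStalk x = f := by
  subst hx
  exact ⟨Scheme.stalkClosedPointTo f, Scheme.Spec_stalkClosedPointTo_fromSpecStalk f⟩

variable {K : Type u} [Field K] (G : Over (Spec (CommRingCat.of K))) [MonObj G]

/-- The unit point. -/
noncomputable def e : G.left := η[G].left (closedPoint K)

/-- The local ring at the unit point. -/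
noncomputable abbrev A : CommRingCat.{u} := G.left.presheaf.stalk (e G)

/-- The structure map `K → O_{G,e}`. -/
noncomputable def str : CommRingCat.of K ⟶ A G :=
  Spec.preimage (G.left.fromSpecStalk (e G) ≫ G.hom)

theorem Spec_map_str : Spec.map (str G) = G.left.fromSpecStalk (e G) ≫ G.hom := Spec.map_preimage _

/-- The augmentation `O_{G,e} → K` given by the unit section. -/
noncomputable def aug : A G ⟶ CommRingCat.of K :=
  (exists_of_closedPoint η[G].left (e G) rfl).choose

theorem Spec_map_aug : Spec.map (aug G) ≫ G.left.fromSpecStalk (e G) = η[G].left :=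
  (exists_of_closedPoint η[G].left (e G) rfl).choose_spec

theorem str_aug : str G ≫ aug G = 𝟙 _ := by
  apply Spec.map_injective
  rw [Spec.map_comp, Spec_map_str, ← Category.assoc, Spec_map_aug, Over.w η[G]]
  simp

/-- The `R`-point of `G` centred at the unit attached to a `K`-map `O_{G,e} → R`. -/
noncomputable def pt {R : CommRingCat.{u}} (a : CommRingCat.of K ⟶ R) (φ : A G ⟶ R)
    (h : str G ≫ φ = a) : Over.mk (Spec.map a) ⟶ G :=
  Over.homMk (Spec.map φ ≫ G.left.fromSpecStalk (e G)) (by
    simp only [Over.mk_hom, Category.assoc, ← Spec_map_str, ← Spec.map_comp, h])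

theorem pt_left {R : CommRingCat.{u}} (a : CommRingCat.of K ⟶ R) (φ : A G ⟶ R)
    (h : str G ≫ φ = a) : (pt G a φ h).left = Spec.map φ ≫ G.left.fromSpecStalk (e G) := rfl

theorem pt_injective {R : CommRingCat.{u}} (a : CommRingCat.of K ⟶ R) (φ φ' : A G ⟶ R)
    (h : str G ≫ φ = a) (h' : str G ≫ φ' = a) (H : pt G a φ h = pt G a φ' h') : φ = φ' := by
  have := congrArg (fun p => p.left) H
  simp only [pt_left] at this
  rw [cancel_mono] at this
  exact Spec.map_injective this

/-- Restriction of points along a ring map. -/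
noncomputable def res {R R' : CommRingCat.{u}} (a : CommRingCat.of K ⟶ R)
    (a' : CommRingCat.of K ⟶ R') (ρ : R ⟶ R') (h : a ≫ ρ = a') :
    (Over.mk (Spec.map a') : Over (Spec (CommRingCat.of K))) ⟶ Over.mk (Spec.map a) :=
  Over.homMk (Spec.map ρ) (by simp only [Over.mk_hom, ← Spec.map_comp, h])

theorem res_pt {R R' : CommRingCat.{u}} (a : CommRingCat.of K ⟶ R)
    (a' : CommRingCat.of K ⟶ R') (ρ : R ⟶ R') (h : a ≫ ρ = a') (φ : A G ⟶ R)
    (hφ : str G ≫ φ = a) :
    res a a' ρ h ≫ pt G a φ hφ = pt G a' (φ ≫ ρ) (by rw [← Category.assoc, hφ, h]) := by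
  ext
  simp only [Over.comp_left, pt_left, res, Over.homMk_left, Spec.map_comp, Category.assoc]

theorem one_eq_pt {R : CommRingCat.{u}} (a : CommRingCat.of K ⟶ R) :
    (1 : Over.mk (Spec.map a) ⟶ G) = pt G a (aug G ≫ a) (by rw [← Category.assoc, str_aug, Category.id_comp]) := by
  ext
  rw [Hom.one_def, Over.comp_left, pt_left, Spec.map_comp, Category.assoc, Spec_map_aug]
  rfl

theorem exists_pt {R : CommRingCat.{u}} [IsLocalRing R] (a : CommRingCat.of K ⟶ R)
    (p : Over.mk (Spec.map a) ⟶ G) (hp : p.left (closedPoint R) = e G) :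
    ∃ (φ : A G ⟶ R) (h : str G ≫ φ = a), p = pt G a φ h := by
  obtain ⟨φ, hφ⟩ := exists_of_closedPoint p.left (e G) hp
  have h : str G ≫ φ = a := by
    apply Spec.map_injective
    rw [Spec.map_comp, Spec_map_str, ← Category.assoc, hφ]
    exact Over.w p
  refine ⟨φ, h, ?_⟩
  ext
  rw [pt_left, hφ]

theorem pt_congr {R : CommRingCat.{u}} (a : CommRingCat.of K ⟶ R) {φ φ' : A G ⟶ R}
    (h : str G ≫ φ = a) (H : φ = φ') : pt G a φ h = pt G a φ' (H ▸ h) := by
  subst H
  rfl

/-- The dual numbers over a commutative ring, as an object of `CommRingCat`. -/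
abbrev dual (R : Type u) [CommRing R] : CommRingCat.{u} :=
  CommRingCat.of (TrivSqZeroExt R R)

instance (R : Type u) [CommRing R] [IsLocalRing R] : IsLocalRing (dual R) :=
  isLocalRing_tsze

/-- `inl : R → R[ε]`. -/
abbrev inlC (R : Type u) [CommRing R] : CommRingCat.of R ⟶ dual R :=
  CommRingCat.ofHom (TrivSqZeroExt.inlHom R R)

/-- `fst : R[ε] → R`. -/
abbrev fstC (R : Type u) [CommRing R] : dual R ⟶ CommRingCat.of R :=
  CommRingCat.ofHom fstR

/-- Functoriality of dual numbers. -/
abbrev mapC {R R' : Type u} [CommRing R] [CommRing R'] (f : CommRingCat.of R ⟶ CommRingCat.of R') :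
    dual R ⟶ dual R' :=
  CommRingCat.ofHom (selfMap f.hom)

theorem inlC_fstC (R : Type u) [CommRing R] : inlC R ≫ fstC R = 𝟙 _ := by
  apply CommRingCat.hom_ext
  exact fstR_comp_inlHom

theorem mapC_fstC {R R' : Type u} [CommRing R] [CommRing R']
    (f : CommRingCat.of R ⟶ CommRingCat.of R') : mapC f ≫ fstC R' = fstC R ≫ f := by
  apply CommRingCat.hom_ext
  exact fstR_comp_selfMap f.hom

theorem inlC_mapC {R R' : Type u} [CommRing R] [CommRing R']
    (f : CommRingCat.of R ⟶ CommRingCat.of R') : inlC R ≫ mapC f = f ≫ inlC R' := by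
  apply CommRingCat.hom_ext
  exact selfMap_comp_inlHom f.hom

theorem mapC_comp {R R' R'' : Type u} [CommRing R] [CommRing R'] [CommRing R'']
    (f : CommRingCat.of R ⟶ CommRingCat.of R') (g : CommRingCat.of R' ⟶ CommRingCat.of R'') :
    mapC f ≫ mapC g = mapC (f ≫ g) := by
  apply CommRingCat.hom_ext
  exact selfMap_comp f.hom g.hom

theorem mapC_id (R : Type u) [CommRing R] : mapC (𝟙 (CommRingCat.of R)) = 𝟙 _ := by
  apply CommRingCat.hom_ext
  exact selfMap_id

theorem closedPoint_eq_of_surjective {R : CommRingCat.{u}} [IsLocalRing R]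
    (ρ : R ⟶ CommRingCat.of K) (hρ : Function.Surjective ρ.hom) :
    Spec.map ρ (closedPoint K) = closedPoint R := by
  have : IsLocalHom ρ.hom := IsLocalHom.of_surjective _ hρ
  exact IsLocalRing.comap_closedPoint ρ.hom

/-- The infinitesimal translation: for a tangent vector `v` at the unit there is a `K`-algebra map
`P : O_{G,e} → O_{G,e}[ε]` lifting the identity and reducing to `v`. -/
theorem exists_section (v : A G ⟶ dual K) (hv1 : str G ≫ v = inlC K)
    (hv2 : v ≫ fstC K = aug G) :
    ∃ P : A G ⟶ dual (A G), str G ≫ P = str G ≫ inlC (A G) ∧ P ≫ fstC (A G) = 𝟙 _ ∧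
      P ≫ mapC (aug G) = v := by
  let aT : CommRingCat.of K ⟶ dual (A G) := str G ≫ inlC (A G)
  let w : A G ⟶ dual (A G) := v ≫ mapC (str G)
  have hw : str G ≫ w = aT := by
    dsimp only [w, aT]
    rw [← Category.assoc, hv1, inlC_mapC]
  let p : Over.mk (Spec.map aT) ⟶ G := pt G aT (inlC (A G)) rfl * pt G aT w hw
  -- reduction to `K`
  let ρ : dual (A G) ⟶ CommRingCat.of K := fstC (A G) ≫ aug G
  have hρ : aT ≫ ρ = 𝟙 _ := by
    dsimp only [aT, ρ]
    rw [Category.assoc, ← Category.assoc (inlC _), inlC_fstC, Category.id_comp, str_aug]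
  have hρ1 : inlC (A G) ≫ ρ = aug G ≫ 𝟙 _ := by
    dsimp only [ρ]
    rw [← Category.assoc, inlC_fstC]
    exact (Category.id_comp _).trans (Category.comp_id _).symm
  have hρ2 : w ≫ ρ = aug G ≫ 𝟙 _ := by
    dsimp only [w, ρ]
    rw [Category.assoc, ← Category.assoc (mapC _), mapC_fstC, Category.assoc, str_aug,
      Category.comp_id, hv2]
    exact (Category.comp_id _).symm
  have hp0 : res aT (𝟙 _) ρ hρ ≫ p = pt G (𝟙 _) (aug G ≫ 𝟙 _)
      (by rw [← Category.assoc, str_aug, Category.id_comp]) := by
    dsimp only [p]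
    rw [MonObj.comp_mul, res_pt, res_pt, pt_congr G _ _ hρ1, pt_congr G _ _ hρ2, ← one_eq_pt,
      _root_.mul_one]
  have hpe : p.left (closedPoint (dual (A G))) = e G := by
    have hsurj : Function.Surjective ρ.hom := by
      intro k
      refine ⟨(aT.hom k), ?_⟩
      have := congrArg (fun f => f.hom k) hρ
      exact this
    rw [← closedPoint_eq_of_surjective ρ hsurj]
    have := congrArg (fun q => q.left (closedPoint K)) hp0
    simp only [Over.comp_left, pt_left, res, Over.homMk_left] at this
    rw [Category.comp_id, Spec_map_aug] at this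
    exact this
  obtain ⟨P, hP, hpP⟩ := exists_pt G aT p hpe
  refine ⟨P, hP, ?_, ?_⟩
  · -- reduce along `fst`
    have h1 : aT ≫ fstC (A G) = str G := by
      dsimp only [aT]
      rw [Category.assoc, inlC_fstC]
      exact Category.comp_id _
    have e1 : inlC (A G) ≫ fstC (A G) = 𝟙 _ := inlC_fstC _
    have e2 : w ≫ fstC (A G) = aug G ≫ str G := by
      dsimp only [w]
      rw [Category.assoc, mapC_fstC, ← Category.assoc, hv2]
    have hp1 : res aT (str G) (fstC (A G)) h1 ≫ p = pt G (str G) (𝟙 _) (Category.comp_id _) := by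
      dsimp only [p]
      rw [MonObj.comp_mul, res_pt, res_pt, pt_congr G _ _ e1, pt_congr G _ _ e2, ← one_eq_pt,
        _root_.mul_one]
      rfl
    rw [hpP, res_pt] at hp1
    exact pt_injective G _ _ _ _ _ hp1
  · -- reduce along `mapC aug`
    have h2 : aT ≫ mapC (aug G) = inlC K := by
      dsimp only [aT]
      rw [Category.assoc, inlC_mapC, ← Category.assoc, str_aug, Category.id_comp]
    have e1 : inlC (A G) ≫ mapC (aug G) = aug G ≫ inlC K := inlC_mapC _
    have e2 : w ≫ mapC (aug G) = v := by
      dsimp only [w]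
      rw [Category.assoc, mapC_comp, str_aug, mapC_id, Category.comp_id]
    have hp2 : res aT (inlC K) (mapC (aug G)) h2 ≫ p = pt G (inlC K) v hv1 := by
      dsimp only [p]
      rw [MonObj.comp_mul, res_pt, res_pt, pt_congr G _ _ e1, pt_congr G _ _ e2, ← one_eq_pt,
        _root_.one_mul]
    rw [hpP, res_pt] at hp2
    exact pt_injective G _ _ _ _ _ hp2

/-- The `K`-algebra structure on the local ring at the unit. -/
noncomputable abbrev algA : Algebra K (A G) := (str G).hom.toAlgebra

/-- The augmentation as an algebra homomorphism. -/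
noncomputable def augAlg : @AlgHom K (A G) K _ _ _ (algA G) _ :=
  letI := algA G
  { (aug G).hom with
    commutes' := fun k => by
      have := congrArg (fun f => f.hom k) (str_aug G)
      exact this }

/-- For every functional on the cotangent space at the unit there is a `K`-derivation of the local
ring inducing it. -/
theorem exists_derivation
    (ℓ : CotangentSpace (A G) →ₗ[ResidueField (A G)] ResidueField (A G)) :
    letI := algA G
    ∃ D : Derivation K (A G) (A G),
      ∀ (x : A G) (hx : x ∈ maximalIdeal (A G)),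
        residue (A G) (D x) = ℓ ((maximalIdeal (A G)).toCotangent ⟨x, hx⟩) := by
  let _ := algA G
  let v0 := CommRingCat.ofHom (tangentHom (augAlg G) ℓ)
  let v : A G ⟶ dual K := v0
  have hv1 : str G ≫ v = inlC K := by
    apply CommRingCat.hom_ext
    refine RingHom.ext fun k => ?_
    exact tangentHom_algebraMap (augAlg G) ℓ k
  have hv2 : v ≫ fstC K = aug G := by
    apply CommRingCat.hom_ext
    refine RingHom.ext fun a => ?_
    exact fst_tangentHom (augAlg G) ℓ a
  obtain ⟨P, hP0, hP1, hP2⟩ := exists_section G v hv1 hv2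
  have h1 : ∀ a : A G, (P.hom a).fst = a := fun a => by
    have := congrArg (fun f => f.hom a) hP1
    exact this
  have h2 : ∀ k : K, P.hom (algebraMap K (A G) k) = TrivSqZeroExt.inl (algebraMap K (A G) k) :=
    fun k => by
      have := congrArg (fun f => f.hom k) hP0
      exact this
  refine ⟨derOfSection P.hom h1 h2, fun x hx => ?_⟩
  rw [derOfSection_apply, residue_eq (augAlg G), ← snd_tangentHom_of_mem (augAlg G) ℓ hx]
  congr 1
  have := congrArg (fun f => (f.hom x).snd) hP2
  simp only [CommRingCat.hom_comp, RingHom.comp_apply] at this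
  refine Eq.trans ?_ this
  exact (snd_selfMap _ _).symm

end Groth.Agent.Lib.Helper25.GrpTangent
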