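import Mathlib
import Groth.Agent.Lib.Helper25.GrpTangent
import Groth.Agent.Lib.Helper25.DerRegular
import Groth.Agent.Lib.Helper12.QuasiReg

/-!
Cartier's theorem, local form (helper25): the local ring at the unit of a monoid scheme over a field
of characteristic zero is regular as soon as it is Noetherian.
-/

set_option autoImplicit false
universe u
open CategoryTheory MonoidalCategory CartesianMonoidalCategory MonObj AlgebraicGeometry IsLocalRing

namespace Groth.Agent.Lib.Helper25.GrpTangent

open Groth.Agent.Lib.Helper25.DualPoint

variable {K : Type u} [Field K] (G : Over (Spec (CommRingCat.of K))) [MonObj G]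

theorem isRegularLocalRing_stalk [CharZero K] [IsNoetherianRing (A G)] :
    IsRegularLocalRing (A G) := by
  classical
  let _ := algA G
  let b := Module.finBasis (ResidueField (A G)) (CotangentSpace (A G))
  choose x hx using fun j => (maximalIdeal (A G)).toCotangent_surjective (b j)
  choose D hD using fun i => exists_derivation G (b.coord i)
  have hfun : (fun j => (maximalIdeal (A G)).toCotangent (x j)) = ⇑b := funext hx
  have hsp : Submodule.span ((A G) ⧸ maximalIdeal (A G))
      (Set.range fun j => (maximalIdeal (A G)).toCotangent (x j)) = ⊤ := by
    rw [hfun]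
    exact b.span_eq
  have hs : Ideal.span (Set.range fun j => (x j : A G)) = maximalIdeal (A G) :=
    Groth.Agent.Lib.Helper12.QR.span_eq_of_cotangent_span_eq_top (maximalIdeal (A G))
      (maximalIdeal (A G)).fg_of_isNoetherianRing (maximalIdeal_le_jacobson ⊥) x hsp
  refine Groth.Agent.Lib.Helper25.DerRegular.isRegularLocalRing_of_derivations
    (K := K) (fun j => (x j : A G)) (fun j => (x j).2) D ?_
    (algebraMap_residueField_bijective (augAlg G)).2 hs
  intro i j
  rw [← IsLocalRing.residue_eq_zero_iff, map_sub, hD i (x j) (x j).2, Subtype.coe_eta, hx j,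
    Module.Basis.coord_apply, Module.Basis.repr_self, Finsupp.single_apply]
  by_cases h : i = j
  · subst h; simp
  · simp [h, Ne.symm h]

end Groth.Agent.Lib.Helper25.GrpTangent
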