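import Mathlib
import Groth.Agent.Lib.Helper25.GrpRegular
import Groth.Agent.Lib.Helper23.CohenEq2
import Groth.Agent.S3436

/-!
Cartier's theorem at the unit section (helper25): a monoid scheme locally of finite type over a
field of characteristic zero is smooth at the unit point.
-/

set_option autoImplicit false
universe u
open CategoryTheory MonoidalCategory CartesianMonoidalCategory MonObj AlgebraicGeometry IsLocalRing

namespace Groth.Agent.Lib.Helper25.GrpTangent

open Groth.Agent.Lib.Helper25.DualPoint

variable {K : Type u} [Field K] (G : Over (Spec (CommRingCat.of K))) [MonObj G]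

/-- The canonical map from a ring to the stalk of its spectrum at a point. -/
noncomputable def τ (x : Spec (CommRingCat.of K)) :
    CommRingCat.of K ⟶ (Spec (CommRingCat.of K)).presheaf.stalk x :=
  (Scheme.ΓSpecIso (CommRingCat.of K)).inv ≫ (Spec (CommRingCat.of K)).presheaf.germ ⊤ x trivial

theorem str_eq : str G = τ (G.hom (e G)) ≫ G.hom.stalkMap (e G) := by
  apply Spec.map_injective
  rw [Spec_map_str, Spec.map_comp, τ, ← Spec.fromSpecStalk_eq,
    Scheme.SpecMap_stalkMap_fromSpecStalk]

theorem bijective_τ (x : Spec (CommRingCat.of K)) : Function.Bijective (τ x).hom := by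
  let y : PrimeSpectrum K := x
  letI : Algebra K ((Spec (CommRingCat.of K)).presheaf.stalk x) :=
    StructureSheaf.stalkAlgebra K y
  haveI : IsLocalization.AtPrime ((Spec (CommRingCat.of K)).presheaf.stalk x) y.asIdeal :=
    StructureSheaf.IsLocalization.to_stalk K y
  have hu : ∀ m ∈ y.asIdeal.primeCompl, IsUnit m := by
    intro m hm
    apply IsUnit.mk0
    rintro rfl
    exact hm (zero_mem _)
  exact (IsLocalization.atUnits K y.asIdeal.primeCompl hu
    (S := (Spec (CommRingCat.of K)).presheaf.stalk x)).bijective

theorem isGeometricallyReduced_of_bijective {κ : Type u} [Field κ] [Algebra K κ]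
    (h : Function.Bijective (algebraMap K κ)) : Algebra.IsGeometricallyReduced K κ := by
  have : Algebra.IsGeometricallyReduced K K := by
    rw [Algebra.isGeometricallyReduced_field_iff]
    exact isReduced_of_injective (Algebra.TensorProduct.rid K K (AlgebraicClosure K)).toRingEquiv
      (Algebra.TensorProduct.rid K K (AlgebraicClosure K)).injective
  let e : K ≃ₐ[K] κ := AlgEquiv.ofBijective (Algebra.ofId K _) h
  exact Algebra.IsGeometricallyReduced.of_injective e.symm.toAlgHom e.symm.injective

/-- **Cartier**: a monoid scheme locally of finite type over a field of characteristic zero is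
smooth at the unit point. -/
theorem unit_mem_smoothLocus [CharZero K] [LocallyOfFiniteType G.hom]
    [LocallyOfFinitePresentation G.hom] : e G ∈ G.hom.smoothLocus := by
  have : IsLocallyNoetherian G.left := LocallyOfFiniteType.isLocallyNoetherian G.hom
  have hN : IsNoetherianRing (A G) := inferInstance
  have reg : IsRegularLocalRing (A G) := isRegularLocalRing_stalk G
  let _ := algA G
  have hτ := bijective_τ (G.hom (e G))
  have hess : Algebra.EssFiniteType K (A G) := by
    have h1 : (τ (G.hom (e G))).hom.EssFiniteType :=
      (RingHom.FiniteType.of_surjective _ hτ.2).essFiniteType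
    have h2 : (G.hom.stalkMap (e G)).hom.EssFiniteType := LocallyOfFiniteType.stalkMap G.hom (e G)
    have h3 := h1.comp h2
    rw [← CommRingCat.hom_comp, ← str_eq] at h3
    exact h3
  have hgr : Algebra.IsGeometricallyReduced K (ResidueField (A G)) :=
    isGeometricallyReduced_of_bijective (algebraMap_residueField_bijective (augAlg G))
  have adic := Groth.Agent.Lib.Helper23.CohenEq2.adic_of_regular_of_sep (k := K) reg
  have fs : Algebra.FormallySmooth K (A G) := Groth.Agent.S3436.formallySmooth_of_adic K (A G) adic
  have fs' : (str G).hom.FormallySmooth := fs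
  rw [Scheme.Hom.mem_smoothLocus]
  have : IsIso (τ (G.hom (e G))) := (ConcreteCategory.isIso_iff_bijective _).mpr hτ
  rw [str_eq] at fs'
  exact (RingHom.FormallySmooth.respectsIso.cancel_left_isIso _ _).mp fs'

end Groth.Agent.Lib.Helper25.GrpTangent
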