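import Mathlib
import Groth.Agent.Lib.Helper13.SchemeLocal

/-! "Property on a neighbourhood" vs "property of the stalk map" for unramified / smooth / étale. -/

set_option autoImplicit false
universe u

open AlgebraicGeometry CategoryTheory CategoryTheory.Limits

namespace Groth.Agent.Lib.Helper25.NhdStalk

theorem exists_unramified_nhd_iff {X Y : Scheme.{u}} (φ : X ⟶ Y) [LocallyOfFiniteType φ] (x : X) :
    (∃ U : X.Opens, x ∈ U ∧ FormallyUnramified (U.ι ≫ φ)) ↔
      (φ.stalkMap x).hom.FormallyUnramified := by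
  constructor
  · rintro ⟨U, hxU, hU⟩
    exact Groth.Agent.Lib.Helper13.formallyUnramified_stalkMap_of_ι_comp φ U hxU
  · intro H
    obtain ⟨W, hW, H'⟩ :=
      Groth.Agent.Lib.Helper13.exists_open_forall_formallyUnramified_stalkMap φ x H
    exact ⟨W, hW, Groth.Agent.Lib.Helper13.formallyUnramified_ι_comp_of_forall φ W H'⟩

theorem exists_smooth_nhd_iff {X Y : Scheme.{u}} (φ : X ⟶ Y) [LocallyOfFinitePresentation φ]
    (x : X) :
    (∃ U : X.Opens, x ∈ U ∧ Smooth (U.ι ≫ φ)) ↔ (φ.stalkMap x).hom.FormallySmooth := by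
  constructor
  · rintro ⟨U, hxU, hU⟩
    exact Scheme.Hom.mem_smoothLocus.mp
      (Groth.Agent.Lib.Helper13.le_smoothLocus_of_smooth_ι_comp φ U hxU)
  · intro H
    exact ⟨φ.smoothLocus, Scheme.Hom.mem_smoothLocus.mpr H,
      Groth.Agent.Lib.Helper13.smooth_ι_comp_of_le_smoothLocus φ _ le_rfl⟩

theorem exists_etale_nhd_iff {X Y : Scheme.{u}} (φ : X ⟶ Y) [LocallyOfFinitePresentation φ]
    (x : X) :
    (∃ U : X.Opens, x ∈ U ∧ Etale (U.ι ≫ φ)) ↔
      (φ.stalkMap x).hom.FormallySmooth ∧ (φ.stalkMap x).hom.FormallyUnramified := by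
  constructor
  · rintro ⟨U, hxU, hU⟩
    exact ⟨Scheme.Hom.mem_smoothLocus.mp
      (Groth.Agent.Lib.Helper13.le_smoothLocus_of_smooth_ι_comp φ U hxU),
      Groth.Agent.Lib.Helper13.formallyUnramified_stalkMap_of_ι_comp φ U hxU⟩
  · rintro ⟨H1, H2⟩
    obtain ⟨W, hW, H'⟩ :=
      Groth.Agent.Lib.Helper13.exists_open_forall_formallyUnramified_stalkMap φ x H2
    exact ⟨W ⊓ φ.smoothLocus, ⟨hW, Scheme.Hom.mem_smoothLocus.mpr H1⟩,
      Groth.Agent.Lib.Helper13.etale_ι_comp_of_forall φ _ inf_le_right (fun z hz => H' z hz.1)⟩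

end Groth.Agent.Lib.Helper25.NhdStalk
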