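import Mathlib
import Groth.Agent.Lib.Helper16.RegularRingFacts
import Groth.Agent.Lib.Helper18.SerreReg2
import Groth.Agent.Lib.Helper23.RegularHom2

/-! Regularity ascends and descends along smooth ring maps, pointwise. -/

set_option autoImplicit false
universe u
open IsLocalRing

namespace Groth.Agent.Lib.Helper25.RegularSmooth

/-- A regular local ring is a regular ring. -/
theorem isRegularRing_of_isRegularLocalRing (R : Type u) [CommRing R] [IsRegularLocalRing R] :
    IsRegularRing R := by
  rw [isRegularRing_iff]
  intro P hP
  exact Groth.Agent.Lib.Helper18.SerreReg.isRegularLocalRing_localization_atPrime R P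

/-- A further localization of a regular localization is regular. -/
theorem isRegularRing_localization_of_le {R : Type u} [CommRing R] (M N : Submonoid R) (h : M ≤ N)
    [IsRegularRing (Localization M)] : IsRegularRing (Localization N) := by
  let := IsLocalization.localizationAlgebraOfSubmonoidLe (Localization M) (Localization N) M N h
  have := IsLocalization.localization_isScalarTower_of_submonoid_le (Localization M)
    (Localization N) M N h
  have := IsLocalization.isLocalization_of_submonoid_le (Localization M) (Localization N) M N h
  have : IsRegularRing (Localization (N.map (algebraMap R (Localization M)))) :=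
    Groth.Agent.Lib.Helper16.PDR.isRegularRing_localization _ _
  exact IsRegularRing.of_ringEquiv (IsLocalization.algEquiv
    (N.map (algebraMap R (Localization M)))
    (Localization (N.map (algebraMap R (Localization M)))) (Localization N)).toRingEquiv

/-- Ascent of regularity along a smooth ring map, at a prime. -/
theorem isRegularLocalRing_of_smooth {A B : Type u} [CommRing A] [CommRing B] [Algebra A B]
    [IsNoetherianRing A] [Algebra.Smooth A B] (p : Ideal A) (q : Ideal B) [p.IsPrime] [q.IsPrime]
    [q.LiesOver p] [IsRegularLocalRing (Localization.AtPrime p)] :
    IsRegularLocalRing (Localization.AtPrime q) := by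
  have : IsRegularRing (Localization.AtPrime p) := isRegularRing_of_isRegularLocalRing _
  have h1 := Groth.Agent.Lib.Helper23.RegularHom.isRegularHom_of_smooth A B
  have h2 := Groth.Agent.Lib.Helper23.RegularHom2.isRegularHom_localization A B h1 p.primeCompl
    (Localization.AtPrime p) (Localization (Algebra.algebraMapSubmonoid B p.primeCompl))
  have : IsNoetherianRing B := Algebra.FiniteType.isNoetherianRing A B
  have : IsNoetherianRing (Localization (Algebra.algebraMapSubmonoid B p.primeCompl)) :=
    IsLocalization.isNoetherianRing (Algebra.algebraMapSubmonoid B p.primeCompl) _ inferInstance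
  have : IsRegularRing (Localization (Algebra.algebraMapSubmonoid B p.primeCompl)) :=
    Groth.Agent.Lib.Helper23.RegularHom.isRegularRing_of_isRegularHom _ _ h2
  have hle : Algebra.algebraMapSubmonoid B p.primeCompl ≤ q.primeCompl := by
    rintro _ ⟨a, ha, rfl⟩
    intro hq
    apply ha
    rw [(inferInstance : q.LiesOver p).over]
    exact hq
  have : IsRegularRing (Localization.AtPrime q) := isRegularRing_localization_of_le _ _ hle
  exact IsRegularLocalRing.of_isRegularRing_of_isLocalRing _

/-- Ascent of regularity at a point where a finite type algebra over a Noetherian ring is smooth. -/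
theorem isRegularLocalRing_of_isSmoothAt {A B : Type u} [CommRing A] [CommRing B] [Algebra A B]
    [IsNoetherianRing A] [Algebra.FiniteType A B] (p : Ideal A) (q : Ideal B) [p.IsPrime]
    [q.IsPrime] [q.LiesOver p] [Algebra.IsSmoothAt A q]
    [IsRegularLocalRing (Localization.AtPrime p)] :
    IsRegularLocalRing (Localization.AtPrime q) := by
  have : Algebra.FinitePresentation A B :=
    Algebra.FinitePresentation.of_finiteType.mp inferInstance
  obtain ⟨g, hg, hsm⟩ := Algebra.IsSmoothAt.exists_notMem_smooth A q
  have hdisj : Disjoint (Submonoid.powers g : Set B) (q : Set B) := by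
    rw [Set.disjoint_left]
    rintro _ ⟨n, rfl⟩ hq
    exact hg (Ideal.IsPrime.mem_of_pow_mem inferInstance n hq)
  set q' : Ideal (Localization.Away g) := q.map (algebraMap B (Localization.Away g)) with hq'def
  have hq' : q'.IsPrime :=
    IsLocalization.isPrime_of_isPrime_disjoint (Submonoid.powers g) _ q inferInstance hdisj
  have hcomap : q'.comap (algebraMap B (Localization.Away g)) = q :=
    IsLocalization.under_map_of_isPrime_disjoint (Submonoid.powers g) _ inferInstance hdisj
  have : q'.LiesOver p := ⟨by
    rw [Ideal.under_def, IsScalarTower.algebraMap_eq A B (Localization.Away g),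
      ← Ideal.comap_comap, hcomap]
    exact (inferInstance : q.LiesOver p).over⟩
  have h1 : IsRegularLocalRing (Localization.AtPrime q') := isRegularLocalRing_of_smooth p q'
  have h2 : IsLocalization.AtPrime (Localization.AtPrime q')
      (q'.comap (algebraMap B (Localization.Away g))) :=
    IsLocalization.isLocalization_isLocalization_atPrime_isLocalization (Submonoid.powers g)
      (Localization.AtPrime q') q'
  have key : ∀ (I : Ideal B) [I.IsPrime], I = q →
      IsLocalization.AtPrime (Localization.AtPrime q') I →
      IsRegularLocalRing (Localization.AtPrime q) := by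
    intro I hI hIq h
    subst hIq
    exact IsRegularLocalRing.of_ringEquiv (IsLocalization.algEquiv I.primeCompl
      (Localization.AtPrime q') (Localization.AtPrime I)).toRingEquiv
  exact key _ hcomap h2

/-- Version for arbitrary models of the localizations. -/
theorem isRegularLocalRing_of_isSmoothAt' {A B : Type u} [CommRing A] [CommRing B] [Algebra A B]
    [IsNoetherianRing A] [Algebra.FiniteType A B] (p : Ideal A) (q : Ideal B) [p.IsPrime]
    [q.IsPrime] [q.LiesOver p] [Algebra.IsSmoothAt A q]
    (TA TB : Type u) [CommRing TA] [CommRing TB] [Algebra A TA] [Algebra B TB]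
    [IsLocalization.AtPrime TA p] [IsLocalization.AtPrime TB q]
    [IsRegularLocalRing TA] : IsRegularLocalRing TB := by
  have : IsRegularLocalRing (Localization.AtPrime p) :=
    IsRegularLocalRing.of_ringEquiv (IsLocalization.algEquiv p.primeCompl TA
      (Localization.AtPrime p)).toRingEquiv
  have := isRegularLocalRing_of_isSmoothAt p q
  exact IsRegularLocalRing.of_ringEquiv (IsLocalization.algEquiv q.primeCompl
    (Localization.AtPrime q) TB).toRingEquiv

end Groth.Agent.Lib.Helper25.RegularSmooth
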