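import Mathlib
import Groth.Agent.S0079
import Groth.Agent.Lib.Helper12.ClosedImmersionDescent

/-! fpqc descent of quasi-compact immersions; fppf descent of immersions. -/

open AlgebraicGeometry CategoryTheory Limits MorphismProperty

namespace Groth.Agent.Lib.Helper25.ImmDescent

universe u

/-- The canonical morphism to the scheme-theoretic image of a quasi-compact morphism is
scheme-theoretically dominant. -/
theorem isSchemeTheoreticallyDominant_toImage {X Y : Scheme.{u}} (f : X ⟶ Y) [QuasiCompact f] :
    IsSchemeTheoreticallyDominant f.toImage := by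
  rw [isSchemeTheoreticallyDominant_iff]
  refine Scheme.IdealSheafData.ext_of_iSup_eq_top (ι := Y.affineOpens)
    (fun U => ⟨f.imageι ⁻¹ᵁ U.1, U.2.preimage f.imageι⟩) ?_ ?_
  · rw [eq_top_iff]
    intro x _
    obtain ⟨_, ⟨V, hV, rfl⟩, hxV, -⟩ :=
      Y.isBasis_affineOpens.exists_subset_of_mem_open (Set.mem_univ (f.imageι x)) isOpen_univ
    exact TopologicalSpace.Opens.mem_iSup.mpr ⟨⟨V, hV⟩, hxV⟩
  · intro U
    rw [Scheme.Hom.ker_apply]
    simp only [Scheme.IdealSheafData.ideal_bot, Pi.bot_apply]
    exact (RingHom.injective_iff_ker_eq_bot _).mp (f.toImage_app_injective U)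

/-- A quasi-compact immersion which is scheme-theoretically dominant is an open immersion. -/
theorem isOpenImmersion_of_isImmersion_of_dominant {X Y : Scheme.{u}} (f : X ⟶ Y) [IsImmersion f]
    [QuasiCompact f] [IsSchemeTheoreticallyDominant f] : IsOpenImmersion f := by
  have h : IsIso f.imageι := by
    rw [IsClosedImmersion.isIso_iff_ker_eq_bot]
    rw [Scheme.Hom.imageι, Scheme.IdealSheafData.ker_subschemeι]
    exact f.ker_eq_bot
  rw [← f.toImage_imageι]
  infer_instance

/-- fpqc descent of quasi-compact immersions. -/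
theorem descendsAlong_isImmersion_inf_quasiCompact :
    DescendsAlong (@IsImmersion ⊓ @QuasiCompact : MorphismProperty Scheme.{u})
      (@Surjective ⊓ @Flat ⊓ @QuasiCompact : MorphismProperty Scheme.{u}) := by
  have hqc := Groth.Agent.S0079.result.{u}
  constructor
  intro A X Y Z fst snd π g h hπ hfst
  obtain ⟨hfst1, hfst2⟩ := hfst
  have : IsImmersion fst := hfst1
  have : QuasiCompact fst := hfst2
  have : Surjective π := hπ.1.1
  have : Flat π := hπ.1.2
  have : QuasiCompact π := hπ.2
  have hg : QuasiCompact g := of_isPullback_of_descendsAlong (P := @QuasiCompact) h hπ hfst2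
  refine ⟨?_, hg⟩
  -- the factorization of `g` through its scheme-theoretic image
  let i := g.imageι
  let j := g.toImage
  have hji : j ≫ i = g := g.toImage_imageι
  have hjdom : IsSchemeTheoreticallyDominant j := isSchemeTheoreticallyDominant_toImage g
  -- base change of the image
  let i' := pullback.snd i π
  let πI := pullback.fst i π
  let j' : A ⟶ pullback i π := pullback.lift (snd ≫ j) fst (by
    rw [Category.assoc, hji, h.w])
  have hj'1 : j' ≫ πI = snd ≫ j := pullback.lift_fst _ _ _
  have hj'2 : j' ≫ i' = fst := pullback.lift_snd _ _ _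
  have hsq : IsPullback j' snd πI j := by
    refine IsPullback.of_right (h₁₂ := i') (h₂₂ := i) ?_ hj'1
      (IsPullback.of_hasPullback i π).flip
    rw [hj'2, hji]
    exact h
  have hj'dom : IsSchemeTheoreticallyDominant j' :=
    IsSchemeTheoreticallyDominant.of_isPullback hsq.flip
  have hj'imm : IsImmersion j' := by
    have : IsImmersion (j' ≫ i') := by rw [hj'2]; infer_instance
    exact IsImmersion.of_comp j' i'
  have hj'qc : QuasiCompact j' := MorphismProperty.of_isPullback hsq.flip inferInstance
  have hj'open : IsOpenImmersion j' := isOpenImmersion_of_isImmersion_of_dominant j'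
  have hπI : (@Surjective ⊓ @Flat ⊓ @QuasiCompact : MorphismProperty Scheme.{u}) πI :=
    ⟨⟨inferInstance, inferInstance⟩, inferInstance⟩
  have hjopen : IsOpenImmersion j :=
    of_isPullback_of_descendsAlong (P := @IsOpenImmersion) hsq hπI hj'open
  rw [← hji]
  infer_instance

theorem range_fst_of_isPullback {A X Y Z : Scheme.{u}} {fst : A ⟶ X} {snd : A ⟶ Y} {f : X ⟶ Z}
    {g : Y ⟶ Z} (h : IsPullback fst snd f g) : Set.range fst = f ⁻¹' (Set.range g) := by
  rw [← h.isoPullback_hom_fst, Scheme.Hom.comp_base, TopCat.coe_comp, Set.range_comp,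
    Set.range_eq_univ.mpr h.isoPullback.hom.surjective, Set.image_univ, Scheme.Pullback.range_fst]

set_option backward.isDefEq.respectTransparency.types false in
theorem descendsAlong_isClosedImmersion_fppf :
    DescendsAlong (@IsClosedImmersion : MorphismProperty Scheme.{u})
      (@Surjective ⊓ @Flat ⊓ @LocallyOfFinitePresentation : MorphismProperty Scheme.{u}) := by
  have hcl := Groth.Agent.Lib.Helper12.descendsAlong_isClosedImmersion.{u}
  infer_instance

/-- fppf descent of immersions. -/
theorem descendsAlong_isImmersion_fppf :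
    DescendsAlong (@IsImmersion : MorphismProperty Scheme.{u})
      (@Surjective ⊓ @Flat ⊓ @LocallyOfFinitePresentation : MorphismProperty Scheme.{u}) := by
  have hcl := descendsAlong_isClosedImmersion_fppf.{u}
  constructor
  intro A X Y Z fst snd π g h hπ hfst
  have : IsImmersion fst := hfst
  have : Surjective π := hπ.1.1
  have : Flat π := hπ.1.2
  have : LocallyOfFinitePresentation π := hπ.2
  have hopen : IsOpenMap π := π.isOpenMap
  have hquot : Topology.IsQuotientMap π := hopen.isQuotientMap π.continuous π.surjective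
  have hrange : Set.range fst = π ⁻¹' (Set.range g) := range_fst_of_isPullback h
  have hcob : π ⁻¹' (coborder (Set.range g)) = coborder (Set.range fst) := by
    rw [hrange, coborder_preimage hopen π.continuous]
  have hU : IsOpen (coborder (Set.range g)) := by
    rw [← hquot.isOpen_preimage, hcob]; exact fst.isLocallyClosed_range.isOpen_coborder
  let U : Z.Opens := ⟨_, hU⟩
  obtain ⟨gU, hgU⟩ : ∃ gU : Y ⟶ U, gU ≫ U.ι = g :=
    ⟨IsOpenImmersion.lift U.ι g (by simpa [U] using subset_coborder),
      IsOpenImmersion.lift_fac _ _ _⟩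
  have heq : fst.coborderRange = π ⁻¹ᵁ U := by
    ext1
    exact hcob.symm
  obtain ⟨l, hl, hlcl⟩ : ∃ l : A ⟶ π ⁻¹ᵁ U, l ≫ (π ⁻¹ᵁ U).ι = fst ∧ IsClosedImmersion l :=
    ⟨fst.liftCoborder ≫ (X.isoOfEq heq).hom, by simp, inferInstance⟩
  have hsq : IsPullback l snd (π ∣_ U) gU := by
    refine IsPullback.of_right (h₁₂ := (π ⁻¹ᵁ U).ι) (h₂₂ := U.ι) ?_ ?_
      (isPullback_morphismRestrict π U).flip
    · rw [hl, hgU]; exact h
    · rw [← cancel_mono U.ι, Category.assoc, Category.assoc, hgU, morphismRestrict_ι,
        reassoc_of% hl, h.w]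
  have hπU : (@Surjective ⊓ @Flat ⊓ @LocallyOfFinitePresentation : MorphismProperty Scheme.{u})
      (π ∣_ U) :=
    ⟨⟨MorphismProperty.of_isPullback (isPullback_morphismRestrict π U).flip inferInstance,
      MorphismProperty.of_isPullback (isPullback_morphismRestrict π U).flip inferInstance⟩,
      MorphismProperty.of_isPullback (isPullback_morphismRestrict π U).flip inferInstance⟩
  have hgUcl : IsClosedImmersion gU :=
    of_isPullback_of_descendsAlong (P := @IsClosedImmersion) hsq hπU hlcl
  change IsImmersion g
  rw [← hgU]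
  infer_instance

end Groth.Agent.Lib.Helper25.ImmDescent
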