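import Mathlib
import Groth.Agent.Lib.Helper25.ImmDescent

/-! fpqc descent of closed subschemes / quasi-coherent ideal sheaves. -/

open AlgebraicGeometry CategoryTheory Limits MorphismProperty

namespace Groth.Agent.Lib.Helper25.ClosedDescent

universe u

open Scheme IdealSheafData

set_option backward.isDefEq.respectTransparency.types false in
/-- The stalk maps of a flat morphism are injective. -/
theorem stalkMap_injective_of_flat {X Y : Scheme.{u}} (f : X ⟶ Y) [Flat f] (x : X) :
    Function.Injective (f.stalkMap x) := by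
  algebraize [(f.stalkMap x).hom]
  have : Module.FaithfullyFlat (Y.presheaf.stalk (f x)) (X.presheaf.stalk x) :=
    @Module.FaithfullyFlat.of_flat_of_isLocalHom _ _ _ _ _ _ _
      (Flat.stalkMap f x) (f.toLRSHom.prop x)
  exact ‹RingHom.FaithfullyFlat _›.injective

/-- A flat surjective morphism is injective on sections. -/
theorem app_injective_of_flat_of_surjective {X Y : Scheme.{u}} (f : X ⟶ Y) [Flat f] [Surjective f]
    (U : Y.Opens) : Function.Injective (f.app U) := by
  rw [injective_iff_map_eq_zero]
  intro s hs
  apply TopCat.Presheaf.section_ext Y.sheaf U s 0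
  intro y hy
  obtain ⟨x, rfl⟩ := f.surjective y
  apply stalkMap_injective_of_flat f x
  change f.stalkMap x (Y.presheaf.germ U (f x) hy s) = f.stalkMap x (Y.presheaf.germ U (f x) hy 0)
  rw [Scheme.Hom.germ_stalkMap_apply, hs, map_zero, map_zero, map_zero]

/-- A flat surjective morphism is scheme-theoretically dominant. -/
theorem isSchemeTheoreticallyDominant_of_flat_of_surjective {X Y : Scheme.{u}} (f : X ⟶ Y)
    [Flat f] [Surjective f] : IsSchemeTheoreticallyDominant f := by
  rw [isSchemeTheoreticallyDominant_iff, eq_bot_iff]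
  intro U
  refine (f.ideal_ker_le U).trans ?_
  rw [(RingHom.injective_iff_ker_eq_bot _).mp (app_injective_of_flat_of_surjective f U.1)]
  exact bot_le

/-- `ker` of a composition whose first map is scheme-theoretically dominant. -/
theorem ker_comp_of_dominant {X Y Z : Scheme.{u}} (f : X ⟶ Y) (g : Y ⟶ Z)
    [IsSchemeTheoreticallyDominant f] : (f ≫ g).ker = g.ker := by
  rw [Scheme.Hom.ker_comp, f.ker_eq_bot, map_bot]

/-- `map` in terms of an arbitrary closed immersion with the given kernel. -/
theorem map_ker_eq {Y X S : Scheme.{u}} (a : Y ⟶ X) (f : X ⟶ S) :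
    a.ker.map f = (a ≫ f).ker := map_ker a f

/-- For a pullback square along a closed immersion, the kernel of the base change is the
pullback ideal. -/
theorem ker_fst_of_isPullback {P X Y Z : Scheme.{u}} {fst : P ⟶ X} {snd : P ⟶ Z} {f : X ⟶ Y}
    {i : Z ⟶ Y} [IsClosedImmersion i] (h : IsPullback fst snd f i) :
    fst.ker = i.ker.comap f := by
  rw [← h.isoPullback_hom_fst, Scheme.Hom.ker_comp_of_isIso, ker_fst_of_isClosedImmersion]

/-- fpqc descent for ideal sheaves, injectivity: `π_* π^* J = J`. -/
theorem map_comap_eq {X X' : Scheme.{u}} (π : X ⟶ X') [Flat π] [Surjective π]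
    (J : X'.IdealSheafData) : (J.comap π).map π = J := by
  have : IsSchemeTheoreticallyDominant (pullback.snd π J.subschemeι) :=
    isSchemeTheoreticallyDominant_of_flat_of_surjective _
  rw [comap, map_ker, pullback.condition, ker_comp_of_dominant, ker_subschemeι]

/-- Flat base change for push-forward of ideal sheaves: for a cartesian square
`g' ≫ f = f' ≫ g` with `g` flat and `f` quasi-compact, `g^* f_* I = f'_* g'^* I`. -/
theorem comap_map_eq_of_isPullback {X' X S' S : Scheme.{u}} {g' : X' ⟶ X} {f' : X' ⟶ S'}
    {f : X ⟶ S} {g : S' ⟶ S} (H : IsPullback g' f' f g) [Flat g] [QuasiCompact f]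
    (I : X.IdealSheafData) : (I.map f).comap g = (I.comap g').map f' := by
  let a := I.subschemeι
  let h := a ≫ f
  let i := h.imageι
  let t := h.toImage
  have hti : t ≫ i = h := h.toImage_imageι
  have htdom : IsSchemeTheoreticallyDominant t :=
    ImmDescent.isSchemeTheoreticallyDominant_toImage h
  let b := pullback.fst g' a
  -- the comparison morphism
  let s : pullback g' a ⟶ pullback g i := pullback.lift (b ≫ f') (pullback.snd g' a ≫ t) (by
    rw [Category.assoc, Category.assoc, hti, ← H.w, pullback.condition_assoc])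
  have hs1 : s ≫ pullback.fst g i = b ≫ f' := pullback.lift_fst _ _ _
  have hs2 : s ≫ pullback.snd g i = pullback.snd g' a ≫ t := pullback.lift_snd _ _ _
  have hbig : IsPullback (b ≫ f') (pullback.snd g' a) g (a ≫ f) :=
    ((IsPullback.of_hasPullback g' a).flip.paste_vert H).flip
  have hsq : IsPullback s (pullback.snd g' a) (pullback.snd g i) t := by
    refine IsPullback.of_right (h₁₂ := pullback.fst g i) (h₂₂ := i) ?_ hs2
      (IsPullback.of_hasPullback g i)
    rw [hs1, hti]
    exact hbig
  have hsdom : IsSchemeTheoreticallyDominant s :=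
    IsSchemeTheoreticallyDominant.of_isPullback hsq.flip
  calc (I.map f).comap g = (pullback.fst g i).ker := rfl
    _ = (s ≫ pullback.fst g i).ker := (ker_comp_of_dominant _ _).symm
    _ = (b ≫ f').ker := by rw [hs1]
    _ = b.ker.map f' := (map_ker _ _).symm
    _ = (I.comap g').map f' := rfl

/-- fpqc descent for ideal sheaves, effectivity: if `I` is stable then `π^* π_* I = I`. -/
theorem comap_map_eq_of_stable {X X' : Scheme.{u}} (π : X ⟶ X') [Flat π] [Surjective π]
    [QuasiCompact π] (I : X.IdealSheafData)
    (hI : I.comap (pullback.fst π π) = I.comap (pullback.snd π π)) :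
    (I.map π).comap π = I := by
  rw [comap_map_eq_of_isPullback (IsPullback.of_hasPullback π π), hI, map_comap_eq]

/-! ### Closed subobjects -/

theorem subobject_eq_of_ker_eq {X : Scheme.{u}} (Y₁ Y₂ : Subobject X)
    [IsClosedImmersion Y₁.arrow] [IsClosedImmersion Y₂.arrow]
    (h : Y₁.arrow.ker = Y₂.arrow.ker) : Y₁ = Y₂ :=
  le_antisymm
    (Subobject.le_of_comm (IsClosedImmersion.lift Y₂.arrow Y₁.arrow h.ge)
      (IsClosedImmersion.lift_fac _ _ _))
    (Subobject.le_of_comm (IsClosedImmersion.lift Y₁.arrow Y₂.arrow h.le)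
      (IsClosedImmersion.lift_fac _ _ _))

theorem isClosedImmersion_pullback_arrow {X X' : Scheme.{u}} (π : X ⟶ X') (Y' : Subobject X')
    [IsClosedImmersion Y'.arrow] : IsClosedImmersion ((Subobject.pullback π).obj Y').arrow :=
  MorphismProperty.of_isPullback (P := @IsClosedImmersion) (Subobject.isPullback π Y') inferInstance

theorem ker_pullback_arrow {X X' : Scheme.{u}} (π : X ⟶ X') (Y' : Subobject X')
    [IsClosedImmersion Y'.arrow] :
    ((Subobject.pullback π).obj Y').arrow.ker = Y'.arrow.ker.comap π :=
  ker_fst_of_isPullback (Subobject.isPullback π Y').flip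

theorem isClosedImmersion_mk_arrow {X Y : Scheme.{u}} (i : Y ⟶ X) [IsClosedImmersion i] :
    IsClosedImmersion (Subobject.mk i).arrow := by
  rw [← Subobject.underlyingIso_hom_comp_eq_mk]; infer_instance

theorem ker_mk_arrow {X Y : Scheme.{u}} (i : Y ⟶ X) [Mono i] :
    (Subobject.mk i).arrow.ker = i.ker := by
  rw [← Subobject.underlyingIso_hom_comp_eq_mk, Scheme.Hom.ker_comp_of_isIso]

/-- fpqc descent of closed subschemes, in terms of subobjects. -/
theorem bijOn_pullback_closed {X X' : Scheme.{u}} (π : X ⟶ X')
    [Flat π] [Surjective π] [QuasiCompact π] :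
    Set.BijOn (Subobject.pullback π).obj
      {Y' : Subobject X' | IsClosedImmersion Y'.arrow}
      {Y : Subobject X | IsClosedImmersion Y.arrow ∧
        (Subobject.pullback (pullback.fst π π)).obj Y =
          (Subobject.pullback (pullback.snd π π)).obj Y} := by
  refine ⟨?_, ?_, ?_⟩
  · intro Y' hY'
    have : IsClosedImmersion Y'.arrow := hY'
    refine ⟨isClosedImmersion_pullback_arrow π Y', ?_⟩
    rw [← Subobject.pullback_comp, ← Subobject.pullback_comp, pullback.condition]
  · intro Y₁ h₁ Y₂ h₂ h
    have : IsClosedImmersion Y₁.arrow := h₁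
    have : IsClosedImmersion Y₂.arrow := h₂
    apply subobject_eq_of_ker_eq
    have h' := congrArg (fun Y : Subobject X => Y.arrow.ker) h
    simp only [ker_pullback_arrow] at h'
    rw [← map_comap_eq π Y₁.arrow.ker, h', map_comap_eq]
  · rintro Y ⟨hY, hst⟩
    have : IsClosedImmersion Y.arrow := hY
    have := isClosedImmersion_pullback_arrow (pullback.fst π π) Y
    have := isClosedImmersion_pullback_arrow (pullback.snd π π) Y
    have hI : Y.arrow.ker.comap (pullback.fst π π) = Y.arrow.ker.comap (pullback.snd π π) := by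
      rw [← ker_pullback_arrow, ← ker_pullback_arrow, hst]
    have hcl : IsClosedImmersion (Subobject.mk (Y.arrow.ker.map π).subschemeι).arrow :=
      isClosedImmersion_mk_arrow _
    refine ⟨Subobject.mk (Y.arrow.ker.map π).subschemeι, hcl, ?_⟩
    have := isClosedImmersion_pullback_arrow π (Subobject.mk (Y.arrow.ker.map π).subschemeι)
    apply subobject_eq_of_ker_eq
    rw [ker_pullback_arrow, ker_mk_arrow, ker_subschemeι, comap_map_eq_of_stable π _ hI]

end Groth.Agent.Lib.Helper25.ClosedDescent
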