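import Groth.Agent.Lib.Helper25.GrpdAlg

/-!
# Translation isomorphisms of a groupoid scheme
-/

set_option autoImplicit false
universe u
open CategoryTheory CategoryTheory.Limits AlgebraicGeometry

namespace Groth.Agent.Lib.Helper25.GrpdTrans

open Grpd Groth.Agent.Lib.Helper25.GrpdAlg

variable {S : Scheme.{u}} (G : GroupoidScheme S) {T : Scheme.{u}}

theorem comp_eq (m : T ⟶ pullback G.s G.t) :
    m ≫ G.c = comp G (m ≫ pullback.fst G.s G.t) (m ≫ pullback.snd G.s G.t)
      (by rw [Category.assoc, Category.assoc, pullback.condition]) := by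
  unfold comp
  congr 1
  apply pullback.hom_ext
  · rw [pullback.lift_fst]
  · rw [pullback.lift_snd]

theorem c_eq_comp :
    G.c = comp G (pullback.fst G.s G.t) (pullback.snd G.s G.t) pullback.condition := by
  have := comp_eq G (𝟙 (pullback G.s G.t))
  rw [Category.id_comp] at this
  exact this.trans (comp_congr G (Category.id_comp _) (Category.id_comp _) _ _)

theorem c_s : G.c ≫ G.s = pullback.snd G.s G.t ≫ G.s := by
  rw [c_eq_comp, comp_s]

theorem c_t : G.c ≫ G.t = pullback.fst G.s G.t ≫ G.t := by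
  rw [c_eq_comp, comp_t]

/-- `a⁻¹ (a b) = b`. -/
theorem inv_comp_cancel (α β : T ⟶ G.R) (h : α ≫ G.s = β ≫ G.t) :
    comp G (α ≫ G.i) (comp G α β h)
      (by rw [Category.assoc, G.i_s, comp_t]) = β := by
  have h1 : (α ≫ G.i) ≫ G.s = α ≫ G.t := by rw [Category.assoc, G.i_s]
  have e1 := assoc G (α ≫ G.i) α β h1 h
  rw [← e1]
  refine (comp_congr G (i_comp G α) rfl _ ?_).trans ?_
  · rw [Category.assoc, Category.assoc, G.e_s, Category.comp_id, h]
  · refine (comp_congr G ?_ rfl _ ?_).trans (e_comp G β)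
    · rw [← Category.assoc, h, Category.assoc]
    · rw [Category.assoc, Category.assoc, G.e_s, Category.comp_id]

/-- `a (a⁻¹ b) = b`. -/
theorem comp_inv_cancel (α β : T ⟶ G.R) (h : α ≫ G.t = β ≫ G.t) :
    comp G α (comp G (α ≫ G.i) β (by rw [Category.assoc, G.i_s, h]))
      (by rw [comp_t, Category.assoc, G.i_t]) = β := by
  have h1 : α ≫ G.s = (α ≫ G.i) ≫ G.t := by rw [Category.assoc, G.i_t]
  have h2 : (α ≫ G.i) ≫ G.s = β ≫ G.t := by rw [Category.assoc, G.i_s, h]
  have e1 := assoc G α (α ≫ G.i) β h1 h2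
  rw [← e1]
  refine (comp_congr G (comp_i G α) rfl _ ?_).trans ?_
  · rw [Category.assoc, Category.assoc, G.e_s, Category.comp_id, h]
  · refine (comp_congr G ?_ rfl _ ?_).trans (e_comp G β)
    · rw [← Category.assoc, h, Category.assoc]
    · rw [Category.assoc, Category.assoc, G.e_s, Category.comp_id]

/-- `(a b) b⁻¹ = a`. -/
theorem comp_comp_inv_cancel (α β : T ⟶ G.R) (h : α ≫ G.s = β ≫ G.t) :
    comp G (comp G α β h) (β ≫ G.i)
      (by rw [comp_s, Category.assoc, G.i_t]) = α := by
  have h2 : β ≫ G.s = (β ≫ G.i) ≫ G.t := by rw [Category.assoc, G.i_t]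
  have e1 := assoc G α β (β ≫ G.i) h h2
  rw [e1]
  refine (comp_congr G rfl (comp_i G β) _ ?_).trans ?_
  · rw [Category.assoc, Category.assoc, G.e_t, Category.comp_id, h]
  · refine (comp_congr G rfl ?_ _ ?_).trans (comp_e G α)
    · rw [← Category.assoc, ← h, Category.assoc]
    · rw [Category.assoc, Category.assoc, G.e_t, Category.comp_id]

/-- `(a b⁻¹) b = a`. -/
theorem comp_inv_comp_cancel (α β : T ⟶ G.R) (h : α ≫ G.s = β ≫ G.s) :
    comp G (comp G α (β ≫ G.i) (by rw [Category.assoc, G.i_t, h])) β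
      (by rw [comp_s, Category.assoc, G.i_s]) = α := by
  have h1 : α ≫ G.s = (β ≫ G.i) ≫ G.t := by rw [Category.assoc, G.i_t, h]
  have h2 : (β ≫ G.i) ≫ G.s = β ≫ G.t := by rw [Category.assoc, G.i_s]
  have e1 := assoc G α (β ≫ G.i) β h1 h2
  rw [e1]
  refine (comp_congr G rfl (i_comp G β) _ ?_).trans ?_
  · rw [Category.assoc, Category.assoc, G.e_t, Category.comp_id, h]
  · refine (comp_congr G rfl ?_ _ ?_).trans (comp_e G α)
    · rw [← Category.assoc, ← h, Category.assoc]
    · rw [Category.assoc, Category.assoc, G.e_t, Category.comp_id]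


/-- `(a, b) ↦ (a, a⁻¹ b) : R ×_{t,t} R → R ×_{s,t} R`. -/
noncomputable def phi : pullback G.t G.t ⟶ pullback G.s G.t :=
  pullback.lift (pullback.fst G.t G.t)
    (comp G (pullback.fst G.t G.t ≫ G.i) (pullback.snd G.t G.t)
      (by rw [Category.assoc, G.i_s, pullback.condition]))
    (by rw [comp_t, Category.assoc, G.i_t])

/-- `(a, b) ↦ (a, a b) : R ×_{s,t} R → R ×_{t,t} R`. -/
noncomputable def psi : pullback G.s G.t ⟶ pullback G.t G.t :=
  pullback.lift (pullback.fst G.s G.t) G.c
    (c_t G).symm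

theorem phi_fst : phi G ≫ pullback.fst G.s G.t = pullback.fst G.t G.t := pullback.lift_fst _ _ _

theorem phi_snd : phi G ≫ pullback.snd G.s G.t =
    comp G (pullback.fst G.t G.t ≫ G.i) (pullback.snd G.t G.t)
      (by rw [Category.assoc, G.i_s, pullback.condition]) := pullback.lift_snd _ _ _

theorem phi_c : phi G ≫ G.c = pullback.snd G.t G.t := by
  rw [comp_eq]
  refine (comp_congr G (phi_fst G) (phi_snd G) _ ?_).trans
    (comp_inv_cancel G _ _ pullback.condition)
  rw [comp_t, Category.assoc, G.i_t]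

theorem psi_fst : psi G ≫ pullback.fst G.t G.t = pullback.fst G.s G.t := pullback.lift_fst _ _ _

theorem psi_snd : psi G ≫ pullback.snd G.t G.t = G.c := pullback.lift_snd _ _ _

theorem phi_psi : phi G ≫ psi G = 𝟙 _ := by
  apply pullback.hom_ext
  · rw [Category.assoc, psi_fst, phi_fst, Category.id_comp]
  · rw [Category.assoc, psi_snd, phi_c, Category.id_comp]

theorem psi_phi : psi G ≫ phi G = 𝟙 _ := by
  apply pullback.hom_ext
  · rw [Category.assoc, phi_fst, psi_fst, Category.id_comp]
  · rw [Category.assoc, phi_snd, Category.id_comp, precomp]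
    have hc := c_eq_comp G
    refine (comp_congr G ?_ ((psi_snd G).trans hc) _ ?_).trans
      (inv_comp_cancel G (pullback.fst G.s G.t) (pullback.snd G.s G.t) pullback.condition)
    · rw [← Category.assoc, psi_fst]
    · rw [Category.assoc, G.i_s, comp_t]

instance : IsIso (phi G) := ⟨psi G, phi_psi G, psi_phi G⟩

/-- `(a, b) ↦ (a b, b) : R ×_{s,t} R → R ×_{s,s} R`. -/
noncomputable def theta : pullback G.s G.t ⟶ pullback G.s G.s :=
  pullback.lift G.c (pullback.snd G.s G.t) (c_s G)

/-- `(c, b) ↦ (c b⁻¹, b) : R ×_{s,s} R → R ×_{s,t} R`. -/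
noncomputable def xi : pullback G.s G.s ⟶ pullback G.s G.t :=
  pullback.lift
    (comp G (pullback.fst G.s G.s) (pullback.snd G.s G.s ≫ G.i)
      (by rw [Category.assoc, G.i_t, pullback.condition]))
    (pullback.snd G.s G.s)
    (by rw [comp_s, Category.assoc, G.i_s])

theorem theta_fst : theta G ≫ pullback.fst G.s G.s = G.c := pullback.lift_fst _ _ _
theorem theta_snd : theta G ≫ pullback.snd G.s G.s = pullback.snd G.s G.t :=
  pullback.lift_snd _ _ _
theorem xi_fst : xi G ≫ pullback.fst G.s G.t =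
    comp G (pullback.fst G.s G.s) (pullback.snd G.s G.s ≫ G.i)
      (by rw [Category.assoc, G.i_t, pullback.condition]) := pullback.lift_fst _ _ _
theorem xi_snd : xi G ≫ pullback.snd G.s G.t = pullback.snd G.s G.s := pullback.lift_snd _ _ _

theorem xi_c : xi G ≫ G.c = pullback.fst G.s G.s := by
  rw [comp_eq]
  refine (comp_congr G (xi_fst G) (xi_snd G) _ ?_).trans
    (comp_inv_comp_cancel G _ _ pullback.condition)
  rw [comp_s, Category.assoc, G.i_s]

theorem xi_theta : xi G ≫ theta G = 𝟙 _ := by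
  apply pullback.hom_ext
  · rw [Category.assoc, theta_fst, xi_c, Category.id_comp]
  · rw [Category.assoc, theta_snd, xi_snd, Category.id_comp]

theorem theta_xi : theta G ≫ xi G = 𝟙 _ := by
  apply pullback.hom_ext
  · rw [Category.assoc, xi_fst, Category.id_comp, precomp]
    have hc := c_eq_comp G
    refine (comp_congr G ((theta_fst G).trans hc) ?_ _ ?_).trans
      (comp_comp_inv_cancel G (pullback.fst G.s G.t) (pullback.snd G.s G.t) pullback.condition)
    · rw [← Category.assoc, theta_snd]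
    · rw [comp_s, Category.assoc, G.i_t]
  · rw [Category.assoc, xi_snd, theta_snd, Category.id_comp]

/-- The square `c, pr₂, s, s` is cartesian. -/
theorem isPullback_c_snd : IsPullback G.c (pullback.snd G.s G.t) G.s G.s := by
  refine IsPullback.of_iso_pullback ⟨c_s G⟩
    ⟨theta G, xi G, theta_xi G, xi_theta G⟩ (theta_fst G) (theta_snd G)


/-- The inverse is an involution. -/
theorem i_i : G.i ≫ G.i = 𝟙 G.R := by
  have h : G.i ≫ G.s = 𝟙 G.R ≫ G.t := by rw [G.i_s, Category.id_comp]
  have hc : comp G G.i (𝟙 G.R) h = G.i ≫ G.t ≫ G.e := by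
    have := i_comp G (𝟙 G.R)
    refine (comp_congr G (Category.id_comp _).symm rfl _ ?_).trans (this.trans ?_)
    · rw [Category.assoc, G.i_s]
    · rw [Category.id_comp, ← Category.assoc, G.i_t]
  exact (eq_inv_of_comp_eq G G.i (𝟙 G.R) h hc).symm

instance : IsIso G.i := ⟨G.i, i_i G, i_i G⟩

end Groth.Agent.Lib.Helper25.GrpdTrans
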