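import Groth.Agent.Lib.Helper25.GrpdImage

/-!
# The pair groupoid `U ×_S U ⇉ U` and the morphism `j : G → pair`
-/

set_option autoImplicit false
universe u
open CategoryTheory CategoryTheory.Limits AlgebraicGeometry

namespace Groth.Agent.Lib.Helper25.GrpdPair

open Grpd Groth.Agent.Lib.Helper25.GrpdAlg

variable {S : Scheme.{u}} (U : Scheme.{u}) (pU : U ⟶ S)

/-- The composition of the pair groupoid: `((a,b),(b,c)) ↦ (a,c)`. -/
noncomputable def pairC :
    pullback (pullback.snd pU pU) (pullback.fst pU pU) ⟶ pullback pU pU :=
  pullback.lift
    (pullback.fst (pullback.snd pU pU) (pullback.fst pU pU) ≫ pullback.fst pU pU)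
    (pullback.snd (pullback.snd pU pU) (pullback.fst pU pU) ≫ pullback.snd pU pU)
    (by
      rw [Category.assoc, Category.assoc, pullback.condition, ← Category.assoc,
        pullback.condition, Category.assoc, pullback.condition])

/-- The pair groupoid `U ×_S U ⇉ U` with `t = pr₁`, `s = pr₂`. -/
noncomputable def pairGroupoid : GroupoidScheme S where
  U := U
  R := pullback pU pU
  pU := pU
  pR := pullback.fst pU pU ≫ pU
  s := pullback.snd pU pU
  t := pullback.fst pU pU
  e := pullback.lift (𝟙 U) (𝟙 U) rfl
  i := pullback.lift (pullback.snd pU pU) (pullback.fst pU pU) pullback.condition.symm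
  c := pairC U pU
  s_over := pullback.condition.symm
  t_over := rfl
  comp_s := fun α β h => by
    simp only [pairC, Category.assoc, pullback.lift_snd, pullback.lift_snd_assoc]
  comp_t := fun α β h => by
    simp only [pairC, Category.assoc, pullback.lift_fst, pullback.lift_fst_assoc]
  assoc := fun α β γ h₁ h₂ => by
    apply pullback.hom_ext <;>
    simp only [pairC, Category.assoc, pullback.lift_fst, pullback.lift_fst_assoc,
      pullback.lift_snd, pullback.lift_snd_assoc]
  e_s := pullback.lift_snd _ _ _
  e_t := pullback.lift_fst _ _ _
  comp_e := fun α => by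
    apply pullback.hom_ext <;>
    simp only [pairC, Category.assoc, pullback.lift_fst, pullback.lift_fst_assoc,
      pullback.lift_snd, pullback.lift_snd_assoc, Category.comp_id]
  e_comp := fun α => by
    apply pullback.hom_ext <;>
    simp only [pairC, Category.assoc, pullback.lift_fst, pullback.lift_fst_assoc,
      pullback.lift_snd, pullback.lift_snd_assoc, Category.comp_id]
  i_s := pullback.lift_snd _ _ _
  i_t := pullback.lift_fst _ _ _
  comp_i := fun α => by
    apply pullback.hom_ext <;>
    simp only [pairC, Category.assoc, pullback.lift_fst, pullback.lift_fst_assoc,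
      pullback.lift_snd, pullback.lift_snd_assoc, Category.comp_id]
  i_comp := fun α => by
    apply pullback.hom_ext <;>
    simp only [pairC, Category.assoc, pullback.lift_fst, pullback.lift_fst_assoc,
      pullback.lift_snd, pullback.lift_snd_assoc, Category.comp_id]

variable (G : GroupoidScheme S)

/-- `j = (t, s) : G → pair groupoid` as a morphism of groupoid schemes. -/
noncomputable def jHom : GroupoidScheme.Hom G (pairGroupoid G.U G.pU) where
  fU := 𝟙 G.U
  fR := G.j
  fU_over := Category.id_comp _
  comm_s := by
    change G.j ≫ pullback.snd G.pU G.pU = G.s ≫ 𝟙 _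
    rw [GroupoidScheme.j, pullback.lift_snd, Category.comp_id]
  comm_t := by
    change G.j ≫ pullback.fst G.pU G.pU = G.t ≫ 𝟙 _
    rw [GroupoidScheme.j, pullback.lift_fst, Category.comp_id]
  comm_c := fun α β h => by
    change (pullback.lift α β h ≫ G.c) ≫ G.j = pullback.lift (α ≫ G.j) (β ≫ G.j) _ ≫
      pairC G.U G.pU
    apply pullback.hom_ext
    · simp only [pairC, GroupoidScheme.j, Category.assoc, pullback.lift_fst,
        pullback.lift_fst_assoc]
      rw [← Category.assoc, G.comp_t]
    · simp only [pairC, GroupoidScheme.j, Category.assoc, pullback.lift_snd,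
        pullback.lift_snd_assoc]
      rw [← Category.assoc, G.comp_s]

end Groth.Agent.Lib.Helper25.GrpdPair
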