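import Groth.Agent.Lib.Helper25.GrpdAlg

/-!
# Subgroupoid of a groupoid scheme cut out by a monomorphism `ι : Z ⟶ R` with lifts of `e, i, c`
-/

set_option autoImplicit false
set_option linter.unusedSectionVars false
universe u
open CategoryTheory CategoryTheory.Limits AlgebraicGeometry

namespace Groth.Agent.Lib.Helper25.GrpdSub

open Grpd Groth.Agent.Lib.Helper25.GrpdAlg

variable {S : Scheme.{u}} (G : GroupoidScheme S) {Z : Scheme.{u}} (ι : Z ⟶ G.R)

/-- The map `Z ×_U Z → R ×_U R`. -/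
noncomputable def π : pullback (ι ≫ G.s) (ι ≫ G.t) ⟶ pullback G.s G.t :=
  pullback.map (ι ≫ G.s) (ι ≫ G.t) G.s G.t ι ι (𝟙 G.U) (by simp) (by simp)

/-- Data of lifts of the structure maps through `ι`. -/
structure Lifts where
  e' : G.U ⟶ Z
  i' : Z ⟶ Z
  c' : pullback (ι ≫ G.s) (ι ≫ G.t) ⟶ Z
  he : e' ≫ ι = G.e
  hi : i' ≫ ι = ι ≫ G.i
  hc : c' ≫ ι = π G ι ≫ G.c

variable {G ι} (L : Lifts G ι) [Mono ι]

variable {T : Scheme.{u}}

theorem key (α β : T ⟶ Z) (h : α ≫ ι ≫ G.s = β ≫ ι ≫ G.t) :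
    (pullback.lift α β h ≫ L.c') ≫ ι = comp G (α ≫ ι) (β ≫ ι)
      (by simpa only [Category.assoc] using h) := by
  rw [Category.assoc, L.hc, ← Category.assoc, comp]
  congr 1
  apply pullback.hom_ext
  · simp only [π, pullback.map, Category.assoc, pullback.lift_fst, pullback.lift_fst_assoc]
  · simp only [π, pullback.map, Category.assoc, pullback.lift_snd, pullback.lift_snd_assoc]

theorem ax_comp_s (α β : T ⟶ Z) (h : α ≫ ι ≫ G.s = β ≫ ι ≫ G.t) :
    (pullback.lift α β h ≫ L.c') ≫ ι ≫ G.s = β ≫ ι ≫ G.s := by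
  rw [← Category.assoc, key, comp_s, Category.assoc]

theorem ax_comp_t (α β : T ⟶ Z) (h : α ≫ ι ≫ G.s = β ≫ ι ≫ G.t) :
    (pullback.lift α β h ≫ L.c') ≫ ι ≫ G.t = α ≫ ι ≫ G.t := by
  rw [← Category.assoc, key, comp_t, Category.assoc]

theorem ax_assoc (α β γ : T ⟶ Z) (h₁ : α ≫ ι ≫ G.s = β ≫ ι ≫ G.t)
    (h₂ : β ≫ ι ≫ G.s = γ ≫ ι ≫ G.t) :
    pullback.lift (pullback.lift α β h₁ ≫ L.c') γ ((ax_comp_s L α β h₁).trans h₂) ≫ L.c' =
      pullback.lift α (pullback.lift β γ h₂ ≫ L.c')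
        (h₁.trans (ax_comp_t L β γ h₂).symm) ≫ L.c' := by
  rw [← cancel_mono ι]
  have h₁' : (α ≫ ι) ≫ G.s = (β ≫ ι) ≫ G.t := by simpa only [Category.assoc] using h₁
  have h₂' : (β ≫ ι) ≫ G.s = (γ ≫ ι) ≫ G.t := by simpa only [Category.assoc] using h₂
  have e1 := assoc G (α ≫ ι) (β ≫ ι) (γ ≫ ι) h₁' h₂'
  refine (key L _ γ _).trans ?_
  refine Eq.trans ?_ (key L α _ _).symm
  exact (comp_congr G (key L α β h₁) rfl _ _).trans
    (e1.trans (comp_congr G rfl (key L β γ h₂) _ _).symm)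

theorem ax_e_s : L.e' ≫ ι ≫ G.s = 𝟙 G.U := by
  rw [← Category.assoc, L.he, G.e_s]

theorem ax_e_t : L.e' ≫ ι ≫ G.t = 𝟙 G.U := by
  rw [← Category.assoc, L.he, G.e_t]

theorem ax_comp_e (α : T ⟶ Z) :
    pullback.lift α (α ≫ (ι ≫ G.s) ≫ L.e')
      (by rw [Category.assoc, Category.assoc, ax_e_t, Category.comp_id]) ≫ L.c' = α := by
  rw [← cancel_mono ι, key]
  refine (comp_congr G rfl ?_ _ _).trans (comp_e G (α ≫ ι))
  simp only [Category.assoc, L.he]

theorem ax_e_comp (α : T ⟶ Z) :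
    pullback.lift (α ≫ (ι ≫ G.t) ≫ L.e') α
      (by rw [Category.assoc, Category.assoc, ax_e_s, Category.comp_id]) ≫ L.c' = α := by
  rw [← cancel_mono ι, key]
  refine (comp_congr G ?_ rfl _ _).trans (e_comp G (α ≫ ι))
  simp only [Category.assoc, L.he]

theorem ax_i_s : L.i' ≫ ι ≫ G.s = ι ≫ G.t := by
  rw [← Category.assoc, L.hi, Category.assoc, G.i_s]

theorem ax_i_t : L.i' ≫ ι ≫ G.t = ι ≫ G.s := by
  rw [← Category.assoc, L.hi, Category.assoc, G.i_t]

theorem ax_comp_i (α : T ⟶ Z) :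
    pullback.lift α (α ≫ L.i') (by rw [Category.assoc, ax_i_t]) ≫ L.c' =
      α ≫ (ι ≫ G.t) ≫ L.e' := by
  rw [← cancel_mono ι, key]
  refine (comp_congr G rfl ?_ _ _).trans ((comp_i G (α ≫ ι)).trans ?_)
  · simp only [Category.assoc, L.hi]
  · simp only [Category.assoc, L.he]

theorem ax_i_comp (α : T ⟶ Z) :
    pullback.lift (α ≫ L.i') α (by rw [Category.assoc, ax_i_s]) ≫ L.c' =
      α ≫ (ι ≫ G.s) ≫ L.e' := by
  rw [← cancel_mono ι, key]
  refine (comp_congr G ?_ rfl _ _).trans ((i_comp G (α ≫ ι)).trans ?_)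
  · simp only [Category.assoc, L.hi]
  · simp only [Category.assoc, L.he]

/-- The subgroupoid. -/
noncomputable def subGroupoid : GroupoidScheme S where
  U := G.U
  R := Z
  pU := G.pU
  pR := ι ≫ G.pR
  s := ι ≫ G.s
  t := ι ≫ G.t
  e := L.e'
  i := L.i'
  c := L.c'
  s_over := by rw [Category.assoc, G.s_over]
  t_over := by rw [Category.assoc, G.t_over]
  comp_s := ax_comp_s L
  comp_t := ax_comp_t L
  assoc := ax_assoc L
  e_s := ax_e_s L
  e_t := ax_e_t L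
  comp_e := ax_comp_e L
  e_comp := ax_e_comp L
  i_s := ax_i_s L
  i_t := ax_i_t L
  comp_i := ax_comp_i L
  i_comp := ax_i_comp L

/-- The inclusion of the subgroupoid. -/
noncomputable def subHom : GroupoidScheme.Hom (subGroupoid L) G where
  fU := 𝟙 G.U
  fR := ι
  fU_over := Category.id_comp _
  comm_s := (Category.comp_id _).symm
  comm_t := (Category.comp_id _).symm
  comm_c := fun α β h => key L α β h

end Groth.Agent.Lib.Helper25.GrpdSub
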