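import Groth.Prelude.Def_Grpd
import Mathlib

/-!
# Algebra of T-points of a groupoid scheme
-/

set_option autoImplicit false
universe u
open CategoryTheory CategoryTheory.Limits AlgebraicGeometry

namespace Groth.Agent.Lib.Helper25.GrpdAlg

open Grpd

variable {S : Scheme.{u}} (G : GroupoidScheme S) {T : Scheme.{u}}

/-- Composition of composable `T`-points. -/
noncomputable def comp (α β : T ⟶ G.R) (h : α ≫ G.s = β ≫ G.t) : T ⟶ G.R :=
  pullback.lift α β h ≫ G.c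

theorem comp_congr {α α' β β' : T ⟶ G.R} (hα : α = α') (hβ : β = β')
    (h : α ≫ G.s = β ≫ G.t) (h' : α' ≫ G.s = β' ≫ G.t) : comp G α β h = comp G α' β' h' := by
  subst hα; subst hβ; rfl

theorem precomp {T' : Scheme.{u}} (u : T' ⟶ T) (α β : T ⟶ G.R) (h : α ≫ G.s = β ≫ G.t) :
    u ≫ comp G α β h = comp G (u ≫ α) (u ≫ β)
      (by rw [Category.assoc, Category.assoc, h]) := by
  unfold comp
  rw [← Category.assoc]
  congr 1
  apply pullback.hom_ext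
  · rw [Category.assoc, pullback.lift_fst, pullback.lift_fst]
  · rw [Category.assoc, pullback.lift_snd, pullback.lift_snd]

theorem comp_s (α β : T ⟶ G.R) (h : α ≫ G.s = β ≫ G.t) : comp G α β h ≫ G.s = β ≫ G.s :=
  G.comp_s α β h

theorem comp_t (α β : T ⟶ G.R) (h : α ≫ G.s = β ≫ G.t) : comp G α β h ≫ G.t = α ≫ G.t :=
  G.comp_t α β h

theorem assoc (α β γ : T ⟶ G.R) (h₁ : α ≫ G.s = β ≫ G.t) (h₂ : β ≫ G.s = γ ≫ G.t) :
    comp G (comp G α β h₁) γ ((comp_s G α β h₁).trans h₂) =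
      comp G α (comp G β γ h₂) (h₁.trans (comp_t G β γ h₂).symm) :=
  G.assoc α β γ h₁ h₂

theorem comp_e (α : T ⟶ G.R) :
    comp G α (α ≫ G.s ≫ G.e)
      (by rw [Category.assoc, Category.assoc, G.e_t, Category.comp_id]) = α :=
  G.comp_e α

theorem e_comp (α : T ⟶ G.R) :
    comp G (α ≫ G.t ≫ G.e) α
      (by rw [Category.assoc, Category.assoc, G.e_s, Category.comp_id]) = α :=
  G.e_comp α

theorem comp_i (α : T ⟶ G.R) :
    comp G α (α ≫ G.i) (by rw [Category.assoc, G.i_t]) = α ≫ G.t ≫ G.e :=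
  G.comp_i α

theorem i_comp (α : T ⟶ G.R) :
    comp G (α ≫ G.i) α (by rw [Category.assoc, G.i_s]) = α ≫ G.s ≫ G.e :=
  G.i_comp α

/-- A right inverse is the inverse. -/
theorem eq_inv_of_comp_eq (α β : T ⟶ G.R) (h : α ≫ G.s = β ≫ G.t)
    (hc : comp G α β h = α ≫ G.t ≫ G.e) : β = α ≫ G.i := by
  -- β = e(tβ) β = e(sα) β = (α' α) β = α' (α β) = α' e(tα) = α' e(s α') = α'
  have h1 : (α ≫ G.i) ≫ G.s = α ≫ G.t := by rw [Category.assoc, G.i_s]
  have h2 : (α ≫ G.i) ≫ G.t = α ≫ G.s := by rw [Category.assoc, G.i_t]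
  have e1 : β = comp G (β ≫ G.t ≫ G.e) β
      (by rw [Category.assoc, Category.assoc, G.e_s, Category.comp_id]) := (e_comp G β).symm
  have e2 : comp G (β ≫ G.t ≫ G.e) β
      (by rw [Category.assoc, Category.assoc, G.e_s, Category.comp_id]) =
      comp G (comp G (α ≫ G.i) α h1) β ((comp_s G _ _ h1).trans h) := by
    apply comp_congr
    · rw [i_comp G α, ← Category.assoc β, ← h, Category.assoc]
    · rfl
  have e3 := assoc G (α ≫ G.i) α β h1 h
  have e4 : comp G (α ≫ G.i) (comp G α β h) (h1.trans (comp_t G α β h).symm) =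
      comp G (α ≫ G.i) ((α ≫ G.i) ≫ G.s ≫ G.e)
        (by simp only [Category.assoc, G.e_t, Category.comp_id]) := by
    apply comp_congr
    · rfl
    · rw [hc, Category.assoc, ← Category.assoc G.i, G.i_s]
  rw [e1, e2, e3, e4, comp_e G (α ≫ G.i)]

/-- An idempotent is an identity. -/
theorem eq_e_of_idem (γ : T ⟶ G.R) (h : γ ≫ G.s = γ ≫ G.t) (hc : comp G γ γ h = γ) :
    γ = γ ≫ G.t ≫ G.e := by
  -- γ is a right inverse of itself?  γ γ = γ = ... use: γ = (γγ)γ' = γ(γγ') = γ e(tγ) = γ e(sγ) = γ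
  have h1 : γ ≫ G.s = (γ ≫ G.i) ≫ G.t := by rw [Category.assoc, G.i_t]
  have e1 : comp G (comp G γ γ h) (γ ≫ G.i) ((comp_s G γ γ h).trans h1) =
      comp G γ (γ ≫ G.i) h1 := comp_congr G hc rfl _ _
  have e2 := assoc G γ γ (γ ≫ G.i) h h1
  have e3 : comp G γ (comp G γ (γ ≫ G.i) h1) (h.trans (comp_t G γ (γ ≫ G.i) h1).symm) =
      comp G γ (γ ≫ G.s ≫ G.e)
        (by rw [Category.assoc, Category.assoc, G.e_t, Category.comp_id]) := by
    apply comp_congr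
    · rfl
    · rw [comp_i G γ, ← Category.assoc, ← h, Category.assoc]
  rw [e2, e3, comp_e G γ, comp_i G γ] at e1
  exact e1

variable {G}
variable {G₁ G₂ : GroupoidScheme S} (f : GroupoidScheme.Hom G₁ G₂)

theorem map_comp (α β : T ⟶ G₁.R) (h : α ≫ G₁.s = β ≫ G₁.t) :
    comp G₁ α β h ≫ f.fR = comp G₂ (α ≫ f.fR) (β ≫ f.fR)
      (by rw [Category.assoc, Category.assoc, f.comm_s, f.comm_t, ← Category.assoc,
        ← Category.assoc, h]) :=
  f.comm_c α β h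

theorem comm_e : G₁.e ≫ f.fR = f.fU ≫ G₂.e := by
  have hs : (G₁.e ≫ f.fR) ≫ G₂.s = f.fU := by
    rw [Category.assoc, f.comm_s, ← Category.assoc, G₁.e_s, Category.id_comp]
  have ht : (G₁.e ≫ f.fR) ≫ G₂.t = f.fU := by
    rw [Category.assoc, f.comm_t, ← Category.assoc, G₁.e_t, Category.id_comp]
  have h0 : G₁.e ≫ G₁.s = G₁.e ≫ G₁.t := by rw [G₁.e_s, G₁.e_t]
  have hee : comp G₁ G₁.e G₁.e h0 = G₁.e :=
    (comp_congr G₁ rfl (by rw [← Category.assoc, G₁.e_s, Category.id_comp]) _ _).trans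
      (comp_e G₁ G₁.e)
  have hidem : comp G₂ (G₁.e ≫ f.fR) (G₁.e ≫ f.fR) (hs.trans ht.symm) = G₁.e ≫ f.fR := by
    rw [← map_comp f G₁.e G₁.e h0, hee]
  have := eq_e_of_idem G₂ (G₁.e ≫ f.fR) (hs.trans ht.symm) hidem
  rw [this, ← Category.assoc, ht]

theorem comm_i : G₁.i ≫ f.fR = f.fR ≫ G₂.i := by
  have h : f.fR ≫ G₂.s = (G₁.i ≫ f.fR) ≫ G₂.t := by
    rw [Category.assoc, f.comm_t, f.comm_s, ← Category.assoc, G₁.i_t]
  apply eq_inv_of_comp_eq G₂ f.fR (G₁.i ≫ f.fR) h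
  have h0 : 𝟙 G₁.R ≫ G₁.s = (𝟙 G₁.R ≫ G₁.i) ≫ G₁.t := by
    rw [Category.id_comp, Category.id_comp, G₁.i_t]
  have e1 := map_comp f (𝟙 G₁.R) (𝟙 G₁.R ≫ G₁.i) h0
  have e2 := comp_i G₁ (𝟙 G₁.R)
  rw [e2] at e1
  have e3 : comp G₂ (𝟙 G₁.R ≫ f.fR) ((𝟙 G₁.R ≫ G₁.i) ≫ f.fR)
      (by rw [Category.assoc, Category.assoc, f.comm_s, f.comm_t, ← Category.assoc,
        ← Category.assoc, h0]) = comp G₂ f.fR (G₁.i ≫ f.fR) h :=
    comp_congr G₂ (Category.id_comp _) (by rw [Category.id_comp]) _ _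
  rw [← e3, ← e1, Category.id_comp, Category.assoc, comm_e f, ← Category.assoc, ← f.comm_t,
    Category.assoc]

end Groth.Agent.Lib.Helper25.GrpdAlg
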