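import Mathlib
import Groth.Prelude.Def_Flat
import Groth.Agent.Lib.Helper18.TopDim
import Groth.Agent.Lib.Helper16.LocNoeth

set_option autoImplicit false
universe u
open TopologicalSpace Topology

namespace Groth.Agent.Lib.Helper25.IrrCompDim

variable {Z : Type u} [TopologicalSpace Z]

/-- In a locally Noetherian quasi-sober space, every irreducible component contains a nonempty
open subset of the whole space. -/
theorem exists_open_subset_irreducibleComponent [QuasiSober Z]
    (hZ : ∀ x : Z, ∃ U ∈ nhds x, NoetherianSpace U)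
    (C : Set Z) (hC : C ∈ irreducibleComponents Z) :
    ∃ U : Opens Z, (U : Set Z).Nonempty ∧ (U : Set Z) ⊆ C := by
  have hCirr : IsIrreducible C := hC.1
  have hCcl : IsClosed C := isClosed_of_mem_irreducibleComponents C hC
  set η := hCirr.genericPoint with hη
  have hηgen : closure ({η} : Set Z) = C := hCirr.closure_genericPoint hCcl
  have hηC : η ∈ C := by rw [← hηgen]; exact subset_closure rfl
  obtain ⟨N, hN, hNoeth⟩ := hZ η
  set W : Set Z := interior N with hW
  have hWo : IsOpen W := isOpen_interior
  have hηW : η ∈ W := mem_interior_iff_mem_nhds.mpr hN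
  haveI : NoetherianSpace W := NoetherianSpace.of_subset (W := N) interior_subset
  have hfin := Groth.Agent.Lib.Helper16.finite_irreducibleComponents_meeting (X := Z) hWo
  set S : Set (Set Z) := {Z' ∈ irreducibleComponents Z | (Z' ∩ W).Nonempty} \ {C} with hS
  have hSfin : S.Finite := hfin.sdiff
  have hclosed : IsClosed (⋃ Z' ∈ S, Z') :=
    hSfin.isClosed_biUnion fun Z' hZ' => isClosed_of_mem_irreducibleComponents Z' hZ'.1.1
  have hopen : IsOpen (W \ ⋃ Z' ∈ S, Z') := hWo.sdiff hclosed
  refine ⟨⟨_, hopen⟩, ⟨η, hηW, ?_⟩, ?_⟩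
  · simp only [Set.mem_iUnion, not_exists]
    intro Z' hZ' hηZ'
    apply hZ'.2
    rw [Set.mem_singleton_iff]
    have hZ'cl : IsClosed Z' := isClosed_of_mem_irreducibleComponents Z' hZ'.1.1
    have hsub : C ⊆ Z' := by
      rw [← hηgen]
      exact hZ'cl.closure_subset_iff.mpr (Set.singleton_subset_iff.mpr hηZ')
    exact (subset_antisymm hsub (hC.2 hZ'.1.1.1 hsub)).symm ▸ rfl
  · rintro y ⟨hyW, hy⟩
    by_contra hyC
    apply hy
    simp only [Set.mem_iUnion]
    refine ⟨irreducibleComponent y, ⟨⟨irreducibleComponent_mem_irreducibleComponents y,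
      ⟨y, mem_irreducibleComponent, hyW⟩⟩, ?_⟩, mem_irreducibleComponent⟩
    intro h
    rw [Set.mem_singleton_iff] at h
    exact hyC (h ▸ mem_irreducibleComponent)

/-- If a locally Noetherian quasi-sober space has local dimension `n` at every point, then each
irreducible component has dimension `n`. -/
theorem topologicalKrullDim_irreducibleComponent_eq [QuasiSober Z]
    (hZ : ∀ x : Z, ∃ U ∈ nhds x, NoetherianSpace U) (n : WithBot ℕ∞)
    (hn : ∀ z : Z, FlatMor.localDim Z z = n) (C : Set Z) (hC : C ∈ irreducibleComponents Z) :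
    topologicalKrullDim ↥C = n := by
  apply le_antisymm
  · unfold topologicalKrullDim Order.krullDim
    refine iSup_le fun q => ?_
    let p : LTSeries (IrreducibleCloseds Z) :=
      q.map (IrreducibleCloseds.map (Subtype.val : C → Z) continuous_subtype_val)
        (IrreducibleCloseds.map_strictMono_of_isInducing IsInducing.subtypeVal)
    obtain ⟨x, hx⟩ := (p 0).isIrreducible.nonempty
    have h := Groth.Agent.Lib.Helper18.TopDim.length_le_localDim p hx
    rw [hn] at h
    exact h
  · obtain ⟨U, ⟨z, hz⟩, hUC⟩ := exists_open_subset_irreducibleComponent hZ C hC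
    have h1 := Groth.Agent.Lib.Helper18.TopDim.localDim_le_topologicalKrullDim_open U hz
    rw [hn] at h1
    refine h1.trans ?_
    let j : ((U : Set Z) : Type u) → (C : Type u) := fun u => ⟨u.1, hUC u.2⟩
    have hj : IsInducing j := by
      have hcomp : IsInducing ((Subtype.val : C → Z) ∘ j) :=
        (IsInducing.subtypeVal : IsInducing (Subtype.val : ((U : Set Z) : Type u) → Z))
      exact IsInducing.of_comp (Continuous.subtype_mk continuous_subtype_val _)
        continuous_subtype_val hcomp
    exact hj.topologicalKrullDim_le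

end Groth.Agent.Lib.Helper25.IrrCompDim
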