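import Mathlib

/-!
Upper semicontinuity of the fibre rank `x ↦ dim_{κ(x)} κ(x) ⊗ M` of a finite module (helper25).
-/

set_option autoImplicit false
universe u v
open TensorProduct

namespace Groth.Agent.Lib.Helper25.FibreRankUSC

variable {A : Type u} [CommRing A] (M : Type v) [AddCommGroup M] [Module A M]

/-- If `m : ι → M` (finite `ι`) has `κ ⊗ (M / span m) = 0` for a field `κ` over `A`, then
`dim_κ κ ⊗ M ≤ |ι|`. -/
theorem finrank_le_card_of_subsingleton {ι : Type*} [Fintype ι] (m : ι → M)
    (κ : Type*) [Field κ] [Algebra A κ]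
    (h : Subsingleton (κ ⊗[A] (M ⧸ LinearMap.range (Fintype.linearCombination A m)))) :
    Module.finrank κ (κ ⊗[A] M) ≤ Fintype.card ι := by
  classical
  set φ : (ι → A) →ₗ[A] M := Fintype.linearCombination A m with hφ
  have hex : Function.Exact φ (LinearMap.range φ).mkQ := LinearMap.exact_map_mkQ_range φ
  have hex2 := lTensor_exact κ hex (Submodule.mkQ_surjective _)
  have hsurj : Function.Surjective (φ.baseChange κ) := by
    intro z
    have hz : (LinearMap.lTensor κ (LinearMap.range φ).mkQ) z = 0 := Subsingleton.elim _ _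
    obtain ⟨y, hy⟩ := (hex2 z).mp hz
    exact ⟨y, hy⟩
  have h1 := LinearMap.finrank_le_finrank_of_surjective hsurj
  have : Nontrivial A := (algebraMap A κ).domain_nontrivial
  have h2 : Module.finrank κ (κ ⊗[A] (ι → A)) = Fintype.card ι := by
    rw [Module.finrank_baseChange, Module.finrank_pi]
  rw [h2] at h1
  exact h1

variable [Module.Finite A M]

/-- **Upper semicontinuity of the fibre rank** of a finite module. -/
theorem exists_isOpen_forall_finrank_le (q : PrimeSpectrum A) :
    ∃ U : Set (PrimeSpectrum A), IsOpen U ∧ q ∈ U ∧ ∀ x ∈ U,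
      Module.finrank x.asIdeal.ResidueField (x.asIdeal.ResidueField ⊗[A] M) ≤
      Module.finrank q.asIdeal.ResidueField (q.asIdeal.ResidueField ⊗[A] M) := by
  classical
  set κ := q.asIdeal.ResidueField with hκ
  set S : Set (κ ⊗[A] M) := Set.range (fun m : M => (1 : κ) ⊗ₜ[A] m) with hS
  have hspan : Submodule.span κ S = ⊤ := by
    rw [eq_top_iff]
    rintro z -
    induction z using TensorProduct.induction_on with
    | zero => exact Submodule.zero_mem _
    | tmul c m =>
      have : c ⊗ₜ[A] m = c • ((1 : κ) ⊗ₜ[A] m) := by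
        rw [TensorProduct.smul_tmul', smul_eq_mul, mul_one]
      rw [this]
      exact Submodule.smul_mem _ _ (Submodule.subset_span ⟨m, rfl⟩)
    | add x y hx hy => exact Submodule.add_mem _ hx hy
  obtain ⟨f, hfS, hfspan, -⟩ := Submodule.exists_fun_fin_finrank_span_eq κ S
  have hd : Module.finrank κ (Submodule.span κ S) = Module.finrank κ (κ ⊗[A] M) := by
    rw [hspan]; exact finrank_top κ _
  choose m hm using hfS
  set φ : (Fin (Module.finrank κ (Submodule.span κ S)) → A) →ₗ[A] M :=
    Fintype.linearCombination A m with hφ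
  set Q := M ⧸ LinearMap.range φ with hQ
  refine ⟨(Module.support A Q)ᶜ, (Module.isClosed_support).isOpen_compl, ?_, ?_⟩
  · -- `q` is not in the support
    rw [Set.mem_compl_iff, Module.mem_support_iff_nontrivial_residueField_tensorProduct,
      not_nontrivial_iff_subsingleton]
    have hzero : ((LinearMap.range φ).mkQ).baseChange κ = 0 := by
      apply LinearMap.ext_on_range (v := f) (by rw [hfspan, hspan])
      intro i
      rw [← hm i, LinearMap.baseChange_tmul, LinearMap.zero_apply]
      have : (LinearMap.range φ).mkQ (m i) = 0 := by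
        rw [Submodule.mkQ_apply, Submodule.Quotient.mk_eq_zero]
        refine ⟨Pi.single i 1, ?_⟩
        rw [hφ, Fintype.linearCombination_apply_single, one_smul]
      rw [this, TensorProduct.tmul_zero]
    refine ⟨fun a b => ?_⟩
    have hsurj : Function.Surjective (((LinearMap.range φ).mkQ).baseChange κ) :=
      LinearMap.lTensor_surjective κ (Submodule.mkQ_surjective _)
    obtain ⟨a', rfl⟩ := hsurj a
    obtain ⟨b', rfl⟩ := hsurj b
    rw [hzero]; rfl
  · intro x hx
    rw [Set.mem_compl_iff, Module.mem_support_iff_nontrivial_residueField_tensorProduct,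
      not_nontrivial_iff_subsingleton] at hx
    have := finrank_le_card_of_subsingleton M m x.asIdeal.ResidueField hx
    rw [Fintype.card_fin, hd] at this
    exact this

omit [Module.Finite A M] in
/-- On the free locus the rank at the stalk is the fibre rank. -/
theorem rankAtStalk_eq_of_mem_freeLocus (p : PrimeSpectrum A) (hp : p ∈ Module.freeLocus A M) :
    Module.rankAtStalk M p =
      Module.finrank p.asIdeal.ResidueField (p.asIdeal.ResidueField ⊗[A] M) := by
  have hfree : Module.Free (Localization.AtPrime p.asIdeal) (Localization.AtPrime p.asIdeal ⊗[A] M) :=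
    (Module.mem_freeLocus_iff_tensor p (Localization.AtPrime p.asIdeal)).mp hp
  let e : p.asIdeal.ResidueField ⊗[Localization.AtPrime p.asIdeal]
      (Localization.AtPrime p.asIdeal ⊗[A] M) ≃ₗ[p.asIdeal.ResidueField]
      p.asIdeal.ResidueField ⊗[A] M :=
    AlgebraTensorModule.cancelBaseChange _ _ _ _ _
  rw [← e.finrank_eq, Module.finrank_baseChange, Module.rankAtStalk_eq_finrank_tensorProduct]

omit [Module.Finite A M] in
/-- The fibre rank is locally constant on the free locus (open-set form). -/
theorem exists_isOpen_forall_finrank_eq [Module.FinitePresentation A M] (q : PrimeSpectrum A)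
    (hq : q ∈ Module.freeLocus A M) :
    ∃ U : Set (PrimeSpectrum A), IsOpen U ∧ q ∈ U ∧ U ⊆ Module.freeLocus A M ∧ ∀ x ∈ U,
      Module.finrank x.asIdeal.ResidueField (x.asIdeal.ResidueField ⊗[A] M) =
      Module.finrank q.asIdeal.ResidueField (q.asIdeal.ResidueField ⊗[A] M) := by
  have hlc := Module.isLocallyConstant_rankAtStalk_freeLocus (R := A) (M := M)
  obtain ⟨U, hUo, hqU, hU⟩ := (IsLocallyConstant.iff_exists_open _).mp hlc ⟨q, hq⟩
  obtain ⟨U', hU'o, rfl⟩ := isOpen_induced_iff.mp hUo
  refine ⟨U' ∩ Module.freeLocus A M, hU'o.inter Module.isOpen_freeLocus, ⟨hqU, hq⟩,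
    Set.inter_subset_right, ?_⟩
  intro x hx
  have := hU ⟨x, hx.2⟩ hx.1
  simp only at this
  rw [← rankAtStalk_eq_of_mem_freeLocus M x hx.2, ← rankAtStalk_eq_of_mem_freeLocus M q hq]
  exact this

end Groth.Agent.Lib.Helper25.FibreRankUSC
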