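import Mathlib
import Groth.Agent.Lib.Helper21.ChartPt6
import Groth.Agent.Lib.Helper18.DimFormula3

/-!
Ring-level local dimension formula: for `A` of finite type over a field `k` and a prime `p`,
`dim_p Spec A = dim A_p + trdeg_k κ(p)` (helper25).  Transferred from the scheme-level formula
`Helper21.ChartPt.localDim_eq_add`.
-/

set_option autoImplicit false
universe u
open CategoryTheory AlgebraicGeometry

namespace Groth.Agent.Lib.Helper25.LocalDimRing

variable (k A : Type u) [Field k] [CommRing A] [Algebra k A]

/-- `Spec A` as a scheme over `Spec k`. -/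
noncomputable abbrev specOver : (Spec (CommRingCat.of A)).Over (Spec (CommRingCat.of k)) :=
  ⟨Spec.map (CommRingCat.ofHom (algebraMap k A))⟩

attribute [local instance] specOver

theorem resMap_eq (x : Spec (CommRingCat.of A)) :
    Curv2.resMap k (Spec (CommRingCat.of A)) x =
      ((Scheme.Spec.residueFieldIso (CommRingCat.of A) x).inv.hom.comp
        (algebraMap A x.asIdeal.ResidueField)).comp (algebraMap k A) := by
  ext c
  have h1 := Scheme.Spec.algebraMap_residueFieldIso_inv (CommRingCat.of A) x
  have h2 := congrArg (fun φ => φ.hom (algebraMap k A c)) h1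
  simp only [CommRingCat.hom_comp, RingHom.comp_apply, CommRingCat.hom_ofHom] at h2
  simp only [RingHom.comp_apply]
  rw [h2]
  unfold Curv2.resMap Curv2.stalkMap Coh.toGlobal
  simp only [RingHom.comp_apply]
  congr 2
  have h3 := Scheme.ΓSpecIso_inv_naturality (CommRingCat.ofHom (algebraMap k A))
  have h4 := congrArg (fun φ => φ.hom c) h3
  simp only [CommRingCat.hom_comp, RingHom.comp_apply, CommRingCat.hom_ofHom] at h4
  exact h4.symm

theorem trdeg_residueField_eq (x : Spec (CommRingCat.of A)) :
    @Algebra.trdeg k ((Spec (CommRingCat.of A)).residueField x) _ _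
      (Curv2.resAlgebra k (Spec (CommRingCat.of A)) x) =
    Algebra.trdeg k x.asIdeal.ResidueField := by
  let _ := Curv2.resAlgebra k (Spec (CommRingCat.of A)) x
  symm
  refine Groth.Agent.Lib.Helper18.DimFormula.trdeg_eq_of_ringEquiv (RingEquiv.refl k)
    (Scheme.Spec.residueFieldIso (CommRingCat.of A) x).symm.commRingCatIsoToRingEquiv ?_
  ext c
  change Curv2.resMap k (Spec (CommRingCat.of A)) x c = _
  rw [resMap_eq]
  rfl

/-- **Local dimension formula, ring form**: `dim_p Spec A = trdeg_k κ(p) + dim A_p`. -/
theorem localDim_eq_add [Algebra.FiniteType k A] (p : Ideal A) [p.IsPrime] (a b : ℕ)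
    (ha : Algebra.trdeg k p.ResidueField = a)
    (hb : ringKrullDim (Localization.AtPrime p) = b) :
    FlatMor.localDim (PrimeSpectrum A) ⟨p, inferInstance⟩ = ((a + b : ℕ) : WithBot ℕ∞) := by
  have hft : LocallyOfFiniteType
      ((Spec (CommRingCat.of A)) ↘ Spec (CommRingCat.of k)) := by
    change LocallyOfFiniteType (Spec.map (CommRingCat.ofHom (algebraMap k A)))
    rw [HasRingHomProperty.Spec_iff (P := @LocallyOfFiniteType)]
    exact (RingHom.finiteType_algebraMap).mpr inferInstance
  let x : Spec (CommRingCat.of A) := ⟨p, inferInstance⟩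
  have ha' : @Algebra.trdeg k ((Spec (CommRingCat.of A)).residueField x) _ _
      (Curv2.resAlgebra k (Spec (CommRingCat.of A)) x) = a := by
    rw [trdeg_residueField_eq]; exact ha
  have hb' : ringKrullDim ((Spec (CommRingCat.of A)).presheaf.stalk x) = b := by
    rw [← hb]
    exact ringKrullDim_eq_of_ringEquiv
      (AlgebraicGeometry.Spec.stalkIso (CommRingCat.of A) x).commRingCatIsoToRingEquiv
  exact Groth.Agent.Lib.Helper21.ChartPt.localDim_eq_add k (Spec (CommRingCat.of A)) x a b ha' hb'

omit [Field k] [Algebra k A] in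
/-- Local dimension is monotone along specialisation (any ring). -/
theorem localDim_le_of_le (p q : PrimeSpectrum A) (h : p ≤ q) :
    FlatMor.localDim (PrimeSpectrum A) p ≤ FlatMor.localDim (PrimeSpectrum A) q := by
  unfold FlatMor.localDim
  refine le_iInf fun U => ?_
  have hp : p ∈ U.1 := ((PrimeSpectrum.le_iff_specializes p q).mp h).mem_open U.1.2 U.2
  exact iInf_le (fun U : {U : TopologicalSpace.Opens (PrimeSpectrum A) // p ∈ U} =>
    topologicalKrullDim (U.1 : Set (PrimeSpectrum A))) ⟨U.1, hp⟩

omit [Field k] [Algebra k A] in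
theorem localDim_le_topologicalKrullDim (p : PrimeSpectrum A)
    (U : TopologicalSpace.Opens (PrimeSpectrum A)) (hp : p ∈ U) :
    FlatMor.localDim (PrimeSpectrum A) p ≤ topologicalKrullDim (U : Set (PrimeSpectrum A)) :=
  iInf_le (fun U : {U : TopologicalSpace.Opens (PrimeSpectrum A) // p ∈ U} =>
    topologicalKrullDim (U.1 : Set (PrimeSpectrum A))) ⟨U, hp⟩

variable [Algebra.FiniteType k A]

instance finite_residueField_of_isMaximal (m : Ideal A) [hm : m.IsMaximal] :
    Module.Finite k m.ResidueField := by
  have : Algebra.FiniteType k m.ResidueField :=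
    Algebra.FiniteType.trans (inferInstance : Algebra.FiniteType k A)
      (Algebra.FiniteType.of_surjective (Algebra.ofId A m.ResidueField)
        (Ideal.algebraMap_residueField_surjective m))
  have : IsJacobsonRing k := inferInstance
  exact finite_of_finite_type_of_isJacobsonRing k m.ResidueField

theorem trdeg_residueField_of_isMaximal (m : Ideal A) [hm : m.IsMaximal] :
    Algebra.trdeg k m.ResidueField = ((0 : ℕ) : Cardinal) := by
  have : Algebra.IsAlgebraic k m.ResidueField := Algebra.IsAlgebraic.of_finite k m.ResidueField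
  rw [trdeg_eq_zero]; simp

include k in
/-- At a maximal ideal the local dimension is the dimension of the local ring. -/
theorem localDim_eq_of_isMaximal (m : Ideal A) [hm : m.IsMaximal] :
    FlatMor.localDim (PrimeSpectrum A) ⟨m, inferInstance⟩ =
      ringKrullDim (Localization.AtPrime m) := by
  have : IsNoetherianRing A := Algebra.FiniteType.isNoetherianRing k A
  have : IsNoetherianRing (Localization.AtPrime m) :=
    IsLocalization.isNoetherianRing m.primeCompl _ inferInstance
  obtain ⟨b, hb⟩ := Groth.Agent.Lib.Helper21.exists_nat_eq_ringKrullDim (R := Localization.AtPrime m)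
  rw [localDim_eq_add k A m 0 b (trdeg_residueField_of_isMaximal k A m) hb, hb, zero_add]

include k in
/-- Every open neighbourhood of a prime of a finite type algebra over a field contains a maximal
ideal specialising it. -/
theorem exists_isMaximal_mem_open (p : PrimeSpectrum A)
    (U : TopologicalSpace.Opens (PrimeSpectrum A)) (hp : p ∈ U) :
    ∃ m : Ideal A, ∃ hm : m.IsMaximal, p.asIdeal ≤ m ∧ (⟨m, hm.isPrime⟩ : PrimeSpectrum A) ∈ U := by
  have : IsJacobsonRing A := isJacobsonRing_of_finiteType (A := k)
  have hZ : ((U : Set (PrimeSpectrum A)) ∩ PrimeSpectrum.zeroLocus (p.asIdeal : Set A)).Nonempty :=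
    ⟨p, hp, by simp [PrimeSpectrum.mem_zeroLocus]⟩
  have hZ' : IsLocallyClosed
      ((U : Set (PrimeSpectrum A)) ∩ PrimeSpectrum.zeroLocus (p.asIdeal : Set A)) :=
    U.2.isLocallyClosed.inter (PrimeSpectrum.isClosed_zeroLocus _).isLocallyClosed
  obtain ⟨q, ⟨hqU, hqp⟩, hq⟩ := nonempty_inter_closedPoints hZ hZ'
  have hmax : q.asIdeal.IsMaximal := (PrimeSpectrum.isClosed_singleton_iff_isMaximal q).mp hq
  refine ⟨q.asIdeal, hmax, ?_, hqU⟩
  rw [PrimeSpectrum.mem_zeroLocus] at hqp
  exact hqp

end Groth.Agent.Lib.Helper25.LocalDimRing
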