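import Mathlib
import Groth.Agent.Lib.Helper25.LocalDimRing
import Groth.Agent.Lib.Helper25.FibreRankUSC
import Groth.Agent.Lib.Helper9.SmoothDim

/-!
Smoothness at a prime of a finite type algebra over a field via the fibre rank of the differentials
and the local dimension (helper25).
-/

set_option autoImplicit false
universe u
open TensorProduct

namespace Groth.Agent.Lib.Helper25.SmoothLocalDim

open Groth.Agent.Lib.Helper25.LocalDimRing Groth.Agent.Lib.Helper25.FibreRankUSC

variable (k A : Type u) [Field k] [CommRing A] [Algebra k A] [Algebra.FiniteType k A]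

include k in
theorem finitePresentation : Algebra.FinitePresentation k A :=
  Algebra.FinitePresentation.of_finiteType.mp inferInstance

/-- Smoothness generalises. -/
theorem isSmoothAt_of_le (q m : Ideal A) [q.IsPrime] [m.IsPrime] (h : q ≤ m)
    (hm : Algebra.IsSmoothAt k m) : Algebra.IsSmoothAt k q := by
  have := finitePresentation k A
  have hopen : IsOpen (Algebra.smoothLocus k A) := Algebra.isOpen_smoothLocus
  have hm' : (⟨m, inferInstance⟩ : PrimeSpectrum A) ∈ Algebra.smoothLocus k A := hm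
  have hs : (⟨q, inferInstance⟩ : PrimeSpectrum A) ⤳ ⟨m, inferInstance⟩ :=
    (PrimeSpectrum.le_iff_specializes _ _).mp h
  exact hs.mem_open hopen hm'

/-- If the fibre rank of `Ω` at `q` is at most the local dimension, then `A` is smooth at `q`. -/
theorem isSmoothAt_of_finrank_le (q : Ideal A) [q.IsPrime]
    (h : ((Module.finrank q.ResidueField (q.ResidueField ⊗[A] Ω[A⁄k]) : ℕ) : WithBot ℕ∞) ≤
        FlatMor.localDim (PrimeSpectrum A) ⟨q, inferInstance⟩) :
    Algebra.IsSmoothAt k q := by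
  obtain ⟨U, hUo, hqU, hU⟩ := exists_isOpen_forall_finrank_le (Ω[A⁄k]) (⟨q, inferInstance⟩ : PrimeSpectrum A)
  obtain ⟨m, hm, hqm, hmU⟩ := exists_isMaximal_mem_open k A ⟨q, inferInstance⟩ ⟨U, hUo⟩ hqU
  have h1 := hU _ hmU
  simp only at h1
  have h2 : FlatMor.localDim (PrimeSpectrum A) ⟨q, inferInstance⟩ ≤
      FlatMor.localDim (PrimeSpectrum A) ⟨m, hm.isPrime⟩ := localDim_le_of_le A _ _ hqm
  have h3 := localDim_eq_of_isMaximal k A m
  have h1' : ((Module.finrank m.ResidueField (m.ResidueField ⊗[A] Ω[A⁄k]) : ℕ) : WithBot ℕ∞) ≤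
      ((Module.finrank q.ResidueField (q.ResidueField ⊗[A] Ω[A⁄k]) : ℕ) : WithBot ℕ∞) :=
    Nat.cast_le.mpr h1
  have h4 : ((Module.finrank m.ResidueField (m.ResidueField ⊗[A] Ω[A⁄k]) : ℕ) : WithBot ℕ∞) ≤
      ringKrullDim (Localization.AtPrime m) := by
    rw [← h3]
    exact h1'.trans (h.trans h2)
  have hsm : Algebra.IsSmoothAt k m :=
    (Groth.Agent.Lib.Helper9.SmoothDim.isSmoothAt_iff_finrank_le k A m).mpr h4
  exact isSmoothAt_of_le k A q m hqm hsm

/-- At a smooth prime the fibre rank of `Ω` is at most the local dimension. -/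
theorem finrank_le_of_isSmoothAt (q : Ideal A) [q.IsPrime] (hq : Algebra.IsSmoothAt k q) :
    ((Module.finrank q.ResidueField (q.ResidueField ⊗[A] Ω[A⁄k]) : ℕ) : WithBot ℕ∞) ≤
        FlatMor.localDim (PrimeSpectrum A) ⟨q, inferInstance⟩ := by
  have := finitePresentation k A
  have : IsNoetherianRing A := Algebra.FiniteType.isNoetherianRing k A
  have hopen : IsOpen (Algebra.smoothLocus k A) := Algebra.isOpen_smoothLocus
  have hsub : Algebra.smoothLocus k A ⊆ Module.freeLocus A Ω[A⁄k] := by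
    rw [Algebra.smoothLocus_eq_compl_support_inter]
    exact Set.inter_subset_right
  have hq' : (⟨q, inferInstance⟩ : PrimeSpectrum A) ∈ Algebra.smoothLocus k A := hq
  have : Module.FinitePresentation A Ω[A⁄k] := Module.finitePresentation_of_finite A _
  obtain ⟨U, hUo, hqU, -, hU⟩ := exists_isOpen_forall_finrank_eq (Ω[A⁄k])
    (⟨q, inferInstance⟩ : PrimeSpectrum A) (hsub hq')
  unfold FlatMor.localDim
  refine le_iInf fun W => ?_
  obtain ⟨m, hm, hqm, hmW⟩ := exists_isMaximal_mem_open k A ⟨q, inferInstance⟩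
    ⟨(W.1 : Set (PrimeSpectrum A)) ∩ U ∩ Algebra.smoothLocus k A,
      (W.1.2.inter hUo).inter hopen⟩ ⟨⟨W.2, hqU⟩, hq'⟩
  have hsm : Algebra.IsSmoothAt k m := hmW.2
  have h1 := hU _ hmW.1.2
  have h2 := Groth.Agent.Lib.Helper9.SmoothDim.ringKrullDim_eq_finrank k A m hsm
  have h3 := localDim_eq_of_isMaximal k A m
  have h4 := localDim_le_topologicalKrullDim A ⟨m, hm.isPrime⟩ W.1 hmW.1.1
  rw [h3, h2] at h4
  simp only at h1
  rw [← h1]
  exact h4

theorem isSmoothAt_iff_finrank_le_localDim (q : Ideal A) [q.IsPrime] :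
    Algebra.IsSmoothAt k q ↔
    ((Module.finrank q.ResidueField (q.ResidueField ⊗[A] Ω[A⁄k]) : ℕ) : WithBot ℕ∞) ≤
        FlatMor.localDim (PrimeSpectrum A) ⟨q, inferInstance⟩ :=
  ⟨finrank_le_of_isSmoothAt k A q, isSmoothAt_of_finrank_le k A q⟩

end Groth.Agent.Lib.Helper25.SmoothLocalDim
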