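import Mathlib
import Groth.Agent.Lib.Helper25.SmoothLocalDim

/-!
At a smooth prime of a finite type algebra over a field, the fibre rank of the differentials equals
the local dimension (helper25).
-/

set_option autoImplicit false
universe u
open TensorProduct

namespace Groth.Agent.Lib.Helper25.SmoothLocalDim

open Groth.Agent.Lib.Helper25.LocalDimRing Groth.Agent.Lib.Helper25.FibreRankUSC

variable (k A : Type u) [Field k] [CommRing A] [Algebra k A] [Algebra.FiniteType k A]

theorem finrank_eq_localDim_of_isSmoothAt (q : Ideal A) [q.IsPrime] (hq : Algebra.IsSmoothAt k q) :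
    ((Module.finrank q.ResidueField (q.ResidueField ⊗[A] Ω[A⁄k]) : ℕ) : WithBot ℕ∞) =
        FlatMor.localDim (PrimeSpectrum A) ⟨q, inferInstance⟩ := by
  apply le_antisymm (finrank_le_of_isSmoothAt k A q hq)
  have := finitePresentation k A
  have : IsNoetherianRing A := Algebra.FiniteType.isNoetherianRing k A
  have hopen : IsOpen (Algebra.smoothLocus k A) := Algebra.isOpen_smoothLocus
  have hsub : Algebra.smoothLocus k A ⊆ Module.freeLocus A Ω[A⁄k] := by
    rw [Algebra.smoothLocus_eq_compl_support_inter]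
    exact Set.inter_subset_right
  have hq' : (⟨q, inferInstance⟩ : PrimeSpectrum A) ∈ Algebra.smoothLocus k A := hq
  have : Module.FinitePresentation A Ω[A⁄k] := Module.finitePresentation_of_finite A _
  obtain ⟨U, hUo, hqU, -, hU⟩ := exists_isOpen_forall_finrank_eq (Ω[A⁄k])
    (⟨q, inferInstance⟩ : PrimeSpectrum A) (hsub hq')
  obtain ⟨m, hm, hqm, hmW⟩ := exists_isMaximal_mem_open k A ⟨q, inferInstance⟩
    ⟨U ∩ Algebra.smoothLocus k A, hUo.inter hopen⟩ ⟨hqU, hq'⟩
  have hsm : Algebra.IsSmoothAt k m := hmW.2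
  have h1 := hU _ hmW.1
  have h2 := Groth.Agent.Lib.Helper9.SmoothDim.ringKrullDim_eq_finrank k A m hsm
  have h3 := localDim_eq_of_isMaximal k A m
  have h4 : FlatMor.localDim (PrimeSpectrum A) ⟨q, inferInstance⟩ ≤
      FlatMor.localDim (PrimeSpectrum A) ⟨m, hm.isPrime⟩ := localDim_le_of_le A _ _ hqm
  rw [h3, h2] at h4
  simp only at h1
  rw [← h1]
  exact h4

end Groth.Agent.Lib.Helper25.SmoothLocalDim
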