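import Mathlib
import Groth.Agent.Lib.Helper25.SmoothLocalDim2
import Groth.Agent.Lib.Helper21.ChartPt7

/-!
# Rank of `Ω` for smooth algebras of given relative dimension (helper25)

* `rankAtStalk_kaehler_away`: the rank of `Ω_{B/A}` at a prime is unchanged under `B → B_t`.
* `rankAtStalk_of_locally_isStandardSmoothOfRelativeDimension`: if `A → B` is smooth, locally
  standard smooth of relative dimension `n`, then `Ω_{B/A}` has rank `n` at every prime.
* `localDim_eq_topologicalKrullDim`: in a finite type domain over a field, all local dimensions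
  equal the dimension.
* `rankAtStalk_kaehler_eq`: for a smooth domain `A` of dimension `n` over a field, `Ω_{A/k}` has
  rank `n` at every prime.
* `locally_isStandardSmoothOfRelativeDimension`: such an `A` is locally standard smooth of relative
  dimension `n`.
-/

set_option autoImplicit false
universe u
open TensorProduct KaehlerDifferential CategoryTheory AlgebraicGeometry

namespace Groth.Agent.Lib.Helper25.SmoothRelDimRank

open Groth.Agent.Lib.Helper25.LocalDimRing

section C

variable {A B : Type u} [CommRing A] [CommRing B] [Algebra A B]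

/-- rank at a prime of `Ω` is unchanged by passing to a localization away from `t ∉ q`. -/
theorem rankAtStalk_kaehler_away [Algebra.Smooth A B] (t : B) (q' : PrimeSpectrum (Localization.Away t)) :
    Module.rankAtStalk (Ω[Localization.Away t⁄A]) q' =
      Module.rankAtStalk (Ω[B⁄A]) (q'.comap (algebraMap B (Localization.Away t))) := by
  haveI : Algebra.FormallyEtale B (Localization.Away t) :=
    Algebra.FormallyEtale.of_isLocalization (Rₘ := Localization.Away t) (Submonoid.powers t)
  exact Module.rankAtStalk_isBaseChange
    (KaehlerDifferential.isBaseChange_of_formallyEtale A B (Localization.Away t)) q'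

theorem rankAtStalk_of_locally_isStandardSmoothOfRelativeDimension [Algebra.Smooth A B] (n : ℕ)
    (h : RingHom.Locally (RingHom.IsStandardSmoothOfRelativeDimension n) (algebraMap A B))
    (q : PrimeSpectrum B) : Module.rankAtStalk (Ω[B⁄A]) q = n := by
  obtain ⟨s, hs, hP⟩ := h
  obtain ⟨t, hts, htq⟩ : ∃ t ∈ s, t ∉ q.asIdeal := by
    by_contra hcon
    push Not at hcon
    have : Ideal.span s ≤ q.asIdeal := Ideal.span_le.mpr hcon
    rw [hs] at this
    exact q.2.ne_top (top_le_iff.mp this)
  have h1 := hP t hts
  rw [← IsScalarTower.algebraMap_eq A B (Localization.Away t),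
    RingHom.isStandardSmoothOfRelativeDimension_algebraMap] at h1
  have hdisj : Disjoint (Submonoid.powers t : Set B) (q.asIdeal : Set B) := by
    rw [Set.disjoint_left]
    rintro _ ⟨m, rfl⟩ hm
    exact htq (q.2.mem_of_pow_mem m hm)
  haveI hq'prime : (q.asIdeal.map (algebraMap B (Localization.Away t))).IsPrime :=
    IsLocalization.isPrime_of_isPrime_disjoint (Submonoid.powers t) _ _ q.2 hdisj
  let q' : PrimeSpectrum (Localization.Away t) := ⟨_, hq'prime⟩
  have hcomap : q'.comap (algebraMap B (Localization.Away t)) = q := by
    ext1
    exact IsLocalization.under_map_of_isPrime_disjoint (Submonoid.powers t) _ q.2 hdisj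
  rw [← hcomap, ← rankAtStalk_kaehler_away t q']
  haveI : Nontrivial (Localization.Away t) := q'.nontrivial
  haveI : Algebra.IsStandardSmooth A (Localization.Away t) := h1.isStandardSmooth
  haveI : Module.Free (Localization.Away t) (Ω[Localization.Away t⁄A]) := inferInstance
  rw [Module.rankAtStalk_eq_finrank_of_free]
  have h2 := Algebra.IsStandardSmoothOfRelativeDimension.rank_kaehlerDifferential
    (R := A) (S := Localization.Away t) n
  simp only [Pi.natCast_apply]
  exact Module.finrank_eq_of_rank_eq h2

end C


section D

variable (k A : Type u) [Field k] [CommRing A] [Algebra k A] [IsDomain A]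

attribute [local instance] specOver

include k in
/-- In a finite type domain over a field, the local dimension at every prime is the dimension. -/
theorem localDim_eq_topologicalKrullDim [Algebra.FiniteType k A] (q : PrimeSpectrum A) :
    FlatMor.localDim (PrimeSpectrum A) q = topologicalKrullDim (PrimeSpectrum A) := by
  have hft : LocallyOfFiniteType
      ((Spec (CommRingCat.of A)) ↘ Spec (CommRingCat.of k)) := by
    change LocallyOfFiniteType (Spec.map (CommRingCat.ofHom (algebraMap k A)))
    rw [HasRingHomProperty.Spec_iff (P := @LocallyOfFiniteType)]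
    exact (RingHom.finiteType_algebraMap).mpr inferInstance
  haveI : IrreducibleSpace ↥(Spec (CommRingCat.of A)) :=
    inferInstanceAs (IrreducibleSpace (PrimeSpectrum A))
  obtain ⟨s, hs⟩ := Groth.Agent.Lib.Helper21.ChartPt.exists_nat_trdeg_genericPoint k
    (Spec (CommRingCat.of A))
  have h1 := Groth.Agent.Lib.Helper21.ChartPt.topologicalKrullDim_eq_of_irreducible k
    (Spec (CommRingCat.of A)) s hs
  have h2 := Groth.Agent.Lib.Helper21.ChartPt.topologicalKrullDim_opens_eq_of_irreducible k
    (Spec (CommRingCat.of A)) s hs
  change topologicalKrullDim (PrimeSpectrum A) = s at h1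
  rw [h1]
  unfold FlatMor.localDim
  apply le_antisymm
  · refine (iInf_le _ ⟨⊤, trivial⟩).trans ?_
    exact (h2 ⊤ ⟨q, trivial⟩).le
  · refine le_iInf fun U => ?_
    exact (h2 U.1 ⟨q, U.2⟩).ge

theorem rankAtStalk_kaehler_eq [Algebra.Smooth k A] (n : ℕ)
    (hn : topologicalKrullDim (PrimeSpectrum A) = n) (q : PrimeSpectrum A) :
    Module.rankAtStalk (Ω[A⁄k]) q = n := by
  haveI : Algebra.FiniteType k A := inferInstance
  haveI := q.2
  have hq : Algebra.IsSmoothAt k q.asIdeal := by
    show Algebra.FormallySmooth k (Localization.AtPrime q.asIdeal)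
    haveI : Algebra.FormallySmooth A (Localization.AtPrime q.asIdeal) :=
      Algebra.FormallySmooth.of_isLocalization q.asIdeal.primeCompl
    exact Algebra.FormallySmooth.comp k A (Localization.AtPrime q.asIdeal)
  have h1 := Groth.Agent.Lib.Helper25.SmoothLocalDim.finrank_eq_localDim_of_isSmoothAt k A q.asIdeal hq
  rw [localDim_eq_topologicalKrullDim k A, hn] at h1
  rw [Module.rankAtStalk_eq]
  exact_mod_cast h1

theorem locally_isStandardSmoothOfRelativeDimension [Algebra.Smooth k A] (n : ℕ)
    (hn : topologicalKrullDim (PrimeSpectrum A) = n) :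
    RingHom.Locally (RingHom.IsStandardSmoothOfRelativeDimension n) (algebraMap k A) := by
  haveI : Algebra.FiniteType k A := inferInstance
  refine ⟨{g : A | Nontrivial (Localization.Away g) ∧
    Algebra.IsStandardSmooth k (Localization.Away g)}, ?_, ?_⟩
  · by_contra hne
    obtain ⟨m, hm, hle⟩ := Ideal.exists_le_maximal _ hne
    haveI := hm.isPrime
    have hq : Algebra.IsSmoothAt k m := by
      show Algebra.FormallySmooth k (Localization.AtPrime m)
      haveI : Algebra.FormallySmooth A (Localization.AtPrime m) :=
        Algebra.FormallySmooth.of_isLocalization m.primeCompl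
      exact Algebra.FormallySmooth.comp k A (Localization.AtPrime m)
    obtain ⟨g, hgm, hg⟩ := Algebra.IsSmoothAt.exists_notMem_isStandardSmooth (R := k) m
    apply hgm
    apply hle
    apply Ideal.subset_span
    refine ⟨?_, hg⟩
    have hdisj : Disjoint (Submonoid.powers g : Set A) (m : Set A) := by
      rw [Set.disjoint_left]
      rintro _ ⟨j, rfl⟩ hj
      exact hgm (hm.isPrime.mem_of_pow_mem j hj)
    have hp : (m.map (algebraMap A (Localization.Away g))).IsPrime :=
      IsLocalization.isPrime_of_isPrime_disjoint (Submonoid.powers g) _ _ hm.isPrime hdisj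
    exact (⟨_, hp⟩ : PrimeSpectrum (Localization.Away g)).nontrivial
  · rintro t ⟨ht1, ht2⟩
    rw [← IsScalarTower.algebraMap_eq k A (Localization.Away t),
      RingHom.isStandardSmoothOfRelativeDimension_algebraMap]
    rw [Algebra.IsStandardSmoothOfRelativeDimension.iff_of_isStandardSmooth]
    obtain ⟨q'⟩ : Nonempty (PrimeSpectrum (Localization.Away t)) := inferInstance
    have h1 := rankAtStalk_kaehler_away (A := k) t q'
    rw [rankAtStalk_kaehler_eq k A n hn] at h1
    haveI : Module.Free (Localization.Away t) (Ω[Localization.Away t⁄k]) := inferInstance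
    rw [Module.rankAtStalk_eq_finrank_of_free] at h1
    simp only [Pi.natCast_apply] at h1
    rw [← Module.finrank_eq_rank]
    simp only [Nat.cast_id] at h1
    rw [h1]

end D

end Groth.Agent.Lib.Helper25.SmoothRelDimRank
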