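import Mathlib
import Groth.Agent.Lib.Helper25.SmoothRelDimRank

set_option autoImplicit false
universe u
open TensorProduct KaehlerDifferential CategoryTheory AlgebraicGeometry

namespace Groth.Agent.Lib.Helper25.SmoothRelDimRank

section DS

/-- Dimension of a nonempty open subscheme of an irreducible scheme locally of finite type over a
field. -/
theorem topologicalKrullDim_of_isOpenImmersion {K : Type u} [Field K] {X Y : Scheme.{u}}
    (f : X ⟶ Spec (CommRingCat.of K)) [LocallyOfFiniteType f] [IrreducibleSpace X]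
    (j : Y ⟶ X) [IsOpenImmersion j] [Nonempty Y] :
    topologicalKrullDim Y = topologicalKrullDim X := by
  letI : X.Over (Spec (CommRingCat.of K)) := ⟨f⟩
  haveI : LocallyOfFiniteType (X ↘ Spec (CommRingCat.of K)) := ‹LocallyOfFiniteType f›
  obtain ⟨s, hs⟩ := Groth.Agent.Lib.Helper21.ChartPt.exists_nat_trdeg_genericPoint K X
  have h1 := Groth.Agent.Lib.Helper21.ChartPt.topologicalKrullDim_eq_of_irreducible K X s hs
  have h2 := Groth.Agent.Lib.Helper21.ChartPt.topologicalKrullDim_opens_eq_of_irreducible K X s hs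
    j.opensRange (by
      obtain ⟨y⟩ := ‹Nonempty Y›
      exact ⟨j y, ⟨y, rfl⟩⟩)
  rw [h1, ← h2]
  have hemb := j.isOpenEmbedding.isEmbedding
  exact IsHomeomorph.topologicalKrullDim_eq _ hemb.toHomeomorph.isHomeomorph

theorem smoothOfRelativeDimension_of_isIntegral {K : Type u} [Field K] {X : Scheme.{u}}
    (f : X ⟶ Spec (CommRingCat.of K)) [Smooth f] [IsIntegral X] (n : ℕ)
    (hn : topologicalKrullDim X = n) : SmoothOfRelativeDimension n f := by
  rw [IsZariskiLocalAtSource.iff_of_openCover (P := @SmoothOfRelativeDimension n)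
    X.affineOpenCover.openCover]
  intro i
  let R : CommRingCat := X.affineOpenCover.X i
  let j : Spec R ⟶ X := X.affineOpenCover.f i
  change SmoothOfRelativeDimension n (j ≫ f)
  haveI : IsOpenImmersion j := X.affineOpenCover.map_prop i
  obtain ⟨ψ, hψ⟩ : ∃ ψ : CommRingCat.of K ⟶ R, Spec.map ψ = j ≫ f :=
    ⟨Spec.preimage (j ≫ f), Spec.map_preimage (j ≫ f)⟩
  have hsm : Smooth (Spec.map ψ) := by rw [hψ]; infer_instance
  rw [← hψ, HasRingHomProperty.Spec_iff (P := @SmoothOfRelativeDimension n)]
  rw [HasRingHomProperty.Spec_iff (P := @Smooth)] at hsm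
  rcases subsingleton_or_nontrivial R with hR | hR
  · refine ⟨∅, Subsingleton.elim _ _, fun t ht => absurd ht (Set.notMem_empty t)⟩
  haveI hne : Nonempty (Spec R) := inferInstanceAs (Nonempty (PrimeSpectrum R))
  haveI : IsIntegral (Spec R) := isIntegral_of_isOpenImmersion j
  haveI : IsDomain R := (affine_isIntegral_iff R).mp inferInstance
  algebraize [ψ.hom]
  haveI : Algebra.Smooth K R := hsm
  have hdim : topologicalKrullDim (PrimeSpectrum R) = n := by
    rw [← hn]
    exact topologicalKrullDim_of_isOpenImmersion f j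
  exact locally_isStandardSmoothOfRelativeDimension K R n hdim

end DS

end Groth.Agent.Lib.Helper25.SmoothRelDimRank
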