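import Mathlib
import Groth.Agent.Lib.Helper25.SmoothRelDimScheme
import Groth.Agent.Lib.Helper6.EtaleSq

set_option autoImplicit false
universe u
open TensorProduct KaehlerDifferential CategoryTheory CategoryTheory.Limits AlgebraicGeometry

namespace Groth.Agent.Lib.Helper25.SmoothRelDimRank

/-- A scheme smooth of relative dimension `n` over a field has local dimension `n` everywhere. -/
theorem localDim_eq_of_smoothOfRelativeDimension {K : Type u} [Field K] {Z : Scheme.{u}}
    (g : Z ⟶ Spec (CommRingCat.of K)) (n : ℕ) [SmoothOfRelativeDimension n g] (z : Z) :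
    FlatMor.localDim Z z = (n : WithBot ℕ∞) := by
  let i := Z.affineOpenCover.idx z
  let R : CommRingCat := Z.affineOpenCover.X i
  let j : Spec R ⟶ Z := Z.affineOpenCover.f i
  haveI : IsOpenImmersion j := Z.affineOpenCover.map_prop i
  obtain ⟨q, hq⟩ := Z.affineOpenCover.covers z
  have hq' : j q = z := hq
  rw [← hq', ← Groth.Agent.Lib.Helper6.EtaleSq.localDim_eq_of_etale j q]
  obtain ⟨ψ, hψ⟩ : ∃ ψ : CommRingCat.of K ⟶ R, Spec.map ψ = j ≫ g :=
    ⟨Spec.preimage (j ≫ g), Spec.map_preimage (j ≫ g)⟩
  have hsm : SmoothOfRelativeDimension n (Spec.map ψ) := by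
    rw [hψ]
    exact IsZariskiLocalAtSource.comp (P := @SmoothOfRelativeDimension n) inferInstance j
  have hsm' : Smooth (Spec.map ψ) := SmoothOfRelativeDimension.smooth n _
  rw [HasRingHomProperty.Spec_iff (P := @SmoothOfRelativeDimension n)] at hsm
  rw [HasRingHomProperty.Spec_iff (P := @Smooth)] at hsm'
  algebraize [ψ.hom]
  haveI : Algebra.Smooth K R := hsm'
  haveI : Algebra.FiniteType K R := inferInstance
  haveI := q.2
  have h1 := rankAtStalk_of_locally_isStandardSmoothOfRelativeDimension (A := K) (B := R) n hsm q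
  rw [Module.rankAtStalk_eq] at h1
  have hq2 : Algebra.IsSmoothAt K q.asIdeal := by
    show Algebra.FormallySmooth K (Localization.AtPrime q.asIdeal)
    haveI : Algebra.FormallySmooth R (Localization.AtPrime q.asIdeal) :=
      Algebra.FormallySmooth.of_isLocalization q.asIdeal.primeCompl
    exact Algebra.FormallySmooth.comp K R (Localization.AtPrime q.asIdeal)
  have h2 := Groth.Agent.Lib.Helper25.SmoothLocalDim.finrank_eq_localDim_of_isSmoothAt K R q.asIdeal hq2
  change FlatMor.localDim (PrimeSpectrum R) q = _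
  rw [← h1]
  exact h2.symm

end Groth.Agent.Lib.Helper25.SmoothRelDimRank
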