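import Mathlib
import Groth.Agent.Lib.Helper25.IrrCompDim
import Groth.Agent.Lib.Helper25.SmoothLocalDimScheme

set_option autoImplicit false
universe u
open CategoryTheory CategoryTheory.Limits AlgebraicGeometry TopologicalSpace

namespace Groth.Agent.Lib.Helper25.SmoothFibreComp

theorem exists_noetherian_nhd (Z : Scheme.{u}) [IsLocallyNoetherian Z] (x : Z) :
    ∃ U ∈ nhds x, NoetherianSpace (U : Set Z) := by
  obtain ⟨_, ⟨U, hU, rfl⟩, hxU, -⟩ :=
    Z.isBasis_affineOpens.exists_subset_of_mem_open (Set.mem_univ x) isOpen_univ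
  refine ⟨U, U.2.mem_nhds hxU, ?_⟩
  haveI : IsNoetherianRing Γ(Z, U) := IsLocallyNoetherian.component_noetherian ⟨U, hU⟩
  exact noetherianSpace_of_isAffineOpen U hU

/-- Each irreducible component of a scheme smooth of relative dimension `n` over a field has
dimension `n`. -/
theorem topologicalKrullDim_irreducibleComponent {K : Type u} [Field K] {Z : Scheme.{u}}
    (g : Z ⟶ Spec (CommRingCat.of K)) (n : ℕ) [SmoothOfRelativeDimension n g]
    (C : Set Z) (hC : C ∈ irreducibleComponents Z) :
    topologicalKrullDim ↥C = (n : WithBot ℕ∞) := by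
  haveI : Smooth g := SmoothOfRelativeDimension.smooth n g
  haveI : IsLocallyNoetherian Z := LocallyOfFiniteType.isLocallyNoetherian g
  exact Groth.Agent.Lib.Helper25.IrrCompDim.topologicalKrullDim_irreducibleComponent_eq
    (exists_noetherian_nhd Z) n
    (fun z => Groth.Agent.Lib.Helper25.SmoothRelDimRank.localDim_eq_of_smoothOfRelativeDimension g n z)
    C hC

end Groth.Agent.Lib.Helper25.SmoothFibreComp
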