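import Mathlib

/-!
# Flat + unramified local homomorphisms essentially of finite type are formally smooth (helper25)
-/

set_option autoImplicit false
universe u

open IsLocalRing TensorProduct Algebra

namespace Groth.Agent.Lib.Helper25.LocalFlatUnram

/-- Let `R → S` be a flat local homomorphism of local rings, essentially of finite type, with `R`
Noetherian. If `S` is formally unramified over `R` then it is formally smooth (hence formally étale)
over `R`. -/
theorem formallySmooth_of_flat_of_formallyUnramified {R S : Type u} [CommRing R] [CommRing S]
    [Algebra R S] [IsLocalRing R] [IsLocalRing S] [IsLocalHom (algebraMap R S)]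
    [IsNoetherianRing R] [Algebra.EssFiniteType R S] [Module.Flat R S]
    [Algebra.FormallyUnramified R S] : Algebra.FormallySmooth R S := by
  let P := EssFiniteType.subalgebra R S
  have hfp : Algebra.FinitePresentation R P := Algebra.FinitePresentation.of_finiteType.mp inferInstance
  have : EssFiniteType (ResidueField R) (ResidueField R ⊗[R] S) := inferInstance
  have : FormallyUnramified (ResidueField R) (ResidueField R ⊗[R] S) := inferInstance
  have : FormallyEtale (ResidueField R) (ResidueField R ⊗[R] S) :=
    FormallyEtale.of_formallyUnramified_of_field _ _
  exact FormallySmooth.of_formallySmooth_residueField_tensor (R := R) (S := S) (P := P)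
    (EssFiniteType.submonoid R S)

end Groth.Agent.Lib.Helper25.LocalFlatUnram
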