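import Mathlib
import Groth.Agent.Lib.Helper25.DualPoint
import Groth.Agent.Lib.Helper25.LocalFlatUnram
import Groth.Agent.Lib.Helper9.FlatCrit2

/-!
Ring-level input for "the `n`-th power map of a group scheme is étale at the unit" (helper25).

`flat_quot_tensor`: if `R → S` is bijective modulo `I`, then `(R/I) ⊗ S` is flat over `R/I`.
-/

set_option autoImplicit false
universe u
open IsLocalRing TensorProduct

namespace Groth.Agent.Lib.Helper25.PowRing

theorem flat_quot_tensor {R S : Type u} [CommRing R] [CommRing S] [Algebra R S] (I : Ideal R)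
    (hinj : ∀ r : R, algebraMap R S r ∈ I.map (algebraMap R S) → r ∈ I)
    (hsurj : ∀ s : S, ∃ r : R, algebraMap R S r - s ∈ I.map (algebraMap R S)) :
    Module.Flat (R ⧸ I) ((R ⧸ I) ⊗[R] S) := by
  let g : (R ⧸ I) →ₗ[R ⧸ I] (R ⧸ I) ⊗[R] S := LinearMap.toSpanSingleton (R ⧸ I) _ (1 ⊗ₜ 1)
  have hg : ∀ r : R, g (Ideal.Quotient.mk I r) = (Ideal.Quotient.mk I r) ⊗ₜ[R] (1 : S) := by
    intro r
    simp only [g, LinearMap.toSpanSingleton_apply, TensorProduct.smul_tmul', smul_eq_mul, mul_one]
  have hmap : ∀ t : S, t ∈ I.map (algebraMap R S) ↔ t ∈ (I • ⊤ : Submodule R S) := by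
    intro t
    rw [Ideal.smul_top_eq_map]
    rfl
  have key : ∀ t ∈ (I • ⊤ : Submodule R S), ∀ rb : R ⧸ I, rb ⊗ₜ[R] t = 0 := by
    intro t ht rb
    refine Submodule.smul_induction_on ht (fun i hi s _ => ?_) (fun x y hx hy => ?_)
    · rw [← TensorProduct.smul_tmul]
      obtain ⟨r, rfl⟩ := Ideal.Quotient.mk_surjective rb
      have : i • (Ideal.Quotient.mk I r) = 0 := by
        have h0 : i • (Ideal.Quotient.mk I r) = Ideal.Quotient.mk I (i * r) := rfl
        rw [h0, Ideal.Quotient.eq_zero_iff_mem]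
        exact I.mul_mem_right r hi
      rw [this, zero_tmul]
    · rw [tmul_add, hx, hy, add_zero]
  have hginj : Function.Injective g := by
    rw [injective_iff_map_eq_zero]
    intro rb h
    obtain ⟨r, rfl⟩ := Ideal.Quotient.mk_surjective rb
    rw [hg] at h
    have := congrArg (TensorProduct.quotTensorEquivQuotSMul S I) h
    rw [quotTensorEquivQuotSMul_mk_tmul, map_zero, Submodule.Quotient.mk_eq_zero] at this
    rw [Ideal.Quotient.eq_zero_iff_mem]
    apply hinj
    rw [Algebra.algebraMap_eq_smul_one, hmap]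
    exact this
  have hgsurj : Function.Surjective g := by
    intro z
    induction z using TensorProduct.induction_on with
    | zero => exact ⟨0, map_zero _⟩
    | tmul rb s =>
      obtain ⟨r, rfl⟩ := Ideal.Quotient.mk_surjective rb
      obtain ⟨x, hx⟩ := hsurj s
      refine ⟨Ideal.Quotient.mk I (x * r), ?_⟩
      rw [hg]
      have h1 : (Ideal.Quotient.mk I (x * r)) ⊗ₜ[R] (1 : S) =
          (Ideal.Quotient.mk I r) ⊗ₜ[R] (algebraMap R S x) := by
        rw [Algebra.algebraMap_eq_smul_one, ← TensorProduct.smul_tmul]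
        rfl
      rw [h1]
      have h2 := key _ ((hmap _).mp hx) (Ideal.Quotient.mk I r)
      rw [tmul_sub, sub_eq_zero] at h2
      exact h2
    | add x y hx hy =>
      obtain ⟨a, rfl⟩ := hx
      obtain ⟨b, rfl⟩ := hy
      exact ⟨a + b, map_add _ _ _⟩
  exact Module.Flat.of_linearEquiv (LinearEquiv.ofBijective g ⟨hginj, hgsurj⟩).symm

end Groth.Agent.Lib.Helper25.PowRing
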