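import Mathlib
import Groth.Agent.Lib.Helper25.PowRing1

/-!
Ring-level input for "the `n`-th power map of a group scheme is étale at the unit" (helper25).

`R`, `S` local `K`-algebras with `K`-rational closed points, `e : R ≃ S` an isomorphism and
`φ : R → S` a local `K`-algebra map with `φ x ≡ n • e x` modulo `𝔪²` for `x ∈ 𝔪`, `n` invertible in
`K`.  Then `φ` is formally étale (flat by the local criterion, and unramified).
-/

set_option autoImplicit false
universe u
open IsLocalRing TensorProduct

namespace Groth.Agent.Lib.Helper25.PowRing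

open Groth.Agent.Lib.Helper25

section
variable {K R S : Type u} [Field K] [CommRing R] [CommRing S] [IsLocalRing R] [IsLocalRing S]
  [Algebra K R] [Algebra K S] (εR : R →ₐ[K] K) (εS : S →ₐ[K] K) (e : R ≃ₐ[K] S) (φ : R →ₐ[K] S)
  (n : ℕ)

theorem equiv_mem_iff (x : R) : e x ∈ maximalIdeal S ↔ x ∈ maximalIdeal R := by
  rw [mem_maximalIdeal, mem_maximalIdeal, mem_nonunits_iff, mem_nonunits_iff]
  exact not_congr (MulEquiv.isUnit_map e)

theorem comap_pow_eq (j : ℕ) :
    (maximalIdeal S ^ j).comap (e : R ≃+* S) = maximalIdeal R ^ j := by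
  have h1 : (maximalIdeal S).comap (e : R ≃+* S) = maximalIdeal R := by
    ext x
    rw [Ideal.mem_comap]
    exact equiv_mem_iff e x
  rw [← Ideal.map_symm, Ideal.map_pow, Ideal.map_symm, h1]

theorem equiv_mem_pow_iff (j : ℕ) (x : R) :
    e x ∈ maximalIdeal S ^ j ↔ x ∈ maximalIdeal R ^ j := by
  rw [← comap_pow_eq e j]
  rfl

include εR εS in
theorem map_mem (hφ : ∀ x, εS (φ x) = εR x) {x : R} (hx : x ∈ maximalIdeal R) :
    φ x ∈ maximalIdeal S := by
  rw [← DualPoint.ker_eq_maximalIdeal εS, RingHom.mem_ker]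
  change εS (φ x) = 0
  rw [hφ]
  exact DualPoint.apply_eq_zero_of_mem εR hx

include εR εS in
theorem congr_zero (hφ : ∀ x, εS (φ x) = εR x) (x : R) : φ x - e x ∈ maximalIdeal S := by
  have h1 := DualPoint.sub_mem εR x
  have : φ x - e x = φ (x - algebraMap K R (εR x)) - e (x - algebraMap K R (εR x)) := by
    simp only [map_sub, AlgHom.commutes, AlgEquiv.commutes]
    ring
  rw [this]
  exact _root_.sub_mem (map_mem εR εS φ hφ h1) ((equiv_mem_iff e _).mpr h1)

include εR εS in
theorem congr_pos (hφ : ∀ x, εS (φ x) = εR x)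
    (H : ∀ x ∈ maximalIdeal R, φ x - (n : S) * e x ∈ maximalIdeal S ^ 2) (j : ℕ) (hj : 0 < j) :
    ∀ x ∈ maximalIdeal R ^ j, φ x - (n : S) ^ j * e x ∈ maximalIdeal S ^ (j + 1) := by
  induction j, hj using Nat.le_induction with
  | base =>
    intro x hx
    have := H x (by simpa using hx)
    simpa using this
  | succ j hj ih =>
    intro x hx
    rw [pow_succ] at hx
    refine Submodule.mul_induction_on hx (fun a ha b hb => ?_) (fun a b ha hb => ?_)
    · have h0 : φ (a * b) - (n : S) ^ (j + 1) * e (a * b) =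
          (φ a - (n : S) ^ j * e a) * φ b + ((n : S) ^ j * e a) * (φ b - n * e b) := by
        simp only [map_mul]
        ring
      rw [h0]
      refine add_mem ?_ ?_
      · rw [pow_succ (maximalIdeal S) (j + 1)]
        exact Ideal.mul_mem_mul (ih a ha) (map_mem εR εS φ hφ hb)
      · have h1 : maximalIdeal S ^ (j + 1 + 1) = maximalIdeal S ^ j * maximalIdeal S ^ 2 := by
          rw [← pow_add]
        rw [h1]
        exact Ideal.mul_mem_mul (Ideal.mul_mem_left _ _ ((equiv_mem_pow_iff e j a).mpr ha)) (H b hb)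
    · have h0 : φ (a + b) - (n : S) ^ (j + 1) * e (a + b) =
          (φ a - (n : S) ^ (j + 1) * e a) + (φ b - (n : S) ^ (j + 1) * e b) := by
        simp only [map_add]
        ring
      rw [h0]
      exact add_mem ha hb

include εR εS in
theorem congr_all (hφ : ∀ x, εS (φ x) = εR x)
    (H : ∀ x ∈ maximalIdeal R, φ x - (n : S) * e x ∈ maximalIdeal S ^ 2) (j : ℕ) :
    ∀ x ∈ maximalIdeal R ^ j, φ x - (n : S) ^ j * e x ∈ maximalIdeal S ^ (j + 1) := by
  rcases Nat.eq_zero_or_pos j with rfl | hj
  · intro x _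
    simpa using congr_zero εR εS e φ hφ x
  · exact congr_pos εR εS e φ n hφ H j hj

theorem isUnit_natCast (hn : (n : K) ≠ 0) : IsUnit (n : S) := by
  have : (n : S) = algebraMap K S (n : K) := (map_natCast _ n).symm
  rw [this]
  exact (IsUnit.mk0 _ hn).map _

include εR εS in
theorem mem_pow_of_map_mem (hφ : ∀ x, εS (φ x) = εR x)
    (H : ∀ x ∈ maximalIdeal R, φ x - (n : S) * e x ∈ maximalIdeal S ^ 2) (hn : (n : K) ≠ 0)
    (N : ℕ) (x : R) (hx : φ x ∈ maximalIdeal S ^ N) : x ∈ maximalIdeal R ^ N := by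
  have hunit : IsUnit (n : S) := isUnit_natCast (K := K) n hn
  have : ∀ j ≤ N, x ∈ maximalIdeal R ^ j := by
    intro j
    induction j with
    | zero =>
      intro _
      simp
    | succ j ih =>
      intro hj
      have hxj := ih (Nat.le_of_succ_le hj)
      have h1 := congr_all εR εS e φ n hφ H j x hxj
      have h2 : φ x ∈ maximalIdeal S ^ (j + 1) := Ideal.pow_le_pow_right hj hx
      have h3 : (n : S) ^ j * e x ∈ maximalIdeal S ^ (j + 1) := by
        have := _root_.sub_mem h2 h1
        simpa using this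
      rw [← equiv_mem_pow_iff e]
      exact (Ideal.unit_mul_mem_iff_mem _ (hunit.pow j)).mp h3
  exact this N le_rfl

include εR εS in
theorem exists_map_sub_mem (hφ : ∀ x, εS (φ x) = εR x)
    (H : ∀ x ∈ maximalIdeal R, φ x - (n : S) * e x ∈ maximalIdeal S ^ 2) (hn : (n : K) ≠ 0)
    (N : ℕ) (y : S) : ∃ x : R, φ x - y ∈ maximalIdeal S ^ N := by
  induction N with
  | zero => exact ⟨0, by simp⟩
  | succ N ih =>
    obtain ⟨x, hx⟩ := ih
    have hw : e.symm (φ x - y) ∈ maximalIdeal R ^ N := by
      rw [← equiv_mem_pow_iff e, AlgEquiv.apply_symm_apply]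
      exact hx
    have h1 := congr_all εR εS e φ n hφ H N _ hw
    rw [AlgEquiv.apply_symm_apply] at h1
    let c : K := ((n : K) ^ N)⁻¹
    have hc : algebraMap K S c * (n : S) ^ N = 1 := by
      have : (n : S) = algebraMap K S (n : K) := (map_natCast _ n).symm
      rw [this, ← map_pow, ← map_mul, inv_mul_cancel₀ (pow_ne_zero _ hn), map_one]
    refine ⟨x - c • e.symm (φ x - y), ?_⟩
    have h2 : φ (x - c • e.symm (φ x - y)) - y =
        - (algebraMap K S c) * (φ (e.symm (φ x - y)) - (n : S) ^ N * (φ x - y)) := by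
      rw [map_sub, map_smul, Algebra.smul_def]
      linear_combination (-(φ x - y)) * hc
    rw [h2]
    exact Ideal.mul_mem_left _ _ h1

include εR εS in
theorem map_maximalIdeal_eq [IsNoetherianRing S] (hφ : ∀ x, εS (φ x) = εR x)
    (H : ∀ x ∈ maximalIdeal R, φ x - (n : S) * e x ∈ maximalIdeal S ^ 2) (hn : (n : K) ≠ 0) :
    (maximalIdeal R).map (φ : R →+* S) = maximalIdeal S := by
  apply le_antisymm
  · rw [Ideal.map_le_iff_le_comap]
    intro x hx
    exact map_mem εR εS φ hφ hx
  · apply Submodule.le_of_le_smul_of_le_jacobson_bot (I := maximalIdeal S)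
      (IsNoetherian.noetherian _) (by rw [jacobson_eq_maximalIdeal ⊥ bot_ne_top])
    intro y hy
    have hw : e.symm y ∈ maximalIdeal R := by
      rw [← equiv_mem_iff e, AlgEquiv.apply_symm_apply]
      exact hy
    have h1 := H _ hw
    rw [AlgEquiv.apply_symm_apply] at h1
    let c : K := (n : K)⁻¹
    have hc : algebraMap K S c * (n : S) = 1 := by
      have : (n : S) = algebraMap K S (n : K) := (map_natCast _ n).symm
      rw [this, ← map_mul, inv_mul_cancel₀ hn, map_one]
    rw [Submodule.mem_sup]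
    refine ⟨algebraMap K S c * φ (e.symm y), Ideal.mul_mem_left _ _ (Ideal.mem_map_of_mem _ hw),
      - algebraMap K S c * (φ (e.symm y) - (n : S) * y), ?_, ?_⟩
    · rw [smul_eq_mul, ← pow_two]
      exact Ideal.mul_mem_left _ _ h1
    · linear_combination y * hc

end

end Groth.Agent.Lib.Helper25.PowRing
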