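import Mathlib
import Groth.Agent.Lib.Helper25.PowRing2

/-!
Ring-level input for "the `n`-th power map of a group scheme is étale at the unit" (helper25):
main statement.
-/

set_option autoImplicit false
universe u
open IsLocalRing TensorProduct

namespace Groth.Agent.Lib.Helper25.PowRing

open Groth.Agent.Lib.Helper25

variable {K R S : Type u} [Field K] [CommRing R] [CommRing S] [IsLocalRing R] [IsLocalRing S]
  [Algebra K R] [Algebra K S] (εR : R →ₐ[K] K) (εS : S →ₐ[K] K) (e : R ≃ₐ[K] S) (φ : R →ₐ[K] S)
  (n : ℕ)

include εR εS e in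
theorem main [IsNoetherianRing R] [IsNoetherianRing S] [Algebra.EssFiniteType K S]
    (hφ : ∀ x, εS (φ x) = εR x)
    (H : ∀ x ∈ maximalIdeal R, φ x - (n : S) * e x ∈ maximalIdeal S ^ 2) (hn : (n : K) ≠ 0) :
    (φ : R →+* S).FormallySmooth ∧ (φ : R →+* S).FormallyUnramified := by
  algebraize [(φ : R →+* S)]
  have hmap : (maximalIdeal R).map (algebraMap R S) = maximalIdeal S :=
    map_maximalIdeal_eq εR εS e φ n hφ H hn
  have : IsScalarTower K R S := IsScalarTower.of_algebraMap_eq (fun c => (φ.commutes c).symm)
  have : Algebra.EssFiniteType R S := Algebra.EssFiniteType.of_comp K R S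
  have hloc : IsLocalHom (algebraMap R S) :=
    ((local_hom_TFAE (algebraMap R S)).out 0 2 rfl rfl).mpr hmap.le
  have hflat : Module.Flat R S := by
    apply Groth.Agent.Lib.Helper9.flat_of_injOnTorsion_pow (S := S) (maximalIdeal R)
    · rw [hmap, jacobson_eq_maximalIdeal ⊥ bot_ne_top]
    · intro N hN
      have : Module.Flat (R ⧸ maximalIdeal R ^ N) ((R ⧸ maximalIdeal R ^ N) ⊗[R] S) := by
        apply flat_quot_tensor (maximalIdeal R ^ N)
        · intro r hr
          rw [Ideal.map_pow, hmap] at hr
          exact mem_pow_of_map_mem εR εS e φ n hφ H hn N r hr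
        · intro s
          rw [Ideal.map_pow, hmap]
          exact exists_map_sub_mem εR εS e φ n hφ H hn N s
      exact Groth.Agent.Lib.Helper9.injOnTorsion_of_flat
  have hunr : Algebra.FormallyUnramified R S := by
    have : Algebra.IsSeparable (ResidueField R) (ResidueField S) := by
      refine ⟨fun y => ?_⟩
      obtain ⟨s, rfl⟩ := residue_surjective y
      have h1 : residue S s = algebraMap (ResidueField R) (ResidueField S)
          (residue R (algebraMap K R (εS s))) := by
        rw [DualPoint.residue_eq εS s]
        change _ = residue S (algebraMap R S (algebraMap K R (εS s)))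
        rw [← IsScalarTower.algebraMap_apply]
        rfl
      rw [h1]
      exact isSeparable_algebraMap _
    exact Algebra.FormallyUnramified.of_map_maximalIdeal hmap
  have hsm : Algebra.FormallySmooth R S :=
    LocalFlatUnram.formallySmooth_of_flat_of_formallyUnramified
  exact ⟨hsm, hunr⟩

end Groth.Agent.Lib.Helper25.PowRing
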