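import Mathlib
import Groth.Agent.Lib.Helper25.PowRing3

/-!
Ring-level converse for the power map (helper25): if `φ ≡ n • e` mod `𝔪²` with `n = 0` in `K` and
`φ` is formally unramified, then the maximal ideal of the target is zero.
-/

set_option autoImplicit false
universe u
open IsLocalRing TensorProduct

namespace Groth.Agent.Lib.Helper25.PowRing

open Groth.Agent.Lib.Helper25

variable {K R S : Type u} [Field K] [CommRing R] [CommRing S] [IsLocalRing R] [IsLocalRing S]
  [Algebra K R] [Algebra K S] (εR : R →ₐ[K] K) (εS : S →ₐ[K] K) (e : R ≃ₐ[K] S) (φ : R →ₐ[K] S)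
  (n : ℕ)

include εR εS e in
theorem maximalIdeal_eq_bot_of_unramified [IsNoetherianRing S] [Algebra.EssFiniteType K S]
    (hφ : ∀ x, εS (φ x) = εR x)
    (H : ∀ x ∈ maximalIdeal R, φ x - (n : S) * e x ∈ maximalIdeal S ^ 2) (hn : (n : K) = 0)
    (hu : (φ : R →+* S).FormallyUnramified) : maximalIdeal S = ⊥ := by
  have hnS : (n : S) = 0 := by
    have : (n : S) = algebraMap K S (n : K) := (map_natCast _ n).symm
    rw [this, hn, map_zero]
  algebraize [(φ : R →+* S)]
  have : IsScalarTower K R S := IsScalarTower.of_algebraMap_eq (fun c => (φ.commutes c).symm)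
  have : Algebra.EssFiniteType R S := Algebra.EssFiniteType.of_comp K R S
  have hle : (maximalIdeal R).map (algebraMap R S) ≤ maximalIdeal S := by
    rw [Ideal.map_le_iff_le_comap]
    intro x hx
    exact map_mem εR εS φ hφ hx
  have hloc : IsLocalHom (algebraMap R S) :=
    ((local_hom_TFAE (algebraMap R S)).out 0 2 rfl rfl).mpr hle
  have hu' : Algebra.FormallyUnramified R S := hu
  have hmap : (maximalIdeal R).map (algebraMap R S) = maximalIdeal S :=
    Algebra.FormallyUnramified.map_maximalIdeal
  have hle2 : (maximalIdeal R).map (algebraMap R S) ≤ maximalIdeal S ^ 2 := by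
    rw [Ideal.map_le_iff_le_comap]
    intro x hx
    have := H x hx
    rw [hnS, zero_mul, sub_zero] at this
    exact this
  have h3 : maximalIdeal S ≤ maximalIdeal S • maximalIdeal S := by
    rw [hmap] at hle2
    rw [smul_eq_mul, ← pow_two]
    exact hle2
  exact Submodule.eq_bot_of_le_smul_of_le_jacobson_bot (maximalIdeal S) (maximalIdeal S)
    (IsNoetherian.noetherian _) h3 (by rw [jacobson_eq_maximalIdeal ⊥ bot_ne_top])

end Groth.Agent.Lib.Helper25.PowRing
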