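import Mathlib
import Groth.Agent.Lib.Helper25.GrpTangent

/-!
Tangent points of a monoid scheme at the unit: the product of two dual-number points centred at the
unit is their sum (Eckmann–Hilton), and powers are multiples (helper25).
-/

set_option autoImplicit false
universe u
open CategoryTheory MonoidalCategory CartesianMonoidalCategory MonObj AlgebraicGeometry IsLocalRing

namespace Groth.Agent.Lib.Helper25.PowTangent

open Groth.Agent.Lib.Helper25.GrpTangent

section tsz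

variable (K : Type u) [Field K] (M : Type u) [AddCommGroup M] [Module K M] [Module Kᵐᵒᵖ M]
  [IsCentralScalar K M]

/-- `K ⊕ M` with `M² = 0`, as an object of `CommRingCat`. -/
abbrev dM : CommRingCat.{u} := CommRingCat.of (TrivSqZeroExt K M)

instance : IsLocalRing (dM K M) := by
  apply IsLocalRing.of_isUnit_or_isUnit_one_sub_self
  intro a
  rw [TrivSqZeroExt.isUnit_iff_isUnit_fst, TrivSqZeroExt.isUnit_iff_isUnit_fst,
    TrivSqZeroExt.fst_sub, TrivSqZeroExt.fst_one]
  exact IsLocalRing.isUnit_or_isUnit_one_sub_self a.fst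

/-- `inl : K → K ⊕ M`. -/
abbrev inlM : CommRingCat.of K ⟶ dM K M := CommRingCat.ofHom (TrivSqZeroExt.inlHom K M)

/-- `fst : K ⊕ M → K`. -/
abbrev fstM : dM K M ⟶ CommRingCat.of K :=
  CommRingCat.ofHom (TrivSqZeroExt.fstHom K K M).toRingHom

variable {K M} {N P : Type u} [AddCommGroup N] [Module K N] [Module Kᵐᵒᵖ N]
  [IsCentralScalar K N] [AddCommGroup P] [Module K P] [Module Kᵐᵒᵖ P] [IsCentralScalar K P]

/-- Functoriality in the module. -/
abbrev mapM (f : M →ₗ[K] N) : dM K M ⟶ dM K N :=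
  CommRingCat.ofHom (TrivSqZeroExt.map f).toRingHom

theorem inlM_fstM : inlM K M ≫ fstM K M = 𝟙 _ := by
  apply CommRingCat.hom_ext
  refine RingHom.ext fun x => ?_
  rfl

theorem inlM_mapM (f : M →ₗ[K] N) : inlM K M ≫ mapM f = inlM K N := by
  apply CommRingCat.hom_ext
  refine RingHom.ext fun x => ?_
  exact TrivSqZeroExt.map_inl f x

theorem mapM_fstM (f : M →ₗ[K] N) : mapM f ≫ fstM K N = fstM K M := by
  apply CommRingCat.hom_ext
  refine RingHom.ext fun x => ?_
  exact TrivSqZeroExt.fst_map f x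

theorem mapM_comp (f : M →ₗ[K] N) (g : N →ₗ[K] P) : mapM f ≫ mapM g = mapM (g ∘ₗ f) := by
  apply CommRingCat.hom_ext
  refine RingHom.ext fun x => ?_
  apply TrivSqZeroExt.ext
  · simp
  · simp

theorem mapM_id : mapM (LinearMap.id : M →ₗ[K] M) = 𝟙 _ := by
  apply CommRingCat.hom_ext
  refine RingHom.ext fun x => ?_
  apply TrivSqZeroExt.ext
  · simp
  · simp

theorem mapM_zero : mapM (0 : M →ₗ[K] N) = fstM K M ≫ inlM K N := by
  apply CommRingCat.hom_ext
  refine RingHom.ext fun x => ?_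
  apply TrivSqZeroExt.ext
  · simp
  · simp

theorem snd_mapM (f : M →ₗ[K] N) (x : dM K M) : ((mapM f).hom x).snd = f x.snd :=
  TrivSqZeroExt.snd_map f x

end tsz

section pts

variable {K : Type u} [Field K] (G : Over (Spec (CommRingCat.of K))) [MonObj G]

/-- Closed point criterion: a point of `G` with values in a local `K`-algebra `R` with a retraction
`ρ : R → K` whose reduction is the unit is centred at the unit. -/
theorem closedPoint_eq_e {R : CommRingCat.{u}} [IsLocalRing R] (a : CommRingCat.of K ⟶ R)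
    (ρ : R ⟶ CommRingCat.of K) (hρ : a ≫ ρ = 𝟙 _) (p : Over.mk (Spec.map a) ⟶ G)
    (hp : res a (𝟙 _) ρ hρ ≫ p = 1) : p.left (closedPoint R) = e G := by
  have hsurj : Function.Surjective ρ.hom := by
    intro k
    refine ⟨a.hom k, ?_⟩
    have := congrArg (fun f => f.hom k) hρ
    exact this
  rw [← closedPoint_eq_of_surjective ρ hsurj]
  rw [one_eq_pt] at hp
  have := congrArg (fun q => q.left (closedPoint K)) hp
  simp only [Over.comp_left, pt_left, res, Over.homMk_left] at this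
  rw [Category.comp_id, Spec_map_aug] at this
  exact this

variable (M : Type u) [AddCommGroup M] [Module K M] [Module Kᵐᵒᵖ M] [IsCentralScalar K M]

/-- Tangent points: `K`-algebra maps `O_{G,e} → K ⊕ M` reducing to the augmentation. -/
structure IsTan (v : A G ⟶ dM K M) : Prop where
  str_comp : str G ≫ v = inlM K M
  comp_fst : v ≫ fstM K M = aug G

open Classical in
/-- The point attached to a tangent point (total version). -/
noncomputable def tq (v : A G ⟶ dM K M) : Over.mk (Spec.map (inlM K M)) ⟶ G :=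
  if h : str G ≫ v = inlM K M then pt G (inlM K M) v h else 1

variable {M}

theorem tq_eq {v : A G ⟶ dM K M} (h : str G ≫ v = inlM K M) :
    tq G M v = pt G (inlM K M) v h := dif_pos h

theorem isTan_one : IsTan G M (aug G ≫ inlM K M) where
  str_comp := by rw [← Category.assoc, str_aug, Category.id_comp]
  comp_fst := by rw [Category.assoc, inlM_fstM, Category.comp_id]

theorem tq_one : tq G M (aug G ≫ inlM K M) = 1 := by
  rw [tq_eq G (isTan_one G).str_comp, one_eq_pt]

variable {N : Type u} [AddCommGroup N] [Module K N] [Module Kᵐᵒᵖ N] [IsCentralScalar K N]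

theorem IsTan.comp {v : A G ⟶ dM K M} (h : IsTan G M v) (f : M →ₗ[K] N) :
    IsTan G N (v ≫ mapM f) where
  str_comp := by rw [← Category.assoc, h.str_comp, inlM_mapM]
  comp_fst := by rw [Category.assoc, mapM_fstM, h.comp_fst]

/-- Restriction along `mapM f`. -/
noncomputable abbrev resM (f : M →ₗ[K] N) :
    (Over.mk (Spec.map (inlM K N)) : Over (Spec (CommRingCat.of K))) ⟶
      Over.mk (Spec.map (inlM K M)) :=
  res (inlM K M) (inlM K N) (mapM f) (inlM_mapM f)

theorem resM_tq (f : M →ₗ[K] N) {v : A G ⟶ dM K M} (h : str G ≫ v = inlM K M) :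
    resM f ≫ tq G M v = tq G N (v ≫ mapM f) := by
  have h' : str G ≫ v ≫ mapM f = inlM K N := by rw [← Category.assoc, h, inlM_mapM]
  rw [tq_eq G h, tq_eq G h', res_pt]

theorem tq_injective {v v' : A G ⟶ dM K M} (h : str G ≫ v = inlM K M)
    (h' : str G ≫ v' = inlM K M) (H : tq G M v = tq G M v') : v = v' := by
  rw [tq_eq G h, tq_eq G h'] at H
  exact pt_injective G _ _ _ _ _ H

theorem exists_tq (p : Over.mk (Spec.map (inlM K M)) ⟶ G)
    (hp : res (inlM K M) (𝟙 _) (fstM K M) inlM_fstM ≫ p = 1) :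
    ∃ v : A G ⟶ dM K M, IsTan G M v ∧ p = tq G M v := by
  have hpe := closedPoint_eq_e G (inlM K M) (fstM K M) inlM_fstM p hp
  obtain ⟨v, hv, hpv⟩ := exists_pt G (inlM K M) p hpe
  refine ⟨v, ⟨hv, ?_⟩, by rw [tq_eq G hv]; exact hpv⟩
  rw [hpv, res_pt, one_eq_pt] at hp
  have := pt_injective G _ _ _ _ _ hp
  rw [this]
  exact Category.comp_id _

theorem res_fst_tq {v : A G ⟶ dM K M} (h : IsTan G M v) :
    res (inlM K M) (𝟙 _) (fstM K M) inlM_fstM ≫ tq G M v = 1 := by
  rw [tq_eq G h.str_comp, res_pt, one_eq_pt]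
  exact pt_congr G _ _ (by rw [h.comp_fst]; exact (Category.comp_id _).symm)

/-- Eckmann–Hilton: the product of two tangent points is their sum. -/
theorem exists_mul (v₁ v₂ : A G ⟶ dM K M) (h₁ : IsTan G M v₁) (h₂ : IsTan G M v₂) :
    ∃ χ : A G ⟶ dM K M, IsTan G M χ ∧ tq G M v₁ * tq G M v₂ = tq G M χ ∧
      ∀ x, (χ.hom x).snd = (v₁.hom x).snd + (v₂.hom x).snd := by
  let i₁ : M →ₗ[K] M × M := LinearMap.inl K M M
  let i₂ : M →ₗ[K] M × M := LinearMap.inr K M M
  have hΦ₁ : IsTan G (M × M) (v₁ ≫ mapM i₁) := h₁.comp G i₁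
  have hΦ₂ : IsTan G (M × M) (v₂ ≫ mapM i₂) := h₂.comp G i₂
  let p := tq G (M × M) (v₁ ≫ mapM i₁) * tq G (M × M) (v₂ ≫ mapM i₂)
  have hp : res (inlM K (M × M)) (𝟙 _) (fstM K (M × M)) inlM_fstM ≫ p = 1 := by
    dsimp only [p]
    rw [MonObj.comp_mul, res_fst_tq G hΦ₁, res_fst_tq G hΦ₂, _root_.mul_one]
  obtain ⟨Ψ, hΨ, hpΨ⟩ := exists_tq G p hp
  have key : ∀ f : M × M →ₗ[K] M,
      tq G M (Ψ ≫ mapM f) = tq G M (v₁ ≫ mapM (f ∘ₗ i₁)) * tq G M (v₂ ≫ mapM (f ∘ₗ i₂)) := by
    intro f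
    rw [← resM_tq G f hΨ.str_comp, ← hpΨ]
    dsimp only [p]
    rw [MonObj.comp_mul, resM_tq G f hΦ₁.str_comp, resM_tq G f hΦ₂.str_comp, Category.assoc,
      Category.assoc, mapM_comp, mapM_comp]
  have e1 : v₁ ≫ mapM (LinearMap.id : M →ₗ[K] M) = v₁ := by rw [mapM_id, Category.comp_id]
  have e2 : v₂ ≫ mapM (LinearMap.id : M →ₗ[K] M) = v₂ := by rw [mapM_id, Category.comp_id]
  have z1 : v₁ ≫ mapM (0 : M →ₗ[K] M) = aug G ≫ inlM K M := by
    rw [mapM_zero, ← Category.assoc, h₁.comp_fst]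
  have z2 : v₂ ≫ mapM (0 : M →ₗ[K] M) = aug G ≫ inlM K M := by
    rw [mapM_zero, ← Category.assoc, h₂.comp_fst]
  have k1 : Ψ ≫ mapM (LinearMap.fst K M M) = v₁ := by
    apply tq_injective G ((hΨ.comp G _).str_comp) h₁.str_comp
    rw [key]
    have a1 : (LinearMap.fst K M M) ∘ₗ i₁ = LinearMap.id := LinearMap.fst_comp_inl K M M
    have a2 : (LinearMap.fst K M M) ∘ₗ i₂ = 0 := LinearMap.fst_comp_inr K M M
    rw [a1, a2, e1, z2, tq_one, _root_.mul_one]
  have k2 : Ψ ≫ mapM (LinearMap.snd K M M) = v₂ := by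
    apply tq_injective G ((hΨ.comp G _).str_comp) h₂.str_comp
    rw [key]
    have a1 : (LinearMap.snd K M M) ∘ₗ i₁ = 0 := LinearMap.snd_comp_inl K M M
    have a2 : (LinearMap.snd K M M) ∘ₗ i₂ = LinearMap.id := LinearMap.snd_comp_inr K M M
    rw [a1, a2, e2, z1, tq_one, _root_.one_mul]
  let s : M × M →ₗ[K] M := LinearMap.fst K M M + LinearMap.snd K M M
  refine ⟨Ψ ≫ mapM s, hΨ.comp G s, ?_, fun x => ?_⟩
  · rw [key]
    have a1 : s ∘ₗ i₁ = LinearMap.id := by
      ext m
      simp [s, i₁]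
    have a2 : s ∘ₗ i₂ = LinearMap.id := by
      ext m
      simp [s, i₂]
    rw [a1, a2, e1, e2]
  · have b1 : (v₁.hom x).snd = ((Ψ.hom x).snd).1 := by
      rw [← k1]
      exact snd_mapM _ _
    have b2 : (v₂.hom x).snd = ((Ψ.hom x).snd).2 := by
      rw [← k2]
      exact snd_mapM _ _
    rw [b1, b2]
    exact snd_mapM s _

/-- Powers of a tangent point are its multiples. -/
theorem exists_pow (v : A G ⟶ dM K M) (h : IsTan G M v) (m : ℕ) :
    ∃ χ : A G ⟶ dM K M, IsTan G M χ ∧ (tq G M v) ^ m = tq G M χ ∧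
      ∀ x, (χ.hom x).snd = m • (v.hom x).snd := by
  induction m with
  | zero =>
    refine ⟨aug G ≫ inlM K M, isTan_one G, by rw [pow_zero, tq_one], fun x => ?_⟩
    rw [zero_smul]
    rfl
  | succ m ih =>
    obtain ⟨χ, hχ, h1, h2⟩ := ih
    obtain ⟨χ', hχ', h1', h2'⟩ := exists_mul G χ v hχ h
    refine ⟨χ', hχ', by rw [pow_succ, h1, h1'], fun x => ?_⟩
    rw [h2', h2, succ_nsmul]

end pts

end Groth.Agent.Lib.Helper25.PowTangent
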