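import Mathlib
import Groth.Agent.Lib.Helper25.PowTangent1

/-!
The `n`-th power map of a monoid scheme over a field acts on the local ring at the unit by a map
congruent to multiplication by `n` modulo `𝔪²` (helper25).
-/

set_option autoImplicit false
universe u
open CategoryTheory MonoidalCategory CartesianMonoidalCategory MonObj AlgebraicGeometry IsLocalRing

namespace Groth.Agent.Lib.Helper25.PowTangent

open Groth.Agent.Lib.Helper25.GrpTangent Groth.Agent.Lib.Helper25

variable {K : Type u} [Field K] (G : Over (Spec (CommRingCat.of K))) [MonObj G]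

/-- The tautological point `Spec O_{G,e} → G`. -/
noncomputable def tau : Over.mk (Spec.map (str G)) ⟶ G :=
  pt G (str G) (𝟙 _) (Category.comp_id _)

theorem tau_left : (tau G).left = G.left.fromSpecStalk (e G) := by
  unfold tau
  rw [pt_left, Spec.map_id, Category.id_comp]

theorem res_tau {R : CommRingCat.{u}} (a : CommRingCat.of K ⟶ R) (φ : A G ⟶ R)
    (h : str G ≫ φ = a) : res (str G) a φ h ≫ tau G = pt G a φ h := by
  unfold tau
  rw [res_pt]
  exact pt_congr G _ _ (Category.id_comp _)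

/-- The endomorphism of the local ring at the unit induced by the `n`-th power map. -/
theorem exists_powHom (n : ℕ) :
    ∃ (φ : A G ⟶ A G) (h : str G ≫ φ = str G),
      (tau G) ^ n = pt G (str G) φ h ∧ φ ≫ aug G = aug G := by
  have hp : res (str G) (𝟙 _) (aug G) (str_aug G) ≫ (tau G) ^ n = 1 := by
    rw [MonObj.comp_pow, res_tau, pt_congr G _ _ (Category.comp_id (aug G)).symm, ← one_eq_pt,
      one_pow]
  obtain ⟨φ, hφ, hpφ⟩ := exists_pt G (str G) ((tau G) ^ n)
    (closedPoint_eq_e G (str G) (aug G) (str_aug G) _ hp)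
  refine ⟨φ, hφ, hpφ, ?_⟩
  rw [hpφ, res_pt, one_eq_pt] at hp
  have := pt_injective G _ _ _ _ _ hp
  rw [this]
  exact Category.comp_id _

variable {M : Type u} [AddCommGroup M] [Module K M] [Module Kᵐᵒᵖ M] [IsCentralScalar K M]

theorem tq_pow_eq (n : ℕ) (φ : A G ⟶ A G) (hφ : str G ≫ φ = str G)
    (hpφ : (tau G) ^ n = pt G (str G) φ hφ) (v : A G ⟶ dM K M) (hv : IsTan G M v) :
    (tq G M v) ^ n = tq G M (φ ≫ v) := by
  have h' : str G ≫ φ ≫ v = inlM K M := by rw [← Category.assoc, hφ, hv.str_comp]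
  rw [tq_eq G hv.str_comp, ← res_tau G (inlM K M) v hv.str_comp, ← MonObj.comp_pow, hpφ, res_pt,
    tq_eq G h']

theorem snd_powHom (n : ℕ) (φ : A G ⟶ A G) (hφ : str G ≫ φ = str G)
    (hpφ : (tau G) ^ n = pt G (str G) φ hφ) (v : A G ⟶ dM K M) (hv : IsTan G M v) (x : A G) :
    (v.hom (φ.hom x)).snd = n • (v.hom x).snd := by
  obtain ⟨χ, hχ, h1, h2⟩ := exists_pow G v hv n
  rw [tq_pow_eq G n φ hφ hpφ v hv] at h1
  have h' : str G ≫ φ ≫ v = inlM K M := by rw [← Category.assoc, hφ, hv.str_comp]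
  have := tq_injective G h' hχ.str_comp h1
  rw [← h2, ← this]
  rfl

/-- The key congruence: `φ x ≡ n • x` modulo `𝔪²` for `x ∈ 𝔪`. -/
theorem powHom_sub_mem (n : ℕ) (φ : A G ⟶ A G) (hφ : str G ≫ φ = str G)
    (hpφ : (tau G) ^ n = pt G (str G) φ hφ) (hφa : φ ≫ aug G = aug G) (x : A G)
    (hx : x ∈ maximalIdeal (A G)) : φ.hom x - n • x ∈ maximalIdeal (A G) ^ 2 := by
  let _ := algA G
  have hφx : φ.hom x ∈ maximalIdeal (A G) := by
    rw [← DualPoint.ker_eq_maximalIdeal (augAlg G), RingHom.mem_ker]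
    have h1 : (aug G).hom (φ.hom x) = (aug G).hom x := by
      have := congrArg (fun f => f.hom x) hφa
      exact this
    change (aug G).hom (φ.hom x) = 0
    rw [h1]
    exact DualPoint.apply_eq_zero_of_mem (augAlg G) hx
  have hy : φ.hom x - n • x ∈ maximalIdeal (A G) :=
    sub_mem hφx (Submodule.smul_of_tower_mem _ n hx)
  rw [← Ideal.toCotangent_eq_zero _ ⟨_, hy⟩]
  rw [← Module.forall_dual_apply_eq_zero_iff (ResidueField (A G))]
  intro ℓ
  let v0 := CommRingCat.ofHom (DualPoint.tangentHom (augAlg G) ℓ)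
  let v : A G ⟶ dM K K := v0
  have hv : IsTan G K v := by
    constructor
    · apply CommRingCat.hom_ext
      refine RingHom.ext fun k => ?_
      exact DualPoint.tangentHom_algebraMap (augAlg G) ℓ k
    · apply CommRingCat.hom_ext
      refine RingHom.ext fun a => ?_
      exact DualPoint.fst_tangentHom (augAlg G) ℓ a
  have h1 := snd_powHom G n φ hφ hpφ v hv x
  rw [← DualPoint.snd_tangentHom_of_mem (augAlg G) ℓ hy]
  have h2 : (DualPoint.tangentHom (augAlg G) ℓ (φ.hom x - n • x)).snd = 0 := by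
    rw [map_sub, map_nsmul, TrivSqZeroExt.snd_sub, TrivSqZeroExt.snd_smul]
    rw [sub_eq_zero]
    exact h1
  rw [h2, map_zero]

end Groth.Agent.Lib.Helper25.PowTangent
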