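import Mathlib
import Groth.Agent.Lib.Helper25.PowTangent2
import Groth.Agent.Lib.Helper25.PowRing3
import Groth.Agent.Lib.Helper25.NhdStalk

/-!
The `n`-th power map of a monoid scheme locally of finite type over a field `K` is étale near the
unit when `n` is invertible in `K` (helper25).
-/

set_option autoImplicit false
set_option linter.style.haveILetI false
universe u
open CategoryTheory MonoidalCategory CartesianMonoidalCategory MonObj AlgebraicGeometry IsLocalRing

namespace Groth.Agent.Lib.Helper25.PowTangent

open Groth.Agent.Lib.Helper25.GrpTangent Groth.Agent.Lib.Helper25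

/-- Transport of properties of a ring map inducing `f` on local spectra to the stalk map. -/
theorem stalkMap_props {X Y : Scheme.{u}} (f : X ⟶ Y) (x : X) (y : Y) (h : f x = y)
    (φ : Y.presheaf.stalk y ⟶ X.presheaf.stalk x)
    (hφ : Spec.map φ ≫ Y.fromSpecStalk y = X.fromSpecStalk x ≫ f)
    (P : φ.hom.FormallySmooth ∧ φ.hom.FormallyUnramified) :
    (f.stalkMap x).hom.FormallySmooth ∧ (f.stalkMap x).hom.FormallyUnramified := by
  subst h
  have : φ = f.stalkMap x := by
    apply Spec.map_injective
    rw [← cancel_mono (Y.fromSpecStalk (f x)), hφ, Scheme.SpecMap_stalkMap_fromSpecStalk]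
  rw [← this]
  exact P

variable {K : Type u} [Field K] (G : Over (Spec (CommRingCat.of K))) [MonObj G]

set_option backward.isDefEq.respectTransparency.types false in
theorem str_eq : str G = StructureSheaf.toStalk (CommRingCat.of K) (G.hom (e G)) ≫
    G.hom.stalkMap (e G) := by
  apply Spec.map_injective
  rw [Spec_map_str, Spec.map_comp, ← Spec.fromSpecStalk_eq']
  exact (Scheme.SpecMap_stalkMap_fromSpecStalk (f := G.hom) (x := e G)).symm

set_option backward.isDefEq.respectTransparency.types false in
theorem essFiniteType_str [LocallyOfFiniteType G.hom] : (str G).hom.EssFiniteType := by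
  rw [str_eq, CommRingCat.hom_comp]
  refine RingHom.EssFiniteType.comp ?_ (LocallyOfFiniteType.stalkMap G.hom (e G))
  rw [RingHom.EssFiniteType]
  exact Algebra.EssFiniteType.of_isLocalization _ (G.hom (e G)).asIdeal.primeCompl

theorem lfp_of_lft {X Y : Scheme.{u}} (g : X ⟶ Y) [LocallyOfFiniteType g]
    [IsLocallyNoetherian Y] : LocallyOfFinitePresentation g := by
  constructor
  intro U hU V hV e
  have : IsNoetherianRing Γ(Y, U) := IsLocallyNoetherian.component_noetherian ⟨U, hU⟩
  exact RingHom.FinitePresentation.of_finiteType.1 (g.finiteType_appLE hU hV e)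

/-- The `n`-th power map is étale near the unit when `n` is invertible in `K`. -/
theorem exists_etale_pow [LocallyOfFiniteType G.hom] (n : ℕ) (hn : (n : K) ≠ 0) :
    ∃ U : G.left.Opens, e G ∈ U ∧ Etale (U.ι ≫ ((𝟙 G : G ⟶ G) ^ n).left) := by
  set f : G.left ⟶ G.left := ((𝟙 G : G ⟶ G) ^ n).left with hf
  haveI : IsLocallyNoetherian (Spec (CommRingCat.of K)) := inferInstance
  haveI : IsLocallyNoetherian G.left := LocallyOfFiniteType.isLocallyNoetherian G.hom
  haveI : LocallyOfFiniteType f := by
    have h1 : f ≫ G.hom = G.hom := Over.w _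
    have : LocallyOfFiniteType (f ≫ G.hom) := by rw [h1]; infer_instance
    exact locallyOfFiniteType_of_comp f G.hom
  haveI : LocallyOfFinitePresentation f := lfp_of_lft f
  obtain ⟨φ, hφ, hpφ, hφa⟩ := exists_powHom G n
  have hrel : Spec.map φ ≫ G.left.fromSpecStalk (e G) = G.left.fromSpecStalk (e G) ≫ f := by
    have h1 : tau G ≫ (𝟙 G : G ⟶ G) ^ n = (tau G) ^ n := by
      rw [MonObj.comp_pow, Category.comp_id]
    have h2 := congrArg (fun p => p.left) (h1.trans hpφ)
    simp only [Over.comp_left, pt_left, tau_left] at h2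
    exact h2.symm
  have hfe : f (e G) = e G := by
    have h1 : η[G] ≫ (𝟙 G : G ⟶ G) ^ n = η[G] := by
      rw [MonObj.comp_pow, Category.comp_id, MonObj.one_eq_one, one_pow]
    have := congrArg (fun p => p.left (closedPoint K)) h1
    exact this
  rw [NhdStalk.exists_etale_nhd_iff f (e G)]
  refine stalkMap_props f (e G) (e G) hfe φ hrel ?_
  letI := algA G
  haveI : IsNoetherianRing (A G) := inferInstance
  haveI : Algebra.EssFiniteType K (A G) := essFiniteType_str G
  let φA : A G →ₐ[K] A G :=
    { φ.hom with commutes' := fun k => congrArg (fun g => g.hom k) hφ }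
  have := PowRing.main (augAlg G) (augAlg G) AlgEquiv.refl φA n ?_ ?_ hn
  · exact this
  · intro x
    exact congrArg (fun g => g.hom x) hφa
  · intro x hx
    have := powHom_sub_mem G n φ hφ hpφ hφa x hx
    rwa [nsmul_eq_mul] at this

end Groth.Agent.Lib.Helper25.PowTangent
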