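import Mathlib

/-!
Powers of a monoid endomorphism of a commutative monoid object are monoid homomorphisms (helper25).
-/

set_option autoImplicit false
universe v u
open CategoryTheory MonoidalCategory CartesianMonoidalCategory MonObj

namespace Groth.Agent.Lib.Helper25.PowTangent

theorem isMonHom_pow {C : Type u} [Category.{v} C] [CartesianMonoidalCategory C]
    [BraidedCategory C] (G : C) [MonObj G] [IsCommMonObj G] (f : G ⟶ G) [IsMonHom f] (n : ℕ) :
    IsMonHom (f ^ n) := by
  induction n with
  | zero =>
    rw [pow_zero, Hom.one_def]
    infer_instance
  | succ n ih =>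
    rw [pow_succ, Hom.mul_def]
    infer_instance

end Groth.Agent.Lib.Helper25.PowTangent
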