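import Mathlib
import Groth.Agent.Lib.Helper25.SmoothFlatDescent

set_option autoImplicit false
universe u

open TensorProduct IsLocalRing

namespace Groth.Agent.Lib.Helper25.FiberSmoothRel

local notation "𝓀[" R "]" => ResidueField R
local notation "𝓂[" R "]" => maximalIdeal R

/-- `k ⊗[R] B` as an algebra over `k ⊗[R] A`. -/
@[reducible] noncomputable def tensorAlgebra (R k A B : Type*) [CommRing R] [CommRing k]
    [CommRing A] [CommRing B] [Algebra R k] [Algebra R A] [Algebra R B] [Algebra A B]
    [IsScalarTower R A B] : Algebra (k ⊗[R] A) (k ⊗[R] B) :=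
  (Algebra.TensorProduct.map (AlgHom.id R k) (IsScalarTower.toAlgHom R A B)).toRingHom.toAlgebra

section

variable (R k A B : Type*) [CommRing R] [CommRing k]
    [CommRing A] [CommRing B] [Algebra R k] [Algebra R A] [Algebra R B] [Algebra A B]
    [IsScalarTower R A B]

attribute [local instance] tensorAlgebra

theorem tensorAlgebra_algebraMap :
    algebraMap (k ⊗[R] A) (k ⊗[R] B) =
      (Algebra.TensorProduct.map (AlgHom.id R k) (IsScalarTower.toAlgHom R A B)).toRingHom := rfl

theorem tensorAlgebra_algebraMap_tmul (c : k) (a : A) :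
    algebraMap (k ⊗[R] A) (k ⊗[R] B) (c ⊗ₜ a) = c ⊗ₜ algebraMap A B a := by
  rw [tensorAlgebra_algebraMap]; simp

instance : IsScalarTower k (k ⊗[R] A) (k ⊗[R] B) :=
  .of_algebraMap_eq fun (x : k) => by
    rw [tensorAlgebra_algebraMap, Algebra.TensorProduct.algebraMap_apply,
      Algebra.TensorProduct.algebraMap_apply]
    simp

instance : IsScalarTower R (k ⊗[R] A) (k ⊗[R] B) :=
  .of_algebraMap_eq fun (x : R) => by
    rw [tensorAlgebra_algebraMap, Algebra.TensorProduct.algebraMap_apply,
      Algebra.TensorProduct.algebraMap_apply]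
    simp

theorem tensorAlgebra_tower (C : Type*) [CommRing C] [Algebra R C] [Algebra A C] [Algebra B C]
    [IsScalarTower R A C] [IsScalarTower R B C] [IsScalarTower A B C] :
    IsScalarTower (k ⊗[R] A) (k ⊗[R] B) (k ⊗[R] C) :=
  .of_algebraMap_eq fun (x : k ⊗[R] A) => by
    induction x using TensorProduct.induction_on with
    | zero => simp
    | tmul c a =>
      rw [tensorAlgebra_algebraMap_tmul, tensorAlgebra_algebraMap_tmul,
        tensorAlgebra_algebraMap_tmul, IsScalarTower.algebraMap_apply A B C]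
    | add x y hx hy => rw [map_add, map_add, map_add, hx, hy]

attribute [local instance] Algebra.TensorProduct.rightAlgebra in
theorem isPushout_tensorAlgebra [Algebra A (k ⊗[R] B)] [IsScalarTower A B (k ⊗[R] B)] :
    ∃ _ : IsScalarTower A (k ⊗[R] A) (k ⊗[R] B),
      Algebra.IsPushout A B (k ⊗[R] A) (k ⊗[R] B) := by
  have h : IsScalarTower A (k ⊗[R] A) (k ⊗[R] B) :=
    .of_algebraMap_eq fun (x : A) => by
      rw [tensorAlgebra_algebraMap, IsScalarTower.algebraMap_apply A B (k ⊗[R] B)]
      simp [Algebra.TensorProduct.right_algebraMap_apply]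
  exact ⟨h, SmoothFlatDescent.isPushout_left R k A B⟩

end

section aux

variable {R A S P : Type*} [CommRing R] [CommRing A] [CommRing S] [CommRing P]
  [Algebra R A] [Algebra R S] [Algebra R P] [Algebra A P] [Algebra A S] [Algebra P S]
  [IsScalarTower R A P] [IsScalarTower R P S] [IsScalarTower A P S] [IsScalarTower R A S]
  [Module.Flat R S] [IsLocalRing S] (p : Ideal R) [p.IsPrime]
  [Algebra (Localization.AtPrime p) S] [IsScalarTower R (Localization.AtPrime p) S]
  [IsLocalHom (algebraMap (Localization.AtPrime p) S)]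

include p in
omit [Module.Flat R S] in
theorem isLocalRing_fiber : IsLocalRing (p.ResidueField ⊗[R] S) := by
  let e : p.ResidueField ⊗[Localization.AtPrime p] S ≃ₐ[p.ResidueField] p.ResidueField ⊗[R] S :=
    Algebra.TensorProduct.equivOfCompatibleSMul R (Localization.AtPrime p) p.ResidueField
      p.ResidueField S
  exact e.toRingEquiv.isLocalRing

omit [Module.Flat R S] [IsLocalRing S] [IsLocalHom (algebraMap (Localization.AtPrime p) S)] in
theorem includeRight_fiber_surjective :
    Function.Surjective (Algebra.TensorProduct.includeRight : S →ₐ[R] p.ResidueField ⊗[R] S) := by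
  let e : p.ResidueField ⊗[Localization.AtPrime p] S ≃ₐ[p.ResidueField] p.ResidueField ⊗[R] S :=
    Algebra.TensorProduct.equivOfCompatibleSMul R (Localization.AtPrime p) p.ResidueField
      p.ResidueField S
  intro x
  obtain ⟨y, rfl⟩ := e.surjective x
  obtain ⟨s, rfl⟩ := TensorProduct.mk_surjective (Localization.AtPrime p) S p.ResidueField
    (by exact residue_surjective) y
  exact ⟨s, rfl⟩

attribute [local instance] tensorAlgebra Algebra.TensorProduct.rightAlgebra

set_option backward.defeqAttrib.useBackward true in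
set_option backward.isDefEq.respectTransparency false in
lemma formallySmooth_of_fiber_aux
    [Algebra.FormallySmooth (p.ResidueField ⊗[R] A) (p.ResidueField ⊗[R] S)]
    [Algebra.FormallySmooth A P] [Module.Free P Ω[P⁄A]] [Module.Finite P Ω[P⁄A]]
    (h₁ : Function.Surjective (algebraMap P S)) (h₂ : (RingHom.ker (algebraMap P S)).FG) :
    Algebra.FormallySmooth A S := by
  let Ap := p.ResidueField ⊗[R] A
  let Sp := p.ResidueField ⊗[R] S
  let Pp := p.ResidueField ⊗[R] P
  have : IsLocalRing Sp := isLocalRing_fiber p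
  have : IsScalarTower R (Localization.AtPrime p) 𝓀[S] := .to₁₂₄ R (Localization.AtPrime p) S 𝓀[S]
  have : IsScalarTower R p.ResidueField 𝓀[S] :=
    .to₁₃₄ R (Localization.AtPrime p) p.ResidueField 𝓀[S]
  let φ : Pp →ₐ[p.ResidueField] Sp := Algebra.TensorProduct.map (.id _ _) (IsScalarTower.toAlgHom _ _ _)
  let ψ : Sp →ₐ[R] 𝓀[S] := Algebra.TensorProduct.lift (IsScalarTower.toAlgHom _ _ _)
    (IsScalarTower.toAlgHom _ _ _) fun _ _ ↦ .all _ _
  have hφ : algebraMap Pp Sp = φ.toRingHom := rfl
  algebraize [(φ.toRingHom.comp (algebraMap P Pp)), ψ.toRingHom,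
    ψ.toRingHom.comp φ.toRingHom]
  have : IsScalarTower Ap Pp Sp := tensorAlgebra_tower R p.ResidueField A P S
  have := IsScalarTower.of_algebraMap_eq' ψ.comp_algebraMap.symm
  have : IsScalarTower P S Sp := .of_algebraMap_eq' rfl
  have : IsScalarTower S Sp 𝓀[S] := .of_algebraMap_eq fun r ↦ by
    simp [RingHom.algebraMap_toAlgebra, ψ, Sp]
  have : IsScalarTower P Sp 𝓀[S] := .to₁₃₄ _ S _ _
  have : IsScalarTower P Pp 𝓀[S] := .to₁₂₄ _ _ Sp _
  -- the pushout `Pp = Ap ⊗[A] P`
  let _ : Algebra A Pp := .compHom _ (algebraMap A P)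
  have : IsScalarTower A P Pp := .of_algebraMap_eq' rfl
  obtain ⟨hAt, hpo⟩ := isPushout_tensorAlgebra R p.ResidueField A P
  have hpo' : Algebra.IsPushout A Ap P Pp := hpo.symm
  have : Algebra.FormallySmooth Ap Pp := .of_equiv (Algebra.IsPushout.equiv A Ap P Pp)
  let e₀ : Ω[Pp⁄Ap] ≃ₗ[Pp] Pp ⊗[P] Ω[P⁄A] :=
    (KaehlerDifferential.tensorKaehlerEquiv A Ap P Pp).symm
  have : Module.Free Pp Ω[Pp⁄Ap] := .of_equiv e₀.symm
  have : Module.Finite Pp Ω[Pp⁄Ap] := .of_surjective e₀.symm.toLinearMap e₀.symm.surjective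
  let e₁ : RingHom.ker φ ≃ₗ[Pp] Pp ⊗[P] RingHom.ker (algebraMap P S) :=
    Algebra.kerTensorProductMapIdToAlgHomEquiv _ _ _ _ h₁
  have h₁' : Function.Surjective φ := LinearMap.lTensor_surjective _ h₁
  have h₂' : (RingHom.ker φ).FG := by
    suffices Module.Finite Pp (RingHom.ker φ) from (Submodule.fg_top _).mp this.1
    have : Module.Finite P (RingHom.ker (algebraMap P S)) := ⟨(Submodule.fg_top _).mpr h₂⟩
    exact .equiv e₁.symm
  have h₃ : 𝓂[Sp] ≤ RingHom.ker ψ := by
    intro x hx
    obtain ⟨x, rfl⟩ := includeRight_fiber_surjective p x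
    have : ¬IsUnit x := fun h ↦ hx <| h.map Algebra.TensorProduct.includeRight
    simpa [ψ, Sp]
  rw [Algebra.FormallySmooth.iff_injective_cotangentComplexBaseChange_residueField (P := P) h₁ h₂]
  have := (Algebra.FormallySmooth.iff_injective_cotangentComplexBaseChange
    (R := Ap) (S := Sp) (P := Pp) (K := 𝓀[S]) h₁' h₂' h₃).mp inferInstance
  let eᵣ : 𝓀[S] ⊗[Pp] Ω[Pp⁄Ap] ≃ₗ[S] 𝓀[S] ⊗[P] Ω[P⁄A] :=
    (AlgebraTensorModule.congr (.refl 𝓀[S] _) e₀).restrictScalars S ≪≫ₗ
      (AlgebraTensorModule.cancelBaseChange P Pp Sp 𝓀[S] Ω[P⁄A]).restrictScalars S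
  let eₗ : 𝓀[S] ⊗[Pp] RingHom.ker φ ≃ₗ[S] 𝓀[S] ⊗[P] RingHom.ker (algebraMap P S) :=
    (AlgebraTensorModule.congr (.refl 𝓀[S] 𝓀[S]) e₁).restrictScalars S ≪≫ₗ
      (AlgebraTensorModule.cancelBaseChange P Pp Sp 𝓀[S] _).restrictScalars S
  convert! (eᵣ.injective.comp this).comp eₗ.symm.injective
  ext x
  dsimp
  induction x with
  | zero => simp only [LinearEquiv.map_zero, LinearMap.map_zero]
  | add x y _ _ => simp only [LinearEquiv.map_add, LinearMap.map_add, *]
  | tmul x y =>
  dsimp [eₗ, eᵣ, e₁, KaehlerDifferential.cotangentComplexBaseChange,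
    Algebra.TensorProduct.one_def, Pp, smul_tmul']
  rw [Algebra.kerTensorProductMapIdToAlgHomEquiv_symm_apply]
  simp only [e₀, Pp]
  have key : (KaehlerDifferential.tensorKaehlerEquiv A Ap P (p.ResidueField ⊗[R] P)).symm
      ((KaehlerDifferential.D Ap (p.ResidueField ⊗[R] P)) (1 ⊗ₜ[R] (y : P))) =
      (1 : p.ResidueField ⊗[R] P) ⊗ₜ[P] KaehlerDifferential.D A P (y : P) := by
    apply (KaehlerDifferential.tensorKaehlerEquiv A Ap P (p.ResidueField ⊗[R] P)).symm_apply_eq.mpr
    rw [KaehlerDifferential.tensorKaehlerEquiv_tmul_D, one_smul]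
    rfl
  rw [one_mul, mul_one, key]
  simp

end aux

section main

variable {R A S P : Type*} [CommRing R] [CommRing A] [CommRing S] [CommRing P]
  [Algebra R A] [Algebra R S] [Algebra A S] [IsScalarTower R A S]
  [Algebra A P] [Algebra P S] [IsScalarTower A P S]
  [Module.Flat R S] [IsLocalRing S] (p : Ideal R) [p.IsPrime]
  [Algebra (Localization.AtPrime p) S] [IsScalarTower R (Localization.AtPrime p) S]
  [IsLocalHom (algebraMap (Localization.AtPrime p) S)]

attribute [local instance] tensorAlgebra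

/-- Relative version of `Algebra.FormallySmooth.of_formallySmooth_residueField_tensor`:
`S` a local `R`-flat algebra whose maximal ideal lies over `p`, `A` any `R`-algebra and `S` an `A`-algebra essentially of
finite presentation. If `k ⊗[R] S` is formally smooth over `k ⊗[R] A` then `S` is formally smooth
over `A`. -/
lemma formallySmooth_of_fiber
    [Algebra.FormallySmooth (p.ResidueField ⊗[R] A) (p.ResidueField ⊗[R] S)]
    (M : Submonoid P) [IsLocalization M S] [Algebra.FinitePresentation A P] :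
    Algebra.FormallySmooth A S := by
  obtain ⟨n, f₀, hf₀⟩ := Algebra.FiniteType.iff_quotient_mvPolynomial''.mp
    (inferInstance : Algebra.FiniteType A P)
  let M' := M.comap f₀
  let P' := Localization M'
  let fP : P' →ₐ[A] S := IsLocalization.liftAlgHom (M := M')
      (f := (IsScalarTower.toAlgHom A P S).comp f₀) fun x ↦ by
    simpa using IsLocalization.map_units (M := M) _ ⟨f₀ x.1, x.2⟩
  have hf₁ : Function.Surjective fP := by
    intro x
    obtain ⟨x, ⟨s, hs⟩, rfl⟩ := IsLocalization.exists_mk'_eq M x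
    obtain ⟨x, rfl⟩ := hf₀ x
    obtain ⟨s, rfl⟩ := hf₀ s
    refine ⟨IsLocalization.mk' (M := M') _ x ⟨s, hs⟩, ?_⟩
    simp [fP, IsLocalization.lift_mk', Units.mul_inv_eq_iff_eq_mul, IsUnit.liftRight]
  have hfP : (RingHom.ker fP).FG := by
    have := Algebra.FinitePresentation.ker_fG_of_surjective _ hf₀
    convert! this.map (algebraMap _ P')
    refine le_antisymm ?_ (Ideal.map_le_iff_le_comap.mpr fun x hx ↦ by simp_all [fP])
    intro x hx
    obtain ⟨x, s, rfl⟩ := IsLocalization.exists_mk'_eq M' x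
    obtain ⟨a, ha, e⟩ : ∃ a ∈ M, a * f₀ x = 0 := by
      simpa [fP, IsLocalization.lift_mk', IsLocalization.map_eq_zero_iff M] using hx
    obtain ⟨a, rfl⟩ := hf₀ a
    rw [IsLocalization.mk'_mem_map_algebraMap_iff]
    exact ⟨a, ha, by simpa⟩
  algebraize [fP.toRingHom]
  have : IsScalarTower A P' S := .of_algebraMap_eq' fP.comp_algebraMap.symm
  have : IsScalarTower R P' S := .to₁₃₄ R A P' S
  have : Algebra.FormallyEtale (MvPolynomial (Fin n) A) P' := .of_isLocalization M'
  have : Algebra.FormallySmooth A P' := .comp _ (MvPolynomial (Fin n) A) _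
  have : Module.Free P' Ω[P'⁄A] :=
    .of_equiv (KaehlerDifferential.tensorKaehlerEquivOfFormallyEtale A (MvPolynomial (Fin n) A) P')
  exact formallySmooth_of_fiber_aux (R := R) (A := A) (S := S) (P := P') p hf₁ hfP

end main

section pointwise

attribute [local instance] tensorAlgebra

/-- Fibre criterion for smoothness at a point, relative version: `R → A → B` with `B` of finite
presentation over `A`, `q` a prime of `B` over `p ⊂ R`. If `B_q` is flat over `R` and
`κ(p) ⊗[R] B_q` is formally smooth over `κ(p) ⊗[R] A`, then `B` is smooth over `A` at `q`. -/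
theorem isSmoothAt_of_fiber {R A B : Type*} [CommRing R] [CommRing A] [CommRing B]
    [Algebra R A] [Algebra A B] [Algebra R B] [IsScalarTower R A B]
    [Algebra.FinitePresentation A B] (p : Ideal R) [p.IsPrime] (q : Ideal B) [q.IsPrime]
    [q.LiesOver p] [Module.Flat R (Localization.AtPrime q)]
    [Algebra.FormallySmooth (p.ResidueField ⊗[R] A)
      (p.ResidueField ⊗[R] Localization.AtPrime q)] :
    Algebra.IsSmoothAt A q := by
  let := Localization.AtPrime.algebraOfLiesOver p q
  have : IsLocalHom (algebraMap (Localization.AtPrime p) (Localization.AtPrime q)) :=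
    Localization.isLocalHom_localRingHom p q (algebraMap R B) Ideal.LiesOver.over
  exact formallySmooth_of_fiber (R := R) (A := A) (S := Localization.AtPrime q) (P := B) p
    q.primeCompl

end pointwise

end Groth.Agent.Lib.Helper25.FiberSmoothRel
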