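import Mathlib
import Groth.Agent.Lib.Helper25.FiberLoc
import Groth.Agent.Lib.Helper25.FiberSmoothRel

set_option autoImplicit false
universe u

open TensorProduct IsLocalRing

namespace Groth.Agent.Lib.Helper25.FiberSmoothRel

attribute [local instance] tensorAlgebra FiberLoc.fiberLocAlgebra in
/-- Abstract pushout version of `isSmoothAt_of_fiber`. -/
theorem isSmoothAt_of_isPushout {R A B A' B' : Type u} [CommRing R] [CommRing A] [CommRing B]
    [CommRing A'] [CommRing B']
    [Algebra R A] [Algebra A B] [Algebra R B] [IsScalarTower R A B]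
    [Algebra.FinitePresentation A B] (p : Ideal R) [p.IsPrime]
    [Algebra p.ResidueField A'] [Algebra A A'] [Algebra R A'] [IsScalarTower R p.ResidueField A']
    [IsScalarTower R A A'] [Algebra.IsPushout R p.ResidueField A A']
    [Algebra A' B'] [Algebra B B'] [Algebra A B'] [IsScalarTower A A' B'] [IsScalarTower A B B']
    [Algebra.IsPushout A A' B B']
    [Algebra p.ResidueField B'] [IsScalarTower p.ResidueField A' B']
    [Algebra R B'] [IsScalarTower R A B']
    (q' : Ideal B') [q'.IsPrime] (q : Ideal B) [q.IsPrime] [q'.LiesOver q] [q.LiesOver p]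
    [Module.Flat R (Localization.AtPrime q)] (hs : Algebra.IsSmoothAt A' q') :
    Algebra.IsSmoothAt A q := by
  -- towers
  have : IsScalarTower R B B' := .of_algebraMap_eq' <| by
    rw [IsScalarTower.algebraMap_eq R A B', IsScalarTower.algebraMap_eq A B B',
      RingHom.comp_assoc, ← IsScalarTower.algebraMap_eq R A B]
  have : IsScalarTower R A' B' := .of_algebraMap_eq' <| by
    rw [IsScalarTower.algebraMap_eq R A B', IsScalarTower.algebraMap_eq A A' B',
      RingHom.comp_assoc, ← IsScalarTower.algebraMap_eq R A A']
  have : IsScalarTower R p.ResidueField B' := .of_algebraMap_eq' <| by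
    rw [IsScalarTower.algebraMap_eq R A' B', IsScalarTower.algebraMap_eq p.ResidueField A' B',
      RingHom.comp_assoc, ← IsScalarTower.algebraMap_eq R p.ResidueField A']
  have hpoB : Algebra.IsPushout R p.ResidueField B B' := by
    have h1 : Algebra.IsPushout A B A' B' := Algebra.IsPushout.symm inferInstance
    have h0 : Algebra.IsPushout R A p.ResidueField A' := Algebra.IsPushout.symm inferInstance
    have h2 : Algebra.IsPushout R B p.ResidueField B' :=
      (Algebra.IsPushout.comp_iff R A p.ResidueField A' (T := B) (T' := B')).mpr h1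
    exact h2.symm
  let eA : p.ResidueField ⊗[R] A ≃ₐ[p.ResidueField] A' :=
    Algebra.IsPushout.equiv R p.ResidueField A A'
  let eB : p.ResidueField ⊗[R] B ≃ₐ[p.ResidueField] B' :=
    Algebra.IsPushout.equiv R p.ResidueField B B'
  -- the prime of the fibre ring
  let q₁ : Ideal (p.Fiber B) := q'.comap eB.toRingEquiv
  have hq₁ : q = q₁.comap Algebra.TensorProduct.includeRight.toRingHom := by
    rw [(inferInstance : q'.LiesOver q).over]
    ext b
    simp only [q₁, Ideal.under, Ideal.mem_comap]
    have : eB.toRingEquiv ((Algebra.TensorProduct.includeRight.toRingHom :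
        B →+* p.ResidueField ⊗[R] B) b) = algebraMap B B' b := by
      change eB ((1 : p.ResidueField) ⊗ₜ[R] b) = _
      rw [Algebra.IsPushout.equiv_tmul, map_one, one_mul]
    rw [this]
  have hloc := FiberLoc.isLocalization_atPrime p q q₁ hq₁
  let θ₁ : Localization.AtPrime q₁ ≃+* Localization.AtPrime q' :=
    IsLocalization.ringEquivOfRingEquiv (Localization.AtPrime q₁) (Localization.AtPrime q')
      eB.toRingEquiv (eB.toRingEquiv.map_primeCompl_comap_eq q')
  let θ₂ : Localization.AtPrime q₁ ≃ₐ[p.Fiber B] (p.ResidueField ⊗[R] Localization.AtPrime q) :=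
    IsLocalization.algEquiv q₁.primeCompl _ _
  let Θ : Localization.AtPrime q' ≃+* (p.ResidueField ⊗[R] Localization.AtPrime q) :=
    θ₁.symm.trans θ₂.toRingEquiv
  have hF : (algebraMap A' (Localization.AtPrime q')).FormallySmooth :=
    RingHom.formallySmooth_algebraMap.mpr hs
  have key : algebraMap (p.ResidueField ⊗[R] A) (p.ResidueField ⊗[R] Localization.AtPrime q) =
      Θ.toRingHom.comp ((algebraMap A' (Localization.AtPrime q')).comp eA.toRingEquiv.toRingHom) := by
    apply RingHom.ext
    intro x
    change _ = Θ (algebraMap A' (Localization.AtPrime q') (eA x))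
    rw [← Θ.symm_apply_eq]
    induction x using TensorProduct.induction_on with
    | zero => simp
    | add x y hx hy => rw [map_add, map_add, map_add, map_add, hx, hy]
    | tmul c a =>
      have h1 : algebraMap (p.ResidueField ⊗[R] A) (p.ResidueField ⊗[R] Localization.AtPrime q)
          (c ⊗ₜ a) = algebraMap (p.Fiber B) (p.ResidueField ⊗[R] Localization.AtPrime q)
            (c ⊗ₜ algebraMap A B a) := by
        rw [tensorAlgebra_algebraMap_tmul, FiberLoc.algebraMap_fiberLoc_tmul,
          ← IsScalarTower.algebraMap_apply]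
      have h2 : Θ.symm (algebraMap (p.Fiber B) (p.ResidueField ⊗[R] Localization.AtPrime q)
            (c ⊗ₜ algebraMap A B a)) =
          algebraMap B' (Localization.AtPrime q') (eB (c ⊗ₜ algebraMap A B a)) := by
        change θ₁ (θ₂.symm _) = _
        rw [AlgEquiv.commutes]
        exact IsLocalization.ringEquivOfRingEquiv_eq _ _
      rw [h1, h2, Algebra.IsPushout.equiv_tmul, Algebra.IsPushout.equiv_tmul,
        IsScalarTower.algebraMap_apply A' B' (Localization.AtPrime q'), map_mul, map_mul, map_mul,
        ← IsScalarTower.algebraMap_apply p.ResidueField A' B',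
        ← IsScalarTower.algebraMap_apply A A' B', ← IsScalarTower.algebraMap_apply A B B']
  have hG : (algebraMap (p.ResidueField ⊗[R] A)
      (p.ResidueField ⊗[R] Localization.AtPrime q)).FormallySmooth := by
    rw [key]
    exact RingHom.FormallySmooth.respectsIso.1 _ Θ
      (RingHom.FormallySmooth.respectsIso.2 _ eA.toRingEquiv hF)
  have : Algebra.FormallySmooth (p.ResidueField ⊗[R] A)
      (p.ResidueField ⊗[R] Localization.AtPrime q) := RingHom.formallySmooth_algebraMap.mp hG
  exact isSmoothAt_of_fiber p q

end Groth.Agent.Lib.Helper25.FiberSmoothRel
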