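import Mathlib

set_option autoImplicit false

namespace Groth.Agent.Lib.Helper25.FiberSmooth

open TensorProduct IsLocalRing Algebra

universe u

/-- Pointwise version of `Algebra.IsSmoothAt.of_formallySmooth_fiber`: only flatness at `q` is
required. -/
theorem isSmoothAt_of_flat_of_formallySmooth_fiber {R S : Type*} [CommRing R] [CommRing S]
    [Algebra R S] [Algebra.FinitePresentation R S] (p : Ideal R) (q : Ideal S)
    [p.IsPrime] [q.IsPrime] [q.LiesOver p] [FormallySmooth p.ResidueField (p.Fiber S)]
    (hflat : Module.Flat R (Localization.AtPrime q)) :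
    Algebra.IsSmoothAt R q := by
  let Rp := Localization.AtPrime p
  let Sp := Localization (algebraMapSubmonoid S p.primeCompl)
  let Sq := Localization.AtPrime q
  let := Localization.AtPrime.algebraOfLiesOver p q
  let f : Sp →ₐ[S] Sq := IsLocalization.liftAlgHom (M := algebraMapSubmonoid S p.primeCompl)
        (f := Algebra.ofId _ _) (by
      rintro ⟨_, x, hx, rfl⟩
      simpa using! IsLocalization.map_units (M := q.primeCompl) Sq ⟨algebraMap _ _ x,
        by simp_all [q.over_def p]⟩)
  algebraize [f.toRingHom]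
  have : IsScalarTower R Sp Sq := .to₁₃₄ _ S _ _
  have : IsScalarTower Rp Sp Sq := .of_algebraMap_eq' <| by
    apply IsLocalization.ringHom_ext p.primeCompl
    simp only [RingHom.comp_assoc, ← IsScalarTower.algebraMap_eq]
  have : IsLocalization (algebraMapSubmonoid Sp q.primeCompl) Sq :=
    .isLocalization_of_submonoid_le _ _ (algebraMapSubmonoid S p.primeCompl) _
    (by rintro _ ⟨x, hx, rfl⟩; simp_all [q.over_def p])
  have : FinitePresentation Rp Sp := by
    have : Algebra.IsPushout R Rp S Sp :=
      .symm <| Algebra.isPushout_of_isLocalization p.primeCompl _ _ _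
    exact .equiv (Algebra.IsPushout.equiv R Rp S Sp)
  have : FormallySmooth (ResidueField Rp) ((ResidueField Rp) ⊗[Rp] Sq) := by
    let : Algebra S ((ResidueField Rp) ⊗[R] S) := TensorProduct.rightAlgebra
    have : FormallySmooth (ResidueField Rp) (((ResidueField Rp) ⊗[R] S) ⊗[S] Sq) :=
      .comp _ ((ResidueField Rp) ⊗[R] S) _
    let e : (ResidueField Rp) ⊗[R] S ≃ₐ[S] S ⊗[R] (ResidueField Rp) :=
      { __ := Algebra.TensorProduct.comm _ _ _, commutes' _ := rfl }
    let e' : ((ResidueField Rp) ⊗[R] S) ⊗[S] Sq ≃ₐ[R] (ResidueField Rp) ⊗[Rp] Sq :=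
      ((Algebra.TensorProduct.comm _ _ _).restrictScalars R).trans <|
      ((Algebra.TensorProduct.congr (.refl (R := S)) e).restrictScalars R).trans <|
      ((Algebra.TensorProduct.cancelBaseChange _ _ S _ _).restrictScalars R).trans <|
      (Algebra.TensorProduct.comm _ _ _).trans (Algebra.TensorProduct.equivOfCompatibleSMul ..)
    have : e'.toAlgHom.comp (IsScalarTower.toAlgHom R p.ResidueField _) =
        IsScalarTower.toAlgHom _ _ _ := by ext
    let e'' : ((ResidueField Rp) ⊗[R] S) ⊗[S] Sq ≃ₐ[(ResidueField Rp)] (ResidueField Rp) ⊗[Rp] Sq :=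
      { __ := e', commutes' r := congr($this r) }
    exact .of_equiv e''
  have : Module.Flat Rp Sq := (Module.flat_iff_of_isLocalization Rp p.primeCompl Sq).mpr hflat
  have := FormallySmooth.of_formallySmooth_residueField_tensor
    (R := Rp) (S := Sq) (P := Sp) (algebraMapSubmonoid _ q.primeCompl)
  exact .comp R Rp Sq


/-- A field `k` over `R` with `ker (R → k) = p` and generated by fractions is `κ(p)`. -/
theorem exists_algEquiv_residueField {R k : Type*} [CommRing R] [Field k] [Algebra R k]
    (p : Ideal R) [p.IsPrime]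
    (h1 : RingHom.ker (algebraMap R k) = p)
    (h2 : ∀ x : k, ∃ r σ : R, σ ∉ p ∧ x * algebraMap R k σ = algebraMap R k r) :
    Nonempty (p.ResidueField ≃ₐ[R] k) := by
  have hf₁ : p ≤ RingHom.ker (Algebra.ofId R k) := by
    intro x hx
    rw [← h1] at hx
    exact hx
  have hf₂ : p.primeCompl ≤ (IsUnit.submonoid k).comap (Algebra.ofId R k) := by
    intro σ hσ
    change IsUnit (algebraMap R k σ)
    rw [isUnit_iff_ne_zero]
    intro h0
    apply hσ
    rw [← h1]
    exact h0
  let φ : p.ResidueField →ₐ[R] k := Ideal.ResidueField.liftₐ p (Algebra.ofId R k) hf₁ hf₂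
  refine ⟨AlgEquiv.ofBijective φ ⟨φ.toRingHom.injective, ?_⟩⟩
  intro x
  obtain ⟨r, σ, hσ, hx⟩ := h2 x
  have hσ' : algebraMap R p.ResidueField σ ≠ 0 := by
    rw [Ne, Ideal.algebraMap_residueField_eq_zero]
    exact hσ
  have hσk : algebraMap R k σ ≠ 0 := by
    intro h0
    apply hσ
    rw [← h1]
    exact h0
  refine ⟨algebraMap R p.ResidueField r / algebraMap R p.ResidueField σ, ?_⟩
  rw [map_div₀]
  have e1 : φ (algebraMap R p.ResidueField r) = algebraMap R k r :=
    Ideal.ResidueField.liftₐ_algebraMap p (Algebra.ofId R k) hf₁ hf₂ r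
  have e2 : φ (algebraMap R p.ResidueField σ) = algebraMap R k σ :=
    Ideal.ResidueField.liftₐ_algebraMap p (Algebra.ofId R k) hf₁ hf₂ σ
  rw [e1, e2, div_eq_iff hσk, hx]

/-- Transfer of formal smoothness of the fibre along an identification of the residue field. -/
theorem formallySmooth_fiber_of_isPushout {R S k S' : Type u} [CommRing R] [CommRing S] [CommRing k]
    [CommRing S'] [Algebra R S] [Algebra R k] [Algebra S S'] [Algebra k S'] [Algebra R S']
    [IsScalarTower R S S'] [IsScalarTower R k S'] [Algebra.IsPushout R S k S']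
    (p : Ideal R) [p.IsPrime] (e : p.ResidueField ≃ₐ[R] k)
    [Algebra.FormallySmooth k S'] : Algebra.FormallySmooth p.ResidueField (p.Fiber S) := by
  let E0 : S ⊗[R] k ≃ₐ[S] S' := Algebra.IsPushout.equiv R S k S'
  let E1 : p.ResidueField ⊗[R] S ≃ₐ[R] S ⊗[R] k :=
    (Algebra.TensorProduct.comm R p.ResidueField S).trans
      (Algebra.TensorProduct.congr AlgEquiv.refl e)
  let E : p.ResidueField ⊗[R] S ≃ₐ[R] S' := E1.trans (E0.restrictScalars R)
  have hE : ∀ c : p.ResidueField, E (algebraMap p.ResidueField (p.ResidueField ⊗[R] S) c) =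
      algebraMap k S' (e c) := by
    intro c
    simp [E, E1, E0, Algebra.TensorProduct.algebraMap_apply, Algebra.IsPushout.equiv_tmul]
  have h0 : (algebraMap k S').FormallySmooth := by
    rw [RingHom.formallySmooth_algebraMap]; infer_instance
  have h1 : ((algebraMap k S').comp e.toRingEquiv.toRingHom).FormallySmooth :=
    RingHom.FormallySmooth.respectsIso.2 _ e.toRingEquiv h0
  have h2 : (E.symm.toRingEquiv.toRingHom.comp
      ((algebraMap k S').comp e.toRingEquiv.toRingHom)).FormallySmooth :=
    RingHom.FormallySmooth.respectsIso.1 _ E.symm.toRingEquiv h1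
  have h3 : E.symm.toRingEquiv.toRingHom.comp
      ((algebraMap k S').comp e.toRingEquiv.toRingHom) =
      algebraMap p.ResidueField (p.ResidueField ⊗[R] S) := by
    refine RingHom.ext fun c => ?_
    change E.symm (algebraMap k S' (e c)) = _
    rw [← hE, AlgEquiv.symm_apply_apply]
  rw [h3, RingHom.formallySmooth_algebraMap] at h2
  exact h2

end Groth.Agent.Lib.Helper25.FiberSmooth
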