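import Mathlib
import Groth.Agent.Lib.Helper13.SchemeLocal
import Groth.Agent.Lib.Helper13.SmoothDescentPoint
import Groth.Agent.Lib.Helper25.FiberSmooth

set_option autoImplicit false
universe u
open CategoryTheory CategoryTheory.Limits AlgebraicGeometry Opposite

namespace Groth.Agent.Lib.Helper25.FiberSmoothScheme

theorem appLE_fromSpecResidueField {S : Scheme.{u}} (s : S) (U : S.Opens) (hs : s ∈ U)
    (hU' : (⊤ : (Spec (S.residueField s)).Opens) ≤ (S.fromSpecResidueField s) ⁻¹ᵁ U) :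
    (S.fromSpecResidueField s).appLE U ⊤ hU' =
      S.evaluation U s hs ≫ (Scheme.ΓSpecIso (S.residueField s)).inv := by
  have h1 := Scheme.Hom.comp_appLE (Spec.map (S.residue s)) (S.fromSpecStalk s) U ⊤ hU'
  refine h1.trans ?_
  rw [Scheme.fromSpecStalk_app hs, ← Scheme.germ_residue, Category.assoc]
  simp only [Category.assoc]
  congr 1
  rw [Scheme.ΓSpecIso_inv_naturality]
  congr 1

theorem ker_evaluation {S : Scheme.{u}} (s : S) {U : S.Opens} (hU : IsAffineOpen U) (hs : s ∈ U) :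
    RingHom.ker (S.evaluation U s hs).hom = (hU.primeIdealOf ⟨s, hs⟩).asIdeal := by
  ext r
  rw [RingHom.mem_ker]
  change S.evaluation U s hs r = 0 ↔ _
  rw [Scheme.evaluation_eq_zero_iff_notMem_basicOpen,
    Groth.Agent.Lib.Helper13.mem_basicOpen_iff_primeIdealOf hU r hs, not_not]

theorem exists_evaluation_mul_eq {S : Scheme.{u}} (s : S) {U : S.Opens} (hU : IsAffineOpen U)
    (hs : s ∈ U) (x : S.residueField s) :
    ∃ r σ : Γ(S, U), σ ∉ (hU.primeIdealOf ⟨s, hs⟩).asIdeal ∧
      x * S.evaluation U s hs σ = S.evaluation U s hs r := by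
  obtain ⟨y, rfl⟩ := S.residue_surjective s x
  let _ := S.presheaf.algebra_section_stalk ⟨s, hs⟩
  have := hU.isLocalization_stalk ⟨s, hs⟩
  obtain ⟨⟨r, σ⟩, hrσ⟩ := IsLocalization.surj (hU.primeIdealOf ⟨s, hs⟩).asIdeal.primeCompl y
  refine ⟨r, σ.1, σ.2, ?_⟩
  have := congrArg (S.residue s).hom hrσ
  rw [map_mul] at this
  exact this

/-- The residue field of `s`, viewed as sections of its spectrum, is `κ(p)` over an affine
neighbourhood. -/
theorem exists_algEquiv_residueField_Γ {S : Scheme.{u}} (s : S) {U : S.Opens} (hU : IsAffineOpen U)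
    (hs : s ∈ U)
    (hU' : (⊤ : (Spec (S.residueField s)).Opens) ≤ (S.fromSpecResidueField s) ⁻¹ᵁ U) :
    letI := ((S.fromSpecResidueField s).appLE U ⊤ hU').hom.toAlgebra
    Nonempty ((hU.primeIdealOf ⟨s, hs⟩).asIdeal.ResidueField ≃ₐ[Γ(S, U)]
      Γ(Spec (S.residueField s), ⊤)) := by
  let _ := ((S.fromSpecResidueField s).appLE U ⊤ hU').hom.toAlgebra
  let alg2 : Algebra Γ(S, U) (S.residueField s) := (S.evaluation U s hs).hom.toAlgebra
  obtain ⟨e₁⟩ := Groth.Agent.Lib.Helper25.FiberSmooth.exists_algEquiv_residueField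
    (R := Γ(S, U)) (k := S.residueField s) (hU.primeIdealOf ⟨s, hs⟩).asIdeal
    (ker_evaluation s hU hs) (exists_evaluation_mul_eq s hU hs)
  let e₂ : S.residueField s ≃ₐ[Γ(S, U)] Γ(Spec (S.residueField s), ⊤) :=
    { (Scheme.ΓSpecIso (S.residueField s)).symm.commRingCatIsoToRingEquiv with
      commutes' := fun r => by
        have := appLE_fromSpecResidueField s U hs hU'
        exact congr($this r).symm }
  exact ⟨e₁.trans e₂⟩

end Groth.Agent.Lib.Helper25.FiberSmoothScheme
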