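import Mathlib
import Groth.Agent.Lib.Helper13.SchemeLocal
import Groth.Agent.Lib.Helper25.FiberSmoothScheme
import Groth.Agent.Lib.Helper25.FiberSmoothRel2

/-! Relative fibre criterion for smoothness at scheme level: for `X ⟶ Y ⟶ S` with `X ⟶ S` flat at
`x`, `f : X ⟶ Y` is smooth at `x` as soon as the fibre map `X_s ⟶ Y_s` is smooth at the point over
`x`. -/

set_option autoImplicit false
universe u
open CategoryTheory CategoryTheory.Limits AlgebraicGeometry Opposite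

namespace Groth.Agent.Lib.Helper25.FiberSmoothRelScheme

open Groth.Agent.Lib.Helper25.FiberSmoothScheme in
theorem formallySmooth_stalkMap_of_fiber {X Y S P : Scheme.{u}} (g : Y ⟶ S) (f : X ⟶ Y)
    [LocallyOfFinitePresentation f] (s : S) {fst : P ⟶ X} {snd : P ⟶ g.fiber s}
    (H : IsPullback fst snd f (g.fiberι s)) (u : P)
    (hflat : ((f ≫ g).stalkMap (fst u)).hom.Flat)
    (hsm : (snd.stalkMap u).hom.FormallySmooth) :
    (f.stalkMap (fst u)).hom.FormallySmooth := by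
  have Hg : IsPullback (g.fiberι s) (g.fiberToSpecResidueField s) g
      (S.fromSpecResidueField s) := IsPullback.of_hasPullback g _
  set x := fst u with hxdef
  set ι := g.fiberι s with hι
  set fib := g.fiberToSpecResidueField s with hfibdef
  set σ := S.fromSpecResidueField s with hσ
  have hy : f x = ι (snd u) := by
    rw [← Scheme.Hom.comp_apply, ← Scheme.Hom.comp_apply, H.w]
  have hgy : g (f x) = s := by
    have : f x ∈ Set.range ι := ⟨snd u, hy.symm⟩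
    rw [g.range_fiberι] at this
    exact this
  -- charts
  obtain ⟨W, hW, hsW, -⟩ := TopologicalSpace.Opens.isBasis_iff_nbhd.mp
    S.isBasis_affineOpens (TopologicalSpace.Opens.mem_top s)
  have hyW : f x ∈ g ⁻¹ᵁ W := by
    change g (f x) ∈ W
    rw [hgy]; exact hsW
  obtain ⟨V, hV, hyV, hVW⟩ := TopologicalSpace.Opens.isBasis_iff_nbhd.mp
    Y.isBasis_affineOpens hyW
  obtain ⟨U, hU, hxU, hUV⟩ := TopologicalSpace.Opens.isBasis_iff_nbhd.mp
    X.isBasis_affineOpens (show x ∈ f ⁻¹ᵁ V from hyV)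
  have hσW : (⊤ : (Spec (S.residueField s)).Opens) ≤ σ ⁻¹ᵁ W := by
    intro z _
    change σ z ∈ W
    rw [hσ, Scheme.fromSpecResidueField_apply]
    exact hsW
  set TY : (g.fiber s).Opens := ι ⁻¹ᵁ V ⊓ fib ⁻¹ᵁ ⊤ with hTYdef
  have hTYV : TY ≤ ι ⁻¹ᵁ V := inf_le_left
  have hTYtop : TY ≤ fib ⁻¹ᵁ ⊤ := inf_le_right
  have hTY : IsAffineOpen TY := by
    have : IsAffine W := hW
    have : IsAffine (⊤ : (Spec (S.residueField s)).Opens) := isAffineOpen_top _
    have : IsAffine V := hV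
    exact .of_isIso (Scheme.Hom.isPullback_resLE Hg hσW hVW hTYdef).isoPullback.hom
  have hpush1 : IsPushout (g.appLE W V hVW) (σ.appLE W ⊤ hσW)
      (ι.appLE V TY hTYV) (fib.appLE ⊤ TY hTYtop) :=
    (isIso_pushoutSection_iff Hg hσW hVW hTYdef).mp
      (isIso_pushoutSection_of_isAffineOpen Hg hσW hVW hTYdef hW (isAffineOpen_top _) hV)
  set T : P.Opens := fst ⁻¹ᵁ U ⊓ snd ⁻¹ᵁ TY with hTdef
  have hTU : T ≤ fst ⁻¹ᵁ U := inf_le_left
  have hTTY : T ≤ snd ⁻¹ᵁ TY := inf_le_right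
  have huTY : snd u ∈ TY := by
    refine ⟨?_, trivial⟩
    change ι (snd u) ∈ V
    rw [← hy]; exact hyV
  have huT : u ∈ T := ⟨hxU, huTY⟩
  have hT : IsAffineOpen T := by
    have : IsAffine V := hV
    have : IsAffine TY := hTY
    have : IsAffine U := hU
    exact .of_isIso (Scheme.Hom.isPullback_resLE H hTYV hUV hTdef).isoPullback.hom
  have hpush2 : IsPushout (f.appLE V U hUV) (ι.appLE V TY hTYV)
      (fst.appLE U T hTU) (snd.appLE TY T hTTY) :=
    (isIso_pushoutSection_iff H hTYV hUV hTdef).mp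
      (isIso_pushoutSection_of_isAffineOpen H hTYV hUV hTdef hV hTY hU)
  -- ring level
  have hUW : U ≤ (f ≫ g) ⁻¹ᵁ W := fun z hz => hVW (hUV hz)
  have hfp := f.finitePresentation_appLE hV hU hUV
  let p : Ideal Γ(S, W) := (hW.primeIdealOf ⟨s, hsW⟩).asIdeal
  let q : Ideal Γ(X, U) := (hU.primeIdealOf ⟨x, hxU⟩).asIdeal
  let q' : Ideal Γ(P, T) := (hT.primeIdealOf ⟨u, huT⟩).asIdeal
  let _ : Algebra Γ(S, W) Γ(Y, V) := (g.appLE W V hVW).hom.toAlgebra
  let _ : Algebra Γ(Y, V) Γ(X, U) := (f.appLE V U hUV).hom.toAlgebra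
  let _ : Algebra Γ(S, W) Γ(X, U) := ((f ≫ g).appLE W U hUW).hom.toAlgebra
  have : IsScalarTower Γ(S, W) Γ(Y, V) Γ(X, U) := .of_algebraMap_eq' <| by
    change ((f ≫ g).appLE W U hUW).hom = (f.appLE V U hUV).hom.comp (g.appLE W V hVW).hom
    rw [← CommRingCat.hom_comp, Scheme.Hom.appLE_comp_appLE]
  let _ : Algebra Γ(S, W) Γ(Spec (S.residueField s), ⊤) := (σ.appLE W ⊤ hσW).hom.toAlgebra
  obtain ⟨e⟩ := exists_algEquiv_residueField_Γ s hW hsW hσW
  let _ : Algebra p.ResidueField Γ(g.fiber s, TY) :=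
    ((fib.appLE ⊤ TY hTYtop).hom.comp e.toRingEquiv.toRingHom).toAlgebra
  let _ : Algebra Γ(Y, V) Γ(g.fiber s, TY) := (ι.appLE V TY hTYV).hom.toAlgebra
  let _ : Algebra Γ(S, W) Γ(g.fiber s, TY) :=
    ((ι.appLE V TY hTYV).hom.comp (g.appLE W V hVW).hom).toAlgebra
  have : IsScalarTower Γ(S, W) Γ(Y, V) Γ(g.fiber s, TY) := .of_algebraMap_eq' rfl
  have hcomm1 : (ι.appLE V TY hTYV).hom.comp (g.appLE W V hVW).hom =
      (fib.appLE ⊤ TY hTYtop).hom.comp (σ.appLE W ⊤ hσW).hom := by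
    rw [← CommRingCat.hom_comp, ← CommRingCat.hom_comp, hpush1.w]
  have : IsScalarTower Γ(S, W) p.ResidueField Γ(g.fiber s, TY) := .of_algebraMap_eq fun r => by
    change ((ι.appLE V TY hTYV).hom.comp (g.appLE W V hVW).hom) r =
      (fib.appLE ⊤ TY hTYtop).hom (e (algebraMap Γ(S, W) p.ResidueField r))
    rw [hcomm1, e.commutes]
    rfl
  have hpush1' : IsPushout (CommRingCat.ofHom (algebraMap Γ(S, W) p.ResidueField))
      (g.appLE W V hVW)
      (CommRingCat.ofHom (algebraMap p.ResidueField Γ(g.fiber s, TY))) (ι.appLE V TY hTYV) := by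
    refine hpush1.flip.of_iso (Iso.refl _) e.symm.toRingEquiv.toCommRingCatIso (Iso.refl _)
      (Iso.refl _) ?_ ?_ ?_ ?_
    · ext r
      exact e.symm.commutes r
    · simp
    · ext k
      change (fib.appLE ⊤ TY hTYtop).hom k = (fib.appLE ⊤ TY hTYtop).hom (e (e.symm k))
      rw [AlgEquiv.apply_symm_apply]
    · simp
  have hP1 : Algebra.IsPushout Γ(S, W) p.ResidueField Γ(Y, V) Γ(g.fiber s, TY) :=
    CommRingCat.isPushout_iff_isPushout.mp hpush1'
  let _ : Algebra Γ(g.fiber s, TY) Γ(P, T) := (snd.appLE TY T hTTY).hom.toAlgebra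
  let _ : Algebra Γ(X, U) Γ(P, T) := (fst.appLE U T hTU).hom.toAlgebra
  let _ : Algebra Γ(Y, V) Γ(P, T) :=
    ((fst.appLE U T hTU).hom.comp (f.appLE V U hUV).hom).toAlgebra
  have : IsScalarTower Γ(Y, V) Γ(X, U) Γ(P, T) := .of_algebraMap_eq' rfl
  have : IsScalarTower Γ(Y, V) Γ(g.fiber s, TY) Γ(P, T) := .of_algebraMap_eq' <| by
    change (fst.appLE U T hTU).hom.comp (f.appLE V U hUV).hom =
      (snd.appLE TY T hTTY).hom.comp (ι.appLE V TY hTYV).hom
    rw [← CommRingCat.hom_comp, ← CommRingCat.hom_comp, hpush2.w]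
  have hP2 : Algebra.IsPushout Γ(Y, V) Γ(g.fiber s, TY) Γ(X, U) Γ(P, T) :=
    CommRingCat.isPushout_iff_isPushout.mp hpush2.flip
  let _ : Algebra p.ResidueField Γ(P, T) :=
    ((algebraMap Γ(g.fiber s, TY) Γ(P, T)).comp
      (algebraMap p.ResidueField Γ(g.fiber s, TY))).toAlgebra
  have : IsScalarTower p.ResidueField Γ(g.fiber s, TY) Γ(P, T) := .of_algebraMap_eq' rfl
  let _ : Algebra Γ(S, W) Γ(P, T) :=
    ((algebraMap Γ(Y, V) Γ(P, T)).comp (algebraMap Γ(S, W) Γ(Y, V))).toAlgebra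
  have : IsScalarTower Γ(S, W) Γ(Y, V) Γ(P, T) := .of_algebraMap_eq' rfl
  have : Algebra.FinitePresentation Γ(Y, V) Γ(X, U) := hfp
  have : q'.LiesOver q :=
    ⟨congr($(IsAffineOpen.comap_primeIdealOf_appLE U hU T hT hTU huT).1).symm⟩
  have hpp : hW.primeIdealOf ⟨(f ≫ g) x, hUW hxU⟩ = hW.primeIdealOf ⟨s, hsW⟩ := by
    congr 1
    exact Subtype.ext hgy
  have : q.LiesOver p :=
    ⟨congr($((IsAffineOpen.comap_primeIdealOf_appLE W hW U hU hUW hxU).trans hpp).1).symm⟩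
  have hflat' : Module.Flat Γ(S, W) (Localization.AtPrime q) :=
    (Groth.Agent.Lib.Helper13.flat_stalkMap_iff W hW U hU hUW hxU).mp hflat
  have hs : Algebra.IsSmoothAt Γ(g.fiber s, TY) q' :=
    (formallySmooth_stalkMap_iff TY hTY T hT hTTY huT).mp hsm
  rw [formallySmooth_stalkMap_iff V hV U hU hUV hxU]
  exact Groth.Agent.Lib.Helper25.FiberSmoothRel.isSmoothAt_of_isPushout p q' q hs

end Groth.Agent.Lib.Helper25.FiberSmoothRelScheme
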