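import Mathlib

/-! Support of the base change of a finite module is the preimage of the support. -/

set_option autoImplicit false

open TensorProduct

namespace Groth.Agent.Lib.Helper25.SupportBaseChange

variable {B B' M : Type*} [CommRing B] [CommRing B'] [Algebra B B'] [AddCommGroup M] [Module B M]

theorem nontrivial_tensor_field_iff (k K : Type*) [Field k] [Field K] [Algebra B k] [Algebra k K]
    [Algebra B K] [IsScalarTower B k K] :
    Nontrivial (K ⊗[B] M) ↔ Nontrivial (k ⊗[B] M) := by
  let e := TensorProduct.AlgebraTensorModule.cancelBaseChange B k K K M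
  rw [← e.nontrivial_congr]
  constructor
  · intro h
    by_contra hc
    rw [not_nontrivial_iff_subsingleton] at hc
    have : Subsingleton (K ⊗[k] (k ⊗[B] M)) := inferInstance
    exact not_subsingleton (K ⊗[k] (k ⊗[B] M)) this
  · intro h
    infer_instance

theorem mem_support_baseChange_iff [Module.Finite B M] (u : PrimeSpectrum B') :
    u ∈ Module.support B' (B' ⊗[B] M) ↔
      PrimeSpectrum.comap (algebraMap B B') u ∈ Module.support B M := by
  let x := PrimeSpectrum.comap (algebraMap B B') u
  have hlo : u.asIdeal.LiesOver x.asIdeal := ⟨rfl⟩
  let _ := Localization.AtPrime.algebraOfLiesOver x.asIdeal u.asIdeal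
  rw [Module.mem_support_iff_nontrivial_residueField_tensorProduct,
    Module.mem_support_iff_nontrivial_residueField_tensorProduct]
  let e := TensorProduct.AlgebraTensorModule.cancelBaseChange B B' u.asIdeal.ResidueField
    u.asIdeal.ResidueField M
  rw [e.nontrivial_congr]
  exact nontrivial_tensor_field_iff x.asIdeal.ResidueField u.asIdeal.ResidueField

end Groth.Agent.Lib.Helper25.SupportBaseChange
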