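import Mathlib
import Groth.Agent.Lib.Helper25.SupportBaseChange
import Groth.Agent.Lib.Helper25.FlatDescentPoint

/-! The unramified locus of a base change is the preimage of the unramified locus; flatness at a
point descends along flat base change. -/

set_option autoImplicit false
universe u

open TensorProduct

namespace Groth.Agent.Lib.Helper25.BaseChangeLocus

section

variable (R S A B : Type*) [CommRing R] [CommRing S] [Algebra R S] [CommRing A] [CommRing B]
variable [Algebra R A] [Algebra R B]
variable [Algebra A B] [Algebra S B] [IsScalarTower R A B] [IsScalarTower R S B]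

theorem mem_unramifiedLocus_iff_of_isPushout [Algebra.IsPushout R S A B] [Algebra.FiniteType R A]
    (u : PrimeSpectrum B) :
    u ∈ Algebra.unramifiedLocus S B ↔
      PrimeSpectrum.comap (algebraMap A B) u ∈ Algebra.unramifiedLocus R A := by
  rw [Algebra.unramifiedLocus_eq_compl_support, Algebra.unramifiedLocus_eq_compl_support,
    Set.mem_compl_iff, Set.mem_compl_iff,
    ← (KaehlerDifferential.tensorKaehlerEquiv R S A B).support_eq,
    SupportBaseChange.mem_support_baseChange_iff]

end

section

variable (R S A B : Type u) [CommRing R] [CommRing S] [Algebra R S] [CommRing A] [CommRing B]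
variable [Algebra R A] [Algebra R B]
variable [Algebra A B] [Algebra S B] [IsScalarTower R A B] [IsScalarTower R S B]

theorem flat_localization_of_isPushout [Algebra.IsPushout R S A B] [Module.Flat R S]
    (x : Ideal A) (u : Ideal B) [x.IsPrime] [u.IsPrime] [u.LiesOver x]
    [Module.Flat S (Localization.AtPrime u)] : Module.Flat R (Localization.AtPrime x) := by
  have h1 : Module.Flat R (Localization.AtPrime u) := Module.Flat.trans R S _
  have h2 : Module.Flat A B := by
    have : Algebra.IsPushout R A S B := Algebra.IsPushout.symm inferInstance
    exact Module.Flat.isBaseChange (R := R) (S := A) (M := S) B this.out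
  have h3 : Module.Flat A (Localization.AtPrime u) := Module.Flat.trans A B _
  exact FlatDescentPoint.flat_localization_of_flat x u

end

end Groth.Agent.Lib.Helper25.BaseChangeLocus
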