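import Mathlib
import Groth.Agent.Lib.Helper13.SchemeLocal
import Groth.Agent.Lib.Helper25.BaseChangeLocus

/-! Descent of unramifiedness (arbitrary base change) and flatness (flat base change) of stalk maps
along a pullback square. -/

set_option autoImplicit false
universe u

open CategoryTheory CategoryTheory.Limits AlgebraicGeometry

namespace Groth.Agent.Lib.Helper25.PullbackStalk

variable {P X Y Y' : Scheme.{u}} {fst : P ⟶ X} {snd : P ⟶ Y'} {f : X ⟶ Y} {g : Y' ⟶ Y}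

/-- Affine charts adapted to a pullback square around a point `u` of the pullback. -/
theorem exists_charts (H : IsPullback fst snd f g) (u : P) :
    ∃ (V : Y.Opens) (_ : IsAffineOpen V) (W : X.Opens) (_ : IsAffineOpen W)
      (V' : Y'.Opens) (_ : IsAffineOpen V'), W ≤ f ⁻¹ᵁ V ∧ V' ≤ g ⁻¹ᵁ V ∧ fst u ∈ W ∧ snd u ∈ V' := by
  obtain ⟨_, ⟨V, hV, rfl⟩, hxV, -⟩ :=
    Y.isBasis_affineOpens.exists_subset_of_mem_open (Set.mem_univ (f (fst u))) isOpen_univ
  obtain ⟨_, ⟨W, hW, rfl⟩, hxW, hWV⟩ :=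
    X.isBasis_affineOpens.exists_subset_of_mem_open hxV (V.2.preimage f.continuous)
  have hxV' : g (snd u) ∈ V := by
    have : g (snd u) = f (fst u) := by
      rw [← Scheme.Hom.comp_apply, ← Scheme.Hom.comp_apply, H.w]
    rw [this]; exact hxV
  obtain ⟨_, ⟨V', hV', rfl⟩, hxV'', hV'V⟩ :=
    Y'.isBasis_affineOpens.exists_subset_of_mem_open hxV' (V.2.preimage g.continuous)
  exact ⟨V, hV, W, hW, V', hV', hWV, hV'V, hxW, hxV''⟩

theorem formallyUnramified_stalkMap_of_isPullback (H : IsPullback fst snd f g)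
    [LocallyOfFiniteType f] (u : P) (h : (snd.stalkMap u).hom.FormallyUnramified) :
    (f.stalkMap (fst u)).hom.FormallyUnramified := by
  obtain ⟨V, hV, W, hW, V', hV', hWV, hV'V, hxW, hyV'⟩ := exists_charts H u
  set T : P.Opens := fst ⁻¹ᵁ W ⊓ snd ⁻¹ᵁ V' with hTdef
  have hTW : T ≤ fst ⁻¹ᵁ W := inf_le_left
  have hTV' : T ≤ snd ⁻¹ᵁ V' := inf_le_right
  have huT : u ∈ T := ⟨hxW, hyV'⟩
  have hT : IsAffineOpen T := by
    have : IsAffine V := hV
    have : IsAffine V' := hV'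
    have : IsAffine W := hW
    exact .of_isIso (Scheme.Hom.isPullback_resLE H hV'V hWV hTdef).isoPullback.hom
  have hpush : IsPushout (f.appLE V W hWV) (g.appLE V V' hV'V)
      (fst.appLE W T hTW) (snd.appLE V' T hTV') :=
    (isIso_pushoutSection_iff H hV'V hWV hTdef).mp
      (isIso_pushoutSection_of_isAffineOpen H hV'V hWV hTdef hV hV' hW)
  have hft := f.finiteType_appLE hV hW hWV
  let _ : Algebra Γ(Y, V) Γ(X, W) := (f.appLE V W hWV).hom.toAlgebra
  let _ : Algebra Γ(Y, V) Γ(Y', V') := (g.appLE V V' hV'V).hom.toAlgebra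
  let _ : Algebra Γ(X, W) Γ(P, T) := (fst.appLE W T hTW).hom.toAlgebra
  let _ : Algebra Γ(Y', V') Γ(P, T) := (snd.appLE V' T hTV').hom.toAlgebra
  let _ : Algebra Γ(Y, V) Γ(P, T) :=
    ((fst.appLE W T hTW).hom.comp (f.appLE V W hWV).hom).toAlgebra
  have : IsScalarTower Γ(Y, V) Γ(X, W) Γ(P, T) := .of_algebraMap_eq' rfl
  have : IsScalarTower Γ(Y, V) Γ(Y', V') Γ(P, T) := .of_algebraMap_eq' <| by
    change (fst.appLE W T hTW).hom.comp (f.appLE V W hWV).hom =
      (snd.appLE V' T hTV').hom.comp (g.appLE V V' hV'V).hom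
    rw [← CommRingCat.hom_comp, ← CommRingCat.hom_comp, hpush.w]
  have hP : Algebra.IsPushout Γ(Y, V) Γ(X, W) Γ(Y', V') Γ(P, T) :=
    CommRingCat.isPushout_iff_isPushout.mp hpush
  have hP' : Algebra.IsPushout Γ(Y, V) Γ(Y', V') Γ(X, W) Γ(P, T) := hP.symm
  have : Algebra.FiniteType Γ(Y, V) Γ(X, W) := hft
  rw [Groth.Agent.Lib.Helper13.formallyUnramified_stalkMap_iff V hV W hW hWV hxW]
  rw [Groth.Agent.Lib.Helper13.formallyUnramified_stalkMap_iff V' hV' T hT hTV' huT] at h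
  rw [BaseChangeLocus.mem_unramifiedLocus_iff_of_isPushout Γ(Y, V) Γ(Y', V') Γ(X, W) Γ(P, T)] at h
  convert h using 1
  exact (IsAffineOpen.comap_primeIdealOf_appLE W hW T hT hTW huT).symm

theorem flat_stalkMap_of_isPullback (H : IsPullback fst snd f g)
    [Flat g] (u : P) (h : (snd.stalkMap u).hom.Flat) :
    (f.stalkMap (fst u)).hom.Flat := by
  obtain ⟨V, hV, W, hW, V', hV', hWV, hV'V, hxW, hyV'⟩ := exists_charts H u
  set T : P.Opens := fst ⁻¹ᵁ W ⊓ snd ⁻¹ᵁ V' with hTdef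
  have hTW : T ≤ fst ⁻¹ᵁ W := inf_le_left
  have hTV' : T ≤ snd ⁻¹ᵁ V' := inf_le_right
  have huT : u ∈ T := ⟨hxW, hyV'⟩
  have hT : IsAffineOpen T := by
    have : IsAffine V := hV
    have : IsAffine V' := hV'
    have : IsAffine W := hW
    exact .of_isIso (Scheme.Hom.isPullback_resLE H hV'V hWV hTdef).isoPullback.hom
  have hpush : IsPushout (f.appLE V W hWV) (g.appLE V V' hV'V)
      (fst.appLE W T hTW) (snd.appLE V' T hTV') :=
    (isIso_pushoutSection_iff H hV'V hWV hTdef).mp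
      (isIso_pushoutSection_of_isAffineOpen H hV'V hWV hTdef hV hV' hW)
  have hgflat : (g.appLE V V' hV'V).hom.Flat :=
    HasRingHomProperty.appLE @Flat _ inferInstance ⟨V, hV⟩ ⟨V', hV'⟩ hV'V
  let _ : Algebra Γ(Y, V) Γ(X, W) := (f.appLE V W hWV).hom.toAlgebra
  let _ : Algebra Γ(Y, V) Γ(Y', V') := (g.appLE V V' hV'V).hom.toAlgebra
  let _ : Algebra Γ(X, W) Γ(P, T) := (fst.appLE W T hTW).hom.toAlgebra
  let _ : Algebra Γ(Y', V') Γ(P, T) := (snd.appLE V' T hTV').hom.toAlgebra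
  let _ : Algebra Γ(Y, V) Γ(P, T) :=
    ((fst.appLE W T hTW).hom.comp (f.appLE V W hWV).hom).toAlgebra
  have : IsScalarTower Γ(Y, V) Γ(X, W) Γ(P, T) := .of_algebraMap_eq' rfl
  have : IsScalarTower Γ(Y, V) Γ(Y', V') Γ(P, T) := .of_algebraMap_eq' <| by
    change (fst.appLE W T hTW).hom.comp (f.appLE V W hWV).hom =
      (snd.appLE V' T hTV').hom.comp (g.appLE V V' hV'V).hom
    rw [← CommRingCat.hom_comp, ← CommRingCat.hom_comp, hpush.w]
  have hP : Algebra.IsPushout Γ(Y, V) Γ(X, W) Γ(Y', V') Γ(P, T) :=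
    CommRingCat.isPushout_iff_isPushout.mp hpush
  have hP' : Algebra.IsPushout Γ(Y, V) Γ(Y', V') Γ(X, W) Γ(P, T) := hP.symm
  have : Module.Flat Γ(Y, V) Γ(Y', V') := hgflat
  rw [Groth.Agent.Lib.Helper13.flat_stalkMap_iff V hV W hW hWV hxW]
  rw [Groth.Agent.Lib.Helper13.flat_stalkMap_iff V' hV' T hT hTV' huT] at h
  let t : Ideal Γ(P, T) := (hT.primeIdealOf ⟨u, huT⟩).asIdeal
  let x : Ideal Γ(X, W) := (hW.primeIdealOf ⟨fst u, hxW⟩).asIdeal
  have htx : t.LiesOver x :=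
    ⟨congr($(IsAffineOpen.comap_primeIdealOf_appLE W hW T hT hTW huT).1).symm⟩
  have : Module.Flat Γ(Y', V') (Localization.AtPrime t) := h
  exact BaseChangeLocus.flat_localization_of_isPushout Γ(Y, V) Γ(Y', V') Γ(X, W) Γ(P, T) x t

end Groth.Agent.Lib.Helper25.PullbackStalk
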