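import Mathlib
import Groth.Agent.Lib.Helper13.SchemeLocal
import Groth.Agent.Lib.Helper25.BaseChangeLocus
import Groth.Agent.Lib.Helper25.PullbackStalk

/-! Unramifiedness of stalk maps in a pullback square: iff version. -/

set_option autoImplicit false
universe u

open CategoryTheory CategoryTheory.Limits AlgebraicGeometry

namespace Groth.Agent.Lib.Helper25.PullbackStalk2

variable {P X Y Y' : Scheme.{u}} {fst : P ⟶ X} {snd : P ⟶ Y'} {f : X ⟶ Y} {g : Y' ⟶ Y}

theorem formallyUnramified_stalkMap_iff_of_isPullback (H : IsPullback fst snd f g)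
    [LocallyOfFiniteType f] (u : P) :
    (snd.stalkMap u).hom.FormallyUnramified ↔ (f.stalkMap (fst u)).hom.FormallyUnramified := by
  obtain ⟨V, hV, W, hW, V', hV', hWV, hV'V, hxW, hyV'⟩ := PullbackStalk.exists_charts H u
  set T : P.Opens := fst ⁻¹ᵁ W ⊓ snd ⁻¹ᵁ V' with hTdef
  have hTW : T ≤ fst ⁻¹ᵁ W := inf_le_left
  have hTV' : T ≤ snd ⁻¹ᵁ V' := inf_le_right
  have huT : u ∈ T := ⟨hxW, hyV'⟩
  have hT : IsAffineOpen T := by
    have : IsAffine V := hV
    have : IsAffine V' := hV'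
    have : IsAffine W := hW
    exact .of_isIso (Scheme.Hom.isPullback_resLE H hV'V hWV hTdef).isoPullback.hom
  have hpush : IsPushout (f.appLE V W hWV) (g.appLE V V' hV'V)
      (fst.appLE W T hTW) (snd.appLE V' T hTV') :=
    (isIso_pushoutSection_iff H hV'V hWV hTdef).mp
      (isIso_pushoutSection_of_isAffineOpen H hV'V hWV hTdef hV hV' hW)
  have hft := f.finiteType_appLE hV hW hWV
  let _ : Algebra Γ(Y, V) Γ(X, W) := (f.appLE V W hWV).hom.toAlgebra
  let _ : Algebra Γ(Y, V) Γ(Y', V') := (g.appLE V V' hV'V).hom.toAlgebra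
  let _ : Algebra Γ(X, W) Γ(P, T) := (fst.appLE W T hTW).hom.toAlgebra
  let _ : Algebra Γ(Y', V') Γ(P, T) := (snd.appLE V' T hTV').hom.toAlgebra
  let _ : Algebra Γ(Y, V) Γ(P, T) :=
    ((fst.appLE W T hTW).hom.comp (f.appLE V W hWV).hom).toAlgebra
  have : IsScalarTower Γ(Y, V) Γ(X, W) Γ(P, T) := .of_algebraMap_eq' rfl
  have : IsScalarTower Γ(Y, V) Γ(Y', V') Γ(P, T) := .of_algebraMap_eq' <| by
    change (fst.appLE W T hTW).hom.comp (f.appLE V W hWV).hom =
      (snd.appLE V' T hTV').hom.comp (g.appLE V V' hV'V).hom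
    rw [← CommRingCat.hom_comp, ← CommRingCat.hom_comp, hpush.w]
  have hP : Algebra.IsPushout Γ(Y, V) Γ(X, W) Γ(Y', V') Γ(P, T) :=
    CommRingCat.isPushout_iff_isPushout.mp hpush
  have hP' : Algebra.IsPushout Γ(Y, V) Γ(Y', V') Γ(X, W) Γ(P, T) := hP.symm
  have : Algebra.FiniteType Γ(Y, V) Γ(X, W) := hft
  rw [Groth.Agent.Lib.Helper13.formallyUnramified_stalkMap_iff V hV W hW hWV hxW]
  rw [Groth.Agent.Lib.Helper13.formallyUnramified_stalkMap_iff V' hV' T hT hTV' huT]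
  have h1 := BaseChangeLocus.mem_unramifiedLocus_iff_of_isPushout Γ(Y, V) Γ(Y', V') Γ(X, W) Γ(P, T)
    (hT.primeIdealOf ⟨u, huT⟩)
  have h2 : PrimeSpectrum.comap (algebraMap ↑Γ(X, W) ↑Γ(P, T)) (hT.primeIdealOf ⟨u, huT⟩) =
      hW.primeIdealOf ⟨fst u, hxW⟩ := IsAffineOpen.comap_primeIdealOf_appLE W hW T hT hTW huT
  rw [h2] at h1
  exact h1


end Groth.Agent.Lib.Helper25.PullbackStalk2
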