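import Mathlib
import Groth.Agent.Lib.Helper13.SchemeLocal
import Groth.Agent.Lib.Helper25.FlatDescentPoint
import Groth.Agent.Lib.Helper25.PullbackStalk2
import Groth.Agent.Lib.Helper25.FiberSmoothRelScheme

/-! Global consequences of the relative fibre criterion for smoothness. -/

set_option autoImplicit false
universe u
open CategoryTheory CategoryTheory.Limits AlgebraicGeometry Opposite

namespace Groth.Agent.Lib.Helper25.FiberSmoothGlobal

/-- If `A → B → C` with `B → C` a flat local homomorphism of local rings and `A → C` flat, then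
`A → B` is flat. -/
theorem ringHom_flat_of_comp {A B C : Type u} [CommRing A] [CommRing B] [CommRing C]
    [IsLocalRing B] [IsLocalRing C] (φ : A →+* B) (ψ : B →+* C) [IsLocalHom ψ]
    (hψ : ψ.Flat) (hc : (ψ.comp φ).Flat) : φ.Flat := by
  algebraize [φ, ψ, ψ.comp φ]
  have : IsLocalHom (algebraMap B C) := ‹IsLocalHom ψ›
  have : Module.FaithfullyFlat B C := Module.FaithfullyFlat.of_flat_of_isLocalHom
  exact Groth.Agent.Lib.Helper25.FlatDescentPoint.flat_of_faithfullyFlat_comp A B C

variable {X Y S : Scheme.{u}}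

/-- A point of the pullback `X ×_Y Y_s` over a given point `x` of `X` with `s = g (f x)`. -/
theorem exists_point_fibre (g : Y ⟶ S) (f : X ⟶ Y) (x : X) :
    ∃ u : ↥(pullback f (g.fiberι (g (f x)))), pullback.fst f (g.fiberι (g (f x))) u = x := by
  obtain ⟨y', hy'⟩ : f x ∈ Set.range (g.fiberι (g (f x))) := by
    rw [g.range_fiberι]; rfl
  obtain ⟨u, hu1, -⟩ := Scheme.Pullback.exists_preimage_pullback x y' hy'.symm
  exact ⟨u, hu1⟩

/-- Pointwise fibre criterion: if `X ⟶ S` is flat at `x` and the base change of `f` to the fibre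
`Y_s` is smooth, then `f` is smooth at `x`. -/
theorem formallySmooth_stalkMap_of_smooth_fibre (g : Y ⟶ S) (f : X ⟶ Y)
    [LocallyOfFinitePresentation f] (x : X)
    (hflat : ((f ≫ g).stalkMap x).hom.Flat)
    (hs : Smooth (pullback.snd f (g.fiberι (g (f x))))) :
    (f.stalkMap x).hom.FormallySmooth := by
  obtain ⟨u, hu⟩ := exists_point_fibre g f x
  have H := IsPullback.of_hasPullback f (g.fiberι (g (f x)))
  have aux : ∀ z : X, z = x → ((f ≫ g).stalkMap z).hom.Flat := by
    rintro _ rfl; exact hflat
  have aux2 : ∀ z : X, z = x → (f.stalkMap z).hom.FormallySmooth →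
      (f.stalkMap x).hom.FormallySmooth := by
    rintro _ rfl h; exact h
  refine aux2 _ hu ?_
  refine Groth.Agent.Lib.Helper25.FiberSmoothRelScheme.formallySmooth_stalkMap_of_fiber g f
    (g (f x)) H u (aux _ hu) ?_
  have h1 := Scheme.Hom.smoothLocus_eq_top (pullback.snd f (g.fiberι (g (f x))))
  exact Scheme.Hom.mem_smoothLocus.mp (h1 ▸ trivial)

/-- Pointwise: the base change of `f` to the fibre being unramified implies `f` unramified at
`x`. -/
theorem formallyUnramified_stalkMap_of_unramified_fibre (g : Y ⟶ S) (f : X ⟶ Y)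
    [LocallyOfFiniteType f] (x : X)
    (hs : FormallyUnramified (pullback.snd f (g.fiberι (g (f x))))) :
    (f.stalkMap x).hom.FormallyUnramified := by
  obtain ⟨u, hu⟩ := exists_point_fibre g f x
  have H := IsPullback.of_hasPullback f (g.fiberι (g (f x)))
  have aux2 : ∀ z : X, z = x → (f.stalkMap z).hom.FormallyUnramified →
      (f.stalkMap x).hom.FormallyUnramified := by
    rintro _ rfl h; exact h
  refine aux2 _ hu ?_
  rw [← Groth.Agent.Lib.Helper25.PullbackStalk2.formallyUnramified_stalkMap_iff_of_isPullback H u]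
  exact FormallyUnramified.stalkMap _ u

/-- Smoothness from stalks. -/
theorem smooth_of_forall_stalkMap (f : X ⟶ Y) [LocallyOfFinitePresentation f]
    (H : ∀ x, (f.stalkMap x).hom.FormallySmooth) : Smooth f := by
  rw [← Scheme.Hom.smoothLocus_eq_top_iff, ← top_le_iff]
  intro x _
  exact Scheme.Hom.mem_smoothLocus.mpr (H x)

/-- Étaleness from stalks. -/
theorem etale_of_forall_stalkMap (f : X ⟶ Y) [LocallyOfFinitePresentation f]
    (H : ∀ x, (f.stalkMap x).hom.FormallySmooth)
    (H' : ∀ x, (f.stalkMap x).hom.FormallyUnramified) : Etale f := by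
  have := smooth_of_forall_stalkMap f H
  have : FormallyUnramified f :=
    HasRingHomProperty.of_stalkMap RingHom.FormallyUnramified.ofLocalizationPrime H'
  exact Etale.iff_flat_and_formallyUnramified.mpr ⟨inferInstance, inferInstance, inferInstance⟩

/-- If `f ≫ g` is flat at `x` and `f` is flat at `x`, then `g` is flat at `f x`. -/
theorem flat_stalkMap_of_comp (g : Y ⟶ S) (f : X ⟶ Y) (x : X)
    (hf : (f.stalkMap x).hom.Flat) (hc : ((f ≫ g).stalkMap x).hom.Flat) :
    (g.stalkMap (f x)).hom.Flat := by
  have h2 : ((f ≫ g).stalkMap x).hom = (f.stalkMap x).hom.comp (g.stalkMap (f x)).hom :=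
    congrArg CommRingCat.Hom.hom (Scheme.Hom.stalkMap_comp f g x)
  have hc' : ((f.stalkMap x).hom.comp (g.stalkMap (f x)).hom).Flat := h2 ▸ hc
  exact ringHom_flat_of_comp (g.stalkMap (f x)).hom (f.stalkMap x).hom hf hc'

end Groth.Agent.Lib.Helper25.FiberSmoothGlobal
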