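import Mathlib
import Groth.Agent.Lib.Helper13.SchemeLocal
import Groth.Agent.Lib.Helper13.SmoothDescentPoint
import Groth.Agent.Lib.Helper25.FiberSmooth
import Groth.Agent.Lib.Helper25.FiberSmoothScheme

set_option autoImplicit false
universe u
open CategoryTheory CategoryTheory.Limits AlgebraicGeometry Opposite

namespace Groth.Agent.Lib.Helper25.FiberSmoothScheme

/-- If `f` is flat at the image of a point `z` of the fibre over `s` and the fibre is smooth at
`z`, then `f` is smooth at the image of `z`. -/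
theorem mem_smoothLocus_of_flat_of_fiber {X S : Scheme.{u}} (f : X ⟶ S)
    [LocallyOfFinitePresentation f] (s : S)
    [LocallyOfFinitePresentation (f.fiberToSpecResidueField s)] (z : f.fiber s)
    (hflat : (f.stalkMap (f.fiberι s z)).hom.Flat)
    (hfib : z ∈ (f.fiberToSpecResidueField s).smoothLocus) :
    f.fiberι s z ∈ f.smoothLocus := by
  have H : IsPullback (f.fiberι s) (f.fiberToSpecResidueField s) f
      (S.fromSpecResidueField s) := IsPullback.of_hasPullback f _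
  set x := f.fiberι s z with hxdef
  have hfx : f x = s := by
    have : x ∈ Set.range (f.fiberι s) := ⟨z, rfl⟩
    rw [f.range_fiberι] at this
    exact this
  change (f.stalkMap x).hom.FormallySmooth
  set g := S.fromSpecResidueField s with hg
  set fib := f.fiberToSpecResidueField s with hfibdef
  set ι := f.fiberι s with hι
  -- an open of X cutting out the smooth locus of the fibre
  obtain ⟨T, hTopen, hT⟩ := (ι.isEmbedding.isInducing.isOpen_iff).mp fib.smoothLocus.2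
  have hxT : x ∈ T := by
    have : z ∈ ι ⁻¹' T := by rw [hT]; exact hfib
    exact this
  -- affine charts
  obtain ⟨U, hU, hsU, -⟩ := TopologicalSpace.Opens.isBasis_iff_nbhd.mp
    S.isBasis_affineOpens (TopologicalSpace.Opens.mem_top s)
  have hfxU : f x ∈ U := by rw [hfx]; exact hsU
  obtain ⟨V, hV, hxV, hVUT⟩ := TopologicalSpace.Opens.isBasis_iff_nbhd.mp
    X.isBasis_affineOpens (show x ∈ f ⁻¹ᵁ U ⊓ ⟨T, hTopen⟩ from ⟨hfxU, hxT⟩)
  have hVU : V ≤ f ⁻¹ᵁ U := hVUT.trans inf_le_left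
  have hVT : (V : Set X) ⊆ T := fun z hz => (hVUT hz).2
  have hU'U : (⊤ : (Spec (S.residueField s)).Opens) ≤ g ⁻¹ᵁ U := by
    intro z _
    change g z ∈ U
    rw [hg, Scheme.fromSpecResidueField_apply]
    exact hsU
  set V' : (f.fiber s).Opens := ι ⁻¹ᵁ V ⊓ fib ⁻¹ᵁ ⊤ with hV'def
  have hV'V : V' ≤ ι ⁻¹ᵁ V := inf_le_left
  have hV'top : V' ≤ fib ⁻¹ᵁ ⊤ := inf_le_right
  have hV'sm : V' ≤ fib.smoothLocus := by
    intro z hz
    have : z ∈ ι ⁻¹' T := hVT hz.1
    rw [hT] at this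
    exact this
  have hV' : IsAffineOpen V' := by
    have : IsAffine U := hU
    have : IsAffine (⊤ : (Spec (S.residueField s)).Opens) := isAffineOpen_top _
    have : IsAffine V := hV
    exact .of_isIso (Scheme.Hom.isPullback_resLE H hU'U hVU hV'def).isoPullback.hom
  have hpush : IsPushout (f.appLE U V hVU) (g.appLE U ⊤ hU'U)
      (ι.appLE V V' hV'V) (fib.appLE ⊤ V' hV'top) :=
    (isIso_pushoutSection_iff H hU'U hVU hV'def).mp
      (isIso_pushoutSection_of_isAffineOpen H hU'U hVU hV'def hU (isAffineOpen_top _) hV)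
  -- ring level
  have hfp := f.finitePresentation_appLE hU hV hVU
  have hfp' := fib.finitePresentation_appLE (isAffineOpen_top _) hV' hV'top
  let _ : Algebra Γ(S, U) Γ(X, V) := (f.appLE U V hVU).hom.toAlgebra
  let _ : Algebra Γ(S, U) Γ(Spec (S.residueField s), ⊤) := (g.appLE U ⊤ hU'U).hom.toAlgebra
  let _ : Algebra Γ(X, V) Γ(f.fiber s, V') := (ι.appLE V V' hV'V).hom.toAlgebra
  let _ : Algebra Γ(Spec (S.residueField s), ⊤) Γ(f.fiber s, V') :=
    (fib.appLE ⊤ V' hV'top).hom.toAlgebra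
  let _ : Algebra Γ(S, U) Γ(f.fiber s, V') :=
    ((ι.appLE V V' hV'V).hom.comp (f.appLE U V hVU).hom).toAlgebra
  have : IsScalarTower Γ(S, U) Γ(X, V) Γ(f.fiber s, V') := .of_algebraMap_eq' rfl
  have : IsScalarTower Γ(S, U) Γ(Spec (S.residueField s), ⊤) Γ(f.fiber s, V') :=
    .of_algebraMap_eq' <| by
      change (ι.appLE V V' hV'V).hom.comp (f.appLE U V hVU).hom =
        (fib.appLE ⊤ V' hV'top).hom.comp (g.appLE U ⊤ hU'U).hom
      rw [← CommRingCat.hom_comp, ← CommRingCat.hom_comp, hpush.w]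
  have : Algebra.FinitePresentation Γ(S, U) Γ(X, V) := hfp
  have : Algebra.FinitePresentation Γ(Spec (S.residueField s), ⊤) Γ(f.fiber s, V') := hfp'
  have : Algebra.IsPushout Γ(S, U) Γ(X, V) Γ(Spec (S.residueField s), ⊤)
      Γ(f.fiber s, V') := CommRingCat.isPushout_iff_isPushout.mp hpush
  -- the primes
  let q : Ideal Γ(X, V) := (hV.primeIdealOf ⟨x, hxV⟩).asIdeal
  let p : Ideal Γ(S, U) := (hU.primeIdealOf ⟨s, hsU⟩).asIdeal
  have hpp : hU.primeIdealOf ⟨f x, hVU hxV⟩ = hU.primeIdealOf ⟨s, hsU⟩ := by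
    congr 1
    exact Subtype.ext hfx
  have : q.LiesOver p :=
    ⟨congr($((IsAffineOpen.comap_primeIdealOf_appLE U hU V hV hVU hxV).trans hpp).1).symm⟩
  have hflat' : Module.Flat Γ(S, U) (Localization.AtPrime q) :=
    (Groth.Agent.Lib.Helper13.flat_stalkMap_iff U hU V hV hVU hxV).mp hflat
  -- the fibre chart is smooth
  have hsmfib : Algebra.FormallySmooth Γ(Spec (S.residueField s), ⊤) Γ(f.fiber s, V') := by
    rw [← Algebra.smoothLocus_eq_univ_iff]
    refine Set.eq_univ_iff_forall.mpr fun q' => ?_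
    let z' : V' := hV'.isoSpec.inv q'
    have hz' : hV'.primeIdealOf z' = q' := by
      change (hV'.isoSpec.inv ≫ hV'.isoSpec.hom) q' = q'
      rw [Iso.inv_hom_id]
      rfl
    have h1 : (fib.stalkMap z'.1).hom.FormallySmooth := hV'sm z'.2
    have h2 := (formallySmooth_stalkMap_iff ⊤ (isAffineOpen_top _) V' hV' hV'top z'.2).mp h1
    rw [← hz']
    exact h2
  obtain ⟨e⟩ := exists_algEquiv_residueField_Γ s hU hsU hU'U
  have : Algebra.FormallySmooth p.ResidueField (p.Fiber Γ(X, V)) :=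
    Groth.Agent.Lib.Helper25.FiberSmooth.formallySmooth_fiber_of_isPushout
      (R := Γ(S, U)) (S := Γ(X, V)) (k := Γ(Spec (S.residueField s), ⊤))
      (S' := Γ(f.fiber s, V')) p e
  have hsm : Algebra.IsSmoothAt Γ(S, U) q :=
    Groth.Agent.Lib.Helper25.FiberSmooth.isSmoothAt_of_flat_of_formallySmooth_fiber p q hflat'
  rw [formallySmooth_stalkMap_iff U hU V hV hVU hxV]
  exact hsm

end Groth.Agent.Lib.Helper25.FiberSmoothScheme

namespace Groth.Agent.Lib.Helper25.FiberSmoothScheme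

/-- Pointwise descent of smoothness along a base change flat at the point (general cartesian
square version of `Groth.Agent.S2757.result`). -/
theorem mem_smoothLocus_of_isPullback_of_flat {X Y X' Y' : Scheme.{u}} {f : X ⟶ Y} {g : Y' ⟶ Y}
    {f' : X' ⟶ Y'} {g' : X' ⟶ X} (H : IsPullback g' f' f g) [LocallyOfFinitePresentation f]
    [LocallyOfFinitePresentation f'] (x' : X')
    (hg : (g.stalkMap (f' x')).hom.Flat) (hx'sm : x' ∈ f'.smoothLocus) :
    g' x' ∈ f.smoothLocus := by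
  change (f.stalkMap (g' x')).hom.FormallySmooth
  -- affine charts
  obtain ⟨U, hU, hyU, -⟩ := TopologicalSpace.Opens.isBasis_iff_nbhd.mp
    Y.isBasis_affineOpens (TopologicalSpace.Opens.mem_top (f (g' x')))
  obtain ⟨V, hV, hxV, hVU⟩ := TopologicalSpace.Opens.isBasis_iff_nbhd.mp
    X.isBasis_affineOpens (show g' x' ∈ f ⁻¹ᵁ U from hyU)
  have hyU' : g (f' x') ∈ U := by
    have : g (f' x') = f (g' x') := by
      rw [← Scheme.Hom.comp_apply, ← Scheme.Hom.comp_apply, H.w]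
    rw [this]; exact hyU
  obtain ⟨U', hU', hy'U', hU'U⟩ := TopologicalSpace.Opens.isBasis_iff_nbhd.mp
    Y'.isBasis_affineOpens (show f' x' ∈ g ⁻¹ᵁ U from hyU')
  set W' : X'.Opens := g' ⁻¹ᵁ V ⊓ f' ⁻¹ᵁ U' with hW'def
  have hx'W' : x' ∈ W' := ⟨hxV, hy'U'⟩
  have hW'V : W' ≤ g' ⁻¹ᵁ V := inf_le_left
  have hW'U' : W' ≤ f' ⁻¹ᵁ U' := inf_le_right
  have hW' : IsAffineOpen W' := by
    have : IsAffine U := hU
    have : IsAffine U' := hU'
    have : IsAffine V := hV
    exact .of_isIso (Scheme.Hom.isPullback_resLE H hU'U hVU hW'def).isoPullback.hom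
  have hpush : IsPushout (f.appLE U V hVU) (g.appLE U U' hU'U)
      (g'.appLE V W' hW'V) (f'.appLE U' W' hW'U') :=
    (isIso_pushoutSection_iff H hU'U hVU hW'def).mp
      (isIso_pushoutSection_of_isAffineOpen H hU'U hVU hW'def hU hU' hV)
  -- ring level
  have hfp := f.finitePresentation_appLE hU hV hVU
  let _ : Algebra Γ(Y, U) Γ(X, V) := (f.appLE U V hVU).hom.toAlgebra
  let _ : Algebra Γ(Y, U) Γ(Y', U') := (g.appLE U U' hU'U).hom.toAlgebra
  let _ : Algebra Γ(X, V) Γ(X', W') := (g'.appLE V W' hW'V).hom.toAlgebra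
  let _ : Algebra Γ(Y', U') Γ(X', W') := (f'.appLE U' W' hW'U').hom.toAlgebra
  let _ : Algebra Γ(Y, U) Γ(X', W') :=
    ((g'.appLE V W' hW'V).hom.comp (f.appLE U V hVU).hom).toAlgebra
  have : IsScalarTower Γ(Y, U) Γ(X, V) Γ(X', W') := .of_algebraMap_eq' rfl
  have : IsScalarTower Γ(Y, U) Γ(Y', U') Γ(X', W') := .of_algebraMap_eq' <| by
    change (g'.appLE V W' hW'V).hom.comp (f.appLE U V hVU).hom =
      (f'.appLE U' W' hW'U').hom.comp (g.appLE U U' hU'U).hom
    rw [← CommRingCat.hom_comp, ← CommRingCat.hom_comp, hpush.w]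
  have : Algebra.FinitePresentation Γ(Y, U) Γ(X, V) := hfp
  have : Algebra.IsPushout Γ(Y, U) Γ(X, V) Γ(Y', U') Γ(X', W') :=
    CommRingCat.isPushout_iff_isPushout.mp hpush
  -- the primes
  let q' : Ideal Γ(X', W') := (hW'.primeIdealOf ⟨x', hx'W'⟩).asIdeal
  let q : Ideal Γ(X, V) := (hV.primeIdealOf ⟨g' x', hxV⟩).asIdeal
  let p' : Ideal Γ(Y', U') := (hU'.primeIdealOf ⟨f' x', hy'U'⟩).asIdeal
  have : q'.LiesOver q :=
    ⟨congr($(IsAffineOpen.comap_primeIdealOf_appLE V hV W' hW' hW'V hx'W').1).symm⟩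
  have : q'.LiesOver p' :=
    ⟨congr($(IsAffineOpen.comap_primeIdealOf_appLE U' hU' W' hW' hW'U' hx'W').1).symm⟩
  have hflat : Module.Flat Γ(Y, U) (Localization.AtPrime p') :=
    (Groth.Agent.Lib.Helper13.flat_stalkMap_iff U hU U' hU' hU'U hy'U').mp hg
  have hsm' : Algebra.IsSmoothAt Γ(Y', U') q' :=
    (formallySmooth_stalkMap_iff U' hU' W' hW' hW'U' hx'W').mp hx'sm
  have hsm : Algebra.IsSmoothAt Γ(Y, U) q :=
    Groth.Agent.Lib.Helper13.isSmoothAt_of_isPushout_of_flat p' q q'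
  rw [formallySmooth_stalkMap_iff U hU V hV hVU hxV]
  exact hsm

/-- The preimage of the smooth locus is contained in the smooth locus of a base change. -/
theorem preimage_smoothLocus_le_of_isPullback {X Y X' Y' : Scheme.{u}} {f : X ⟶ Y} {g : Y' ⟶ Y}
    {f' : X' ⟶ Y'} {g' : X' ⟶ X} (H : IsPullback g' f' f g) [LocallyOfFinitePresentation f]
    [LocallyOfFinitePresentation f'] : g' ⁻¹ᵁ f.smoothLocus ≤ f'.smoothLocus := by
  have hsm : Smooth (f.smoothLocus.ι ≫ f) :=
    Groth.Agent.Lib.Helper13.smooth_ι_comp_of_le_smoothLocus f _ le_rfl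
  have hp1 : IsPullback (g' ∣_ f.smoothLocus) (g' ⁻¹ᵁ f.smoothLocus).ι f.smoothLocus.ι g' :=
    isPullback_morphismRestrict _ _
  have hp2 : IsPullback (g' ∣_ f.smoothLocus) ((g' ⁻¹ᵁ f.smoothLocus).ι ≫ f')
      (f.smoothLocus.ι ≫ f) g := hp1.paste_vert H
  have hsm' : Smooth ((g' ⁻¹ᵁ f.smoothLocus).ι ≫ f') := MorphismProperty.of_isPullback hp2 hsm
  exact Groth.Agent.Lib.Helper13.le_smoothLocus_of_smooth_ι_comp f' _

end Groth.Agent.Lib.Helper25.FiberSmoothScheme
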