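import Mathlib
import Groth.Agent.Lib.Helper25.PowTangent3
import Groth.Agent.Lib.Helper25.PowRing4
import Groth.Agent.S4112

/-!
Multiplication by an integer `d` on a commutative group scheme of positive dimension over a field
`K` (integral, with closed unit point) is étale iff `d ≠ 0` in `K` (helper25).
-/

set_option autoImplicit false
set_option linter.style.haveILetI false
universe u
open CategoryTheory MonoidalCategory CartesianMonoidalCategory MonObj GrpObj AlgebraicGeometry
  IsLocalRing

namespace Groth.Agent.Lib.Helper25.AbVarPow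

open Groth.Agent.Lib.Helper25.GrpTangent Groth.Agent.Lib.Helper25
  Groth.Agent.Lib.Helper25.PowTangent

theorem formallyUnramified_of_stalkMap {X Y : Scheme.{u}} (f : X ⟶ Y) (x : X) (y : Y) (h : f x = y)
    (φ : Y.presheaf.stalk y ⟶ X.presheaf.stalk x)
    (hφ : Spec.map φ ≫ Y.fromSpecStalk y = X.fromSpecStalk x ≫ f)
    (H : (f.stalkMap x).hom.FormallyUnramified) : φ.hom.FormallyUnramified := by
  subst h
  have : φ = f.stalkMap x := by
    apply Spec.map_injective
    rw [← cancel_mono (Y.fromSpecStalk (f x)), hφ, Scheme.SpecMap_stalkMap_fromSpecStalk]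
  rw [this]
  exact H

variable {K : Type u} [Field K]

/-- If the `n`-th power map is étale and `n = 0` in `K`, the local ring at the unit is a field. -/
theorem maximalIdeal_eq_bot_of_etale_pow (G : Over (Spec (CommRingCat.of K))) [MonObj G]
    [LocallyOfFiniteType G.hom] (n : ℕ) (hn : (n : K) = 0)
    (hE : Etale ((𝟙 G : G ⟶ G) ^ n).left) : maximalIdeal (A G) = ⊥ := by
  set f : G.left ⟶ G.left := ((𝟙 G : G ⟶ G) ^ n).left with hf
  haveI : IsLocallyNoetherian (Spec (CommRingCat.of K)) := inferInstance
  haveI : IsLocallyNoetherian G.left := LocallyOfFiniteType.isLocallyNoetherian G.hom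
  haveI : LocallyOfFinitePresentation f := inferInstance
  obtain ⟨φ, hφ, hpφ, hφa⟩ := exists_powHom G n
  have hrel : Spec.map φ ≫ G.left.fromSpecStalk (e G) = G.left.fromSpecStalk (e G) ≫ f := by
    have h1 : tau G ≫ (𝟙 G : G ⟶ G) ^ n = (tau G) ^ n := by
      rw [MonObj.comp_pow, Category.comp_id]
    have h2 := congrArg (fun p => p.left) (h1.trans hpφ)
    simp only [Over.comp_left, pt_left, tau_left] at h2
    exact h2.symm
  have hfe : f (e G) = e G := by
    have h1 : η[G] ≫ (𝟙 G : G ⟶ G) ^ n = η[G] := by
      rw [MonObj.comp_pow, Category.comp_id, MonObj.one_eq_one, one_pow]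
    have := congrArg (fun p => p.left (closedPoint K)) h1
    exact this
  have hst := (NhdStalk.exists_etale_nhd_iff f (e G)).mp ⟨⊤, trivial, inferInstance⟩
  have hu := formallyUnramified_of_stalkMap f (e G) (e G) hfe φ hrel hst.2
  letI := algA G
  haveI : IsNoetherianRing (A G) := inferInstance
  haveI : Algebra.EssFiniteType K (A G) := essFiniteType_str G
  let φA : A G →ₐ[K] A G :=
    { φ.hom with commutes' := fun k => congrArg (fun g => g.hom k) hφ }
  refine PowRing.maximalIdeal_eq_bot_of_unramified (augAlg G) (augAlg G) AlgEquiv.refl φA n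
    ?_ ?_ hn hu
  · intro x
    exact congrArg (fun g => g.hom x) hφa
  · intro x hx
    have := powHom_sub_mem G n φ hφ hpφ hφa x hx
    rwa [nsmul_eq_mul] at this

/-- An integral scheme with a closed point whose local ring is a field is a single point. -/
theorem subsingleton_of_stalk_field {X : Scheme.{u}} [IsIntegral X] (x : X)
    (hx : IsClosed ({x} : Set X)) (hm : maximalIdeal (X.presheaf.stalk x) = ⊥) :
    Subsingleton X := by
  have h1 : genericPoint X ⤳ x := genericPoint_specializes x
  have h2 : genericPoint X ∈ Set.range (X.fromSpecStalk x) := by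
    rw [Scheme.range_fromSpecStalk]
    exact h1
  obtain ⟨q, hq⟩ := h2
  have h3 : q = closedPoint (X.presheaf.stalk x) := by
    apply PrimeSpectrum.ext
    have hle : q.asIdeal ≤ maximalIdeal (X.presheaf.stalk x) :=
      IsLocalRing.le_maximalIdeal q.2.ne_top
    rw [hm] at hle
    change q.asIdeal = maximalIdeal (X.presheaf.stalk x)
    rw [hm]
    exact le_antisymm hle bot_le
  have h4 : genericPoint X = x := by
    rw [← hq, h3, Scheme.fromSpecStalk_closedPoint]
  have h5 : (Set.univ : Set X) = {x} := by
    have := (genericPoint_spec X).def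
    rw [h4, hx.closure_eq] at this
    exact this.symm
  refine ⟨fun a b => ?_⟩
  have ha : a ∈ ({x} : Set X) := h5 ▸ Set.mem_univ a
  have hb : b ∈ ({x} : Set X) := h5 ▸ Set.mem_univ b
  rw [Set.mem_singleton_iff] at ha hb
  rw [ha, hb]

theorem isIso_inv_left (G : Over (Spec (CommRingCat.of K))) [GrpObj G] : IsIso ι[G].left := by
  have h : ι[G] ≫ ι[G] = 𝟙 G := by
    have h1 : ((𝟙 G : G ⟶ G)⁻¹)⁻¹ = 𝟙 G := inv_inv _
    rw [Hom.inv_def, Hom.inv_def, Category.id_comp] at h1
    exact h1
  haveI : IsIso ι[G] := ⟨⟨ι[G], h, h⟩⟩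
  exact inferInstanceAs (IsIso ((Over.forget _).map ι[G]))

/-- Multiplication by `d ∈ ℤ` on a commutative integral group scheme of positive dimension, locally
of finite type and quasi-compact over a field, with closed unit point, is étale iff `d ≠ 0` in the
field. -/
theorem etale_zpow_iff (G : Over (Spec (CommRingCat.of K))) [GrpObj G] [IsCommMonObj G]
    [LocallyOfFiniteType G.hom] [QuasiCompact G.hom] [IsIntegral G.left]
    (hclosed : IsClosed ({e G} : Set G.left)) (hdim : 0 < topologicalKrullDim G.left) (d : ℤ) :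
    Etale ((𝟙 G : G ⟶ G) ^ d).left ↔ (d : K) ≠ 0 := by
  have key : ∀ n : ℕ, Etale ((𝟙 G : G ⟶ G) ^ n).left ↔ (n : K) ≠ 0 := by
    intro n
    constructor
    · intro hE hn
      have h1 := maximalIdeal_eq_bot_of_etale_pow G n hn hE
      haveI := subsingleton_of_stalk_field (e G) hclosed h1
      have h2 : topologicalKrullDim G.left ≤ 0 := topologicalKrullDim_zero_of_discreteTopology _
      exact absurd (lt_of_lt_of_le hdim h2) (lt_irrefl _)
    · intro hn
      exact Groth.Agent.S4112.result K G n hn
  haveI := isIso_inv_left G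
  cases d with
  | ofNat n =>
    rw [Int.ofNat_eq_natCast, zpow_natCast, Int.cast_natCast]
    exact key n
  | negSucc n =>
    rw [zpow_negSucc, Hom.inv_def, Over.comp_left,
      MorphismProperty.cancel_right_of_respectsIso (P := @Etale), key (n + 1), Int.cast_negSucc,
      neg_ne_zero]

end Groth.Agent.Lib.Helper25.AbVarPow
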