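import Mathlib
import Groth.Agent.Lib.Helper25.AbVarPow1
import Groth.Agent.Lib.Helper10.RigidAA4
import Groth.Agent.Lib.Helper10.RigidAA7
import Groth.Agent.Lib.Helper10.RigidAA8

/-!
Multiplication by an integer invertible in the base field on a proper, geometrically reduced and
geometrically connected group scheme over a field is étale (helper25).
-/

set_option autoImplicit false
set_option linter.style.haveILetI false
universe u
open CategoryTheory CategoryTheory.Limits MonoidalCategory CartesianMonoidalCategory MonObj GrpObj
  AlgebraicGeometry

namespace Groth.Agent.Lib.Helper25.AbSchPow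

variable {k : Type u} [Field k]

set_option backward.isDefEq.respectTransparency.types false in
/-- A proper, geometrically reduced, geometrically connected scheme over a field has only constant
global functions. -/
theorem bijective_of_proper_geomReduced_geomConnected (V : Over (Spec (CommRingCat.of k)))
    [IsProper V.hom] [GeometricallyReduced V.hom] [GeometricallyConnected V.hom] :
    Function.Bijective ((Scheme.ΓSpecIso (CommRingCat.of k)).inv ≫ V.hom.appTop).hom := by
  let K := AlgebraicClosure k
  rw [Groth.Agent.Lib.Helper10.RigidAA.bijective_baseChange_iff (K := K) V]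
  let y := Spec.map (CommRingCat.ofHom (algebraMap k K))
  haveI : IsReduced (pullback V.hom y) :=
    GeometricallyReduced.geometrically_isReduced (f := V.hom) y _ _
      (IsPullback.of_hasPullback V.hom y)
  haveI : ConnectedSpace ↥(pullback V.hom y) :=
    GeometricallyConnected.geometrically_connectedSpace (f := V.hom) y _ _
      (IsPullback.of_hasPullback V.hom y)
  let V' : Over (Spec (CommRingCat.of K)) := Over.mk (pullback.snd V.hom y)
  haveI : UniversallyClosed V'.hom := by
    show UniversallyClosed (pullback.snd V.hom y)
    infer_instance
  haveI : IsReduced V'.left := inferInstanceAs (IsReduced (pullback V.hom y))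
  haveI : ConnectedSpace V'.left := inferInstanceAs (ConnectedSpace ↥(pullback V.hom y))
  exact Groth.Agent.Lib.Helper10.RigidAA.bijective_of_universallyClosed V'

/-- On a commutative group scheme of finite type over a field, multiplication by an integer which
is nonzero in the field is étale. -/
theorem etale_zpow_of_ne_zero (G : Over (Spec (CommRingCat.of k))) [GrpObj G] [IsCommMonObj G]
    [LocallyOfFiniteType G.hom] [QuasiCompact G.hom] (d : ℤ) (hd : (d : k) ≠ 0) :
    Etale ((𝟙 G : G ⟶ G) ^ d).left := by
  haveI := Groth.Agent.Lib.Helper25.AbVarPow.isIso_inv_left G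
  cases d with
  | ofNat n =>
    rw [Int.ofNat_eq_natCast, zpow_natCast]
    rw [Int.ofNat_eq_natCast, Int.cast_natCast] at hd
    exact Groth.Agent.S4112.result k G n hd
  | negSucc n =>
    rw [zpow_negSucc, Hom.inv_def, Over.comp_left]
    have h1 : ((n + 1 : ℕ) : k) ≠ 0 := by
      rw [Int.cast_negSucc, neg_ne_zero] at hd
      exact hd
    haveI := Groth.Agent.S4112.result k G (n + 1) h1
    infer_instance

/-- On a proper, geometrically reduced, geometrically connected group scheme over a field,
multiplication by an integer which is nonzero in the field is étale. -/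
theorem etale_zpow_of_proper (G : Over (Spec (CommRingCat.of k))) [GrpObj G] [IsProper G.hom]
    [GeometricallyReduced G.hom] [GeometricallyConnected G.hom] (d : ℤ) (hd : (d : k) ≠ 0) :
    Etale ((𝟙 G : G ⟶ G) ^ d).left := by
  haveI : IsCommMonObj G :=
    Groth.Agent.Lib.Helper10.RigidAA.isCommMonObj_of_antiAffine G
      (bijective_of_proper_geomReduced_geomConnected G)
  exact etale_zpow_of_ne_zero G d hd

end Groth.Agent.Lib.Helper25.AbSchPow
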