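import Mathlib
import Groth.Agent.Lib.Helper25.AbSchPow1
import Groth.Agent.Lib.Helper14.EtaleLQF
import Groth.Agent.S2763

/-!
Multiplication by an integer invertible on the base on an abelian scheme is finite étale
(helper25): base change of powers and the fibrewise criterion.
-/

set_option autoImplicit false
set_option linter.style.haveILetI false
universe u
open CategoryTheory CategoryTheory.Limits MonoidalCategory CartesianMonoidalCategory MonObj GrpObj
  AlgebraicGeometry

namespace Groth.Agent.Lib.Helper25.AbSchPow

variable {S T : Scheme.{u}} (h : T ⟶ S)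

theorem map_left_fst {X Y : Over S} (φ : X ⟶ Y) :
    ((Over.pullback h).map φ).left ≫ pullback.fst Y.hom h = pullback.fst X.hom h ≫ φ.left :=
  pullback.lift_fst _ _ _

theorem map_left_snd {X Y : Over S} (φ : X ⟶ Y) :
    ((Over.pullback h).map φ).left ≫ pullback.snd Y.hom h = pullback.snd X.hom h :=
  pullback.lift_snd _ _ _

/-- The base change of a morphism over `S` along `h : T ⟶ S` is cartesian over the morphism. -/
theorem isPullback_map_left {X Y : Over S} (φ : X ⟶ Y) :
    IsPullback ((Over.pullback h).map φ).left (pullback.fst X.hom h) (pullback.fst Y.hom h)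
      φ.left := by
  have s : IsPullback (((Over.pullback h).map φ).left ≫ pullback.snd Y.hom h)
      (pullback.fst X.hom h) h (φ.left ≫ Y.hom) := by
    rw [map_left_snd, Over.w φ]
    exact (IsPullback.of_hasPullback X.hom h).flip
  exact IsPullback.of_right s (map_left_fst h φ) (IsPullback.of_hasPullback Y.hom h).flip

/-- Base change commutes with integer powers of endomorphisms of a group object. -/
theorem map_zpow_eq {X : Over S} [GrpObj X] (φ : X ⟶ X) (n : ℤ) :
    letI : GrpObj ((Over.pullback h).obj X) := Functor.grpObjObj
    (Over.pullback h).map (φ ^ n) = ((Over.pullback h).map φ) ^ n := by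
  letI : GrpObj ((Over.pullback h).obj X) := Functor.grpObjObj
  exact map_zpow ((Over.pullback h).homMonoidHom (X := X) (M := X)) φ n

end Groth.Agent.Lib.Helper25.AbSchPow
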