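import Mathlib
import Groth.Agent.Lib.Helper25.AbSchPow2

/-!
Multiplication by an integer invertible on the base on an abelian scheme is finite étale
(helper25): main statements.
-/

set_option autoImplicit false
set_option linter.style.haveILetI false
universe u
open CategoryTheory CategoryTheory.Limits MonoidalCategory CartesianMonoidalCategory MonObj GrpObj
  AlgebraicGeometry

namespace Groth.Agent.Lib.Helper25.AbSchPow

set_option backward.isDefEq.respectTransparency.types false in
/-- On an abelian scheme, multiplication by an integer invertible on the base is étale. -/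
theorem etale_zpow_abelianScheme {S : Scheme.{u}} (X : Over S) [GrpObj X] [IsProper X.hom]
    [Flat X.hom] [LocallyOfFinitePresentation X.hom] [GeometricallyReduced X.hom]
    [GeometricallyConnected X.hom] (n : ℤ) (hn : IsUnit (n : Γ(S, ⊤))) :
    Etale ((𝟙 X : X ⟶ X) ^ n).left := by
  rw [Groth.Agent.S2763.result X.hom X.hom ((𝟙 X : X ⟶ X) ^ n).left (Over.w _)]
  intro s
  let h := S.fromSpecResidueField s
  let Xs : Over (Spec (S.residueField s)) := (Over.pullback h).obj X
  letI : GrpObj Xs := Functor.grpObjObj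
  have hXs : Xs.hom = pullback.snd X.hom h := rfl
  haveI : IsProper Xs.hom := by rw [hXs]; infer_instance
  haveI : GeometricallyReduced Xs.hom := by rw [hXs]; infer_instance
  haveI : GeometricallyConnected Xs.hom := by rw [hXs]; infer_instance
  have hd : ((n : ℤ) : S.residueField s) ≠ 0 := by
    let ψ : Γ(S, ⊤) ⟶ S.residueField s := h.appTop ≫ (Scheme.ΓSpecIso _).hom
    have h1 : IsUnit (ψ.hom (n : Γ(S, ⊤))) := hn.map ψ.hom
    rw [map_intCast] at h1
    exact h1.ne_zero
  have hE : Etale ((𝟙 Xs : Xs ⟶ Xs) ^ n).left :=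
    etale_zpow_of_proper (k := S.residueField s) Xs n hd
  have hmap : (Over.pullback h).map ((𝟙 X : X ⟶ X) ^ n) = (𝟙 Xs : Xs ⟶ Xs) ^ n := by
    rw [map_zpow_eq, (Over.pullback h).map_id]
  have sq := (isPullback_map_left h ((𝟙 X : X ⟶ X) ^ n)).flip
  rw [hmap] at sq
  have e2 : pullback.snd ((𝟙 X : X ⟶ X) ^ n).left (pullback.fst X.hom h) =
      sq.isoPullback.inv ≫ ((𝟙 Xs : Xs ⟶ Xs) ^ n).left := by
    rw [Iso.eq_inv_comp]
    exact sq.isoPullback_hom_snd
  change Etale (pullback.snd ((𝟙 X : X ⟶ X) ^ n).left (pullback.fst X.hom h))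
  rw [e2]
  infer_instance

/-- On an abelian scheme, multiplication by an integer invertible on the base is finite. -/
theorem isFinite_zpow_abelianScheme {S : Scheme.{u}} (X : Over S) [GrpObj X] [IsProper X.hom]
    [Flat X.hom] [LocallyOfFinitePresentation X.hom] [GeometricallyReduced X.hom]
    [GeometricallyConnected X.hom] (n : ℤ) (hn : IsUnit (n : Γ(S, ⊤))) :
    IsFinite ((𝟙 X : X ⟶ X) ^ n).left := by
  haveI := etale_zpow_abelianScheme X n hn
  haveI : LocallyQuasiFinite ((𝟙 X : X ⟶ X) ^ n).left :=
    Groth.Agent.Lib.Helper14.AS.etale_locallyQuasiFinite _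
  haveI : IsProper (((𝟙 X : X ⟶ X) ^ n).left ≫ X.hom) := by
    rw [Over.w]
    infer_instance
  haveI : IsProper ((𝟙 X : X ⟶ X) ^ n).left := IsProper.of_comp _ X.hom
  exact IsFinite.of_isProper_of_locallyQuasiFinite _

end Groth.Agent.Lib.Helper25.AbSchPow
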