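import Mathlib

/-!
# `MvPolynomial ι R` is standard smooth of relative dimension `card ι` over `R`
-/

set_option autoImplicit false

namespace Groth.Agent.Lib.Helper25.StdSmoothMvPoly

open Algebra MvPolynomial

universe u
variable (R : Type u) [CommRing R] (ι : Type) [Finite ι]

/-- The presentation of `R[Xᵢ]` with generators `Xᵢ` and no relations. -/
noncomputable def pres : Algebra.Presentation R (MvPolynomial ι R) ι PEmpty.{1} where
  toGenerators := Generators.mvPolynomial R ι
  relation := PEmpty.elim
  span_range_relation_eq_ker := by
    rw [Generators.ker_mvPolynomial]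
    simp [Set.range_eq_empty]

noncomputable def preSub : PreSubmersivePresentation R (MvPolynomial ι R) ι PEmpty.{1} where
  toPresentation := pres R ι
  map := PEmpty.elim
  map_inj a := a.elim

lemma preSub_jacobian : (preSub R ι).jacobian = 1 := by
  classical
  rw [PreSubmersivePresentation.jacobian_eq_jacobiMatrix_det, Matrix.det_isEmpty, map_one]

noncomputable def sub : SubmersivePresentation R (MvPolynomial ι R) ι PEmpty.{1} where
  toPreSubmersivePresentation := preSub R ι
  jacobian_isUnit := by
    rw [preSub_jacobian]
    exact isUnit_one

lemma sub_dimension : (sub R ι).dimension = Nat.card ι := by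
  simp [Presentation.dimension]

theorem isStandardSmoothOfRelativeDimension (n : ℕ) (hn : Nat.card ι = n) :
    Algebra.IsStandardSmoothOfRelativeDimension n R (MvPolynomial ι R) :=
  ⟨ι, PEmpty.{1}, inferInstance, inferInstance, sub R ι, by rw [sub_dimension, hn]⟩

theorem isStandardSmoothOfRelativeDimension_fin (n : ℕ) :
    Algebra.IsStandardSmoothOfRelativeDimension n R (MvPolynomial (Fin n) R) :=
  isStandardSmoothOfRelativeDimension R (Fin n) n (by simp)

end Groth.Agent.Lib.Helper25.StdSmoothMvPoly
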