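import Mathlib.AlgebraicGeometry.Morphisms.Proper
import Mathlib.AlgebraicGeometry.Morphisms.Immersion
import Mathlib.AlgebraicGeometry.Morphisms.FlatDescent
import Mathlib.AlgebraicGeometry.Morphisms.LocalFlatDescent

/-!
# fpqc descent of separatedness and properness

`IsSeparated` and `IsProper` descend along surjective flat quasi-compact morphisms
(`DescendsAlong` instances).  The proof for separatedness is topological: the diagonal is always
an immersion, and having closed range descends because fpqc maps are quotient maps.
-/

universe u

open CategoryTheory CategoryTheory.Limits AlgebraicGeometry MorphismProperty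

namespace Groth.Agent.Lib.Helper25.ProperDescent

/-- The morphism property of having closed range. -/
def closedRange : MorphismProperty Scheme.{u} := fun _ _ f => IsClosed (Set.range f)

instance : closedRange.{u}.RespectsIso := by
  apply MorphismProperty.RespectsIso.mk
  · intro X Y Z e f hf
    change IsClosed (Set.range (e.hom ≫ f))
    have hsurj : Set.range e.hom = Set.univ := Set.range_eq_univ.2 e.hom.homeomorph.surjective
    rw [Scheme.Hom.comp_base, TopCat.coe_comp, Set.range_comp, hsurj, Set.image_univ]
    exact hf
  · intro X Y Z e f hf
    change IsClosed (Set.range (f ≫ e.hom))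
    rw [Scheme.Hom.comp_base, TopCat.coe_comp, Set.range_comp]
    exact e.hom.homeomorph.isClosedMap _ hf

instance fpqc_isStableUnderBaseChange :
    (@Surjective ⊓ @Flat ⊓ @QuasiCompact : MorphismProperty Scheme.{u}).IsStableUnderBaseChange :=
  have : (@Surjective ⊓ @Flat : MorphismProperty Scheme.{u}).IsStableUnderBaseChange :=
    IsStableUnderBaseChange.inf
  IsStableUnderBaseChange.inf

instance : closedRange.{u}.DescendsAlong (@Surjective ⊓ @Flat ⊓ @QuasiCompact) := by
  apply DescendsAlong.mk'
  rintro X Y Z f g _ ⟨⟨hs, hfl⟩, hqc⟩ hfst
  change IsClosed (Set.range (pullback.fst f g)) at hfst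
  change IsClosed (Set.range g)
  rw [Scheme.Pullback.range_fst] at hfst
  rwa [(Flat.isQuotientMap_of_surjective f).isClosed_preimage] at hfst

theorem isSeparated_iff_diagonal_closedRange {X Y : Scheme.{u}} (g : X ⟶ Y) :
    IsSeparated g ↔ closedRange.diagonal g := by
  constructor
  · intro h
    exact (pullback.diagonal g).isClosedEmbedding.isClosed_range
  · intro h
    exact ⟨IsClosedImmersion.of_isPreimmersion _ h⟩

/-- Separatedness satisfies fpqc descent. -/
instance isSeparated_descendsAlong :
    DescendsAlong @IsSeparated.{u} (@Surjective ⊓ @Flat ⊓ @QuasiCompact) := by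
  constructor
  intro A X Y Z fst snd f g h hf hfst
  rw [isSeparated_iff_diagonal_closedRange] at hfst ⊢
  exact MorphismProperty.of_isPullback_of_descendsAlong (P := closedRange.diagonal) h hf hfst

/-- Properness satisfies fpqc descent. -/
instance isProper_descendsAlong :
    DescendsAlong @IsProper.{u} (@Surjective ⊓ @Flat ⊓ @QuasiCompact) := by
  constructor
  intro A X Y Z fst snd f g h hf hfst
  have h1 : IsSeparated g :=
    MorphismProperty.of_isPullback_of_descendsAlong (P := @IsSeparated) h hf hfst.toIsSeparated
  have h2 : UniversallyClosed g :=
    MorphismProperty.of_isPullback_of_descendsAlong (P := @UniversallyClosed) h hf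
      hfst.toUniversallyClosed
  have h3 : LocallyOfFiniteType g :=
    MorphismProperty.of_isPullback_of_descendsAlong (P := @LocallyOfFiniteType) h hf
      hfst.toLocallyOfFiniteType
  exact { }

end Groth.Agent.Lib.Helper25.ProperDescent
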