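import Groth.Agent.Lib.Helper25.PolyQC
import Groth.Agent.Lib.Helper25.PolyRelProj1
import Groth.Agent.Lib.Helper3.ProjAux2
/-!
# Charts of projective space over a scheme
-/
universe u
open CategoryTheory CategoryTheory.Limits AlgebraicGeometry Opposite TopologicalSpace
open scoped HomogeneousIdeal
open RelSpec RelProj

namespace Groth.Agent.Lib.Helper25.PolyRelProj
open Groth.Agent.Lib.Helper3 Groth.Agent.Lib.Helper25.PolyQC

section general
variable {A B σ τ : Type*} [CommRing A] [CommRing B] [SetLike σ A] [AddSubgroupClass σ A]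
  [SetLike τ B] [AddSubgroupClass τ B] {𝒜 : ℕ → σ} {ℬ : ℕ → τ} [GradedRing 𝒜] [GradedRing ℬ]

theorem irr_le_map_of_surj (φ : 𝒜 →+*ᵍ ℬ) (h : ∀ (d : ℕ) (b : B), b ∈ ℬ d → ∃ a ∈ 𝒜 d, φ a = b) :
    ℬ₊ ≤ (𝒜₊).map φ := by
  rw [HomogeneousIdeal.irrelevant_le]
  intro i hi b hb
  obtain ⟨a, ha, rfl⟩ := h i b hb
  change φ a ∈ Ideal.map φ (𝒜₊.toIdeal)
  exact Ideal.mem_map_of_mem _ (HomogeneousIdeal.mem_irrelevant_of_mem _ hi ha)

end general

/-- the ring homomorphism from `ULift ℤ` -/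
noncomputable def ζ (R' : Type u) [CommRing R'] : ULift.{u} ℤ →+* R' :=
  (Int.castRingHom R').comp (ULift.ringEquiv : ULift.{u} ℤ ≃+* ℤ).toRingHom

/-- the algebra structure over `ULift ℤ` -/
@[reducible] noncomputable def zAlg (R' : Type u) [CommRing R'] : Algebra (ULift.{u} ℤ) R' :=
  (ζ R').toAlgebra

variable (n : ℕ) (S : Scheme.{u})

/-- the graded comparison `O(U)[x] → polAlg(U)` -/
noncomputable def γiG (U : S.Opens) (hU : IsAffineOpen U) :
    CohB1.polyGrading n Γ(S, U) →+*ᵍ (polGrAlg n S).deg U hU :=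
  { γi n S U hU with
    map_mem := fun {d x} hx => (mem_pdeg_iff n S U hU d _).mpr (by
      change (γh n S U hU (γi n S U hU x)).IsHomogeneous d
      rw [γh_γi]
      exact (MvPolynomial.mem_homogeneousSubmodule _ _).mp hx) }

/-- the graded comparison `polAlg(U) → O(U)[x]` -/
noncomputable def γG (U : S.Opens) (hU : IsAffineOpen U) :
    (polGrAlg n S).deg U hU →+*ᵍ CohB1.polyGrading n Γ(S, U) :=
  { γh n S U hU with
    map_mem := fun {d x} hx => (MvPolynomial.mem_homogeneousSubmodule _ _).mpr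
      ((mem_pdeg_iff n S U hU d x).mp hx) }

theorem γiG_apply (U : S.Opens) (hU : IsAffineOpen U) (x : MvPolynomial (Fin (n + 1)) Γ(S, U)) :
    γiG n S U hU x = γi n S U hU x := rfl

theorem γG_apply (U : S.Opens) (hU : IsAffineOpen U) (x : (polAlg n S).presheaf.obj (op U)) :
    γG n S U hU x = γh n S U hU x := rfl

theorem γiG_irr (U : S.Opens) (hU : IsAffineOpen U) :
    ((polGrAlg n S).deg U hU)₊ ≤ ((CohB1.polyGrading n Γ(S, U))₊).map (γiG n S U hU) :=
  irr_le_map_of_surj _ fun d b hb =>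
    ⟨γh n S U hU b, (MvPolynomial.mem_homogeneousSubmodule _ _).mpr ((mem_pdeg_iff n S U hU d b).mp hb),
      γi_γh n S U hU b⟩

theorem γG_irr (U : S.Opens) (hU : IsAffineOpen U) :
    (CohB1.polyGrading n Γ(S, U))₊ ≤ (((polGrAlg n S).deg U hU)₊).map (γG n S U hU) := by
  refine irr_le_map_of_surj (𝒜 := (polGrAlg n S).deg U hU) (ℬ := CohB1.polyGrading n Γ(S, U))
    (γG n S U hU) ?_
  intro d b hb
  exact ⟨γi n S U hU b, (γiG n S U hU).map_mem hb, γh_γi n S U hU b⟩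

/-- the comparison of Proj's -/
noncomputable def θ (U : S.Opens) (hU : IsAffineOpen U) :
    Proj ((polGrAlg n S).deg U hU) ≅ Proj (CohB1.polyGrading n Γ(S, U)) where
  hom := Proj.map (γiG n S U hU) (γiG_irr n S U hU)
  inv := Proj.map (γG n S U hU) (γG_irr n S U hU)
  hom_inv_id := by
    rw [← Proj.map_comp (γG n S U hU) (γiG n S U hU) (γG_irr n S U hU) (γiG_irr n S U hU)]
    exact (ProjAux.map_congr (𝒜 := (polGrAlg n S).deg U hU) (ℬ := (polGrAlg n S).deg U hU)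
      (GradedRingHom.ext fun x => γi_γh n S U hU x) _ (by simp)).trans
      (Proj.map_id (𝒜 := (polGrAlg n S).deg U hU))
  inv_hom_id := by
    rw [← Proj.map_comp (γiG n S U hU) (γG n S U hU) (γiG_irr n S U hU) (γG_irr n S U hU)]
    exact (ProjAux.map_congr (𝒜 := CohB1.polyGrading n Γ(S, U)) (ℬ := CohB1.polyGrading n Γ(S, U))
      (GradedRingHom.ext fun x => γh_γi n S U hU x) _ (by simp)).trans
      (Proj.map_id (𝒜 := CohB1.polyGrading n Γ(S, U)))

/-- the graded homomorphism `ℤ[x] → polAlg(U)` -/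
noncomputable def ψ (U : S.Opens) (hU : IsAffineOpen U) :
    CohB1.polyGrading n (ULift.{u} ℤ) →+*ᵍ (polGrAlg n S).deg U hU :=
  (γiG n S U hU).comp (@polyMapG n (ULift.{u} ℤ) Γ(S, U) _ _ (zAlg Γ(S, U)))

theorem ψ_irr (U : S.Opens) (hU : IsAffineOpen U) :
    ((polGrAlg n S).deg U hU)₊ ≤ ((CohB1.polyGrading n (ULift.{u} ℤ))₊).map (ψ n S U hU) :=
  HomogeneousIdeal.irrelevant_le_map_comp (@polyMapG_irr n (ULift.{u} ℤ) Γ(S, U) _ _ (zAlg Γ(S, U)))
    (γiG_irr n S U hU)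

theorem map_ψ (U : S.Opens) (hU : IsAffineOpen U) :
    Proj.map (ψ n S U hU) (ψ_irr n S U hU) = (θ n S U hU).hom ≫
      Proj.map (@polyMapG n (ULift.{u} ℤ) Γ(S, U) _ _ (zAlg Γ(S, U)))
        (@polyMapG_irr n (ULift.{u} ℤ) Γ(S, U) _ _ (zAlg Γ(S, U))) :=
  Proj.map_comp _ _ _ _

theorem θ_toSpec (U : S.Opens) (hU : IsAffineOpen U) :
    (θ n S U hU).hom ≫ Proj.toSpecZero (CohB1.polyGrading n Γ(S, U)) ≫
      Spec.map (CommRingCat.ofHom (algebraMap Γ(S, U) (CohB1.polyGrading n Γ(S, U) 0))) =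
      Proj.toSpecZero ((polGrAlg n S).deg U hU) ≫ Spec.map ((polGrAlg n S).strZero U hU) := by
  change Proj.map (γiG n S U hU) (γiG_irr n S U hU) ≫ Proj.toSpecZero (CohB1.polyGrading n Γ(S, U)) ≫
    Spec.map (CommRingCat.ofHom (algebraMap Γ(S, U) (CohB1.polyGrading n Γ(S, U) 0))) = _
  rw [← Category.assoc, ProjAux.map_toSpecZero, Category.assoc, ← Spec.map_comp]
  congr 2
  ext r
  change γi n S U hU (MvPolynomial.C r) = strB (polAlg n S) U r
  exact γi_C n S U hU r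

/-- the morphism `Proj polAlg(U) → P^n_ℤ` -/
noncomputable def projψ (U : S.Opens) (hU : IsAffineOpen U) :
    Proj ((polGrAlg n S).deg U hU) ⟶ CohB1.ProjSpace n (ULift.{u} ℤ) :=
  Proj.map (ψ n S U hU) (ψ_irr n S U hU)

/-- the projection `P^n_S → P^n_ℤ` -/
noncomputable def fstP : CohB1.ProjSpaceOver n S ⟶ CohB1.ProjSpace n (ULift.{u} ℤ) :=
  pullback.fst (CohB1.ProjSpace.toSpec n (ULift.{u} ℤ)) (specULiftZIsTerminal.from S)

theorem isPullback_fstP :
    IsPullback (fstP n S) (CohB1.ProjSpaceOver.toBase n S) (CohB1.ProjSpace.toSpec n (ULift.{u} ℤ))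
      (specULiftZIsTerminal.from S) :=
  IsPullback.of_hasPullback (CohB1.ProjSpace.toSpec n (ULift.{u} ℤ)) (specULiftZIsTerminal.from S)

/-- **The chart pullback square.** -/
theorem isPullback_proj_chart (U : S.Opens) (hU : IsAffineOpen U) :
    IsPullback (projψ n S U hU)
      (Proj.toSpecZero ((polGrAlg n S).deg U hU) ≫ Spec.map ((polGrAlg n S).strZero U hU) ≫ hU.isoSpec.inv)
      (CohB1.ProjSpace.toSpec n (ULift.{u} ℤ)) (U.ι ≫ specULiftZIsTerminal.from S) := by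
  refine IsPullback.of_iso (@isPullback_projSpace n (ULift.{u} ℤ) Γ(S, U) _ _ (zAlg Γ(S, U)))
    (θ n S U hU).symm (Iso.refl _) hU.isoSpec.symm (Iso.refl _) ?_ ?_ ?_ ?_
  · refine (Category.comp_id _).trans ?_
    change _ = (θ n S U hU).inv ≫ Proj.map (ψ n S U hU) (ψ_irr n S U hU)
    rw [map_ψ, Iso.inv_hom_id_assoc]
  · change (Proj.toSpecZero (CohB1.polyGrading n Γ(S, U)) ≫
      Spec.map (CommRingCat.ofHom (algebraMap Γ(S, U) (CohB1.polyGrading n Γ(S, U) 0)))) ≫ hU.isoSpec.inv =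
      (θ n S U hU).inv ≫ Proj.toSpecZero ((polGrAlg n S).deg U hU) ≫
        Spec.map ((polGrAlg n S).strZero U hU) ≫ hU.isoSpec.inv
    have h := θ_toSpec n S U hU
    rw [← Category.assoc (Proj.toSpecZero ((polGrAlg n S).deg U hU)), ← h]
    simp only [Category.assoc, Iso.inv_hom_id_assoc]
  · exact (Category.comp_id _).trans (Category.id_comp _).symm
  · exact specULiftZIsTerminal.hom_ext _ _

/-- **The preimage pullback square.** -/
theorem isPullback_preimage (U : S.Opens) :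
    IsPullback ((CohB1.ProjSpaceOver.toBase n S ⁻¹ᵁ U).ι ≫ fstP n S)
      (CohB1.ProjSpaceOver.toBase n S ∣_ U)
      (CohB1.ProjSpace.toSpec n (ULift.{u} ℤ)) (U.ι ≫ specULiftZIsTerminal.from S) :=
  (isPullback_morphismRestrict (CohB1.ProjSpaceOver.toBase n S) U).flip.paste_horiz (isPullback_fstP n S)

/-- the charts of projective space over `S` -/
noncomputable def chart (U : S.Opens) (hU : IsAffineOpen U) :
    (((CohB1.ProjSpaceOver.toBase n S ⁻¹ᵁ U : (CohB1.ProjSpaceOver n S).Opens) : Scheme.{u}) ≅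
      Proj ((polGrAlg n S).deg U hU)) :=
  (isPullback_preimage n S U).isoIsPullback _ _ (isPullback_proj_chart n S U hU)

theorem chart_hom_fst (U : S.Opens) (hU : IsAffineOpen U) :
    (chart n S U hU).hom ≫ projψ n S U hU =
      (CohB1.ProjSpaceOver.toBase n S ⁻¹ᵁ U).ι ≫ fstP n S :=
  IsPullback.isoIsPullback_hom_fst _ _ _ _

theorem chart_hom_snd (U : S.Opens) (hU : IsAffineOpen U) :
    (chart n S U hU).hom ≫ Proj.toSpecZero ((polGrAlg n S).deg U hU) ≫
      Spec.map ((polGrAlg n S).strZero U hU) ≫ hU.isoSpec.inv =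
      CohB1.ProjSpaceOver.toBase n S ∣_ U :=
  IsPullback.isoIsPullback_hom_snd _ _ _ _

end Groth.Agent.Lib.Helper25.PolyRelProj
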