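import Mathlib
import Groth.Agent.Lib.Helper25.EtaleCoord2

/-!
# Étale slices through points with separable residue field (helper25)

* `span_one_tmul_D_eq_top_of_formallyUnramified_residueField`: if `κ(𝔓)` is formally unramified over
  `R` (e.g. separable algebraic over the residue field of the image point) then the `1 ⊗ db`, `b ∈ 𝔓`,
  span `κ(𝔓) ⊗_B Ω_{B/R}`.
* `exists_isEtaleAt_quotient_of_formallyUnramified_residueField`: étale slice at such a prime.
* `exists_etale_away_quotient_of_formallyUnramified_residueField`: the same, spread out.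
-/

set_option autoImplicit false
universe u v w

open TensorProduct KaehlerDifferential IsLocalRing

namespace Groth.Agent.Lib.Helper25.JacobianCrit

section Span

variable (R : Type u) {B : Type v} [CommRing R] [CommRing B] [Algebra R B]
  (𝔓 : Ideal B) [𝔓.IsPrime]

theorem span_one_tmul_D_eq_top_of_formallyUnramified_residueField
    [Algebra.FormallyUnramified R 𝔓.ResidueField] :
    Submodule.span 𝔓.ResidueField
      ((fun b : B => (1 : 𝔓.ResidueField) ⊗ₜ[B] D R B b) '' (𝔓 : Set B)) = ⊤ := by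
  set P := Localization.AtPrime 𝔓 with hP
  set K := 𝔓.ResidueField with hK
  -- the span inside `K ⊗_P Ω_{P/R}`
  have hsurj : Function.Surjective (algebraMap P K) := residue_surjective
  have hex := KaehlerDifferential.exact_kerCotangentToTensor_mapBaseChange R P K hsurj
  have key : ∀ v : K ⊗[P] Ω[P⁄R], v ∈ Submodule.span K
      ((fun b : B => (1 : K) ⊗ₜ[P] D R P (algebraMap B P b)) '' (𝔓 : Set B)) := by
    intro v
    have hv : KaehlerDifferential.mapBaseChange R P K v = 0 := Subsingleton.elim _ _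
    obtain ⟨c, rfl⟩ := (hex v).mp hv
    obtain ⟨y, rfl⟩ := Ideal.toCotangent_surjective _ c
    rw [kerCotangentToTensor_toCotangent]
    have hy : (y : P) ∈ maximalIdeal P := by
      have := y.2
      rw [RingHom.mem_ker] at this
      exact (residue_eq_zero_iff _).mp this
    obtain ⟨b, s, hbs⟩ := IsLocalization.exists_mk'_eq 𝔓.primeCompl (y : P)
    have hb : b ∈ 𝔓 := by
      have h1 : algebraMap B P b = (y : P) * algebraMap B P s := by
        rw [← hbs, IsLocalization.mk'_spec]
      have h2 : algebraMap B P b ∈ maximalIdeal P := by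
        rw [h1]; exact Ideal.mul_mem_right _ _ hy
      exact (IsLocalization.AtPrime.to_map_mem_maximal_iff P 𝔓 b).mp h2
    have h1 : algebraMap B P b = (y : P) * algebraMap B P s := by
      rw [← hbs, IsLocalization.mk'_spec]
    have hsu : residue P (algebraMap B P s) ≠ 0 := by
      rw [ne_eq, residue_eq_zero_iff, IsLocalization.AtPrime.to_map_mem_maximal_iff P 𝔓]
      exact s.2
    have h2 : (1 : K) ⊗ₜ[P] D R P (algebraMap B P b) =
        residue P (algebraMap B P s) • ((1 : K) ⊗ₜ[P] D R P (y : P)) := by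
      rw [h1, Derivation.leibniz, TensorProduct.tmul_add, one_tmul_smul, one_tmul_smul,
        (residue_eq_zero_iff _).mpr hy, zero_smul, zero_add]
    have h3 : (1 : K) ⊗ₜ[P] D R P (y : P) =
        (residue P (algebraMap B P s))⁻¹ • ((1 : K) ⊗ₜ[P] D R P (algebraMap B P b)) := by
      rw [h2, smul_smul, inv_mul_cancel₀ hsu, one_smul]
    rw [h3]
    exact Submodule.smul_mem _ _ (Submodule.subset_span ⟨b, hb, rfl⟩)
  rw [eq_top_iff]
  rintro v -
  have h1 := key ((fibreEquiv R 𝔓).symm v)
  have h2 : (fibreEquiv R 𝔓) ((fibreEquiv R 𝔓).symm v) ∈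
      (Submodule.span K ((fun b : B => (1 : K) ⊗ₜ[P] D R P (algebraMap B P b)) '' (𝔓 : Set B))).map
        (fibreEquiv R 𝔓).toLinearMap := Submodule.mem_map_of_mem h1
  rw [LinearEquiv.apply_symm_apply, Submodule.map_span, ← Set.image_comp] at h2
  refine Submodule.span_mono ?_ h2
  rintro _ ⟨b, hb, rfl⟩
  exact ⟨b, hb, (fibreEquiv_one_tmul_D R 𝔓 b).symm⟩

end Span

section Main

variable (R : Type u) {B : Type v} [CommRing R] [CommRing B] [Algebra R B]

/-- **Étale slice**: if `B` is of finite type and smooth over `R` at `𝔓` and `κ(𝔓)` is formally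
unramified over `R`, there are `g₁, …, g_c ∈ 𝔓` such that `B ⧸ (g)` is étale over `R` at the image of
`𝔓`. -/
theorem exists_isEtaleAt_quotient_of_formallyUnramified_residueField [Algebra.FiniteType R B]
    (𝔓 : Ideal B) [𝔓.IsPrime] [Algebra.IsSmoothAt R 𝔓]
    [Algebra.FormallyUnramified R 𝔓.ResidueField] :
    ∃ (c : ℕ) (g : Fin c → B), (∀ i, g i ∈ 𝔓) ∧
      ∀ (q : Ideal (B ⧸ Ideal.span (Set.range g))) [q.IsPrime],
        q.comap (Ideal.Quotient.mk (Ideal.span (Set.range g))) = 𝔓 → Algebra.IsEtaleAt R q := by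
  have hspan := span_one_tmul_D_eq_top_of_formallyUnramified_residueField R 𝔓
  obtain ⟨c, g, hgJ, hli, hsp⟩ := exists_fin_basis_of_span_image
    (fun b : B => (1 : 𝔓.ResidueField) ⊗ₜ[B] D R B b) (𝔓 : Set B) hspan
  refine ⟨c, g, hgJ, fun q _ hq => ?_⟩
  exact isEtaleAt_quotient_of_linearIndependent_of_span_eq_top R g q 𝔓 hq hli hsp

/-- Spread-out version of the étale slice. -/
theorem exists_etale_away_quotient_of_formallyUnramified_residueField
    [Algebra.FinitePresentation R B]
    (𝔓 : Ideal B) [𝔓.IsPrime] [Algebra.IsSmoothAt R 𝔓]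
    [Algebra.FormallyUnramified R 𝔓.ResidueField] :
    ∃ (c : ℕ) (g : Fin c → B) (f : B), (∀ i, g i ∈ 𝔓) ∧ f ∉ 𝔓 ∧
      Algebra.Etale R (Localization.Away (Ideal.Quotient.mk (Ideal.span (Set.range g)) f)) := by
  classical
  obtain ⟨c, g, hg, H⟩ := exists_isEtaleAt_quotient_of_formallyUnramified_residueField R 𝔓
  set I := Ideal.span (Set.range g) with hI
  have hI𝔓 : I ≤ 𝔓 := Ideal.span_le.mpr (by rintro _ ⟨i, rfl⟩; exact hg i)
  let q : Ideal (B ⧸ I) := 𝔓.map (Ideal.Quotient.mk I)
  have hq : q.comap (Ideal.Quotient.mk I) = 𝔓 := by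
    rw [Ideal.comap_map_of_surjective _ Ideal.Quotient.mk_surjective, ← RingHom.ker_eq_comap_bot,
      Ideal.mk_ker, sup_eq_left.mpr hI𝔓]
  haveI : q.IsPrime := by
    apply Ideal.map_isPrime_of_surjective Ideal.Quotient.mk_surjective
    rw [Ideal.mk_ker]; exact hI𝔓
  haveI hE : Algebra.IsEtaleAt R q := H q hq
  haveI : Algebra.FinitePresentation R (B ⧸ I) :=
    Algebra.FinitePresentation.quotient ⟨Finset.univ.image g, by simp [hI]⟩
  obtain ⟨f', hf', hEt⟩ := Algebra.exists_etale_of_isEtaleAt (R := R) q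
  obtain ⟨f, rfl⟩ := Ideal.Quotient.mk_surjective f'
  refine ⟨c, g, f, hg, ?_, hEt⟩
  intro hf
  exact hf' (Ideal.mem_map_of_mem _ hf)

end Main

end Groth.Agent.Lib.Helper25.JacobianCrit
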