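import Mathlib
import Groth.Agent.Lib.Helper25.EtaleSlice

/-!
# Étale slices, scheme form (helper25)
-/

set_option autoImplicit false
universe u

open AlgebraicGeometry CategoryTheory

namespace Groth.Agent.Lib.Helper25.EtaleSliceScheme

/-- Naturality: sections over `V`, restricted to the residue field at `x`, two ways. -/
theorem appLE_germ_residue {X S : Scheme.{u}} (f : X ⟶ S) (x : X)
    {U : X.Opens} (hxU : x ∈ U) {V : S.Opens} (e : U ≤ f ⁻¹ᵁ V)
    (hfx : f x ∈ V) :
    f.appLE V U e ≫ X.presheaf.germ U x hxU ≫ X.residue x =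
      S.presheaf.germ V (f x) hfx ≫ S.residue (f x) ≫ f.residueFieldMap x := by
  rw [Scheme.residue_residueFieldMap, ← Category.assoc, ← Category.assoc,
    Scheme.Hom.germ_stalkMap, Scheme.Hom.appLE]
  simp only [Category.assoc]
  rw [X.presheaf.germ_res_assoc]

/-- The residue field at the prime of `x` in an affine chart is formally unramified over the sections
of an affine chart of the base, when `κ(x)/κ(f x)` is separable. -/
theorem formallyUnramified_residueField_of_isSeparable {X S : Scheme.{u}} (f : X ⟶ S) (x : X)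
    {U : X.Opens} (hU : IsAffineOpen U) (hxU : x ∈ U) {V : S.Opens} (hV : IsAffineOpen V)
    (e : U ≤ f ⁻¹ᵁ V)
    (hsep : @Algebra.IsSeparable (S.residueField (f x)) (X.residueField x) _ _
      (f.residueFieldMap x).hom.toAlgebra) :
    letI := (f.appLE V U e).hom.toAlgebra
    Algebra.FormallyUnramified Γ(S, V) (hU.primeIdealOf ⟨x, hxU⟩).asIdeal.ResidueField := by
  letI := (f.appLE V U e).hom.toAlgebra
  have hfx : f x ∈ V := e hxU
  set 𝔓 := (hU.primeIdealOf ⟨x, hxU⟩).asIdeal with h𝔓
  set P := Localization.AtPrime 𝔓 with hP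
  -- the stalk as a localisation
  letI : Algebra Γ(X, U) (X.presheaf.stalk x) := (X.presheaf.germ U x hxU).hom.toAlgebra
  haveI : IsLocalization.AtPrime (X.presheaf.stalk x) 𝔓 := hU.isLocalization_stalk ⟨x, hxU⟩
  let e₁ : P ≃ₐ[Γ(X, U)] X.presheaf.stalk x := IsLocalization.algEquiv 𝔓.primeCompl _ _
  let e₂ : IsLocalRing.ResidueField P ≃+* IsLocalRing.ResidueField (X.presheaf.stalk x) :=
    IsLocalRing.ResidueField.mapEquiv e₁.toRingEquiv
  -- the map `Γ(S, V) → κ(x)` is formally unramified
  let ψ : Γ(S, V) →+* X.residueField x :=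
    (f.appLE V U e ≫ X.presheaf.germ U x hxU ≫ X.residue x).hom
  have hψ : ψ.FormallyUnramified := by
    have h0 : ψ = (S.presheaf.germ V (f x) hfx ≫ S.residue (f x) ≫ f.residueFieldMap x).hom :=
      congrArg CommRingCat.Hom.hom (appLE_germ_residue f x hxU e hfx)
    rw [h0, CommRingCat.hom_comp, CommRingCat.hom_comp]
    refine RingHom.FormallyUnramified.comp ?_ (RingHom.FormallyUnramified.comp ?_ ?_)
    · letI : Algebra Γ(S, V) (S.presheaf.stalk (f x)) :=
        (S.presheaf.germ V (f x) hfx).hom.toAlgebra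
      haveI : IsLocalization.AtPrime (S.presheaf.stalk (f x))
          (hV.primeIdealOf ⟨f x, hfx⟩).asIdeal := hV.isLocalization_stalk ⟨f x, hfx⟩
      have : Algebra.FormallyUnramified Γ(S, V) (S.presheaf.stalk (f x)) :=
        Algebra.FormallyUnramified.of_isLocalization (hV.primeIdealOf ⟨f x, hfx⟩).asIdeal.primeCompl
      exact this
    · exact RingHom.FormallyUnramified.of_surjective (S.residue_surjective (f x))
    · letI := (f.residueFieldMap x).hom.toAlgebra
      have : Algebra.FormallyUnramified (S.residueField (f x)) (X.residueField x) :=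
        Algebra.FormallyUnramified.of_isSeparable _ _
      exact this
  have hcomp : algebraMap Γ(S, V) (IsLocalRing.ResidueField P) = e₂.symm.toRingHom.comp ψ := by
    ext r
    simp only [RingHom.comp_apply]
    rw [RingEquiv.toRingHom_eq_coe, RingHom.coe_coe, RingEquiv.eq_symm_apply]
    rw [IsScalarTower.algebraMap_apply Γ(S, V) P (IsLocalRing.ResidueField P),
      IsScalarTower.algebraMap_apply Γ(S, V) Γ(X, U) P]
    change e₂ (IsLocalRing.residue P _) = _
    change IsLocalRing.residue _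
      (e₁ (algebraMap Γ(X, U) P (algebraMap Γ(S, V) Γ(X, U) r))) = _
    rw [e₁.commutes]
    rfl
  rw [← RingHom.formallyUnramified_algebraMap, hcomp]
  exact RingHom.FormallyUnramified.comp hψ (RingHom.FormallyUnramified.of_surjective e₂.symm.surjective)


/-- A prime of `(B ⧸ I)_{h̄}` over a prime `𝔓 ⊇ I` of `B` not containing `h`. -/
theorem exists_prime_away_quotient {B : Type u} [CommRing B] (I : Ideal B) (h : B)
    (𝔓 : PrimeSpectrum B) (hI : I ≤ 𝔓.asIdeal) (hh : h ∉ 𝔓.asIdeal) :
    ∃ q' : PrimeSpectrum (Localization.Away (Ideal.Quotient.mk I h)),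
      PrimeSpectrum.comap (algebraMap B (Localization.Away (Ideal.Quotient.mk I h))) q' = 𝔓 := by
  have h1 : 𝔓 ∈ Set.range (PrimeSpectrum.comap (Ideal.Quotient.mk I)) := by
    rw [_root_.range_comap_of_surjective _ _ Ideal.Quotient.mk_surjective, Ideal.mk_ker]
    exact hI
  obtain ⟨q, hq⟩ := h1
  have h2 : q ∈ Set.range (PrimeSpectrum.comap
      (algebraMap (B ⧸ I) (Localization.Away (Ideal.Quotient.mk I h)))) := by
    rw [PrimeSpectrum.localization_away_comap_range _ (Ideal.Quotient.mk I h)]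
    change Ideal.Quotient.mk I h ∉ q.asIdeal
    intro hmem
    apply hh
    rw [← hq]
    exact hmem
  obtain ⟨q', hq'⟩ := h2
  refine ⟨q', ?_⟩
  rw [IsScalarTower.algebraMap_eq B (B ⧸ I) (Localization.Away (Ideal.Quotient.mk I h)),
    PrimeSpectrum.comap_comp]
  change PrimeSpectrum.comap _ (PrimeSpectrum.comap _ q') = _
  rw [hq']
  exact hq

/-- **Étale slice** through a point with separable residue field extension of a smooth morphism. -/
theorem exists_etale_slice {X S : Scheme.{u}} (f : X ⟶ S) [Smooth f] (x : X)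
    (hsep : @Algebra.IsSeparable (S.residueField (f x)) (X.residueField x) _ _
      (f.residueFieldMap x).hom.toAlgebra) :
    ∃ (Z : Scheme.{u}) (i : Z ⟶ X) (z : Z), IsImmersion i ∧ Etale (i ≫ f) ∧ i z = x := by
  obtain ⟨V, hV, hfxV, -⟩ := AlgebraicGeometry.exists_isAffineOpen_mem_and_subset (x := f x)
    (U := ⊤) (Set.mem_univ _)
  obtain ⟨U, hU, hxU, e⟩ := AlgebraicGeometry.exists_isAffineOpen_mem_and_subset (x := x)
    (U := f ⁻¹ᵁ V) hfxV
  have hsm := f.smooth_appLE hV hU e
  have hfu := formallyUnramified_residueField_of_isSeparable f x hU hxU hV e hsep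
  algebraize [(f.appLE V U e).hom]
  set 𝔓 := hU.primeIdealOf ⟨x, hxU⟩ with h𝔓
  haveI : Algebra.IsSmoothAt Γ(S, V) 𝔓.asIdeal := by
    have h : 𝔓 ∈ Algebra.smoothLocus Γ(S, V) Γ(X, U) := by
      rw [Algebra.smoothLocus_eq_univ]; trivial
    exact h
  haveI : Algebra.FormallyUnramified Γ(S, V) 𝔓.asIdeal.ResidueField := hfu
  obtain ⟨c, g, h, hg, hh, hEt⟩ :=
    Groth.Agent.Lib.Helper25.JacobianCrit.exists_etale_away_quotient_of_formallyUnramified_residueField
      Γ(S, V) 𝔓.asIdeal
  set I := Ideal.span (Set.range g) with hI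
  have hI𝔓 : I ≤ 𝔓.asIdeal := Ideal.span_le.mpr (by rintro _ ⟨i, rfl⟩; exact hg i)
  set A' := Localization.Away (Ideal.Quotient.mk I h) with hA'
  obtain ⟨q', hq'⟩ := exists_prime_away_quotient I h 𝔓 hI𝔓 hh
  let j : Spec (CommRingCat.of A') ⟶ X :=
    Spec.map (CommRingCat.ofHom (algebraMap Γ(X, U) A')) ≫ hU.fromSpec
  refine ⟨Spec (CommRingCat.of A'), j, q', ?_, ?_, ?_⟩
  · have h1 : Spec.map (CommRingCat.ofHom (algebraMap Γ(X, U) A')) =
        Spec.map (CommRingCat.ofHom (algebraMap (Γ(X, U) ⧸ I) A')) ≫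
          Spec.map (CommRingCat.ofHom (Ideal.Quotient.mk I)) := by
      rw [← Spec.map_comp, ← CommRingCat.ofHom_comp]
    haveI : IsOpenImmersion (Spec.map (CommRingCat.ofHom (algebraMap (Γ(X, U) ⧸ I) A'))) :=
      IsOpenImmersion.of_isLocalization (Ideal.Quotient.mk I h)
    haveI : IsClosedImmersion (Spec.map (CommRingCat.ofHom (Ideal.Quotient.mk I))) :=
      IsClosedImmersion.spec_of_surjective _ Ideal.Quotient.mk_surjective
    change IsImmersion (Spec.map (CommRingCat.ofHom (algebraMap Γ(X, U) A')) ≫ hU.fromSpec)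
    rw [h1]
    infer_instance
  · have h1 : j ≫ f = Spec.map (CommRingCat.ofHom (algebraMap Γ(S, V) A')) ≫ hV.fromSpec := by
      change (Spec.map (CommRingCat.ofHom (algebraMap Γ(X, U) A')) ≫ hU.fromSpec) ≫ f = _
      rw [Category.assoc, ← IsAffineOpen.SpecMap_appLE_fromSpec f hV hU e, ← Category.assoc,
        ← Spec.map_comp]
      congr 2
    rw [h1]
    haveI : Etale (Spec.map (CommRingCat.ofHom (algebraMap Γ(S, V) A'))) := by
      rw [HasRingHomProperty.Spec_iff (P := @Etale)]
      exact RingHom.etale_algebraMap.mpr hEt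
    infer_instance
  · change hU.fromSpec (Spec.map (CommRingCat.ofHom (algebraMap Γ(X, U) A')) q') = x
    have : Spec.map (CommRingCat.ofHom (algebraMap Γ(X, U) A')) q' = 𝔓 := hq'
    rw [this]
    exact hU.fromSpec_primeIdealOf ⟨x, hxU⟩

end Groth.Agent.Lib.Helper25.EtaleSliceScheme
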