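import Mathlib
import Groth.Agent.Lib.Helper25.GrpSmoothPt
import Groth.Agent.Lib.Helper23.FieldSep

/-!
Regular points with separable residue field on schemes locally of finite type over a field are
smooth points (helper25).
-/

set_option autoImplicit false
universe u
open CategoryTheory AlgebraicGeometry IsLocalRing

namespace Groth.Agent.Lib.Helper25.RegularSepSmooth

open Groth.Agent.Lib.Helper25.GrpTangent

/-- Ring form: a regular local ring essentially of finite type over a field with geometrically
reduced (e.g. separable algebraic) residue field is formally smooth. -/
theorem formallySmooth_of_regular (K A : Type u) [Field K] [CommRing A] [Algebra K A]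
    [IsRegularLocalRing A] [Algebra.EssFiniteType K A]
    [Algebra.IsGeometricallyReduced K (ResidueField A)] : Algebra.FormallySmooth K A := by
  have reg : IsRegularLocalRing A := inferInstance
  have adic := Groth.Agent.Lib.Helper23.CohenEq2.adic_of_regular_of_sep (k := K) reg
  exact Groth.Agent.S3436.formallySmooth_of_adic K A adic

/-- Separable algebraic extensions are geometrically reduced. -/
theorem isGeometricallyReduced_of_isSeparable (K L : Type u) [Field K] [Field L] [Algebra K L]
    [Algebra.IsSeparable K L] : Algebra.IsGeometricallyReduced K L := by
  have : Algebra.FormallyEtale K L := Algebra.FormallyEtale.of_isSeparable K L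
  exact (Groth.Agent.Lib.Helper23.FieldSep.formallySmooth_iff_isGeometricallyReduced K L).mp
    inferInstance

variable {K : Type u} [Field K] {X : Scheme.{u}}

/-- A point of a scheme locally of finite type over a field whose local ring is regular and whose
residue field is geometrically reduced over the base field is a smooth point. -/
theorem mem_smoothLocus_of_regular (f : X ⟶ Spec (CommRingCat.of K)) [LocallyOfFiniteType f]
    (x : X) [Algebra K (X.presheaf.stalk x)]
    (halg : algebraMap K (X.presheaf.stalk x) = (τ (f x) ≫ f.stalkMap x).hom)
    [IsRegularLocalRing (X.presheaf.stalk x)]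
    [Algebra.IsGeometricallyReduced K (ResidueField (X.presheaf.stalk x))] :
    x ∈ f.smoothLocus := by
  have hτ := bijective_τ (f x)
  have hess : Algebra.EssFiniteType K (X.presheaf.stalk x) := by
    have h1 : (τ (f x)).hom.EssFiniteType :=
      (RingHom.FiniteType.of_surjective _ hτ.2).essFiniteType
    have h2 : (f.stalkMap x).hom.EssFiniteType := LocallyOfFiniteType.stalkMap f x
    have h3 := h1.comp h2
    rw [← CommRingCat.hom_comp, ← halg] at h3
    exact RingHom.essFiniteType_algebraMap.mp h3
  have fs : Algebra.FormallySmooth K (X.presheaf.stalk x) :=
    formallySmooth_of_regular K (X.presheaf.stalk x)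
  have fs' : (algebraMap K (X.presheaf.stalk x)).FormallySmooth :=
    RingHom.formallySmooth_algebraMap.mpr fs
  rw [Scheme.Hom.mem_smoothLocus]
  have : IsIso (τ (f x)) := (ConcreteCategory.isIso_iff_bijective _).mpr hτ
  rw [halg] at fs'
  exact (RingHom.FormallySmooth.respectsIso.cancel_left_isIso _ _).mp fs'

end Groth.Agent.Lib.Helper25.RegularSepSmooth
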