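import Groth.Agent.Lib.Helper25.Hartogs
import Mathlib.AlgebraicGeometry.Morphisms.IsIso
import Mathlib.AlgebraicGeometry.Morphisms.Affine

/-! # Depth two: an affine `X`-scheme in which `U` is schematically dense and which restricts to
`U` over `U` is `X` itself. -/

universe u

open AlgebraicGeometry CategoryTheory CategoryTheory.Limits

namespace Groth.Agent.Lib.Helper25.Hartogs

set_option backward.isDefEq.respectTransparency false in
/-- Key step: the scheme-theoretic image of `t` maps isomorphically to `X`. -/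
theorem isIso_of_depth2 {X : Scheme.{u}} (U : X.Opens) [QuasiCompact U.ι] (hU : Depth2 U)
    {T : Scheme.{u}} (h : T ⟶ X) [IsAffineHom h] (t' : (U : Scheme.{u}) ⟶ T)
    (ht' : t' ≫ h = U.ι)
    (hinj : ∀ V : X.affineOpens, Function.Injective (t'.app (h ⁻¹ᵁ V.1))) : IsIso h := by
  change (MorphismProperty.isomorphisms Scheme.{u}) h
  rw [HasAffineProperty.iff_of_iSup_eq_top (P := MorphismProperty.isomorphisms Scheme.{u})
    (fun V : X.affineOpens => V) (iSup_affineOpens_eq_top X)]
  intro V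
  have hVaff : IsAffineOpen (h ⁻¹ᵁ V.1) := V.2.preimage h
  refine ⟨hVaff, ?_⟩
  rw [morphismRestrict_appTop]
  have hbij : Function.Bijective (h.app (V.1.ι ''ᵁ ⊤)) := by
    have hVtop : V.1.ι ''ᵁ ⊤ = V.1 := by simp
    rw [hVtop]
    -- the composite with `t'` is restriction from `V` to `V ∩ U`
    have hcomp : (t' ≫ h).app V.1 = h.app V.1 ≫ t'.app (h ⁻¹ᵁ V.1) := Scheme.Hom.comp_app _ _ _
    have hres : Function.Bijective (U.ι.app V.1) := by
      rw [Scheme.Opens.ι_app]
      have hWc : IsCompact ((U.ι ''ᵁ U.ι ⁻¹ᵁ V.1 : X.Opens) : Set X) := by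
        have h1 : IsCompact ((U.ι ⁻¹ᵁ V.1 : (U : Scheme.{u}).Opens) : Set U) :=
          U.ι.isCompact_preimage V.2.isCompact
        exact h1.image U.ι.continuous
      exact res_bijective hU V.2 (Set.image_preimage_subset _ _)
        (fun z hzV hzU => ⟨⟨z, hzU⟩, hzV, rfl⟩) hWc
    have hcomp' : Function.Bijective ((t' ≫ h).app V.1).hom := by
      rw [Scheme.Hom.congr_app ht' V.1, CommRingCat.hom_comp, RingHom.coe_comp]
      exact Function.Bijective.comp (ConcreteCategory.bijective_of_isIso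
        ((U : Scheme.{u}).presheaf.map (eqToHom _).op)) hres
    rw [hcomp, CommRingCat.hom_comp, RingHom.coe_comp] at hcomp'
    have hc : Function.Bijective ((t'.app (h ⁻¹ᵁ V.1)).hom ∘ (h.app V.1).hom) := hcomp'
    refine ⟨hc.1.of_comp, ?_⟩
    intro x
    obtain ⟨a, ha⟩ := hc.2 (t'.app (h ⁻¹ᵁ V.1) x)
    exact ⟨a, hinj V ha⟩
  have : IsIso (h.app (V.1.ι ''ᵁ ⊤)) :=
    (ConcreteCategory.isIso_iff_bijective _).2 hbij
  infer_instance

end Groth.Agent.Lib.Helper25.Hartogs
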