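import Groth.Prelude.Def_Wider
import Mathlib.Algebra.Category.ModuleCat.EnoughInjectives
import Mathlib.Algebra.Category.ModuleCat.Injective
import Mathlib.Order.Zorn

/-!
# Essential extensions and injective hulls

Library for the `InjHull` family: elementwise criterion for essential injections, composition,
extension / uniqueness / splitting of injective hulls, existence of injective hulls.
-/

set_option autoImplicit false

universe u v

namespace Groth.Agent.Lib.Helper25

open InjHull

section Criterion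

variable {R : Type u} [CommRing R] {M E E' : Type v} [AddCommGroup M] [Module R M]
  [AddCommGroup E] [Module R E] [AddCommGroup E'] [Module R E']

/-- elementwise criterion for essential injections -/
theorem isEssentialInj_iff (f : M →ₗ[R] E) :
    IsEssentialInj f ↔ Function.Injective f ∧
      ∀ x : E, x ≠ 0 → ∃ r : R, r • x ≠ 0 ∧ r • x ∈ LinearMap.range f := by
  constructor
  · intro h
    refine ⟨h.injective, fun x hx => ?_⟩
    have hne : Submodule.span R {x} ≠ ⊥ := by
      rw [Ne, Submodule.span_singleton_eq_bot]; exact hx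
    have h2 := h.essential _ hne
    obtain ⟨y, hy, hy0⟩ := (Submodule.ne_bot_iff _).1 h2
    obtain ⟨r, rfl⟩ := Submodule.mem_span_singleton.1 hy.1
    exact ⟨r, hy0, hy.2⟩
  · rintro ⟨hinj, h⟩
    refine ⟨hinj, fun N hN => ?_⟩
    obtain ⟨x, hx, hx0⟩ := (Submodule.ne_bot_iff _).1 hN
    obtain ⟨r, hr0, hr⟩ := h x hx0
    exact (Submodule.ne_bot_iff _).2 ⟨r • x, ⟨N.smul_mem r hx, hr⟩, hr0⟩

theorem essInj_exists_smul {f : M →ₗ[R] E} (h : IsEssentialInj f) {x : E} (hx : x ≠ 0) :
    ∃ (r : R) (m : M), r • x = f m ∧ m ≠ 0 := by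
  obtain ⟨r, hr0, m, hm⟩ := ((isEssentialInj_iff f).1 h).2 x hx
  refine ⟨r, m, hm.symm, ?_⟩
  rintro rfl
  rw [map_zero] at hm
  exact hr0 hm.symm

/-- composition of essential injections -/
theorem essInj_comp {f : M →ₗ[R] E} {g : E →ₗ[R] E'} (hf : IsEssentialInj f)
    (hg : IsEssentialInj g) : IsEssentialInj (g ∘ₗ f) := by
  rw [isEssentialInj_iff]
  refine ⟨hg.injective.comp hf.injective, fun x hx => ?_⟩
  obtain ⟨r, e, hre, he0⟩ := essInj_exists_smul hg hx
  obtain ⟨s, m, hsm, hm0⟩ := essInj_exists_smul hf he0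
  refine ⟨s * r, ?_, m, ?_⟩
  · rw [mul_smul, hre, ← map_smul, hsm]
    intro h0
    rw [← map_zero (g ∘ₗ f)] at h0
    exact hm0 (hg.injective.comp hf.injective h0)
  · rw [mul_smul, hre, ← map_smul, hsm]; rfl

/-- a linear equivalence is an essential injection -/
theorem isEssentialInj_of_bijective {f : M →ₗ[R] E} (hf : Function.Bijective f) :
    IsEssentialInj f := by
  rw [isEssentialInj_iff]
  refine ⟨hf.1, fun x hx => ⟨1, by rwa [one_smul], ?_⟩⟩
  rw [one_smul]
  exact hf.2 x

/-- if `g ∘ f` is essential and `g` is injective then `g` is essential -/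
theorem essInj_of_comp_left {f : M →ₗ[R] E} {g : E →ₗ[R] E'}
    (h : IsEssentialInj (g ∘ₗ f)) (hg : Function.Injective g) : IsEssentialInj g := by
  rw [isEssentialInj_iff]
  refine ⟨hg, fun x hx => ?_⟩
  obtain ⟨r, hr0, m, hm⟩ := ((isEssentialInj_iff _).1 h).2 x hx
  exact ⟨r, hr0, f m, hm⟩

/-- if `g ∘ f` is essential and `g` is injective then `f` is essential -/
theorem essInj_of_comp_right {f : M →ₗ[R] E} {g : E →ₗ[R] E'}
    (h : IsEssentialInj (g ∘ₗ f)) (hg : Function.Injective g) : IsEssentialInj f := by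
  rw [isEssentialInj_iff]
  refine ⟨fun a b hab => h.injective (by simp [hab]), fun x hx => ?_⟩
  have hgx : g x ≠ 0 := fun h0 => hx (hg (by rw [h0, map_zero]))
  obtain ⟨r, hr0, m, hm⟩ := ((isEssentialInj_iff _).1 h).2 (g x) hgx
  refine ⟨r, ?_, m, ?_⟩
  · intro h0
    apply hr0
    rw [← map_smul, h0, map_zero]
  · apply hg
    rw [map_smul]
    exact hm

/-- **key lemma**: a map out of an essential extension which is injective on the base is
injective -/
theorem essInj_injective_of_comp {f : M →ₗ[R] E} (hf : IsEssentialInj f)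
    {N : Type*} [AddCommGroup N] [Module R N] (φ : E →ₗ[R] N)
    (h : Function.Injective (φ ∘ₗ f)) : Function.Injective φ := by
  rw [← LinearMap.ker_eq_bot, LinearMap.ker_eq_bot']
  intro x hx
  by_contra hx0
  obtain ⟨r, m, hrm, hm0⟩ := essInj_exists_smul hf hx0
  apply hm0
  apply h
  rw [LinearMap.comp_apply, ← hrm, map_smul, hx, smul_zero, map_zero]

end Criterion


section Hull

variable {R : Type u} [CommRing R] {I : Type v} [AddCommGroup I] [Module R I]

/-- `A` is an essential submodule of `B`, both inside the ambient module `I` -/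
def EssIn (A B : Submodule R I) : Prop :=
  A ≤ B ∧ ∀ x ∈ B, x ≠ 0 → ∃ r : R, r • x ≠ 0 ∧ r • x ∈ A

theorem essIn_refl (A : Submodule R I) : EssIn A A :=
  ⟨le_rfl, fun x hx hx0 => ⟨1, by rwa [one_smul], by rwa [one_smul]⟩⟩

theorem essIn_trans {A B C : Submodule R I} (h₁ : EssIn A B) (h₂ : EssIn B C) : EssIn A C := by
  refine ⟨h₁.1.trans h₂.1, fun x hx hx0 => ?_⟩
  obtain ⟨r, hr0, hr⟩ := h₂.2 x hx hx0
  obtain ⟨s, hs0, hs⟩ := h₁.2 _ hr hr0
  exact ⟨s * r, by rwa [mul_smul], by rwa [mul_smul]⟩

/-- the inclusion of an essential submodule is an essential injection -/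
theorem essIn_iff_inclusion {A B : Submodule R I} (hAB : A ≤ B) :
    EssIn A B ↔ IsEssentialInj (Submodule.inclusion hAB) := by
  rw [isEssentialInj_iff]
  constructor
  · rintro ⟨-, h⟩
    refine ⟨Submodule.inclusion_injective hAB, fun x hx => ?_⟩
    have hx0 : (x : I) ≠ 0 := fun h0 => hx (Subtype.ext h0)
    obtain ⟨r, hr0, hr⟩ := h x x.2 hx0
    refine ⟨r, fun h0 => hr0 (by simpa using congrArg Subtype.val h0), ⟨⟨r • (x : I), hr⟩, ?_⟩⟩
    exact Subtype.ext rfl
  · rintro ⟨-, h⟩
    refine ⟨hAB, fun x hx hx0 => ?_⟩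
    obtain ⟨r, hr0, a, ha⟩ := h ⟨x, hx⟩ (fun h0 => hx0 (congrArg Subtype.val h0))
    refine ⟨r, fun h0 => hr0 (Subtype.ext h0), ?_⟩
    have : (a : I) = r • x := by simpa using congrArg Subtype.val ha
    rw [← this]
    exact a.2

/-- `EssIn A ⊤` means that `A.subtype` is an essential injection -/
theorem essIn_top_iff {A : Submodule R I} : EssIn A ⊤ ↔ IsEssentialInj A.subtype := by
  rw [isEssentialInj_iff]
  constructor
  · rintro ⟨-, h⟩
    refine ⟨A.subtype_injective, fun x hx => ?_⟩
    obtain ⟨r, hr0, hr⟩ := h x trivial hx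
    exact ⟨r, hr0, ⟨⟨r • x, hr⟩, rfl⟩⟩
  · rintro ⟨-, h⟩
    refine ⟨le_top, fun x _ hx0 => ?_⟩
    obtain ⟨r, hr0, a, ha⟩ := h x hx0
    exact ⟨r, hr0, by rw [← ha]; exact a.2⟩

theorem essIn_sSup {A : Submodule R I} {c : Set (Submodule R I)} (hc : IsChain (· ≤ ·) c)
    {y : Submodule R I} (hy : y ∈ c) (h : ∀ B ∈ c, EssIn A B) : EssIn A (sSup c) := by
  refine ⟨(h y hy).1.trans (le_sSup hy), fun x hx hx0 => ?_⟩
  obtain ⟨B, hB, hxB⟩ := (Submodule.mem_sSup_of_directed ⟨y, hy⟩ hc.directedOn).1 hx
  exact (h B hB).2 x hxB hx0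

/-- maximal essential extensions inside an ambient module exist -/
theorem exists_maximal_essIn (A : Submodule R I) :
    ∃ B, EssIn A B ∧ ∀ B', EssIn B B' → B' = B := by
  obtain ⟨B, -, hB⟩ := zorn_le_nonempty₀ {B : Submodule R I | EssIn A B}
    (fun c hc hchain y hy => ⟨sSup c, essIn_sSup hchain hy (fun B hB => hc hB),
      fun z hz => le_sSup hz⟩) A (essIn_refl A)
  refine ⟨B, hB.prop, fun B' hB' => ?_⟩
  exact le_antisymm (hB.le_of_ge (essIn_trans hB.prop hB') hB'.1) hB'.1

/-- a direct summand of an injective module is injective -/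
theorem injective_of_isCompl [Module.Injective R I] {A B : Submodule R I} (h : IsCompl A B) :
    Module.Injective R A where
  out X Y _ _ _ _ f hf g := by
    obtain ⟨h', hh'⟩ := Module.Injective.out f hf (A.subtype ∘ₗ g)
    refine ⟨(Submodule.linearProjOfIsCompl A B h) ∘ₗ h', fun x => ?_⟩
    rw [LinearMap.comp_apply, hh' x]
    exact Submodule.linearProjOfIsCompl_apply_left h (g x)

/-- a submodule of an injective module without proper essential extensions (inside the ambient
module) is a direct summand -/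
theorem exists_isCompl_of_forall_essIn [Module.Injective R I] (E : Submodule R I)
    (hE : ∀ B, EssIn E B → B = E) : ∃ N, IsCompl E N := by
  obtain ⟨N, -, hN⟩ := zorn_le_nonempty₀ {N : Submodule R I | Disjoint E N}
    (fun c hc hchain y hy => ⟨sSup c, by
      rw [Set.mem_setOf_eq, Submodule.disjoint_def]
      intro x hxE hx
      obtain ⟨B, hB, hxB⟩ := (Submodule.mem_sSup_of_directed ⟨y, hy⟩ hchain.directedOn).1 hx
      exact (Submodule.disjoint_def.1 (hc hB)) x hxE hxB,
      fun z hz => le_sSup hz⟩) ⊥ disjoint_bot_right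
  have hdisj : Disjoint E N := hN.prop
  have hmax : ∀ N', N ≤ N' → Disjoint E N' → N' = N := fun N' h1 h2 =>
    le_antisymm (hN.le_of_ge h2 h1) h1
  let j : E →ₗ[R] I ⧸ N := N.mkQ ∘ₗ E.subtype
  have hj_inj : Function.Injective j := by
    rw [← LinearMap.ker_eq_bot, LinearMap.ker_eq_bot']
    intro e he
    have : (e : I) ∈ N := by
      simpa [j, Submodule.Quotient.mk_eq_zero] using he
    exact Subtype.ext (Submodule.disjoint_def.1 hdisj _ e.2 this)
  have hj_ess : IsEssentialInj j := by
    rw [isEssentialInj_iff]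
    refine ⟨hj_inj, fun y hy => ?_⟩
    obtain ⟨x, rfl⟩ := N.mkQ_surjective y
    have hxN : x ∉ N := fun h => hy (by simpa [Submodule.Quotient.mk_eq_zero] using h)
    have hlt : ¬ Disjoint E (N ⊔ Submodule.span R {x}) := by
      intro hd
      have := hmax _ le_sup_left hd
      apply hxN
      rw [← this]
      exact Submodule.mem_sup_right (Submodule.mem_span_singleton_self x)
    rw [Submodule.disjoint_def] at hlt
    push Not at hlt
    obtain ⟨e, heE, heN, he0⟩ := hlt
    obtain ⟨n, hn, z, hz, rfl⟩ := Submodule.mem_sup.1 heN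
    obtain ⟨r, rfl⟩ := Submodule.mem_span_singleton.1 hz
    have hq : N.mkQ (n + r • x) = r • N.mkQ x := by
      rw [map_add, map_smul]
      simp [Submodule.Quotient.mk_eq_zero, hn]
    refine ⟨r, ?_, ⟨⟨n + r • x, heE⟩, ?_⟩⟩
    · intro h0
      rw [← hq] at h0
      have hmem : n + r • x ∈ N := (Submodule.Quotient.mk_eq_zero N).1 h0
      exact he0 (Submodule.disjoint_def.1 hdisj _ heE hmem)
    · simp only [j, LinearMap.comp_apply, Submodule.subtype_apply]
      exact hq
  obtain ⟨φ, hφ⟩ := Module.Injective.out j hj_inj E.subtype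
  have hφ_inj : Function.Injective φ := by
    apply essInj_injective_of_comp hj_ess φ
    intro a b hab
    simp only [LinearMap.comp_apply, hφ] at hab
    exact Subtype.ext hab
  have hB : EssIn E (LinearMap.range φ) := by
    refine ⟨fun e he => ⟨j ⟨e, he⟩, hφ ⟨e, he⟩⟩, ?_⟩
    rintro _ ⟨y, rfl⟩ hb0
    have hy0 : y ≠ 0 := fun h => hb0 (by rw [h, map_zero])
    obtain ⟨r, e, hre, he0⟩ := essInj_exists_smul hj_ess hy0
    refine ⟨r, ?_, ?_⟩
    · rw [← map_smul, hre, hφ]
      exact fun h0 => he0 (Subtype.ext h0)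
    · rw [← map_smul, hre, hφ]
      exact e.2
  have hrange := hE _ hB
  refine ⟨N, hdisj, ?_⟩
  rw [codisjoint_iff, eq_top_iff]
  intro x _
  have hmem : φ (N.mkQ x) ∈ E := by
    rw [← hrange]; exact ⟨_, rfl⟩
  have h1 : j ⟨φ (N.mkQ x), hmem⟩ = N.mkQ x := by
    apply hφ_inj
    rw [hφ]
    rfl
  have h2 : φ (N.mkQ x) - x ∈ N := by
    have : N.mkQ (φ (N.mkQ x) - x) = 0 := by
      rw [map_sub, sub_eq_zero]
      exact h1
    exact (Submodule.Quotient.mk_eq_zero N).1 this
  have : x = φ (N.mkQ x) - (φ (N.mkQ x) - x) := by abel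
  rw [this]
  exact Submodule.sub_mem _ (Submodule.mem_sup_left hmem) (Submodule.mem_sup_right h2)

end Hull


section Existence

variable {R : Type u} [CommRing R]

/-- a maximal essential extension of a submodule of an injective module is a direct summand,
hence injective -/
theorem exists_hull_submodule {I : Type v} [AddCommGroup I] [Module R I] [Module.Injective R I]
    (A : Submodule R I) :
    ∃ E : Submodule R I, EssIn A E ∧ (∃ N, IsCompl E N) ∧ Module.Injective R E := by
  obtain ⟨E, hAE, hmax⟩ := exists_maximal_essIn A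
  obtain ⟨N, hN⟩ := exists_isCompl_of_forall_essIn E hmax
  exact ⟨E, hAE, ⟨N, hN⟩, injective_of_isCompl hN⟩

/-- injective hull of (the image of) an injective map into an injective module -/
theorem exists_isInjectiveHull_in {M I : Type v} [AddCommGroup M] [Module R M]
    [AddCommGroup I] [Module R I] [Module.Injective R I] (i : M →ₗ[R] I)
    (hi : Function.Injective i) :
    ∃ (E : Submodule R I) (f : M →ₗ[R] E), IsInjectiveHull f ∧ E.subtype ∘ₗ f = i ∧
      ∃ N, IsCompl E N := by
  obtain ⟨E, hAE, hN, hinj⟩ := exists_hull_submodule (LinearMap.range i)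
  have hmem : ∀ m, i m ∈ E := fun m => hAE.1 ⟨m, rfl⟩
  let f : M →ₗ[R] E := i.codRestrict E hmem
  refine ⟨E, f, ⟨?_, hinj⟩, LinearMap.ext fun m => rfl, hN⟩
  rw [isEssentialInj_iff]
  refine ⟨fun a b hab => hi (by simpa [f] using congrArg Subtype.val hab), fun x hx => ?_⟩
  have hx0 : (x : I) ≠ 0 := fun h0 => hx (Subtype.ext h0)
  obtain ⟨r, hr0, m, hm⟩ := hAE.2 x x.2 hx0
  refine ⟨r, fun h0 => hr0 (by simpa using congrArg Subtype.val h0), m, ?_⟩
  exact Subtype.ext hm

/-- enough injectives, unbundled -/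
theorem exists_injective_embedding (M : Type u) [AddCommGroup M] [Module R M] :
    ∃ (I : Type u) (_ : AddCommGroup I) (_ : Module R I) (_ : Module.Injective R I)
      (i : M →ₗ[R] I), Function.Injective i := by
  have := ModuleCat.enoughInjectives.{u, u} (R := R)
  let J := CategoryTheory.Injective.under (ModuleCat.of R M)
  have hJ : CategoryTheory.Injective J := inferInstance
  have hJ' : CategoryTheory.Injective (ModuleCat.of R J) := hJ
  have : Module.Injective R J := Module.injective_module_of_injective_object R J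
  exact ⟨J, inferInstance, inferInstance, inferInstance,
    (CategoryTheory.Injective.ι (ModuleCat.of R M)).hom,
    (ModuleCat.mono_iff_injective _).1 inferInstance⟩

/-- **existence of injective hulls** -/
theorem exists_isInjectiveHull (M : Type u) [AddCommGroup M] [Module R M] :
    ∃ (E : Type u) (_ : AddCommGroup E) (_ : Module R E) (f : M →ₗ[R] E),
      IsInjectiveHull f := by
  obtain ⟨I, _, _, _, i, hi⟩ := exists_injective_embedding (R := R) M
  obtain ⟨E, f, hf, -, -⟩ := exists_isInjectiveHull_in i hi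
  exact ⟨E, inferInstance, inferInstance, f, hf⟩

end Existence

section Uniqueness

variable {R : Type u} [CommRing R] {M E I : Type v} [AddCommGroup M] [Module R M]
  [AddCommGroup E] [Module R E] [AddCommGroup I] [Module R I]

/-- an injective map from an injective module has a complemented range -/
theorem exists_isCompl_range_of_injective [Module.Injective R E] (α : E →ₗ[R] I)
    (hα : Function.Injective α) : ∃ C : Submodule R I, IsCompl (LinearMap.range α) C := by
  obtain ⟨ρ, hρ⟩ := Module.Injective.out α hα LinearMap.id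
  refine ⟨LinearMap.ker ρ, ?_, ?_⟩
  · rw [Submodule.disjoint_def]
    rintro _ ⟨e, rfl⟩ hx
    have : e = 0 := by simpa [hρ] using hx
    rw [this, map_zero]
  · rw [codisjoint_iff, eq_top_iff]
    intro x _
    have h1 : x - α (ρ x) ∈ LinearMap.ker ρ := by
      rw [LinearMap.mem_ker, map_sub, hρ]
      simp
    have : x = α (ρ x) + (x - α (ρ x)) := by abel
    rw [this]
    exact Submodule.add_mem _ (Submodule.mem_sup_left ⟨_, rfl⟩) (Submodule.mem_sup_right h1)

/-- an essential extension maps injectively into any injective module containing the base -/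
theorem exists_injective_extension {f : M →ₗ[R] E} (hf : IsEssentialInj f)
    [Module.Injective R I] (i : M →ₗ[R] I) (hi : Function.Injective i) :
    ∃ α : E →ₗ[R] I, Function.Injective α ∧ α ∘ₗ f = i := by
  obtain ⟨α, hα⟩ := Module.Injective.out f hf.injective i
  have hcomp : α ∘ₗ f = i := LinearMap.ext hα
  exact ⟨α, essInj_injective_of_comp hf α (by rw [hcomp]; exact hi), hcomp⟩

/-- the injective hull splits off any injective module containing the base -/
theorem isInjectiveHull_splits {f : M →ₗ[R] E} (hf : IsInjectiveHull f)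
    [Module.Injective R I] (i : M →ₗ[R] I) (hi : Function.Injective i) :
    ∃ α : E →ₗ[R] I, Function.Injective α ∧ α ∘ₗ f = i ∧
      ∃ I' : Submodule R I, IsCompl (LinearMap.range α) I' := by
  obtain ⟨α, hα, hcomp⟩ := exists_injective_extension hf.toIsEssentialInj i hi
  have := hf.isInjective
  exact ⟨α, hα, hcomp, exists_isCompl_range_of_injective α hα⟩

/-- uniqueness of injective hulls -/
theorem isInjectiveHull_unique {E' : Type v} [AddCommGroup E'] [Module R E']
    {f : M →ₗ[R] E} (hf : IsInjectiveHull f) {g : M →ₗ[R] E'} (hg : IsInjectiveHull g) :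
    ∃ e : E ≃ₗ[R] E', e.toLinearMap ∘ₗ f = g := by
  have := hg.isInjective
  obtain ⟨α, hα, hcomp, C, hC⟩ := isInjectiveHull_splits hf g hg.injective
  have hCbot : C = ⊥ := by
    by_contra hne
    have h2 := hg.essential C hne
    apply h2
    rw [eq_bot_iff]
    rintro x ⟨hxC, m, rfl⟩
    have hxα : g m ∈ LinearMap.range α := ⟨f m, by rw [← hcomp]; rfl⟩
    exact (Submodule.disjoint_def.1 hC.disjoint) _ hxα hxC
  have hsurj : Function.Surjective α := by
    rw [← LinearMap.range_eq_top]
    have := hC.sup_eq_top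
    rwa [hCbot, sup_bot_eq] at this
  exact ⟨LinearEquiv.ofBijective α ⟨hα, hsurj⟩, hcomp⟩

end Uniqueness

end Groth.Agent.Lib.Helper25
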