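import Mathlib
import Groth.Prelude.Def_Smoothing

set_option autoImplicit false
universe u
open MvPolynomial Smoothing

namespace Groth.Agent.Lib.Helper25.StdElem

/-- Any embedding `Fin c ↪ Fin m` is the restriction of a permutation of `Fin m` along `Fin.castLE`. -/
theorem exists_perm_castLE {c m : ℕ} (h : c ≤ m) (rows : Fin c ↪ Fin m) :
    ∃ σ : Equiv.Perm (Fin m), ∀ i : Fin c, σ (Fin.castLE h i) = rows i := by
  classical
  let e : {x // x ∈ Set.range (Fin.castLE h)} ≃ {x // x ∈ Set.range rows} :=
    (Equiv.ofInjective (Fin.castLE h) (Fin.castLE_injective h)).symm.trans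
      (Equiv.ofInjective rows rows.injective)
  refine ⟨e.extendSubtype, fun i => ?_⟩
  rw [Equiv.extendSubtype_apply_of_mem e _ ⟨i, rfl⟩]
  simp only [e, Equiv.trans_apply]
  have : (Equiv.ofInjective (Fin.castLE h) (Fin.castLE_injective h)).symm
      ⟨Fin.castLE h i, ⟨i, rfl⟩⟩ = i := by
    rw [Equiv.symm_apply_eq]
    rfl
  rw [this]
  rfl

variable {R A : Type u} [CommRing R] [CommRing A] [Algebra R A]

/-- **Core construction**: an element which is a multiple of the image of a Jacobian minor (on chosen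
rows and columns of a presentation) and which multiplies all relations into the chosen relations plus
the square of the relation ideal is elementary standard. -/
theorem isElementaryStandard_of_minor {n m c : ℕ} (f : Fin m → MvPolynomial (Fin n) R)
    (φ : MvPolynomial (Fin n) R →ₐ[R] A) (hφ : Function.Surjective φ)
    (hker : RingHom.ker φ.toRingHom = Ideal.span (Set.range f))
    (rows : Fin c ↪ Fin m) (cols : Fin c ↪ Fin n) (a a' : A)
    (ha : a = a' * φ (jacobianMinor f rows cols))
    (hkill : ∀ a₁ : MvPolynomial (Fin n) R, φ a₁ = a → ∀ ℓ : Fin m,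
      a₁ * f ℓ ∈ Ideal.span (Set.range (f ∘ rows)) ⊔ Ideal.span (Set.range f) ^ 2) :
    IsElementaryStandard R A a := by
  classical
  have hcm : c ≤ m := by simpa using Fintype.card_le_of_embedding rows
  have hcn : c ≤ n := by simpa using Fintype.card_le_of_embedding cols
  obtain ⟨σ, hσ⟩ := exists_perm_castLE hcm rows
  obtain ⟨τ, hτ⟩ := exists_perm_castLE hcn cols
  -- renaming of variables
  let ρ : MvPolynomial (Fin n) R ≃ₐ[R] MvPolynomial (Fin n) R := renameEquiv R τ
  have hρ : ∀ p, ρ p = rename τ p := fun p => rfl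
  have hρs : ∀ p, ρ.symm p = rename τ.symm p := fun p => rfl
  let rel' : Fin m → MvPolynomial (Fin n) R := fun j => ρ.symm (f (σ j))
  let hom' : MvPolynomial (Fin n) R →ₐ[R] A := φ.comp ρ.toAlgHom
  have hrange : Set.range rel' = ρ.symm '' Set.range f := by
    ext x
    constructor
    · rintro ⟨j, rfl⟩
      exact ⟨f (σ j), ⟨σ j, rfl⟩, rfl⟩
    · rintro ⟨_, ⟨j, rfl⟩, rfl⟩
      exact ⟨σ.symm j, by simp [rel']⟩
  have hspan : Ideal.span (Set.range rel') =
      (Ideal.span (Set.range f)).map (ρ.symm : MvPolynomial (Fin n) R →+* MvPolynomial (Fin n) R) := by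
    rw [Ideal.map_span, hrange]
    rfl
  have hker' : RingHom.ker hom'.toRingHom = Ideal.span (Set.range rel') := by
    rw [hspan, ← hker]
    ext x
    rw [RingHom.mem_ker]
    constructor
    · intro hx
      refine (Ideal.mem_map_iff_of_surjective _ ρ.symm.surjective).mpr ⟨ρ x, ?_, ρ.symm_apply_apply x⟩
      rw [RingHom.mem_ker]
      exact hx
    · intro hx
      obtain ⟨y, hy, rfl⟩ := (Ideal.mem_map_iff_of_surjective _ ρ.symm.surjective).mp hx
      rw [RingHom.mem_ker] at hy
      change φ (ρ (ρ.symm y)) = 0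
      rw [ρ.apply_symm_apply]
      exact hy
  let P : MarkedPresentation R A :=
    { n := n, m := m, c := c, hcn := hcn, hcm := hcm, rel := rel', hom := hom'
      surj := hφ.comp ρ.surjective
      ker_eq := hker' }
  have hminor : jacobianMinor rel' (Fin.castLE hcm) (Fin.castLE hcn) =
      ρ.symm (jacobianMinor f rows cols) := by
    unfold jacobianMinor
    rw [AlgEquiv.map_det]
    congr 1
    ext j k
    simp only [Matrix.of_apply, AlgEquiv.mapMatrix_apply, Matrix.map_apply, rel', hσ]
    rw [hρs, hρs, ← pderiv_rename τ.symm.injective, ← hτ k, Equiv.symm_apply_apply]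
  refine ⟨P, ⟨a', ?_⟩, ?_⟩
  · change a = a' * φ (ρ (jacobianMinor rel' (Fin.castLE hcm) (Fin.castLE hcn)))
    rw [hminor, ρ.apply_symm_apply]
    exact ha
  · intro a₁' ha₁' j _
    change φ (ρ a₁') = a at ha₁'
    have h1 := hkill (ρ a₁') ha₁' (σ j)
    have h2 : ρ.symm (ρ a₁' * f (σ j)) ∈ (Ideal.span (Set.range (f ∘ rows)) ⊔
        Ideal.span (Set.range f) ^ 2).map
          (ρ.symm : MvPolynomial (Fin n) R →+* MvPolynomial (Fin n) R) :=
      Ideal.mem_map_of_mem _ h1
    rw [map_mul, ρ.symm_apply_apply, Ideal.map_sup, Ideal.map_pow, ← hspan] at h2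
    have h3 : (Ideal.span (Set.range (f ∘ rows))).map
        (ρ.symm : MvPolynomial (Fin n) R →+* MvPolynomial (Fin n) R) =
        Ideal.span (rel' '' {j' : Fin m | (j' : ℕ) < c}) := by
      rw [Ideal.map_span]
      congr 1
      ext x
      constructor
      · rintro ⟨_, ⟨i, rfl⟩, rfl⟩
        refine ⟨Fin.castLE hcm i, by simp, ?_⟩
        simp only [rel', hσ, Function.comp_apply]
        rfl
      · rintro ⟨j', hj', rfl⟩
        refine ⟨f (rows ⟨j', hj'⟩), ⟨⟨j', hj'⟩, rfl⟩, ?_⟩
        have : σ j' = rows ⟨j', hj'⟩ := by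
          rw [← hσ]
          rfl
        simp only [rel', this]
        rfl
    rw [h3] at h2
    exact h2

end Groth.Agent.Lib.Helper25.StdElem
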