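import Mathlib
import Groth.Agent.Lib.Helper25.JacobianCrit
import Groth.Agent.Lib.Helper25.JacobianCrit2
import Groth.Agent.Lib.Helper25.JacobianCrit3
import Groth.Agent.Lib.Helper25.JacobianCrit4
import Groth.Agent.Lib.Helper25.EtaleCoord2

/-!
# Standard elements at smooth primes (helper25)

* `exists_embedding_det_ne_zero_of_linearIndependent_rows`: a `c × n` matrix over a field with independent
  rows has a nonzero `c × c` minor.
* `exists_rows_linearIndependent_D`: for a formally smooth quotient `P ⧸ (g_1, …, g_m)` of a formally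
  smooth local algebra, one can pick minimal generators among the `g_j`, with linearly independent
  differentials.
-/

set_option autoImplicit false
universe u v

open TensorProduct KaehlerDifferential IsLocalRing

namespace Groth.Agent.Lib.Helper25.JacobianCrit

section Matrix

/-- A matrix with linearly independent rows over a field has a square submatrix of full size with nonzero
determinant. -/
theorem exists_embedding_det_ne_zero_of_linearIndependent_rows {K : Type*} [Field K] {c n : ℕ}
    (M : Matrix (Fin c) (Fin n) K) (hM : LinearIndependent K M.row) :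
    ∃ cols : Fin c ↪ Fin n, (M.submatrix id cols).det ≠ 0 := by
  classical
  have hrank : M.rank = c := by
    rw [Matrix.rank_eq_finrank_span_row, finrank_span_eq_card hM, Fintype.card_fin]
  have hspan : Submodule.span K (M.col '' Set.univ) = ⊤ := by
    rw [Set.image_univ]
    apply Submodule.eq_top_of_finrank_eq
    rw [← Matrix.rank_eq_finrank_span_cols, hrank, Module.finrank_fin_fun]
  obtain ⟨c', g, -, hli, hsp⟩ := exists_fin_basis_of_span_image M.col Set.univ hspan
  have hc : c' = c := by
    have h1 := Module.finrank_eq_card_basis (Module.Basis.mk hli hsp.ge)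
    rw [Module.finrank_fin_fun, Fintype.card_fin] at h1
    exact h1.symm
  subst hc
  have hinj : Function.Injective g := Function.Injective.of_comp hli.injective
  refine ⟨⟨g, hinj⟩, ?_⟩
  have h2 : LinearIndependent K (M.submatrix id g).col := by
    have : (M.submatrix id g).col = M.col ∘ g := by
      ext k j
      rfl
    rw [this]
    exact hli
  have h3 := Matrix.linearIndependent_cols_iff_isUnit.mp h2
  exact ((Matrix.isUnit_iff_isUnit_det _).mp h3).ne_zero

end Matrix

section Local

variable {R : Type u} {P : Type v} [CommRing R] [CommRing P] [Algebra R P] [IsLocalRing P]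

/-- **Choosing minimal generators among given generators**: for a formally smooth quotient
`P ⧸ (g_1, …, g_m)` of a formally smooth local algebra with finite free differentials, some subfamily of
the `g_j` generates the ideal and has linearly independent differentials in `κ ⊗ Ω_{P/R}`. -/
theorem exists_rows_linearIndependent_D
    [Algebra.FormallySmooth R P] [Module.Free P Ω[P⁄R]] [Module.Finite P Ω[P⁄R]]
    {m : ℕ} (g : Fin m → P) (I : Ideal P) (hI : I = Ideal.span (Set.range g))
    (hIm : I ≤ maximalIdeal P) [Algebra.FormallySmooth R (P ⧸ I)] :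
    ∃ (c : ℕ) (rows : Fin c ↪ Fin m), I = Ideal.span (Set.range (g ∘ rows)) ∧
      LinearIndependent (ResidueField P)
        fun i => (1 : ResidueField P) ⊗ₜ[P] D R P (g (rows i)) := by
  classical
  have hgI : ∀ j, g j ∈ I := fun j => hI ▸ Ideal.subset_span ⟨j, rfl⟩
  have hfg : I.FG := ⟨Finset.univ.image g, by simp [hI]⟩
  haveI : Module.Finite P I := Module.Finite.of_fg hfg
  let v : Fin m → ResidueField P ⊗[P] I := fun j => (1 : ResidueField P) ⊗ₜ[P] (⟨g j, hgI j⟩ : I)
  have hspan : Submodule.span (ResidueField P) (v '' Set.univ) = ⊤ := by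
    rw [Set.image_univ]
    exact span_one_tmul_generators g I hI hgI
  obtain ⟨c, rows, -, hli, hsp⟩ := exists_fin_basis_of_span_image v Set.univ hspan
  have hinj : Function.Injective rows := Function.Injective.of_comp hli.injective
  have hc : Module.finrank (ResidueField P) (ResidueField P ⊗[P] I) = c := by
    have h1 := Module.finrank_eq_card_basis (Module.Basis.mk hli hsp.ge)
    rw [Fintype.card_fin] at h1
    exact h1
  -- Nakayama
  have hN : Submodule.span P (Set.range fun i : Fin c => (⟨g (rows i), hgI (rows i)⟩ : I)) = ⊤ := by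
    rw [← IsLocalRing.map_tensorProduct_mk_eq_top, Submodule.map_span,
      ← Submodule.restrictScalars_span P (ResidueField P) Ideal.Quotient.mk_surjective,
      Submodule.restrictScalars_eq_top_iff, ← Set.range_comp]
    exact hsp
  have hI' : I = Ideal.span (Set.range (g ∘ rows)) := by
    have h1 : Submodule.map I.subtype (⊤ : Submodule P I) = I := by
      rw [Submodule.map_top, Submodule.range_subtype]
    rw [← hN, Submodule.map_span, ← Set.range_comp] at h1
    rw [← h1]
    rfl
  refine ⟨c, ⟨rows, hinj⟩, hI', ?_⟩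
  exact linearIndependent_D_of_formallySmooth_quotient (R := R) (g ∘ rows) I hI' hIm hc

end Local

section Global

variable (R : Type u) {B : Type u} [CommRing R] [CommRing B] [Algebra R B]

/-- **Minimal relations at a smooth point of a quotient**: if `B` and `B ⧸ (f_1, …, f_m)` are smooth over
`R` at a prime `𝔓 ⊇ (f)`, some subfamily `f ∘ rows` has linearly independent differentials in
`κ(𝔓) ⊗ Ω_{B/R}` and generates `(f)` after inverting some `s ∉ 𝔓`. -/
theorem exists_rows_of_isSmoothAt_quotient [Algebra.EssFiniteType R B] {m : ℕ} (f : Fin m → B)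
    (I : Ideal B) (hI : I = Ideal.span (Set.range f))
    (q : Ideal (B ⧸ I)) [q.IsPrime] [Algebra.IsSmoothAt R q]
    (𝔓 : Ideal B) [𝔓.IsPrime] (h𝔓 : q.comap (Ideal.Quotient.mk I) = 𝔓)
    [Algebra.IsSmoothAt R 𝔓] :
    ∃ (c : ℕ) (rows : Fin c ↪ Fin m),
      LinearIndependent 𝔓.ResidueField
        (fun i => (1 : 𝔓.ResidueField) ⊗ₜ[B] D R B (f (rows i))) ∧
      ∃ s : B, s ∉ 𝔓 ∧ ∀ ℓ, s * f ℓ ∈ Ideal.span (Set.range (f ∘ rows)) := by
  classical
  subst h𝔓
  set 𝔓 := q.comap (Ideal.Quotient.mk I) with h𝔓
  set PL := Localization.AtPrime 𝔓 with hPL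
  obtain ⟨hfree, hfin⟩ := free_finite_kaehler_localization (R := R) 𝔓
  haveI : Algebra.FormallySmooth R PL := ‹Algebra.IsSmoothAt R 𝔓›
  haveI : Algebra.FormallySmooth R (PL ⧸ I.map (algebraMap B PL)) :=
    (isSmoothAt_quotient_iff R I q).mp inferInstance
  let g : Fin m → PL := fun j => algebraMap B PL (f j)
  have hIL : I.map (algebraMap B PL) = Ideal.span (Set.range g) := by
    rw [hI, Ideal.map_span, ← Set.range_comp]
    rfl
  have hI𝔓 : I ≤ 𝔓 := by
    intro x hx
    change Ideal.Quotient.mk I x ∈ q
    rw [Ideal.Quotient.eq_zero_iff_mem.mpr hx]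
    exact zero_mem _
  have hIm : I.map (algebraMap B PL) ≤ maximalIdeal PL := by
    rw [Ideal.map_le_iff_le_comap]
    intro x hx
    exact (IsLocalization.AtPrime.to_map_mem_maximal_iff PL 𝔓 x).mpr (hI𝔓 hx)
  obtain ⟨c, rows, hgen, hli⟩ := exists_rows_linearIndependent_D (R := R) g
    (I.map (algebraMap B PL)) hIL hIm
  refine ⟨c, rows, ?_, ?_⟩
  · have h2 := hli.map' (fibreEquiv R 𝔓).toLinearMap (LinearEquiv.ker _)
    have h3 : ((fibreEquiv R 𝔓).toLinearMap ∘ fun i =>
        (1 : ResidueField PL) ⊗ₜ[PL] D R PL (g (rows i))) =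
        fun i => (1 : 𝔓.ResidueField) ⊗ₜ[B] D R B (f (rows i)) := by
      funext i
      exact fibreEquiv_one_tmul_D R 𝔓 (f (rows i))
    rw [h3] at h2
    exact h2
  · have hfg : I.FG := ⟨Finset.univ.image f, by simp [hI]⟩
    have hle : I.map (algebraMap B PL) ≤
        (Ideal.span (Set.range (f ∘ rows))).map (algebraMap B PL) := by
      rw [hgen, Ideal.map_span, ← Set.range_comp]
      exact le_of_eq rfl
    obtain ⟨s, hs, hs'⟩ := exists_notMem_smul_le_of_map_le 𝔓 I
      (Ideal.span (Set.range (f ∘ rows))) hfg hle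
    exact ⟨s, hs, fun ℓ => hs' _ (hI ▸ Ideal.subset_span ⟨ℓ, rfl⟩)⟩

end Global

section MvPolynomial

variable {R : Type u} [CommRing R]

/-- Polynomials whose differentials are independent in the fibre of `Ω_{R[x]/R}` at a prime `𝔔` have a
maximal Jacobian minor outside `𝔔`. -/
theorem exists_cols_jacobian_det_notMem {n c : ℕ} (F : Fin c → MvPolynomial (Fin n) R)
    (𝔔 : Ideal (MvPolynomial (Fin n) R)) [𝔔.IsPrime]
    (hli : LinearIndependent 𝔔.ResidueField fun i =>
      (1 : 𝔔.ResidueField) ⊗ₜ[MvPolynomial (Fin n) R] D R (MvPolynomial (Fin n) R) (F i)) :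
    ∃ cols : Fin c ↪ Fin n,
      Matrix.det (Matrix.of fun j k : Fin c => MvPolynomial.pderiv (cols k) (F j)) ∉ 𝔔 := by
  classical
  set κ := 𝔔.ResidueField with hκ
  let b : Module.Basis (Fin n) κ (κ ⊗[MvPolynomial (Fin n) R] Ω[MvPolynomial (Fin n) R⁄R]) :=
    (KaehlerDifferential.mvPolynomialBasis R (Fin n)).baseChange κ
  let M : Matrix (Fin c) (Fin n) κ := fun j k =>
    algebraMap (MvPolynomial (Fin n) R) κ (MvPolynomial.pderiv k (F j))
  have hrow : M.row = (b.equivFun.toLinearMap ∘ fun i =>
      (1 : κ) ⊗ₜ[MvPolynomial (Fin n) R] D R (MvPolynomial (Fin n) R) (F i)) := by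
    funext j k
    simp only [Function.comp_apply, LinearEquiv.coe_coe, Module.Basis.equivFun_apply, b,
      Module.Basis.baseChange_repr_tmul, KaehlerDifferential.mvPolynomialBasis_repr_apply,
      Algebra.smul_def, mul_one]
    rfl
  have hM : LinearIndependent κ M.row := by
    rw [hrow]
    exact hli.map' b.equivFun.toLinearMap (LinearEquiv.ker _)
  obtain ⟨cols, hdet⟩ := exists_embedding_det_ne_zero_of_linearIndependent_rows M hM
  refine ⟨cols, fun hmem => hdet ?_⟩
  have h1 : M.submatrix id cols =
      (algebraMap (MvPolynomial (Fin n) R) κ).mapMatrix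
        (Matrix.of fun j k : Fin c => MvPolynomial.pderiv (cols k) (F j)) := by
    ext j k
    rfl
  rw [h1, ← RingHom.map_det]
  exact Ideal.algebraMap_residueField_eq_zero.mpr hmem

end MvPolynomial

end Groth.Agent.Lib.Helper25.JacobianCrit
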