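import Groth.Agent.Lib.Helper25.InjHull
import Mathlib.RingTheory.Noetherian.Basic
import Mathlib.RingTheory.Filtration
import Mathlib.Algebra.DirectSum.Module
import Mathlib.LinearAlgebra.LinearPMap

/-!
# Injective modules over Noetherian rings

Bass' theorem on direct sums, and injectivity of the power-torsion part.
-/

set_option autoImplicit false

universe u v

namespace Groth.Agent.Lib.Helper25

open InjHull

section Bass

variable {R : Type u} [CommRing R] [IsNoetherianRing R] {ι : Type v}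
  (E : ι → Type v) [∀ i, AddCommGroup (E i)] [∀ i, Module R (E i)]

/-- **Bass**: over a Noetherian ring direct sums of injective modules are injective -/
theorem injective_directSum [Small.{v} R] (hE : ∀ i, Module.Injective R (E i)) :
    Module.Injective R (DirectSum ι E) := by
  classical
  apply Module.Baer.injective
  intro I g
  obtain ⟨S, hS⟩ := (isNoetherianRing_iff_ideal_fg R).1 inferInstance I
  -- finite support
  have hSI : ∀ a ∈ S, a ∈ I := fun a ha => hS ▸ Submodule.subset_span ha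
  let s : Finset ι := S.attach.biUnion fun a => DFinsupp.support (g ⟨a.1, hSI a.1 a.2⟩)
  let P : Submodule R (DirectSum ι E) :=
    { carrier := {y | ∀ i, i ∉ s → y i = 0}
      add_mem' := by
        intro a b ha hb i hi
        rw [DirectSum.add_apply, ha i hi, hb i hi, add_zero]
      zero_mem' := fun i _ => rfl
      smul_mem' := by
        intro c a ha i hi
        rw [DirectSum.smul_apply, ha i hi, smul_zero] }
  have hP : ∀ x : I, g x ∈ P := by
    have hle : I ≤ (P.comap g).map I.subtype := by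
      have hS' : I ≤ Ideal.span (S : Set R) := hS.ge
      refine hS'.trans ?_
      rw [Ideal.span, Submodule.span_le]
      intro a ha
      refine ⟨⟨a, hSI a ha⟩, ?_, rfl⟩
      intro i hi
      by_contra hne
      apply hi
      simp only [s, Finset.mem_biUnion, Finset.mem_attach, true_and, Subtype.exists]
      exact ⟨a, ha, DFinsupp.mem_support_iff.2 hne⟩
    intro x
    obtain ⟨x', hx', hxx'⟩ := hle x.2
    have : x' = x := Subtype.ext hxx'
    rw [← this]
    exact hx'
  have hB : ∀ i, Module.Baer R (E i) := fun i => Module.Baer.of_injective (hE i)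
  choose g' hg' using fun i => hB i I (DirectSum.component R ι E i ∘ₗ g)
  refine ⟨∑ i ∈ s, DirectSum.lof R ι E i ∘ₗ g' i, fun x hx => ?_⟩
  apply DirectSum.ext_component R
  intro j
  rw [LinearMap.sum_apply, map_sum]
  simp only [LinearMap.comp_apply, hg' _ x hx, DirectSum.component.of]
  by_cases hj : j ∈ s
  · rw [Finset.sum_eq_single j]
    · simp
    · intro b _ hb
      rw [dif_neg hb]
    · intro h; exact absurd hj h
  · rw [Finset.sum_eq_zero]
    · exact (hP ⟨x, hx⟩ j hj).symm
    · intro b hb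
      have : b ≠ j := fun h => hj (h ▸ hb)
      rw [dif_neg this]

end Bass


section PowerTorsion

variable {R : Type u} [CommRing R] [IsNoetherianRing R] {I : Type v} [AddCommGroup I] [Module R I]

/-- the `J`-power-torsion submodule, as the union of the `J^n`-torsion -/
abbrev powTorsion (J : Ideal R) (I : Type v) [AddCommGroup I] [Module R I] : Submodule R I :=
  ⨆ n : ℕ, Submodule.torsionBySet R I ((J ^ n : Ideal R) : Set R)

omit [IsNoetherianRing R] in
theorem torsionBySet_pow_mono (J : Ideal R) :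
    Monotone fun n : ℕ => Submodule.torsionBySet R I ((J ^ n : Ideal R) : Set R) := by
  intro n m hnm x hx
  rw [Submodule.mem_torsionBySet_iff] at hx ⊢
  rintro ⟨a, ha⟩
  exact hx ⟨a, Ideal.pow_le_pow_right hnm ha⟩

omit [IsNoetherianRing R] in
theorem mem_powTorsion_iff (J : Ideal R) (x : I) :
    x ∈ powTorsion J I ↔ ∃ n : ℕ, ∀ a ∈ J ^ n, a • x = 0 := by
  rw [powTorsion, Submodule.mem_iSup_of_directed _ (torsionBySet_pow_mono J).directed_le]
  refine exists_congr fun n => ?_
  rw [Submodule.mem_torsionBySet_iff]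
  exact ⟨fun h a ha => h ⟨a, ha⟩, fun h a => h a a.2⟩

/-- over a Noetherian ring the power-torsion part of an injective module is injective -/
theorem injective_powTorsion [Small.{v} R] (hI : Module.Injective R I) (J : Ideal R) :
    Module.Injective R ↥(powTorsion J I) := by
  classical
  apply Module.Baer.injective
  intro 𝔞 g
  set g₁ : 𝔞 →ₗ[R] I := (powTorsion J I).subtype ∘ₗ g with hg₁
  obtain ⟨S, hS⟩ := (isNoetherianRing_iff_ideal_fg R).1 inferInstance 𝔞
  have hSI : ∀ a ∈ S, a ∈ 𝔞 := fun a ha => hS ▸ Submodule.subset_span ha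
  -- uniform exponent
  have hex : ∀ a : S, ∃ n : ℕ, ∀ b ∈ J ^ n, b • g₁ ⟨a.1, hSI a.1 a.2⟩ = 0 := fun a =>
    (mem_powTorsion_iff J _).1 (g ⟨a.1, hSI a.1 a.2⟩).2
  choose N hN using hex
  let n : ℕ := S.attach.sup N
  let T : Submodule R I := Submodule.torsionBySet R I ((J ^ n : Ideal R) : Set R)
  have hT : ∀ x : 𝔞, g₁ x ∈ T := by
    have hle : 𝔞 ≤ (T.comap g₁).map 𝔞.subtype := by
      have hS' : 𝔞 ≤ Ideal.span (S : Set R) := hS.ge
      refine hS'.trans ?_
      rw [Ideal.span, Submodule.span_le]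
      intro a ha
      refine ⟨⟨a, hSI a ha⟩, ?_, rfl⟩
      rw [SetLike.mem_coe, Submodule.mem_comap, Submodule.mem_torsionBySet_iff]
      rintro ⟨b, hb⟩
      exact hN ⟨a, ha⟩ b (Ideal.pow_le_pow_right (Finset.le_sup (f := N)
        (Finset.mem_attach S ⟨a, ha⟩)) hb)
    intro x
    obtain ⟨x', hx', hxx'⟩ := hle x.2
    have : x' = x := Subtype.ext hxx'
    rw [← this]
    exact hx'
  -- Artin-Rees
  obtain ⟨k, hk⟩ := Ideal.exists_pow_inf_eq_pow_smul J (𝔞 : Submodule R R)
  have hvanish : ∀ x : 𝔞, (x : R) ∈ J ^ (n + k) → g₁ x = 0 := by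
    have hle : (J ^ n • (𝔞 : Submodule R R)) ≤ (LinearMap.ker g₁).map 𝔞.subtype := by
      rw [Submodule.smul_le]
      intro j hj a ha
      refine ⟨⟨j • a, 𝔞.smul_mem j ha⟩, ?_, rfl⟩
      rw [SetLike.mem_coe, LinearMap.mem_ker]
      have : (⟨j • a, 𝔞.smul_mem j ha⟩ : 𝔞) = j • ⟨a, ha⟩ := rfl
      rw [this, map_smul]
      exact (Submodule.mem_torsionBySet_iff _ _).1 (hT ⟨a, ha⟩) ⟨j, hj⟩
    intro x hx
    have hmem : (x : R) ∈ J ^ (n + k) • (⊤ : Submodule R R) ⊓ 𝔞 := by
      refine ⟨?_, x.2⟩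
      rw [Ideal.smul_top_eq_map]
      simpa using hx
    rw [hk (n + k) (Nat.le_add_left k n), Nat.add_sub_cancel] at hmem
    have hmem2 : (x : R) ∈ J ^ n • (𝔞 : Submodule R R) :=
      Submodule.smul_mono le_rfl inf_le_right hmem
    obtain ⟨x', hx', hxx'⟩ := hle hmem2
    have : x' = x := Subtype.ext hxx'
    rw [← this]
    exact hx'
  -- glue with the zero map on `J ^ (n + k)`
  let f₁ : R →ₗ.[R] I := ⟨𝔞, g₁⟩
  let f₂ : R →ₗ.[R] I := ⟨(J ^ (n + k) : Ideal R), 0⟩
  have hagree : ∀ (x : f₁.domain) (y : f₂.domain), (x : R) = y → f₁ x = f₂ y := by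
    intro x y hxy
    have : g₁ x = 0 := hvanish x (hxy ▸ y.2)
    simpa [f₁, f₂] using this
  let F := f₁.sup f₂ hagree
  obtain ⟨G, hG⟩ := Module.Baer.of_injective hI F.domain F.toFun
  have hG1 : ∀ (x : R) (hx : x ∈ 𝔞), G x = g₁ ⟨x, hx⟩ := by
    intro x hx
    have hmem : x ∈ F.domain := Submodule.mem_sup_left hx
    rw [hG x hmem]
    have := LinearPMap.sup_apply hagree ⟨x, hx⟩ 0 ⟨x, hmem⟩ (by simp)
    rw [LinearPMap.map_zero, add_zero] at this
    exact this
  have hG2 : ∀ j ∈ J ^ (n + k), G j = 0 := by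
    intro j hj
    have hmem : j ∈ F.domain := Submodule.mem_sup_right hj
    rw [hG j hmem]
    have := LinearPMap.sup_apply hagree 0 ⟨j, hj⟩ ⟨j, hmem⟩ (by simp)
    rw [LinearPMap.map_zero, zero_add] at this
    exact this
  have hGmem : ∀ r : R, G r ∈ powTorsion J I := by
    intro r
    rw [mem_powTorsion_iff]
    refine ⟨n + k, fun a ha => ?_⟩
    rw [← map_smul, smul_eq_mul]
    exact hG2 _ (Ideal.mul_mem_right _ _ ha)
  refine ⟨G.codRestrict _ hGmem, fun x hx => ?_⟩
  apply Subtype.ext
  exact hG1 x hx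

end PowerTorsion

end Groth.Agent.Lib.Helper25
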