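import Groth.Agent.Lib.Helper25.MatlisEnd
import Groth.Agent.Lib.Helper21.AdicNoetherian

/-!
# Matlis duality: the hull of the residue field is Artinian
-/

set_option autoImplicit false

universe u v

namespace Groth.Agent.Lib.Helper25

open InjHull IsLocalRing

section Artin

variable {R : Type u} [CommRing R] [IsLocalRing R] [IsNoetherianRing R]
  {E : Type u} [AddCommGroup E] [Module R E]
  (f : ResidueField R →ₗ[R] E) (hf : IsInjectiveHull f)

/-- the annihilator in the completion of a submodule of a power torsion module -/
noncomputable def annHat {I : Ideal R} {E : Type v} [AddCommGroup E] [Module R E]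
    (hE : LocCoh.IsPowerTorsion I E) (N : Submodule R E) :
    Ideal (AdicCompletion I R) where
  carrier := {x | ∀ e ∈ N, hatEnd I hE x e = 0}
  add_mem' := by
    intro x y hx hy e he
    rw [map_add, LinearMap.add_apply, hx e he, hy e he, add_zero]
  zero_mem' := by
    intro e _
    rw [map_zero, LinearMap.zero_apply]
  smul_mem' := by
    intro c x hx e he
    rw [smul_eq_mul, map_mul, Module.End.mul_apply, hx e he, map_zero]

include hf in
theorem annHat_strictAnti :
    StrictAnti (annHat (isPowerTorsion_of_isInjectiveHull f hf)) := by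
  intro N' N hlt
  refine lt_of_le_of_ne (fun x hx e he => hx e (hlt.le he)) ?_
  obtain ⟨e, heN, heN'⟩ := SetLike.exists_of_lt hlt
  have hne : Submodule.Quotient.mk (p := N') e ≠ 0 := by
    rwa [Ne, Submodule.Quotient.mk_eq_zero]
  obtain ⟨ψ, hψ⟩ := exists_hom_ne_zero f hf hne
  obtain ⟨x, hx⟩ := (hatEnd_bijective f hf).2 (ψ ∘ₗ N'.mkQ)
  intro heq
  have hxN' : x ∈ annHat (isPowerTorsion_of_isInjectiveHull f hf) N' := by
    intro e' he'
    rw [hx, LinearMap.comp_apply, Submodule.mkQ_apply,
      (Submodule.Quotient.mk_eq_zero N').2 he', map_zero]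
  rw [← heq] at hxN'
  apply hψ
  have := hxN' e heN
  rw [hx] at this
  exact this

include hf in
/-- the hull of the residue field of a Noetherian local ring is Artinian -/
theorem isArtinian_of_isInjectiveHull : IsArtinian R E := by
  have : IsNoetherianRing (AdicCompletion (maximalIdeal R) R) :=
    Groth.Agent.Lib.Helper21.isNoetherianRing_adicCompletion_of_fg _
      (IsNoetherian.noetherian _)
  exact (annHat_strictAnti f hf).wellFoundedLT

end Artin

section ArtinChar

variable {R : Type u} [CommRing R] [IsLocalRing R] [IsNoetherianRing R]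

/-- an Artinian module over a Noetherian local ring is power torsion -/
theorem isPowerTorsion_of_isArtinian {M : Type v} [AddCommGroup M] [Module R M] [IsArtinian R M] :
    LocCoh.IsPowerTorsion (maximalIdeal R) M := by
  intro x
  let c : ℕ →o (Submodule R M)ᵒᵈ :=
    { toFun := fun n => OrderDual.toDual (maximalIdeal R ^ n • Submodule.span R {x})
      monotone' := fun i j hij =>
        Submodule.smul_mono_left (Ideal.pow_le_pow_right hij) }
  obtain ⟨n, hn⟩ := IsArtinian.monotone_stabilizes c
  refine ⟨n, fun a ha => ?_⟩
  have h1 : maximalIdeal R ^ n • Submodule.span R {x} =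
      maximalIdeal R ^ (n + 1) • Submodule.span R {x} :=
    congrArg OrderDual.ofDual (hn (n + 1) (Nat.le_succ n))
  have hbot : maximalIdeal R ^ n • Submodule.span R {x} = ⊥ := by
    apply Submodule.eq_bot_of_le_smul_of_le_jacobson_bot (maximalIdeal R)
    · exact Submodule.FG.smul (IsNoetherian.noetherian _) (Submodule.fg_span_singleton x)
    · conv_lhs => rw [h1, pow_succ', mul_smul]
    · exact maximalIdeal_le_jacobson _
  have : a • x ∈ maximalIdeal R ^ n • Submodule.span R {x} :=
    Submodule.smul_mem_smul ha (Submodule.mem_span_singleton_self x)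
  rw [hbot] at this
  exact (Submodule.mem_bot R).1 this

omit [IsNoetherianRing R] in
theorem finite_socle_of_isArtinian {M : Type v} [AddCommGroup M] [Module R M] [IsArtinian R M] :
    Module.Finite (R ⧸ maximalIdeal R) ↥(LocCoh.torsionBy (maximalIdeal R) M) := by
  let _ : Field (R ⧸ maximalIdeal R) := Ideal.Quotient.field _
  have h1 : IsArtinian R ↥(LocCoh.torsionBy (maximalIdeal R) M) := inferInstance
  have h2 : IsArtinian (R ⧸ maximalIdeal R) ↥(LocCoh.torsionBy (maximalIdeal R) M) :=
    isArtinian_of_tower R h1
  exact ((IsArtinianRing.tfae (R ⧸ maximalIdeal R) _).out 2 0).1 h2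

/-- characterization of Artinian modules over a Noetherian local ring -/
theorem isArtinian_iff_isPowerTorsion_and_finite {M : Type u} [AddCommGroup M] [Module R M] :
    IsArtinian R M ↔ (LocCoh.IsPowerTorsion (maximalIdeal R) M ∧
      Module.Finite (R ⧸ maximalIdeal R) ↥(LocCoh.torsionBy (maximalIdeal R) M)) := by
  constructor
  · intro h
    exact ⟨isPowerTorsion_of_isArtinian, finite_socle_of_isArtinian⟩
  · rintro ⟨hpt, hfin⟩
    obtain ⟨E, _, _, f, hf⟩ := exists_isInjectiveHull (R := R) (ResidueField R)
    obtain ⟨g, hg⟩ := exists_injective_to_pi_of_isPowerTorsion f hf hpt _ rfl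
    have := isArtinian_of_isInjectiveHull f hf
    exact isArtinian_of_injective g hg

end ArtinChar

end Groth.Agent.Lib.Helper25
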