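import Groth.Agent.Lib.Helper25.InjLoc
import Groth.Agent.Lib.Helper25.InjNoeth
import Groth.Agent.Lib.Helper25.MatlisArtin

/-!
# The hull of `R/m` for a maximal ideal of a Noetherian ring
-/

set_option autoImplicit false

universe u v

namespace Groth.Agent.Lib.Helper25

open InjHull

section PowTors

variable {R : Type u} [CommRing R]

/-- the hull of `R/J` is `J`-power torsion (Noetherian base) -/
theorem isPowerTorsion_of_hull_quotient [IsNoetherianRing R] (J : Ideal R) {E : Type u}
    [AddCommGroup E] [Module R E] (f : (R ⧸ J) →ₗ[R] E) (hf : IsInjectiveHull f) :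
    LocCoh.IsPowerTorsion J E := by
  have : Module.Injective R (powTorsion J E) := injective_powTorsion hf.isInjective _
  have hle : LinearMap.range f ≤ powTorsion J E := by
    rintro _ ⟨k, rfl⟩
    rw [mem_powTorsion_iff]
    refine ⟨1, fun a ha => ?_⟩
    rw [pow_one] at ha
    rw [← map_smul, Algebra.smul_def]
    have : algebraMap R (R ⧸ J) a = 0 := Ideal.Quotient.eq_zero_iff_mem.2 ha
    rw [this, zero_mul, map_zero]
  have htop := eq_top_of_injective_of_range_le hf.toIsEssentialInj _ hle
  intro x
  have hx : x ∈ powTorsion J E := by rw [htop]; trivial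
  exact (mem_powTorsion_iff _ _).1 hx

variable {m : Ideal R} [hm : m.IsMaximal] {M : Type v} [AddCommGroup M] [Module R M]

/-- elements outside a maximal ideal act invertibly on power torsion modules -/
theorem exists_mul_smul_eq (hM : LocCoh.IsPowerTorsion m M) {s : R} (hs : s ∉ m) (x : M) :
    ∃ t : R, (t * s) • x = x := by
  obtain ⟨n, hn⟩ := hM x
  obtain ⟨t₀, i, hi, hti⟩ := hm.exists_inv hs
  obtain ⟨c, hc⟩ := sub_dvd_pow_sub_pow (1 : R) (1 - t₀ * s) n
  refine ⟨t₀ * c, ?_⟩
  have h1 : (1 - t₀ * s) ^ n = i ^ n := by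
    congr 1
    rw [← hti]; ring
  have h2 : i ^ n • x = 0 := hn _ (Ideal.pow_mem_pow hi n)
  have h3 : (1 : R) - t₀ * c * s = (1 - t₀ * s) ^ n := by
    have h5 : (1 : R) - (1 - t₀ * s) ^ n = t₀ * s * c := by
      rw [one_pow] at hc
      rw [hc]; ring
    linear_combination h5
  have h4 : ((1 : R) - t₀ * c * s) • x = 0 := by rw [h3, h1, h2]
  rw [sub_smul, one_smul, sub_eq_zero] at h4
  exact h4.symm

theorem mkLinearMap_bijective_of_isPowerTorsion (hM : LocCoh.IsPowerTorsion m M) :
    Function.Bijective (LocalizedModule.mkLinearMap m.primeCompl M) := by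
  constructor
  · rw [← LinearMap.ker_eq_bot, LinearMap.ker_eq_bot']
    intro x hx
    rw [LocalizedModule.mkLinearMap_apply, ← LocalizedModule.zero_mk 1,
      LocalizedModule.mk_eq] at hx
    obtain ⟨u, hu⟩ := hx
    obtain ⟨t, ht⟩ := exists_mul_smul_eq hM u.2 x
    rw [one_smul, smul_zero, Submonoid.smul_def] at hu
    rw [← ht, mul_smul, hu, smul_zero, smul_zero]
  · intro z
    induction z using LocalizedModule.induction_on with
    | h x s =>
    obtain ⟨t, ht⟩ := exists_mul_smul_eq hM s.2 x
    refine ⟨t • x, ?_⟩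
    rw [LocalizedModule.mkLinearMap_apply, LocalizedModule.mk_eq]
    refine ⟨1, ?_⟩
    rw [one_smul, one_smul, Submonoid.smul_def, smul_smul, mul_comm, ht]
    exact (one_smul _ x).symm

theorem localized_strictMono (hM : LocCoh.IsPowerTorsion m M) :
    StrictMono (fun N : Submodule R M => Submodule.localized m.primeCompl N) := by
  intro N' N hlt
  have hmono : Submodule.localized m.primeCompl N' ≤ Submodule.localized m.primeCompl N := by
    rintro z ⟨y, hy, t, rfl⟩
    exact ⟨y, hlt.le hy, t, rfl⟩
  refine lt_of_le_of_ne hmono ?_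
  intro heq
  change Submodule.localized m.primeCompl N' = Submodule.localized m.primeCompl N at heq
  obtain ⟨x, hxN, hxN'⟩ := SetLike.exists_of_lt hlt
  apply hxN'
  have hmem : LocalizedModule.mk x 1 ∈ Submodule.localized m.primeCompl N' := by
    rw [heq]
    exact ⟨x, hxN, 1, (IsLocalizedModule.mk_eq_mk' _ _).symm⟩
  obtain ⟨y, hy, t, hyt⟩ := hmem
  rw [← IsLocalizedModule.mk_eq_mk', LocalizedModule.mk_eq] at hyt
  obtain ⟨u, hu⟩ := hyt
  rw [one_smul] at hu
  -- `u • y = u • t • x`
  have hmem2 : ((u * t : m.primeCompl) : R) • x ∈ N' := by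
    have : ((u * t : m.primeCompl) : R) • x = u • t • x := by
      rw [Submonoid.coe_mul, mul_smul]; rfl
    rw [this, ← hu]
    exact N'.smul_mem _ hy
  obtain ⟨c, hc⟩ := exists_mul_smul_eq hM (u * t).2 x
  rw [← hc, mul_smul]
  exact N'.smul_mem _ hmem2

end PowTors

section Main

variable {R : Type u} [CommRing R] [IsNoetherianRing R] (m : Ideal R) [hm : m.IsMaximal]
  {E : Type u} [AddCommGroup E] [Module R E]

instance isSimpleModule_quotient_maximal : IsSimpleModule R (R ⧸ m) := by
  rw [isSimpleModule_iff_quot_maximal]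
  exact ⟨m, hm, ⟨LinearEquiv.refl R _⟩⟩

omit [IsNoetherianRing R] in
/-- the localization of `R/m` at `m` is a simple module over the local ring -/
theorem isSimpleModule_localizedModule_quotient :
    IsSimpleModule (Localization m.primeCompl) (LocalizedModule m.primeCompl (R ⧸ m)) := by
  have hpt : LocCoh.IsPowerTorsion m (R ⧸ m) := by
    intro k
    refine ⟨1, fun a ha => ?_⟩
    rw [pow_one] at ha
    rw [Algebra.smul_def]
    have : algebraMap R (R ⧸ m) a = 0 := Ideal.Quotient.eq_zero_iff_mem.2 ha
    rw [this, zero_mul]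
  let e : (R ⧸ m) ≃ₗ[R] LocalizedModule m.primeCompl (R ⧸ m) :=
    LinearEquiv.ofBijective _ (mkLinearMap_bijective_of_isPowerTorsion hpt)
  have h1 : Module.length R (LocalizedModule m.primeCompl (R ⧸ m)) = 1 := by
    rw [← e.length_eq]
    exact Module.length_eq_one R _
  rw [← Module.length_eq_one_iff]
  apply le_antisymm
  · have := Submodule.length_le_length_restrictScalars R
      (⊤ : Submodule (Localization m.primeCompl) (LocalizedModule m.primeCompl (R ⧸ m)))
    rw [Module.length_top] at this
    refine this.trans ?_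
    rw [Submodule.restrictScalars_top, Module.length_top, h1]
  · have : Nontrivial (R ⧸ m) := Ideal.Quotient.nontrivial_iff.2 hm.ne_top
    have : Nontrivial (LocalizedModule m.primeCompl (R ⧸ m)) := e.symm.toEquiv.nontrivial
    exact Order.one_le_iff_pos.2 Module.length_pos

/-- the hull of `R/m` is Artinian -/
theorem isArtinian_of_hull_quotient_maximal (f : (R ⧸ m) →ₗ[R] E) (hf : IsInjectiveHull f) :
    IsArtinian R E := by
  have hpt := isPowerTorsion_of_hull_quotient m f hf
  have hloc := isInjectiveHull_localizedModule_map m.primeCompl hf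
  have := isSimpleModule_localizedModule_quotient m
  obtain ⟨e⟩ := nonempty_equiv_residueField_of_isSimpleModule
    (R := Localization m.primeCompl) (LocalizedModule m.primeCompl (R ⧸ m))
  have hloc' : IsInjectiveHull (LocalizedModule.map m.primeCompl f ∘ₗ e.symm.toLinearMap) :=
    ⟨essInj_comp (isEssentialInj_of_bijective e.symm.bijective) hloc.toIsEssentialInj,
      hloc.isInjective⟩
  have hart : IsArtinian (Localization m.primeCompl) (LocalizedModule m.primeCompl E) :=
    isArtinian_of_isInjectiveHull _ hloc'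
  exact (localized_strictMono hpt).wellFoundedLT

end Main

end Groth.Agent.Lib.Helper25
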