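import Groth.Agent.Lib.Helper25.InjIndec
import Mathlib.RingTheory.Length
import Mathlib.RingTheory.FiniteLength
import Mathlib.RingTheory.SimpleModule.Basic
import Mathlib.RingTheory.LocalRing.ResidueField.Basic

/-!
# Matlis duality: the injective hull of the residue field of a local ring
-/

set_option autoImplicit false

universe u v

namespace Groth.Agent.Lib.Helper25

open InjHull IsLocalRing

section Socle

variable {R : Type u} [CommRing R] [IsLocalRing R] {E : Type u} [AddCommGroup E] [Module R E]

theorem smul_residueField_eq_zero {a : R} (ha : a ∈ maximalIdeal R) (k : ResidueField R) :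
    a • k = 0 := by
  rw [Algebra.smul_def, ResidueField.algebraMap_eq, (residue_eq_zero_iff a).2 ha, zero_mul]

/-- the socle of an essential extension of the residue field is the residue field -/
theorem torsionBy_maximalIdeal_eq_range (f : ResidueField R →ₗ[R] E) (hf : IsEssentialInj f) :
    LocCoh.torsionBy (maximalIdeal R) E = LinearMap.range f := by
  apply le_antisymm
  · intro x hx
    by_cases hx0 : x = 0
    · rw [hx0]; exact Submodule.zero_mem _
    obtain ⟨r, hr0, k, hk⟩ := ((isEssentialInj_iff f).1 hf).2 x hx0
    have hr : r ∉ maximalIdeal R := by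
      intro hr
      apply hr0
      exact (Submodule.mem_torsionBySet_iff _ _).1 hx ⟨r, hr⟩
    have hu : IsUnit r := by
      by_contra h
      exact hr ((mem_maximalIdeal r).2 h)
    obtain ⟨u, rfl⟩ := hu
    refine ⟨(↑u⁻¹ : R) • k, ?_⟩
    rw [map_smul, hk, smul_smul, Units.inv_mul, one_smul]
  · rintro _ ⟨k, rfl⟩
    rw [Submodule.mem_torsionBySet_iff]
    rintro ⟨a, ha⟩
    rw [← map_smul, smul_residueField_eq_zero ha, map_zero]

/-- evaluation at `1` identifies `Hom(κ, E)` with the socle of `E` -/
noncomputable def homResidueEquivSocle (E : Type u) [AddCommGroup E] [Module R E] :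
    (ResidueField R →ₗ[R] E) ≃ₗ[R] LocCoh.torsionBy (maximalIdeal R) E := by
  refine LinearEquiv.ofBijective
    ((LinearMap.applyₗ (1 : ResidueField R)).codRestrict _ (fun φ => ?_)) ⟨?_, ?_⟩
  · rw [Submodule.mem_torsionBySet_iff]
    rintro ⟨a, ha⟩
    simp only [LinearMap.applyₗ_apply_apply]
    rw [← map_smul, smul_residueField_eq_zero ha, map_zero]
  · intro φ ψ h
    have h1 : φ 1 = ψ 1 := congrArg Subtype.val h
    apply LinearMap.ext
    intro k
    obtain ⟨r, rfl⟩ := residue_surjective k
    have : residue R r = r • (1 : ResidueField R) := by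
      rw [Algebra.smul_def, mul_one]; rfl
    rw [this, map_smul, map_smul, h1]
  · rintro ⟨x, hx⟩
    have hker : maximalIdeal R ≤ LinearMap.ker (LinearMap.toSpanSingleton R E x) := by
      intro a ha
      rw [LinearMap.mem_ker, LinearMap.toSpanSingleton_apply]
      exact (Submodule.mem_torsionBySet_iff _ _).1 hx ⟨a, ha⟩
    refine ⟨Submodule.liftQ (maximalIdeal R) (LinearMap.toSpanSingleton R E x) hker, ?_⟩
    apply Subtype.ext
    change Submodule.liftQ (maximalIdeal R) (LinearMap.toSpanSingleton R E x) hker
      (Submodule.Quotient.mk 1) = x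
    rw [Submodule.liftQ_apply, LinearMap.toSpanSingleton_apply, one_smul]

/-- `Hom(κ, E) ≃ κ` for an essential extension `E` of `κ` -/
noncomputable def homResidueEquiv (f : ResidueField R →ₗ[R] E) (hf : IsEssentialInj f) :
    (ResidueField R →ₗ[R] E) ≃ₗ[R] ResidueField R :=
  (homResidueEquivSocle E).trans
    ((LinearEquiv.ofEq _ _ (torsionBy_maximalIdeal_eq_range f hf)).trans
      (LinearEquiv.ofInjective f hf.injective).symm)

instance isSimpleModule_residueField : IsSimpleModule R (ResidueField R) := by
  rw [isSimpleModule_iff_quot_maximal]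
  exact ⟨maximalIdeal R, inferInstance, ⟨LinearEquiv.refl R _⟩⟩

theorem length_hom_residueField (f : ResidueField R →ₗ[R] E) (hf : IsEssentialInj f) :
    Module.length R (ResidueField R →ₗ[R] E) = 1 := by
  rw [(homResidueEquiv f hf).length_eq]
  exact Module.length_eq_one R _

/-- over a local ring every simple module is isomorphic to the residue field -/
theorem nonempty_equiv_residueField_of_isSimpleModule (S : Type*) [AddCommGroup S] [Module R S]
    [IsSimpleModule R S] : Nonempty (S ≃ₗ[R] ResidueField R) := by
  obtain ⟨I, hI, ⟨e⟩⟩ := isSimpleModule_iff_quot_maximal.1 (inferInstance : IsSimpleModule R S)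
  have : I = maximalIdeal R := eq_maximalIdeal hI
  subst this
  exact ⟨e⟩

end Socle


section Length

variable {R : Type u} [CommRing R] {E : Type u} [AddCommGroup E] [Module R E]

/-- additivity of the length of `Hom(-, E)` for injective `E` -/
theorem length_hom_eq_add [Module.Injective R E] {M : Type u} [AddCommGroup M] [Module R M]
    (N : Submodule R M) :
    Module.length R (M →ₗ[R] E) =
      Module.length R ((M ⧸ N) →ₗ[R] E) + Module.length R (N →ₗ[R] E) := by
  refine Module.length_eq_add_of_exact (LinearMap.lcomp R E N.mkQ) (LinearMap.lcomp R E N.subtype)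
    ?_ ?_ ?_
  · intro φ ψ h
    apply LinearMap.ext
    intro y
    obtain ⟨x, rfl⟩ := N.mkQ_surjective y
    exact LinearMap.congr_fun h x
  · intro ψ
    obtain ⟨h, hh⟩ := Module.Injective.out N.subtype N.subtype_injective ψ
    exact ⟨h, LinearMap.ext hh⟩
  · intro y
    constructor
    · intro hy
      have hle : N ≤ LinearMap.ker y := by
        intro x hx
        exact LinearMap.congr_fun hy ⟨x, hx⟩
      exact ⟨N.liftQ y hle, LinearMap.ext fun x => rfl⟩
    · rintro ⟨φ, rfl⟩
      apply LinearMap.ext
      intro x
      simp only [LinearMap.lcomp_apply', LinearMap.comp_apply, Submodule.subtype_apply,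
        Submodule.mkQ_apply, LinearMap.zero_apply]
      rw [(Submodule.Quotient.mk_eq_zero N).2 x.2, map_zero]

variable [IsLocalRing R]

/-- `Hom(-, E)` preserves length of modules of finite length, `E` a hull of the residue field -/
theorem length_hom_eq_length (f : ResidueField R →ₗ[R] E) (hf : IsInjectiveHull f)
    {M : Type u} [AddCommGroup M] [Module R M] (hM : IsFiniteLength R M) :
    Module.length R (M →ₗ[R] E) = Module.length R M := by
  have := hf.isInjective
  induction hM with
  | of_subsingleton =>
    rw [Module.length_eq_zero_iff.2 inferInstance, Module.length_eq_zero_iff.2 inferInstance]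
  | @of_simple_quotient M _ _ N _ hN ih =>
    obtain ⟨e⟩ := nonempty_equiv_residueField_of_isSimpleModule (R := R) (M ⧸ N)
    have h1 : Module.length R ((M ⧸ N) →ₗ[R] E) = 1 := by
      rw [(LinearEquiv.arrowCongr e (LinearEquiv.refl R E)).length_eq]
      exact length_hom_residueField f hf.toIsEssentialInj
    rw [length_hom_eq_add N, h1, ih, Module.length_eq_add_of_exact N.subtype N.mkQ
      N.subtype_injective N.mkQ_surjective (LinearMap.exact_subtype_mkQ N),
      Module.length_eq_one R (M ⧸ N), add_comm]

end Length


section Eval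

variable {R : Type u} [CommRing R] [IsLocalRing R] {E : Type u} [AddCommGroup E] [Module R E]

/-- enough functionals: `E` (a hull of the residue field) cogenerates -/
theorem exists_hom_ne_zero (f : ResidueField R →ₗ[R] E) (hf : IsInjectiveHull f)
    {M : Type u} [AddCommGroup M] [Module R M] {x : M} (hx : x ≠ 0) :
    ∃ φ : M →ₗ[R] E, φ x ≠ 0 := by
  have := hf.isInjective
  set K := LinearMap.ker (LinearMap.toSpanSingleton R M x) with hK
  have hKm : K ≤ maximalIdeal R := by
    intro a ha
    rw [hK, LinearMap.mem_ker, LinearMap.toSpanSingleton_apply] at ha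
    by_contra hnot
    have hu : IsUnit a := by
      by_contra h
      exact hnot ((mem_maximalIdeal a).2 h)
    obtain ⟨u, rfl⟩ := hu
    apply hx
    have := congrArg (fun y => (↑u⁻¹ : R) • y) ha
    simpa [smul_smul] using this
  -- the map `R/K → κ → E`
  let π : R →ₗ[R] ResidueField R := Algebra.linearMap R (ResidueField R)
  have hπ : K ≤ LinearMap.ker (f ∘ₗ π) := by
    intro a ha
    rw [LinearMap.mem_ker, LinearMap.comp_apply]
    have : π a = 0 := by
      change algebraMap R (ResidueField R) a = 0
      rw [ResidueField.algebraMap_eq, residue_eq_zero_iff]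
      exact hKm ha
    rw [this, map_zero]
  let g₀ : (R ⧸ K) →ₗ[R] E := K.liftQ (f ∘ₗ π) hπ
  let ι : (R ⧸ K) →ₗ[R] M := K.liftQ (LinearMap.toSpanSingleton R M x) le_rfl
  have hι : Function.Injective ι := by
    rw [← LinearMap.ker_eq_bot]
    exact Submodule.ker_liftQ_eq_bot' _ _ rfl
  obtain ⟨φ, hφ⟩ := Module.Injective.out ι hι g₀
  refine ⟨φ, ?_⟩
  have h1 : ι (Submodule.Quotient.mk 1) = x := by
    change LinearMap.toSpanSingleton R M x 1 = x
    rw [LinearMap.toSpanSingleton_apply, one_smul]
  have h2 : g₀ (Submodule.Quotient.mk 1) = f 1 := by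
    change f (algebraMap R (ResidueField R) 1) = f 1
    rw [map_one]
  rw [← h1, hφ, h2]
  intro h0
  have : (1 : ResidueField R) = 0 := hf.injective (by rw [h0, map_zero])
  exact one_ne_zero this

/-- the evaluation map into the double dual is injective -/
theorem applyₗ_injective (f : ResidueField R →ₗ[R] E) (hf : IsInjectiveHull f)
    (M : Type u) [AddCommGroup M] [Module R M] :
    Function.Injective (LinearMap.applyₗ : M →ₗ[R] (M →ₗ[R] E) →ₗ[R] E) := by
  rw [← LinearMap.ker_eq_bot, LinearMap.ker_eq_bot']
  intro x hx
  by_contra hx0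
  obtain ⟨φ, hφ⟩ := exists_hom_ne_zero f hf hx0
  exact hφ (LinearMap.congr_fun hx φ)

/-- **Matlis duality for modules of finite length** -/
theorem applyₗ_bijective_of_isFiniteLength (f : ResidueField R →ₗ[R] E) (hf : IsInjectiveHull f)
    (M : Type u) [AddCommGroup M] [Module R M] (hM : IsFiniteLength R M) :
    Function.Bijective (LinearMap.applyₗ : M →ₗ[R] (M →ₗ[R] E) →ₗ[R] E) := by
  have hinj := applyₗ_injective f hf M
  refine ⟨hinj, ?_⟩
  have h1 : Module.length R (M →ₗ[R] E) = Module.length R M := length_hom_eq_length f hf hM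
  have hM' : IsFiniteLength R (M →ₗ[R] E) := by
    rw [← Module.length_ne_top_iff, h1, Module.length_ne_top_iff]
    exact hM
  have h2 : Module.length R ((M →ₗ[R] E) →ₗ[R] E) = Module.length R M := by
    rw [length_hom_eq_length f hf hM', h1]
  have hM'' : IsFiniteLength R ((M →ₗ[R] E) →ₗ[R] E) := by
    rw [← Module.length_ne_top_iff, h2, Module.length_ne_top_iff]
    exact hM
  obtain ⟨_, _⟩ := isFiniteLength_iff_isNoetherian_isArtinian.1 hM''
  rw [← LinearMap.range_eq_top]
  by_contra hne
  have hlt := Submodule.length_lt (R := R) hne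
  rw [h2, ← (LinearEquiv.ofInjective _ hinj).length_eq] at hlt
  exact lt_irrefl _ hlt

end Eval


section PowerTorsion

variable {R : Type u} [CommRing R] [IsLocalRing R]

omit [IsLocalRing R] in
/-- an injective submodule containing the base of an essential extension is everything -/
theorem eq_top_of_injective_of_range_le {M E : Type v} [AddCommGroup M] [Module R M]
    [AddCommGroup E] [Module R E] {f : M →ₗ[R] E} (hf : IsEssentialInj f) (N : Submodule R E)
    [Module.Injective R N] (hN : LinearMap.range f ≤ N) : N = ⊤ := by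
  obtain ⟨C, hC⟩ := exists_isCompl_range_of_injective N.subtype N.subtype_injective
  rw [Submodule.range_subtype] at hC
  have hCbot : C = ⊥ := by
    by_contra hne
    apply hf.essential C hne
    rw [eq_bot_iff]
    rintro x ⟨hxC, hxf⟩
    exact (Submodule.disjoint_def.1 hC.disjoint) x (hN hxf) hxC
  have := hC.sup_eq_top
  rwa [hCbot, sup_bot_eq] at this

/-- over a Noetherian local ring the hull of the residue field is power torsion -/
theorem isPowerTorsion_of_isInjectiveHull [IsNoetherianRing R] {E : Type u} [AddCommGroup E]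
    [Module R E] (f : ResidueField R →ₗ[R] E) (hf : IsInjectiveHull f) :
    LocCoh.IsPowerTorsion (maximalIdeal R) E := by
  have : Module.Injective R (powTorsion (maximalIdeal R) E) :=
    injective_powTorsion hf.isInjective _
  have hle : LinearMap.range f ≤ powTorsion (maximalIdeal R) E := by
    rintro _ ⟨k, rfl⟩
    rw [mem_powTorsion_iff]
    refine ⟨1, fun a ha => ?_⟩
    rw [pow_one] at ha
    rw [← map_smul, smul_residueField_eq_zero ha, map_zero]
  have htop := eq_top_of_injective_of_range_le hf.toIsEssentialInj _ hle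
  intro x
  have hx : x ∈ powTorsion (maximalIdeal R) E := by rw [htop]; trivial
  exact (mem_powTorsion_iff _ _).1 hx

/-- the socle of a power torsion module is essential -/
theorem essIn_socle_of_isPowerTorsion {M : Type v} [AddCommGroup M] [Module R M]
    (hM : LocCoh.IsPowerTorsion (maximalIdeal R) M) :
    EssIn (LocCoh.torsionBy (maximalIdeal R) M) ⊤ := by
  classical
  refine ⟨le_top, fun x _ hx0 => ?_⟩
  have hex := hM x
  have hN0 : Nat.find hex ≠ 0 := by
    intro h0
    have := Nat.find_spec hex
    rw [h0, pow_zero] at this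
    exact hx0 (by simpa using this 1 (by simp))
  obtain ⟨N, hN⟩ := Nat.exists_eq_succ_of_ne_zero hN0
  have hmin : ¬ ∀ a ∈ maximalIdeal R ^ N, a • x = 0 :=
    Nat.find_min hex (by rw [hN]; exact Nat.lt_succ_self N)
  push Not at hmin
  obtain ⟨a, ha, hax⟩ := hmin
  refine ⟨a, hax, ?_⟩
  rw [Submodule.mem_torsionBySet_iff]
  rintro ⟨b, hb⟩
  rw [smul_smul]
  have := Nat.find_spec hex
  rw [hN, pow_succ'] at this
  exact this _ (Ideal.mul_mem_mul hb ha)

/-- a power torsion module with `n`-dimensional socle embeds into `E^n` -/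
theorem exists_injective_to_pi_of_isPowerTorsion [Small.{u} R] {E : Type u} [AddCommGroup E]
    [Module R E]
    (f : ResidueField R →ₗ[R] E) (hf : IsInjectiveHull f) {M : Type u} [AddCommGroup M]
    [Module R M] (hM : LocCoh.IsPowerTorsion (maximalIdeal R) M) (n : ℕ)
    [Module.Finite (R ⧸ maximalIdeal R) ↥(LocCoh.torsionBy (maximalIdeal R) M)]
    (hn : Module.finrank (R ⧸ maximalIdeal R) ↥(LocCoh.torsionBy (maximalIdeal R) M) = n) :
    ∃ g : M →ₗ[R] (Fin n → E), Function.Injective g := by
  have := hf.isInjective
  let _ : Field (R ⧸ maximalIdeal R) := Ideal.Quotient.field _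
  let b := Module.finBasisOfFinrankEq (R ⧸ maximalIdeal R)
    ↥(LocCoh.torsionBy (maximalIdeal R) M) hn
  let e : ↥(LocCoh.torsionBy (maximalIdeal R) M) ≃ₗ[R] (Fin n → R ⧸ maximalIdeal R) :=
    b.equivFun.restrictScalars R
  let j : ↥(LocCoh.torsionBy (maximalIdeal R) M) →ₗ[R] (Fin n → E) :=
    (f.compLeft (Fin n)) ∘ₗ e.toLinearMap
  have hj : Function.Injective j := by
    intro x y hxy
    apply e.injective
    funext i
    exact hf.injective (congrFun hxy i)
  obtain ⟨g, hg⟩ := Module.Injective.extension_property R (Fin n → E) _ _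
    (LocCoh.torsionBy (maximalIdeal R) M).subtype (Submodule.subtype_injective _) j
  refine ⟨g, ?_⟩
  apply essInj_injective_of_comp (essIn_top_iff.1 (essIn_socle_of_isPowerTorsion hM)) g
  rw [hg]
  exact hj

end PowerTorsion

end Groth.Agent.Lib.Helper25
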