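import Mathlib
import Groth.Agent.Lib.Helper21.ChartPt7
import Groth.Agent.Lib.Helper14.SchemeDim
import Groth.Agent.Lib.Helper14.SmRegField

/-!
# Helpers for the pointwise étaleness criterion on smooth curves (helper25)
-/

set_option autoImplicit false
universe u
open CategoryTheory AlgebraicGeometry TopologicalSpace

namespace Groth.Agent.Lib.Helper25.CurveEtale

open Groth.Agent.Lib.Helper21.ChartPt

/-- On an integral scheme of dimension one, the local ring at a closed point is not a field. -/
theorem not_isField_stalk_of_isClosed {X : Scheme.{u}} [IsIntegral X]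
    (hd : topologicalKrullDim X = 1) (x : X) (hx : IsClosed ({x} : Set X)) :
    ¬ IsField (X.presheaf.stalk x) := by
  intro hF
  obtain ⟨_, ⟨U, hU, rfl⟩, hxU, -⟩ :=
    X.isBasis_affineOpens.exists_subset_of_mem_open (Set.mem_univ x) isOpen_univ
  have hU : IsAffineOpen U := hU
  have h0 : ringKrullDim (X.presheaf.stalk x) = 0 := by
    letI := hF.toField
    exact ringKrullDim_eq_zero_of_field _
  rw [ringKrullDim_stalk_eq_height hU x hxU] at h0
  have h0' : (hU.primeIdealOf ⟨x, hxU⟩).asIdeal.height = 0 := by exact_mod_cast h0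
  have hmin : (hU.primeIdealOf ⟨x, hxU⟩).asIdeal ∈ minimalPrimes Γ(X, U) :=
    Ideal.height_eq_zero_iff.mp h0'
  have hξU : genericPoint X ∈ U := genericPoint_mem_of_nonempty U ⟨x, hxU⟩
  have hle := le_primeIdealOf_genericPoint_of_mem_minimalPrimes hU hξU _ hmin
  have hmax := hU.primeIdealOf_isMaximal_of_isClosed ⟨x, hxU⟩ hx
  have heq : (hU.primeIdealOf ⟨x, hxU⟩).asIdeal =
      (hU.primeIdealOf ⟨genericPoint X, hξU⟩).asIdeal :=
    hmax.eq_of_le (hU.primeIdealOf ⟨genericPoint X, hξU⟩).2.ne_top hle
  have hxξ : x = genericPoint X := by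
    have h2 := congrArg hU.fromSpec.base (PrimeSpectrum.ext heq)
    rw [hU.fromSpec_primeIdealOf, hU.fromSpec_primeIdealOf] at h2
    exact h2
  have hall : ∀ z : X, z = x := by
    intro z
    have h1 : genericPoint X ⤳ z := genericPoint_specializes z
    rw [← hxξ] at h1
    exact h1.mem_closed hx (Set.mem_singleton x)
  have hdim0 : topologicalKrullDim X = 0 := by
    rw [Groth.Agent.Lib.Helper14.AS.topologicalKrullDim_eq_iSup_stalk]
    letI := hF.toField
    apply le_antisymm
    · refine iSup_le fun z => ?_
      rw [hall z, ringKrullDim_eq_zero_of_field]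
    · refine le_iSup_of_le x ?_
      rw [ringKrullDim_eq_zero_of_field]
  rw [hd] at hdim0
  exact one_ne_zero hdim0

/-- The local rings of a scheme smooth over a field are regular. -/
theorem isRegularLocalRing_stalk_of_smooth {k : Type u} [Field k] {Y : Scheme.{u}}
    (pY : Y ⟶ Spec (CommRingCat.of k)) [Smooth pY] (y : Y) :
    IsRegularLocalRing (Y.presheaf.stalk y) := by
  rw [Groth.Agent.S4991.result pY y ⟨⊤, trivial, inferInstance⟩]
  exact Groth.Agent.Lib.Helper14.AS.isRegularLocalRing_stalk_spec_field k _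

/-- Over an algebraically closed field, the residue field map at a closed point of a scheme locally
of finite type is surjective. -/
theorem surjective_residueFieldMap_of_isClosed {k : Type u} [Field k] [IsAlgClosed k]
    {X Y : Scheme.{u}} (pX : X ⟶ Spec (CommRingCat.of k)) (pY : Y ⟶ Spec (CommRingCat.of k))
    (φ : X ⟶ Y) (w : φ ≫ pY = pX) [LocallyOfFiniteType pX] (x : X) (hx : IsClosed ({x} : Set X)) :
    Function.Surjective (φ.residueFieldMap x) := by
  let i := residueFieldIsoBase pX x hx
  let ψ : CommRingCat.of k ⟶ Y.residueField (φ x) :=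
    Spec.preimage (Y.fromSpecResidueField (φ x) ≫ pY)
  have hψ : Spec.map ψ = Y.fromSpecResidueField (φ x) ≫ pY := Spec.map_preimage _
  have key : ψ ≫ φ.residueFieldMap x = i.inv := by
    apply Spec.map_injective
    rw [Spec.map_comp, hψ, SpecMap_residueFieldIsoBase_inv,
      Scheme.Hom.SpecMap_residueFieldMap_fromSpecResidueField_assoc, w]
  have hsurj : Function.Surjective i.inv :=
    ((ConcreteCategory.isIso_iff_bijective i.inv).mp inferInstance).2
  intro a
  obtain ⟨c, hc⟩ := hsurj a
  refine ⟨ψ c, ?_⟩
  rw [← hc, ← key]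
  rfl

end Groth.Agent.Lib.Helper25.CurveEtale
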