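import Mathlib.RingTheory.Henselian
import Mathlib.RingTheory.DiscreteValuationRing.Basic
import Mathlib.RingTheory.DedekindDomain.Basic
import Groth.Agent.Lib.Helper4.HenselEtale

set_option autoImplicit false
universe u

namespace Groth.Agent.Lib.Helper25

open IsLocalRing

/-- A local ring complete w.r.t. its maximal ideal is a Henselian local ring. -/
theorem henselianLocalRing_of_isAdicComplete (A : Type*) [CommRing A] [IsLocalRing A]
    [IsAdicComplete (maximalIdeal A) A] : HenselianLocalRing A where
  is_henselian f hf a₀ h₁ h₂ :=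
    HenselianRing.is_henselian (I := maximalIdeal A) f hf a₀ h₁ (h₂.map _)

/-- A finite algebra over a Henselian local ring which is a domain has at most one maximal
ideal. -/
theorem maximal_unique_of_finite_of_henselian {A : Type u} [CommRing A] [HenselianLocalRing A]
    (B : Type u) [CommRing B] [IsDomain B] [Algebra A B] [Module.Finite A B]
    (M₁ M₂ : Ideal B) (h₁ : M₁.IsMaximal) (h₂ : M₂.IsMaximal) : M₁ = M₂ := by
  obtain ⟨n, ε, hε, hlast, huniq⟩ := Helper4.exists_idempotents_of_finite_of_henselian (R := A) B
  have h01 : ∀ i, ε i = 0 ∨ ε i = 1 := fun i ↦ by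
    have := hε.idem i
    rcases eq_or_ne (ε i) 0 with h | h
    · exact Or.inl h
    · right
      have h' : ε i * (ε i - 1) = 0 := by rw [mul_sub, this.eq, mul_one, sub_self]
      rcases mul_eq_zero.mp h' with h'' | h''
      · exact absurd h'' h
      · exact sub_eq_zero.mp h''
  obtain ⟨i, hi⟩ : ∃ i, ε i = 1 := by
    by_contra hne
    simp only [not_exists] at hne
    have h0 : ∀ i, ε i = 0 := fun i ↦ (h01 i).resolve_right (hne i)
    have := hε.complete
    simp only [h0, Finset.sum_const_zero] at this
    exact zero_ne_one this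
  have hil : i ≠ Fin.last n := by
    rintro rfl
    rw [hlast] at hi
    exact zero_ne_one hi
  obtain ⟨j, rfl⟩ := Fin.exists_castSucc_eq.mpr hil
  refine huniq j M₁ M₂ h₁ h₂ ?_ ?_
  · rw [hi]; exact (Ideal.ne_top_iff_one _).mp h₁.ne_top
  · rw [hi]; exact (Ideal.ne_top_iff_one _).mp h₂.ne_top

end Groth.Agent.Lib.Helper25
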