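import Mathlib
import Groth.Agent.Lib.Helper25.SmoothLocalDimScheme
import Groth.Agent.Helper19.QuasiRegScheme

/-!
# Fibre dimension of smooth morphisms via ranks of Kähler differentials (helper25)

* `fibreDimAt_eq_of_smoothOfRelativeDimension` (= S2768 as a lemma).
* `exists_away_isStandardSmoothOfRelativeDimension`: ring-level, a smooth algebra is near a prime
  standard smooth of relative dimension the rank of `Ω` at the prime.
* `fibreDimAt_eq_of_away`, `fibreDimAt_eq_rankAtStalk`: for a smooth morphism the fibre dimension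
  at `x` is the rank of `Ω` at `x` in any affine chart.
* `exists_opens_smoothOfRelativeDimension`: smooth morphisms are locally on the source smooth of
  some relative dimension.
* `fibreDimAt_comp_of_smooth`: additivity of fibre dimensions.
-/

set_option autoImplicit false
universe u
open TensorProduct KaehlerDifferential CategoryTheory CategoryTheory.Limits AlgebraicGeometry

namespace Groth.Agent.Lib.Helper25.FibreDimRank

open Groth.Agent.Lib.Helper25.SmoothRelDimRank

/-- S2768 as a library lemma. -/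
theorem fibreDimAt_eq_of_smoothOfRelativeDimension (n : ℕ) {X Y : Scheme.{u}} (f : X ⟶ Y)
    [SmoothOfRelativeDimension n f] (x : X) :
    FlatMor.fibreDimAt f x = (n : WithBot ℕ∞) := by
  haveI := smoothOfRelativeDimension_isStableUnderBaseChange n
  haveI h2 : SmoothOfRelativeDimension n (f.fiberToSpecResidueField (f x)) :=
    MorphismProperty.pullback_snd (P := @SmoothOfRelativeDimension n) _ _ inferInstance
  exact localDim_eq_of_smoothOfRelativeDimension
    (K := Y.residueField (f x)) (f.fiberToSpecResidueField (f x)) n (f.asFiber x)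

/-- Ring-level: for a smooth algebra, near any prime the algebra is standard smooth of relative
dimension equal to the rank of `Ω` at the prime. -/
theorem exists_away_isStandardSmoothOfRelativeDimension {A B : Type u} [CommRing A] [CommRing B]
    [Algebra A B] [Algebra.Smooth A B] (q : PrimeSpectrum B) :
    ∃ (t : B) (n : ℕ), t ∉ q.asIdeal ∧
      Algebra.IsStandardSmoothOfRelativeDimension n A (Localization.Away t) ∧
      Module.rankAtStalk (Ω[B⁄A]) q = n := by
  haveI := q.2
  haveI : Algebra.IsSmoothAt A q.asIdeal := by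
    show Algebra.FormallySmooth A (Localization.AtPrime q.asIdeal)
    haveI : Algebra.FormallySmooth B (Localization.AtPrime q.asIdeal) :=
      Algebra.FormallySmooth.of_isLocalization q.asIdeal.primeCompl
    exact Algebra.FormallySmooth.comp A B (Localization.AtPrime q.asIdeal)
  obtain ⟨t, htq, hstd⟩ := Algebra.IsSmoothAt.exists_notMem_isStandardSmooth A q.asIdeal
  have hdisj : Disjoint (Submonoid.powers t : Set B) (q.asIdeal : Set B) := by
    rw [Set.disjoint_left]
    rintro _ ⟨m, rfl⟩ hm
    exact htq (q.2.mem_of_pow_mem m hm)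
  haveI hq'prime : (q.asIdeal.map (algebraMap B (Localization.Away t))).IsPrime :=
    IsLocalization.isPrime_of_isPrime_disjoint (Submonoid.powers t) _ _ q.2 hdisj
  let q' : PrimeSpectrum (Localization.Away t) := ⟨_, hq'prime⟩
  have hcomap : q'.comap (algebraMap B (Localization.Away t)) = q := by
    ext1
    exact IsLocalization.under_map_of_isPrime_disjoint (Submonoid.powers t) _ q.2 hdisj
  haveI : Nontrivial (Localization.Away t) := q'.nontrivial
  haveI : Module.Free (Localization.Away t) (Ω[Localization.Away t⁄A]) := inferInstance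
  haveI : Module.Finite (Localization.Away t) (Ω[Localization.Away t⁄A]) := inferInstance
  refine ⟨t, Module.finrank (Localization.Away t) (Ω[Localization.Away t⁄A]), htq, ?_, ?_⟩
  · rw [Algebra.IsStandardSmoothOfRelativeDimension.iff_of_isStandardSmooth]
    exact (Module.finrank_eq_rank _ _).symm
  · rw [← hcomap, ← rankAtStalk_kaehler_away t q', Module.rankAtStalk_eq_finrank_of_free]
    simp

/-- Chart-level: if on an affine chart the ring map becomes standard smooth of relative dimension
`n` after inverting `t`, then the fibre dimension is `n` on the basic open of `t`. -/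
theorem fibreDimAt_eq_of_away {X S : Scheme.{u}} (f : X ⟶ S)
    {U : X.Opens} {W : S.Opens} (hU : IsAffineOpen U) (hW : IsAffineOpen W) (e : U ≤ f ⁻¹ᵁ W)
    (t : Γ(X, U)) (n : ℕ)
    (hstd : ((algebraMap Γ(X, U) (Localization.Away t)).comp
      (f.appLE W U e).hom).IsStandardSmoothOfRelativeDimension n)
    (x : X) (hx : x ∈ X.basicOpen t) : FlatMor.fibreDimAt f x = (n : WithBot ℕ∞) := by
  have hxU : x ∈ U := X.basicOpen_le t hx
  let ψ : Γ(X, U) ⟶ CommRingCat.of (Localization.Away t) :=
    CommRingCat.ofHom (algebraMap Γ(X, U) (Localization.Away t))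
  haveI : IsOpenImmersion (Spec.map ψ) := IsOpenImmersion.of_isLocalization t
  let j : Spec (CommRingCat.of (Localization.Away t)) ⟶ X := Spec.map ψ ≫ hU.fromSpec
  haveI : IsOpenImmersion j := inferInstance
  have hjf : j ≫ f = Spec.map (f.appLE W U e ≫ ψ) ≫ hW.fromSpec := by
    rw [Spec.map_comp, Category.assoc, Category.assoc, hW.SpecMap_appLE_fromSpec f hU e]
  have hsm1 : SmoothOfRelativeDimension n (Spec.map (f.appLE W U e ≫ ψ)) := by
    rw [HasRingHomProperty.Spec_iff (P := @SmoothOfRelativeDimension n)]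
    exact RingHom.locally_of RingHom.isStandardSmoothOfRelativeDimension_respectsIso _ hstd
  haveI hsm : SmoothOfRelativeDimension (n + 0) (j ≫ f) := by
    rw [hjf]
    infer_instance
  -- the point
  have hq : t ∉ (hU.primeIdealOf ⟨x, hxU⟩).asIdeal := fun hmem =>
    (Groth.Agent.Helper19.QuasiRegScheme.mem_primeIdealOf_iff hU x hxU t).mp hmem hx
  obtain ⟨q', hq'⟩ : ∃ q' : PrimeSpectrum (Localization.Away t),
      q'.comap (algebraMap Γ(X, U) (Localization.Away t)) = hU.primeIdealOf ⟨x, hxU⟩ := by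
    have : hU.primeIdealOf ⟨x, hxU⟩ ∈ Set.range (PrimeSpectrum.comap
        (algebraMap Γ(X, U) (Localization.Away t))) := by
      rw [PrimeSpectrum.localization_away_comap_range (Localization.Away t) t]
      exact hq
    exact this
  have hjx : j q' = x := by
    show hU.fromSpec (Spec.map ψ q') = x
    have : Spec.map ψ q' = hU.primeIdealOf ⟨x, hxU⟩ := hq'
    rw [this, hU.fromSpec_primeIdealOf]
  have h1 := Groth.Agent.Lib.Helper6.EtaleSq.fibreDimAt_etale_square f (j ≫ f) j (𝟙 S)
    (by rw [Category.comp_id]) q'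
  rw [hjx] at h1
  rw [h1, fibreDimAt_eq_of_smoothOfRelativeDimension (n + 0) (j ≫ f) q']
  simp

/-- The fibre dimension of a smooth morphism at `x` is the rank of `Ω` at `x` on any affine
chart. -/
theorem fibreDimAt_eq_rankAtStalk {X S : Scheme.{u}} (f : X ⟶ S) [Smooth f]
    {U : X.Opens} {W : S.Opens} (hU : IsAffineOpen U) (hW : IsAffineOpen W) (e : U ≤ f ⁻¹ᵁ W)
    [Algebra Γ(S, W) Γ(X, U)] (halg : algebraMap Γ(S, W) Γ(X, U) = (f.appLE W U e).hom)
    (x : X) (hx : x ∈ U) :
    FlatMor.fibreDimAt f x =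
      ((Module.rankAtStalk (Ω[Γ(X, U)⁄Γ(S, W)]) (hU.primeIdealOf ⟨x, hx⟩) : ℕ) : WithBot ℕ∞) := by
  have hsm : (f.appLE W U e).hom.Smooth :=
    HasRingHomProperty.appLE (P := @Smooth) f inferInstance ⟨W, hW⟩ ⟨U, hU⟩ e
  rw [← halg, RingHom.smooth_algebraMap] at hsm
  haveI : Algebra.Smooth Γ(S, W) Γ(X, U) := hsm
  obtain ⟨t, n, htq, hstd, hrank⟩ :=
    exists_away_isStandardSmoothOfRelativeDimension (A := Γ(S, W)) (B := Γ(X, U))
      (hU.primeIdealOf ⟨x, hx⟩)
  rw [hrank]
  have hxt : x ∈ X.basicOpen t := by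
    by_contra hcon
    exact htq ((Groth.Agent.Helper19.QuasiRegScheme.mem_primeIdealOf_iff hU x hx t).mpr hcon)
  refine fibreDimAt_eq_of_away f hU hW e t n ?_ x hxt
  rw [← halg, ← IsScalarTower.algebraMap_eq Γ(S, W) Γ(X, U) (Localization.Away t),
    RingHom.isStandardSmoothOfRelativeDimension_algebraMap]
  exact hstd

/-- A smooth morphism is, locally on the source, smooth of some relative dimension. -/
theorem exists_opens_smoothOfRelativeDimension {X Y : Scheme.{u}} (f : X ⟶ Y) [Smooth f] (x : X) :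
    ∃ (n : ℕ) (V : X.Opens), x ∈ V ∧ SmoothOfRelativeDimension n (V.ι ≫ f) := by
  obtain ⟨U, hU, V, hV, hxV, e, hstd⟩ := Smooth.exists_isStandardSmooth f x
  algebraize [(f.appLE U V e).hom]
  obtain ⟨ι, σ, hι, hσ, ⟨P⟩⟩ := hstd
  have hstd' : (f.appLE U V e).hom.IsStandardSmoothOfRelativeDimension P.dimension :=
    ⟨ι, σ, hι, hσ, P, rfl⟩
  refine ⟨P.dimension + 0, V, hxV, ?_⟩
  have hsm1 : SmoothOfRelativeDimension P.dimension (Spec.map (f.appLE U V e)) := by
    rw [HasRingHomProperty.Spec_iff (P := @SmoothOfRelativeDimension P.dimension)]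
    exact RingHom.locally_of RingHom.isStandardSmoothOfRelativeDimension_respectsIso _ hstd'
  have h2 : SmoothOfRelativeDimension (P.dimension + 0) (hV.fromSpec ≫ f) := by
    rw [← hU.SpecMap_appLE_fromSpec f hV e]
    infer_instance
  have h3 : V.ι ≫ f = hV.isoSpec.hom ≫ hV.fromSpec ≫ f := by
    rw [IsAffineOpen.fromSpec, Category.assoc, Iso.hom_inv_id_assoc]
  rw [h3]
  exact (MorphismProperty.cancel_left_of_respectsIso
    (@SmoothOfRelativeDimension (P.dimension + 0)) hV.isoSpec.hom _).mpr h2

/-- Additivity of fibre dimensions for compositions of smooth morphisms. -/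
theorem fibreDimAt_comp_of_smooth {X Y Z : Scheme.{u}} (f : X ⟶ Y) (g : Y ⟶ Z) [Smooth f] [Smooth g]
    (x : X) :
    FlatMor.fibreDimAt (f ≫ g) x = FlatMor.fibreDimAt f x + FlatMor.fibreDimAt g (f x) := by
  obtain ⟨m, V, hV, hgm⟩ := exists_opens_smoothOfRelativeDimension g (f x)
  let x' : (f ⁻¹ᵁ V).toScheme := ⟨x, hV⟩
  obtain ⟨n, U', hU', hfn⟩ := exists_opens_smoothOfRelativeDimension (f ∣_ V) x'
  let a : U'.toScheme ⟶ X := U'.ι ≫ (f ⁻¹ᵁ V).ι
  let u' : U'.toScheme := ⟨x', hU'⟩
  have hau : a u' = x := rfl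
  let h' : U'.toScheme ⟶ V.toScheme := U'.ι ≫ f ∣_ V
  have hcomm : h' ≫ V.ι = a ≫ f := by
    simp only [h', a, Category.assoc, morphismRestrict_ι]
  haveI : SmoothOfRelativeDimension (n + m) (h' ≫ V.ι ≫ g) := inferInstance
  have e1 := Groth.Agent.Lib.Helper6.EtaleSq.fibreDimAt_etale_square (f ≫ g) (h' ≫ V.ι ≫ g) a (𝟙 Z)
    (by rw [Category.comp_id, ← Category.assoc, hcomm, Category.assoc]) u'
  have e2 := Groth.Agent.Lib.Helper6.EtaleSq.fibreDimAt_etale_square f h' a V.ι hcomm u'
  have e3 := Groth.Agent.Lib.Helper6.EtaleSq.fibreDimAt_etale_square g (V.ι ≫ g) V.ι (𝟙 Z)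
    (by rw [Category.comp_id]) (h' u')
  have hpt : V.ι (h' u') = f x := by
    rw [← Scheme.Hom.comp_apply, hcomm, Scheme.Hom.comp_apply, hau]
  rw [hau] at e1 e2
  rw [hpt] at e3
  rw [e1, e2, e3, fibreDimAt_eq_of_smoothOfRelativeDimension (n + m),
    fibreDimAt_eq_of_smoothOfRelativeDimension n, fibreDimAt_eq_of_smoothOfRelativeDimension m]
  push_cast
  rfl

end Groth.Agent.Lib.Helper25.FibreDimRank
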