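import Mathlib
import Groth.Agent.Lib.Helper25.FibreDimRank
import Groth.Agent.Helper19.OmegaD8
import Groth.Agent.Lib.Helper29.QCohLocFree

set_option autoImplicit false
universe u
open TensorProduct KaehlerDifferential CategoryTheory CategoryTheory.Limits AlgebraicGeometry

namespace Groth.Agent.Lib.Helper25.FibreDimRank

/-- If an affine chart is standard smooth of relative dimension `n`, the fibre dimension is `n`
on the chart. -/
theorem fibreDimAt_eq_of_chart {X S : Scheme.{u}} (f : X ⟶ S)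
    {U : X.Opens} {W : S.Opens} (hU : IsAffineOpen U) (hW : IsAffineOpen W) (e : U ≤ f ⁻¹ᵁ W)
    (n : ℕ) (hstd : (f.appLE W U e).hom.IsStandardSmoothOfRelativeDimension n)
    (x : X) (hx : x ∈ U) : FlatMor.fibreDimAt f x = (n : WithBot ℕ∞) := by
  have hsm1 : SmoothOfRelativeDimension n (Spec.map (f.appLE W U e)) := by
    rw [HasRingHomProperty.Spec_iff (P := @SmoothOfRelativeDimension n)]
    exact RingHom.locally_of RingHom.isStandardSmoothOfRelativeDimension_respectsIso _ hstd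
  haveI h2 : SmoothOfRelativeDimension (n + 0) (hU.fromSpec ≫ f) := by
    rw [← hW.SpecMap_appLE_fromSpec f hU e]
    infer_instance
  have h1 := Groth.Agent.Lib.Helper6.EtaleSq.fibreDimAt_etale_square f (hU.fromSpec ≫ f)
    hU.fromSpec (𝟙 S) (by rw [Category.comp_id]) (hU.primeIdealOf ⟨x, hx⟩)
  rw [hU.fromSpec_primeIdealOf] at h1
  rw [h1, fibreDimAt_eq_of_smoothOfRelativeDimension (n + 0)]
  simp

open Groth.Agent.Lib.Helper29.QCoh in
/-- S5019: for a smooth morphism, a sheaf of differentials is locally free of rank the fibre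
dimension. -/
theorem exists_free_of_universal {X Y : Scheme.{u}} (f : X ⟶ Y) [Smooth f]
    (Ω' : X.Modules) (d : OmegaSh.Der f Ω') (hd : OmegaSh.IsUniversal d) (x : X) :
    ∃ (U : X.Opens) (n : ℕ), x ∈ U ∧ Nonempty (Ω'.restrict U.ι ≅ FlatMod.freeMod (↑U) n) ∧
      FlatMor.fibreDimAt f x = (n : WithBot ℕ∞) := by
  haveI := Groth.Agent.Helper19.OmegaD.isQuasicoherent_of_universal f d hd
  obtain ⟨W, hW, U, hU, hxU, e, hstd⟩ := Smooth.exists_isStandardSmooth f x
  letI := Groth.Agent.Helper19.OmegaLocal.algΓ f e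
  obtain ⟨L⟩ := Groth.Agent.Helper19.OmegaD.nonempty_linearEquiv_sections_of_universal f d hd
    hU hW e
  have hstd0 := hstd
  obtain ⟨ι, σ, hι, hσ, ⟨P⟩⟩ := hstd
  have hstd' : (f.appLE W U e).hom.IsStandardSmoothOfRelativeDimension P.dimension :=
    ⟨ι, σ, hι, hσ, P, rfl⟩
  haveI : Algebra.IsStandardSmoothOfRelativeDimension P.dimension Γ(Y, W) Γ(X, U) := hstd'
  haveI : Algebra.IsStandardSmooth Γ(Y, W) Γ(X, U) := hstd0
  haveI : Nontrivial Γ(X, U) := nontrivial_sections_of_mem hxU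
  have hrank := Algebra.IsStandardSmoothOfRelativeDimension.rank_kaehlerDifferential
    (R := Γ(Y, W)) (S := Γ(X, U)) P.dimension
  have hfin : Module.finrank Γ(X, U) (Ω[Γ(X, U)⁄Γ(Y, W)]) = P.dimension :=
    Module.finrank_eq_of_rank_eq hrank
  let b := Module.finBasisOfFinrankEq Γ(X, U) (Ω[Γ(X, U)⁄Γ(Y, W)]) hfin
  have hfree : IsFreeAlong Ω' hU.fromSpec P.dimension :=
    (isFreeAlong_fromSpec_iff Ω' hU P.dimension).mpr ⟨L ≪≫ₗ b.repr⟩
  refine ⟨U, P.dimension, hxU, ?_, fibreDimAt_eq_of_chart f hU hW e P.dimension hstd' x hxU⟩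
  rw [← isFreeAlong_iff_restrict]
  refine hfree.of_range_subset _ ?_
  rw [hU.range_fromSpec, Scheme.Opens.range_ι]

end Groth.Agent.Lib.Helper25.FibreDimRank
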