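import Mathlib
import Groth.Agent.Lib.Helper4.SmoothTower

set_option autoImplicit false
universe u
open TensorProduct KaehlerDifferential

namespace Groth.Agent.Lib.Helper25.EtaleTowerRank

variable (K A T : Type u) [CommRing K] [CommRing A] [CommRing T] [Algebra K A] [Algebra A T]
  [Algebra K T] [IsScalarTower K A T]

/-- **Rank criterion for smoothness**: in a tower `K → A → T` with `T` formally smooth over `K`,
`Ω_{A/K}`, `Ω_{T/K}` finite projective, `Ω_{T/A}` projective and ranks adding up at maximal
ideals, `T` is formally smooth over `A`. -/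
theorem formallySmooth_of_rankAtStalk_add [Algebra.FormallySmooth K T]
    [Module.Finite A Ω[A⁄K]] [Module.Projective A Ω[A⁄K]]
    [Module.Finite T Ω[T⁄K]] [Module.Projective T Ω[T⁄K]]
    [Module.Projective T Ω[T⁄A]]
    (h : ∀ (m : Ideal T) [m.IsMaximal],
      Module.rankAtStalk (Ω[A⁄K]) ((⟨m, inferInstance⟩ : PrimeSpectrum T).comap (algebraMap A T)) +
        Module.rankAtStalk (Ω[T⁄A]) ⟨m, inferInstance⟩ =
        Module.rankAtStalk (Ω[T⁄K]) ⟨m, inferInstance⟩) :
    Algebra.FormallySmooth A T := by
  have hex := KaehlerDifferential.exact_mapBaseChange_map K A T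
  have hmapsurj : Function.Surjective (KaehlerDifferential.map K A T T) :=
    KaehlerDifferential.map_surjective K A T
  haveI : Module.Finite T Ω[T⁄A] := Module.Finite.of_surjective _ hmapsurj
  obtain ⟨s, hs⟩ := Module.projective_lifting_property (KaehlerDifferential.map K A T T)
    LinearMap.id hmapsurj
  let φ : (T ⊗[A] Ω[A⁄K]) × Ω[T⁄A] →ₗ[T] Ω[T⁄K] := (mapBaseChange K A T).coprod s
  have hφsurj : Function.Surjective φ := by
    intro ω
    have h1 : KaehlerDifferential.map K A T T (ω - s (KaehlerDifferential.map K A T T ω)) = 0 := by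
      rw [map_sub]
      have : KaehlerDifferential.map K A T T (s (KaehlerDifferential.map K A T T ω)) =
          KaehlerDifferential.map K A T T ω := LinearMap.congr_fun hs _
      rw [this, sub_self]
    obtain ⟨x, hx⟩ := (hex _).mp h1
    refine ⟨(x, KaehlerDifferential.map K A T T ω), ?_⟩
    simp only [φ, LinearMap.coprod_apply, hx]
    abel
  have hbij : Function.Bijective φ := by
    refine Module.bijective_of_surjective_of_rankAtStalk_eq hφsurj fun m _ => ?_
    rw [Module.rankAtStalk_prod, Pi.add_apply, Module.rankAtStalk_baseChange]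
    exact h m
  let e := LinearEquiv.ofBijective φ hbij
  rw [Groth.Agent.Lib.Helper4.formallySmooth_iff_split_mapBaseChange K A T]
  refine ⟨(LinearMap.fst T _ _).comp e.symm.toLinearMap, ?_⟩
  apply LinearMap.ext
  intro x
  have : e (x, 0) = mapBaseChange K A T x := by
    simp [e, φ]
  simp only [LinearMap.coe_comp, Function.comp_apply, LinearMap.id_coe, id_eq]
  rw [← this]
  simp

end Groth.Agent.Lib.Helper25.EtaleTowerRank
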