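import Mathlib
import Groth.Agent.Lib.Helper25.FibreDimRank3
import Groth.Agent.Lib.Helper25.SmoothTowerRank
import Groth.Agent.Lib.Helper13.SurjectiveDescent

set_option autoImplicit false
universe u
open TensorProduct KaehlerDifferential CategoryTheory CategoryTheory.Limits AlgebraicGeometry

namespace Groth.Agent.Lib.Helper25.FibreDimRank

/-- Converse of S2768: a smooth morphism all of whose fibre dimensions are `n` is smooth of
relative dimension `n`. -/
theorem smoothOfRelativeDimension_of_fibreDimAt_eq {X Y : Scheme.{u}} (g : X ⟶ Y) [Smooth g] (n : ℕ)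
    (h : ∀ x : X, FlatMor.fibreDimAt g x = (n : WithBot ℕ∞)) : SmoothOfRelativeDimension n g := by
  refine ⟨fun x => ?_⟩
  obtain ⟨W, hW, U, hU, hxU, e, hstd⟩ := Smooth.exists_isStandardSmooth g x
  algebraize [(g.appLE W U e).hom]
  obtain ⟨ι, σ, hι, hσ, ⟨P⟩⟩ := hstd
  have hstd' : (g.appLE W U e).hom.IsStandardSmoothOfRelativeDimension P.dimension :=
    ⟨ι, σ, hι, hσ, P, rfl⟩
  have h1 := fibreDimAt_eq_of_chart g hU hW e P.dimension hstd' x hxU
  rw [h x] at h1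
  have h2 : n = P.dimension := by exact_mod_cast h1
  rw [← h2] at hstd'
  exact ⟨W, hW, U, hU, hxU, e, hstd'⟩

open Groth.Agent.Lib.Helper29.QCoh in
/-- A morphism `g : X ⟶ Y` of smooth `S`-schemes whose sheaf of differentials is locally free of
rank `n`, where `n` is the difference of the fibre dimensions, is smooth. -/
theorem smooth_of_isFinLocFreeOfRank {X Y S : Scheme.{u}} (f : Y ⟶ S) (g : X ⟶ Y)
    [Smooth f] [Smooth (g ≫ f)]
    (Ω' : X.Modules) (d : OmegaSh.Der g Ω') (hd : OmegaSh.IsUniversal d) (n : ℕ)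
    (hfree : FlatMod.IsFinLocFreeOfRank n Ω')
    (hdim : ∀ x : X, FlatMor.fibreDimAt (g ≫ f) x = FlatMor.fibreDimAt f (g x) + (n : WithBot ℕ∞)) :
    Smooth g := by
  haveI : LocallyOfFinitePresentation g :=
    Groth.Agent.Lib.Helper13.locallyOfFinitePresentation_of_comp g f
  haveI := Groth.Agent.Helper19.OmegaD.isQuasicoherent_of_universal g d hd
  have hQ : RingHom.StableUnderCompositionWithLocalizationAwaySource RingHom.Smooth :=
    (RingHom.Smooth.stableUnderComposition.stableUnderCompositionWithLocalizationAway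
      RingHom.Smooth.holdsForLocalizationAway).left
  rw [HasRingHomProperty.iff_exists_appLE (P := @Smooth) hQ]
  intro x
  rw [isFinLocFreeOfRank_iff_isFreeAlong] at hfree
  obtain ⟨U', hxU', hfreeU'⟩ := hfree x
  obtain ⟨_, ⟨W, hW, rfl⟩, hxW, -⟩ :=
    S.isBasis_affineOpens.exists_subset_of_mem_open (Set.mem_univ (f (g x))) isOpen_univ
  obtain ⟨_, ⟨V, hV, rfl⟩, hxV, hVW⟩ :=
    Y.isBasis_affineOpens.exists_subset_of_mem_open (show g x ∈ f ⁻¹ᵁ W from hxW)
      (f ⁻¹ᵁ W).2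
  obtain ⟨_, ⟨U, hU, rfl⟩, hxU, hUVU'⟩ :=
    X.isBasis_affineOpens.exists_subset_of_mem_open (show x ∈ g ⁻¹ᵁ V ⊓ U' from ⟨hxV, hxU'⟩)
      (g ⁻¹ᵁ V ⊓ U').2
  have hUV : U ≤ g ⁻¹ᵁ V := fun z hz => (hUVU' hz).1
  have hUU' : U ≤ U' := fun z hz => (hUVU' hz).2
  refine ⟨⟨V, hV⟩, ⟨U, hU⟩, hxU, hUV, ?_⟩
  have hUW : U ≤ (g ≫ f) ⁻¹ᵁ W := hUV.trans ((TopologicalSpace.Opens.map g.base).map
      (homOfLE hVW)).le
  have h1 : f.appLE W V hVW ≫ g.appLE V U hUV = (g ≫ f).appLE W U hUW :=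
    Scheme.Hom.appLE_comp_appLE g f W V U hVW hUV
  algebraize [(f.appLE W V hVW).hom, (g.appLE V U hUV).hom, ((g ≫ f).appLE W U hUW).hom]
  haveI : IsScalarTower Γ(S, W) Γ(Y, V) Γ(X, U) := IsScalarTower.of_algebraMap_eq' (by
    rw [RingHom.algebraMap_toAlgebra, RingHom.algebraMap_toAlgebra, RingHom.algebraMap_toAlgebra,
      ← h1]
    rfl)
  have hsmA : (f.appLE W V hVW).hom.Smooth :=
    HasRingHomProperty.appLE (P := @Smooth) f inferInstance ⟨W, hW⟩ ⟨V, hV⟩ hVW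
  have hsmB : ((g ≫ f).appLE W U hUW).hom.Smooth :=
    HasRingHomProperty.appLE (P := @Smooth) (g ≫ f) inferInstance ⟨W, hW⟩ ⟨U, hU⟩ hUW
  have hfp : (g.appLE V U hUV).hom.FinitePresentation :=
    HasRingHomProperty.appLE (P := @LocallyOfFinitePresentation) g inferInstance ⟨V, hV⟩ ⟨U, hU⟩ hUV
  haveI : Algebra.Smooth Γ(S, W) Γ(Y, V) := hsmA
  haveI : Algebra.Smooth Γ(S, W) Γ(X, U) := hsmB
  haveI : Algebra.FinitePresentation Γ(Y, V) Γ(X, U) := hfp
  haveI : Nontrivial Γ(X, U) := nontrivial_sections_of_mem hxU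
  -- the module of differentials of the chart is free of rank `n`
  obtain ⟨L⟩ := Groth.Agent.Helper19.OmegaD.nonempty_linearEquiv_sections_of_universal g d hd
    hU hV hUV
  obtain ⟨L'⟩ := nonempty_linearEquiv_of_isFreeAlong_fromSpec Ω' hU n
    (hfreeU'.of_range_subset _ (by
      rw [hU.range_fromSpec, Scheme.Opens.range_ι]
      exact hUU'))
  let E : Ω[Γ(X, U)⁄Γ(Y, V)] ≃ₗ[Γ(X, U)] (Fin n →₀ Γ(X, U)) := L.symm ≪≫ₗ L'
  haveI : Module.Free Γ(X, U) (Ω[Γ(X, U)⁄Γ(Y, V)]) := Module.Free.of_equiv E.symm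
  have hrk : Module.finrank Γ(X, U) (Ω[Γ(X, U)⁄Γ(Y, V)]) = n := by
    rw [E.finrank_eq]
    simp
  haveI : Algebra.FormallySmooth Γ(Y, V) Γ(X, U) := by
    refine Groth.Agent.Lib.Helper25.EtaleTowerRank.formallySmooth_of_rankAtStalk_add
      Γ(S, W) Γ(Y, V) Γ(X, U) ?_
    intro m hm
    obtain ⟨⟨z, hzU⟩, hz⟩ : ∃ z : U, hU.primeIdealOf z = ⟨m, inferInstance⟩ := by
      refine ⟨hU.isoSpec.inv ⟨m, inferInstance⟩, ?_⟩
      unfold IsAffineOpen.primeIdealOf
      rw [← Scheme.Hom.comp_apply, Iso.inv_hom_id]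
      rfl
    have e1 := fibreDimAt_eq_rankAtStalk (g ≫ f) hU hW hUW
      (RingHom.algebraMap_toAlgebra _) z hzU
    have e2 := fibreDimAt_eq_rankAtStalk f hV hW hVW
      (RingHom.algebraMap_toAlgebra _) (g z) (hUV hzU)
    have e3 := IsAffineOpen.comap_primeIdealOf_appLE V hV U hU hUV hzU
    rw [← hz]
    have e3' : (hU.primeIdealOf ⟨z, hzU⟩).comap (algebraMap Γ(Y, V) Γ(X, U)) =
        hV.primeIdealOf ⟨g z, hUV hzU⟩ := e3
    rw [e3', Module.rankAtStalk_eq_finrank_of_free (M := Ω[Γ(X, U)⁄Γ(Y, V)]), hrk]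
    have := hdim z
    rw [e1, e2] at this
    simp only [Pi.natCast_apply]
    exact_mod_cast this.symm
  show Algebra.Smooth Γ(Y, V) Γ(X, U)
  exact ⟨inferInstance, inferInstance⟩

end Groth.Agent.Lib.Helper25.FibreDimRank
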