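import Mathlib
import Groth.Agent.Lib.Helper25.FibreDimRank4
import Groth.Agent.Lib.Helper18.TopDim

/-!
Kleiman transversality, part 3: relative dimension bookkeeping for smooth morphisms (helper25).
-/

set_option autoImplicit false
universe u
open CategoryTheory CategoryTheory.Limits AlgebraicGeometry

namespace Groth.Agent.Lib.Helper25.Kleiman

open Groth.Agent.Lib.Helper25.FibreDimRank

/-- The fibre dimension of a smooth morphism at a point is a natural number. -/
theorem exists_nat_fibreDimAt {A B : Scheme.{u}} (f : A ⟶ B) [Smooth f] (x : A) :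
    ∃ e : ℕ, FlatMor.fibreDimAt f x = (e : WithBot ℕ∞) := by
  obtain ⟨e, V, hxV, hV⟩ := exists_opens_smoothOfRelativeDimension f x
  refine ⟨e, ?_⟩
  have h1 := fibreDimAt_comp_of_smooth V.ι f ⟨x, hxV⟩
  rw [fibreDimAt_eq_of_smoothOfRelativeDimension e (V.ι ≫ f),
    fibreDimAt_eq_of_smoothOfRelativeDimension 0 V.ι] at h1
  have h2 : V.ι ⟨x, hxV⟩ = x := rfl
  rw [h2] at h1
  rw [h1]
  simp

/-- If `g` and `f ≫ g` are smooth of relative dimensions `m` and `N` and `f` is smooth, then `f`
is smooth of relative dimension `N - m` (and `m ≤ N` if the source is nonempty). -/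
theorem relDim_of_comp {A B C : Scheme.{u}} (f : A ⟶ B) (g : B ⟶ C) [Smooth f] (m N : ℕ)
    [SmoothOfRelativeDimension m g] [SmoothOfRelativeDimension N (f ≫ g)] :
    (Nonempty A → m ≤ N) ∧ SmoothOfRelativeDimension (N - m) f := by
  haveI : Smooth g := SmoothOfRelativeDimension.smooth m g
  have key : ∀ x : A, ∃ e : ℕ, FlatMor.fibreDimAt f x = (e : WithBot ℕ∞) ∧ e + m = N := by
    intro x
    obtain ⟨e, he⟩ := exists_nat_fibreDimAt f x
    refine ⟨e, he, ?_⟩
    have h1 := fibreDimAt_comp_of_smooth f g x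
    rw [fibreDimAt_eq_of_smoothOfRelativeDimension N (f ≫ g),
      fibreDimAt_eq_of_smoothOfRelativeDimension m g, he] at h1
    exact_mod_cast h1.symm
  refine ⟨fun ⟨x⟩ => ?_, ?_⟩
  · obtain ⟨e, -, he⟩ := key x
    omega
  · apply smoothOfRelativeDimension_of_fibreDimAt_eq
    intro x
    obtain ⟨e, he1, he2⟩ := key x
    rw [he1]
    congr 1
    have : e = N - m := by omega
    rw [this]

/-- Relative dimension on the smooth locus of a morphism between schemes smooth over a base. -/
theorem relDim_smoothLocus {W Gl S : Scheme.{u}} (pW : W ⟶ S) (pG : Gl ⟶ S) (q : W ⟶ Gl)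
    (hq : q ≫ pG = pW) [LocallyOfFinitePresentation q] (m N : ℕ)
    [SmoothOfRelativeDimension m pG] [SmoothOfRelativeDimension N pW] :
    (Nonempty q.smoothLocus → m ≤ N) ∧
      SmoothOfRelativeDimension (N - m) (q.smoothLocus.ι ≫ q) := by
  haveI : Smooth (q.smoothLocus.ι ≫ q) := by
    rw [← Scheme.Hom.smoothLocus_eq_top_iff, ← Scheme.Hom.preimage_smoothLocus_eq]
    exact q.smoothLocus.ι_preimage_self
  haveI : SmoothOfRelativeDimension N ((q.smoothLocus.ι ≫ q) ≫ pG) := by
    rw [Category.assoc, hq]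
    have : SmoothOfRelativeDimension (0 + N) (q.smoothLocus.ι ≫ pW) := inferInstance
    rwa [zero_add] at this
  exact relDim_of_comp (q.smoothLocus.ι ≫ q) pG m N

/-- A nonempty scheme smooth of relative dimension `d` over a field has dimension `d`. -/
theorem topologicalKrullDim_eq_of_smoothOfRelativeDimension {K : Type u} [Field K]
    {P : Scheme.{u}} (pP : P ⟶ Spec (CommRingCat.of K)) (d : ℕ) [SmoothOfRelativeDimension d pP]
    [Nonempty P] : topologicalKrullDim P = (d : WithBot ℕ∞) := by
  rw [Groth.Agent.Lib.Helper18.TopDim.topologicalKrullDim_eq_iSup_localDim]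
  have : ∀ p : P, FlatMor.localDim P p = (d : WithBot ℕ∞) := fun p =>
    Groth.Agent.Lib.Helper25.SmoothRelDimRank.localDim_eq_of_smoothOfRelativeDimension pP d p
  simp only [this]
  exact ciSup_const

/-- If `j = j' ≫ ι` with `ι` a monomorphism, a pullback square on `j` restricts to one on
`j'`. -/
theorem isPullback_of_mono_factor {C : Type*} [Category C] {P W W' S G : C} {j : P ⟶ W}
    {pP : P ⟶ S} {q : W ⟶ G} {σ : S ⟶ G} (h : IsPullback j pP q σ) (ι : W' ⟶ W) [Mono ι]
    (j' : P ⟶ W') (hj : j' ≫ ι = j) : IsPullback j' pP (ι ≫ q) σ := by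
  have htop : IsPullback j' (𝟙 P) ι j := by
    refine ⟨⟨by rw [hj, Category.id_comp]⟩, ⟨PullbackCone.IsLimit.mk _ (fun s => s.snd) ?_ ?_ ?_⟩⟩
    · intro s
      rw [← cancel_mono ι, Category.assoc, hj, s.condition]
    · intro s
      exact Category.comp_id _
    · intro s m _ h2
      rw [← h2, Category.comp_id]
  have := htop.paste_vert h
  rwa [Category.id_comp] at this

end Groth.Agent.Lib.Helper25.Kleiman
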