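import Mathlib.CategoryTheory.Abelian.Refinements
import Mathlib.CategoryTheory.Abelian.Basic
import Mathlib.CategoryTheory.Subobject.Lattice
import Mathlib.CategoryTheory.Subobject.Limits
import Mathlib.Order.ModularLattice

/-!
# Element-style reasoning for subobjects in an abelian category

Generalised elements `x : W ⟶ X` and the membership predicate `S.Factors x`, together with
"up to refinement" (precomposition by an epimorphism) characterisations of membership in
images, direct images, suprema.  From these we derive the usual lattice identities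
(Galois connection direct image / inverse image, Frobenius reciprocity, modular law).
-/

namespace Groth.Agent.Lib.Helper25.SubElem

open CategoryTheory CategoryTheory.Limits

universe v u
variable {A : Type u} [Category.{v} A] [Abelian A] {X Y Z W W' : A}

omit [Abelian A] in
lemma le_iff_forall_factors (S T : Subobject X) :
    S ≤ T ↔ ∀ ⦃W : A⦄ (x : W ⟶ X), S.Factors x → T.Factors x :=
  ⟨fun h _ x hx => Subobject.factors_of_le x h hx,
    fun h => Subobject.le_of_factors (h _ (Subobject.factors_self S))⟩

lemma factors_iff_comp_cokernel (T : Subobject Y) (f : W ⟶ Y) :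
    T.Factors f ↔ f ≫ cokernel.π T.arrow = 0 := by
  constructor
  · intro h
    rw [← Subobject.factorThru_arrow T f h, Category.assoc, cokernel.condition, comp_zero]
  · intro h
    rw [Subobject.factors_iff]
    exact ⟨Abelian.monoLift T.arrow f h, Abelian.monoLift_comp T.arrow f h⟩

lemma factors_epi_comp (T : Subobject Y) (π : W' ⟶ W) [Epi π] (f : W ⟶ Y) :
    T.Factors (π ≫ f) ↔ T.Factors f := by
  rw [factors_iff_comp_cokernel, factors_iff_comp_cokernel, Category.assoc]
  constructor
  · intro h
    rw [← cancel_epi π, h, comp_zero]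
  · intro h
    rw [h, comp_zero]

lemma factors_of_epi_comp_eq (T : Subobject Y) (π : W' ⟶ W) [Epi π] (f : W ⟶ Y) (g : W' ⟶ Y)
    (h : π ≫ f = g) (hg : T.Factors g) : T.Factors f := by
  subst h
  exact (factors_epi_comp T π f).1 hg

lemma factors_neg (T : Subobject Y) (f : W ⟶ Y) (h : T.Factors f) : T.Factors (-f) := by
  rw [factors_iff_comp_cokernel] at h ⊢
  rw [Preadditive.neg_comp, h, neg_zero]

lemma factors_sub (T : Subobject Y) (f g : W ⟶ Y) (hf : T.Factors f) (hg : T.Factors g) :
    T.Factors (f - g) := by
  rw [factors_iff_comp_cokernel] at hf hg ⊢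
  rw [Preadditive.sub_comp, hf, hg, sub_zero]

lemma imageSubobject_le_iff (f : X ⟶ Y) (T : Subobject Y) :
    imageSubobject f ≤ T ↔ T.Factors f := by
  constructor
  · intro h
    have h1 : T.Factors (imageSubobject f).arrow :=
      Subobject.factors_of_le _ h (Subobject.factors_self _)
    rw [← imageSubobject_arrow_comp f]
    exact Subobject.factors_of_factors_right _ h1
  · intro h
    exact imageSubobject_le f (T.factorThru f h) (T.factorThru_arrow f h)

lemma imageSubobject_factors_iff (h : X ⟶ Y) (y : W ⟶ Y) :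
    (imageSubobject h).Factors y ↔
      ∃ (W' : A) (π : W' ⟶ W) (_ : Epi π) (x : W' ⟶ X), π ≫ y = x ≫ h := by
  constructor
  · intro hy
    obtain ⟨W', π, hπ, x, hx⟩ := surjective_up_to_refinements_of_epi
      (factorThruImageSubobject h) ((imageSubobject h).factorThru y hy)
    refine ⟨W', π, hπ, x, ?_⟩
    rw [← Subobject.factorThru_arrow _ y hy, reassoc_of% hx, imageSubobject_arrow_comp]
  · rintro ⟨W', π, hπ, x, hx⟩
    refine factors_of_epi_comp_eq _ π y _ hx ?_
    exact imageSubobject_factors_comp_self (f := h) x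

/-- The direct image of a subobject along a morphism. -/
noncomputable def img (h : X ⟶ Y) (S : Subobject X) : Subobject Y := imageSubobject (S.arrow ≫ h)

lemma img_def (h : X ⟶ Y) (S : Subobject X) : img h S = imageSubobject (S.arrow ≫ h) := rfl

lemma img_factors_iff (h : X ⟶ Y) (S : Subobject X) (y : W ⟶ Y) :
    (img h S).Factors y ↔
      ∃ (W' : A) (π : W' ⟶ W) (_ : Epi π) (x : W' ⟶ X), S.Factors x ∧ π ≫ y = x ≫ h := by
  rw [img, imageSubobject_factors_iff]
  constructor
  · rintro ⟨W', π, hπ, x, hx⟩
    exact ⟨W', π, hπ, x ≫ S.arrow, Subobject.factors_comp_arrow x, by rw [hx, Category.assoc]⟩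
  · rintro ⟨W', π, hπ, x, hx, hxy⟩
    exact ⟨W', π, hπ, S.factorThru x hx, by rw [hxy, Subobject.factorThru_arrow_assoc]⟩

lemma img_factors_comp (h : X ⟶ Y) (S : Subobject X) (x : W ⟶ X) (hx : S.Factors x) :
    (img h S).Factors (x ≫ h) :=
  (img_factors_iff h S _).2 ⟨W, 𝟙 W, inferInstance, x, hx, Category.id_comp _⟩

lemma img_le_iff (h : X ⟶ Y) (S : Subobject X) (T : Subobject Y) :
    img h S ≤ T ↔ S ≤ (Subobject.pullback h).obj T := by
  rw [img, imageSubobject_le_iff, ← pullback_factors_iff]
  exact ⟨Subobject.le_of_factors, fun hle => Subobject.factors_of_le _ hle (Subobject.factors_self S)⟩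

lemma img_gc (h : X ⟶ Y) : GaloisConnection (img h) (Subobject.pullback h).obj :=
  fun S T => img_le_iff h S T

lemma img_mono (h : X ⟶ Y) : Monotone (img h) := (img_gc h).monotone_l

lemma img_sup (h : X ⟶ Y) (S T : Subobject X) : img h (S ⊔ T) = img h S ⊔ img h T :=
  (img_gc h).l_sup

lemma le_pullback_img (h : X ⟶ Y) (S : Subobject X) : S ≤ (Subobject.pullback h).obj (img h S) :=
  (img_gc h).le_u_l S

lemma img_pullback_le (h : X ⟶ Y) (T : Subobject Y) : img h ((Subobject.pullback h).obj T) ≤ T :=
  (img_gc h).l_u_le T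

lemma img_top (h : X ⟶ Y) : img h ⊤ = imageSubobject h := by
  rw [img]
  exact imageSubobject_iso_comp _ h

lemma img_le_imageSubobject (h : X ⟶ Y) (S : Subobject X) : img h S ≤ imageSubobject h := by
  rw [← img_top]
  exact img_mono h le_top

lemma img_comp (h : X ⟶ Y) (k : Y ⟶ Z) (S : Subobject X) : img (h ≫ k) S = img k (img h S) := by
  refine eq_of_forall_ge_iff fun T => ?_
  rw [img_le_iff, img_le_iff, img_le_iff, Subobject.pullback_comp]

lemma img_id (S : Subobject X) : img (𝟙 X) S = S := by
  refine eq_of_forall_ge_iff fun T => ?_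
  rw [img_le_iff, Subobject.pullback_id]

lemma img_bot (h : X ⟶ Y) : img h ⊥ = ⊥ := (img_gc h).l_bot

lemma img_of_mono (h : X ⟶ Y) [Mono h] (S : Subobject X) : img h S = (Subobject.map h).obj S := by
  rw [img, imageSubobject_mono]
  conv_rhs => rw [← Subobject.mk_arrow S]
  rw [Subobject.map_mk]

lemma sup_eq_imageSubobject (S T : Subobject X) :
    S ⊔ T = imageSubobject (biprod.desc S.arrow T.arrow) := by
  apply le_antisymm
  · apply sup_le
    · apply Subobject.le_of_factors
      have h1 : S.arrow = biprod.inl ≫ biprod.desc S.arrow T.arrow := by simp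
      have h2 := imageSubobject_factors_comp_self (f := biprod.desc S.arrow T.arrow) biprod.inl
      rwa [← h1] at h2
    · apply Subobject.le_of_factors
      have h1 : T.arrow = biprod.inr ≫ biprod.desc S.arrow T.arrow := by simp
      have h2 := imageSubobject_factors_comp_self (f := biprod.desc S.arrow T.arrow) biprod.inr
      rwa [← h1] at h2
  · rw [imageSubobject_le_iff, biprod.desc_eq]
    exact Subobject.factors_add _ _
      (Subobject.sup_factors_of_factors_left
        (Subobject.factors_of_factors_right _ (Subobject.factors_self S)))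
      (Subobject.sup_factors_of_factors_right
        (Subobject.factors_of_factors_right _ (Subobject.factors_self T)))

lemma sup_factors_iff (S T : Subobject X) (x : W ⟶ X) :
    (S ⊔ T).Factors x ↔ ∃ (W' : A) (π : W' ⟶ W) (_ : Epi π) (s t : W' ⟶ X),
      S.Factors s ∧ T.Factors t ∧ π ≫ x = s + t := by
  constructor
  · intro hx
    rw [sup_eq_imageSubobject, imageSubobject_factors_iff] at hx
    obtain ⟨W', π, hπ, z, hz⟩ := hx
    refine ⟨W', π, hπ, z ≫ biprod.fst ≫ S.arrow, z ≫ biprod.snd ≫ T.arrow, ?_, ?_, ?_⟩
    · rw [← Category.assoc]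
      exact Subobject.factors_comp_arrow _
    · rw [← Category.assoc]
      exact Subobject.factors_comp_arrow _
    · rw [hz, biprod.desc_eq, Preadditive.comp_add]
  · rintro ⟨W', π, hπ, s, t, hs, ht, hst⟩
    refine factors_of_epi_comp_eq _ π x _ hst ?_
    exact Subobject.factors_add _ _ (Subobject.sup_factors_of_factors_left hs)
      (Subobject.sup_factors_of_factors_right ht)

/-- Image of the preimage: `h(h⁻¹ T) = im h ⊓ T`. -/
lemma img_pullback (h : X ⟶ Y) (T : Subobject Y) :
    img h ((Subobject.pullback h).obj T) = imageSubobject h ⊓ T := by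
  apply le_antisymm
  · exact le_inf (img_le_imageSubobject h _) (img_pullback_le h T)
  · rw [le_iff_forall_factors]
    intro W y hy
    rw [Subobject.inf_factors] at hy
    obtain ⟨hy1, hy2⟩ := hy
    rw [imageSubobject_factors_iff] at hy1
    obtain ⟨W', π, hπ, x, hx⟩ := hy1
    refine factors_of_epi_comp_eq _ π y _ hx ?_
    apply img_factors_comp
    rw [pullback_factors_iff, ← hx]
    exact Subobject.factors_of_factors_right _ hy2

/-- Frobenius reciprocity: `h(S ⊓ h⁻¹ T) = h(S) ⊓ T`. -/
lemma img_inf_pullback (h : X ⟶ Y) (S : Subobject X) (T : Subobject Y) :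
    img h (S ⊓ (Subobject.pullback h).obj T) = img h S ⊓ T := by
  apply le_antisymm
  · exact le_inf (img_mono h inf_le_left) ((img_mono h inf_le_right).trans (img_pullback_le h T))
  · rw [le_iff_forall_factors]
    intro W y hy
    rw [Subobject.inf_factors] at hy
    obtain ⟨hy1, hy2⟩ := hy
    rw [img_factors_iff] at hy1
    obtain ⟨W', π, hπ, x, hxS, hx⟩ := hy1
    refine factors_of_epi_comp_eq _ π y _ hx ?_
    apply img_factors_comp
    rw [Subobject.inf_factors]
    refine ⟨hxS, ?_⟩
    rw [pullback_factors_iff, ← hx]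
    exact Subobject.factors_of_factors_right _ hy2

lemma kernelSubobject_le_pullback (h : X ⟶ Y) (T : Subobject Y) :
    kernelSubobject h ≤ (Subobject.pullback h).obj T := by
  apply Subobject.le_of_factors
  rw [pullback_factors_iff, kernelSubobject_arrow_comp]
  exact Subobject.factors_zero

/-- Preimage of the image: `h⁻¹(h S) = S ⊔ ker h`. -/
lemma pullback_img (h : X ⟶ Y) (S : Subobject X) :
    (Subobject.pullback h).obj (img h S) = S ⊔ kernelSubobject h := by
  apply le_antisymm
  · rw [le_iff_forall_factors]
    intro W x hx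
    rw [pullback_factors_iff, img_factors_iff] at hx
    obtain ⟨W', π, hπ, s, hs, hsx⟩ := hx
    rw [sup_factors_iff]
    refine ⟨W', π, hπ, s, π ≫ x - s, hs, ?_, by abel⟩
    rw [kernelSubobject_factors_iff, Preadditive.sub_comp, Category.assoc, hsx, sub_self]
  · exact sup_le (le_pullback_img h S) (kernelSubobject_le_pullback h _)

/-- The modular law for subobjects in an abelian category. -/
lemma sup_inf_le_of_le (S T U : Subobject X) (hSU : S ≤ U) : (S ⊔ T) ⊓ U ≤ S ⊔ T ⊓ U := by
  rw [le_iff_forall_factors]
  intro W x hx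
  rw [Subobject.inf_factors, sup_factors_iff] at hx
  obtain ⟨⟨W', π, hπ, s, t, hs, ht, hst⟩, hxU⟩ := hx
  refine factors_of_epi_comp_eq _ π x _ hst ?_
  refine Subobject.factors_add _ _ (Subobject.sup_factors_of_factors_left hs)
    (Subobject.sup_factors_of_factors_right ?_)
  rw [Subobject.inf_factors]
  refine ⟨ht, ?_⟩
  have h1 : t = π ≫ x - s := by rw [hst]; abel
  rw [h1]
  exact factors_sub _ _ _ (Subobject.factors_of_factors_right _ hxU)
    (Subobject.factors_of_le _ hSU hs)

instance instIsModularLattice : IsModularLattice (Subobject X) where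
  sup_inf_le_assoc_of_le := fun {S} T {U} h => sup_inf_le_of_le S T U h

lemma img_of_epi_top (h : X ⟶ Y) [Epi h] : img h ⊤ = ⊤ := by
  rw [img_top]
  rw [eq_top_iff, le_iff_forall_factors]
  intro W y _
  rw [imageSubobject_factors_iff]
  obtain ⟨W', π, hπ, x, hx⟩ := surjective_up_to_refinements_of_epi h y
  exact ⟨W', π, hπ, x, hx⟩

lemma img_inf_of_mono (h : X ⟶ Y) [Mono h] (S T : Subobject X) :
    img h (S ⊓ T) = img h S ⊓ img h T := by
  rw [img_of_mono, img_of_mono, img_of_mono, Subobject.inf_map]

lemma pullback_img_of_mono (h : X ⟶ Y) [Mono h] (S : Subobject X) :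
    (Subobject.pullback h).obj (img h S) = S := by
  rw [img_of_mono, Subobject.pullback_map_self]

end Groth.Agent.Lib.Helper25.SubElem
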