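import Mathlib.RingTheory.Ideal.Norm.RelNorm
import Mathlib.RingTheory.RamificationInertia.Basic
import Groth.Agent.Lib.Helper25.CompleteDVR

set_option autoImplicit false
universe u

attribute [local instance] FractionRing.liftAlgebra

namespace Groth.Agent.Lib.Helper25

open IsLocalRing UniqueFactorizationMonoid

section

variable (B : Type u) [CommRing B] [IsDedekindDomain B] (M : Ideal B)

/-- In a Dedekind domain with a unique maximal ideal `M`, every nonzero ideal is a power of `M`. -/
theorem eq_pow_card_normalizedFactors (huniq : ∀ Q : Ideal B, Q.IsMaximal → Q = M)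
    (I : Ideal B) (hI : I ≠ ⊥) :
    normalizedFactors I = Multiset.replicate (Multiset.card (normalizedFactors I)) M ∧
      I = M ^ Multiset.card (normalizedFactors I) := by
  have h1 : ∀ Q ∈ normalizedFactors I, Q = M := fun Q hQ ↦ by
    have hQp : Prime Q := prime_of_normalized_factor Q hQ
    have : Q.IsPrime := Ideal.isPrime_of_prime hQp
    exact huniq Q (this.isMaximal hQp.ne_zero)
  have h2 := Multiset.eq_replicate_of_mem h1
  refine ⟨h2, ?_⟩
  conv_lhs => rw [← Ideal.prod_normalizedFactors_eq_self hI]
  rw [h2, Multiset.prod_replicate, Multiset.card_replicate]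

end

section

variable (A B : Type u) [CommRing A] [IsDomain A] [IsDiscreteValuationRing A]
  [CommRing B] [IsDedekindDomain B] [Algebra A B] [Module.Finite A B] [Module.IsTorsionFree A B]
  (M : Ideal B) [M.IsMaximal]

omit [IsDedekindDomain B] [Module.IsTorsionFree A B] in
include A in
theorem liesOver_maximalIdeal : M.LiesOver (maximalIdeal A) :=
  ⟨(IsLocalRing.eq_maximalIdeal (Ideal.isMaximal_comap_of_isIntegral_of_isMaximal M)).symm⟩

theorem relNorm_eq_pow_inertiaDeg_of_unique (huniq : ∀ Q : Ideal B, Q.IsMaximal → Q = M) :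
    Ideal.relNorm A M = maximalIdeal A ^ M.inertiaDeg A ∧
      M.ramificationIdx A * M.inertiaDeg A = Module.finrank A B := by
  classical
  set m := maximalIdeal A with hm
  have hm0 : m ≠ ⊥ := IsDiscreteValuationRing.not_a_field A
  have hMm : M.LiesOver m := liesOver_maximalIdeal A B M
  have hmB : m.map (algebraMap A B) ≠ ⊥ :=
    Ideal.map_ne_bot_of_ne_bot hm0
  obtain ⟨hrep, hpow⟩ := eq_pow_card_normalizedFactors B M huniq _ hmB
  set k := Multiset.card (normalizedFactors (m.map (algebraMap A B))) with hk
  have hke : M.ramificationIdx A = k := by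
    rw [Ideal.IsDedekindDomain.ramificationIdx_eq_normalizedFactors_count m M hmB, hrep,
      Multiset.count_replicate_self]
  obtain ⟨s, hs⟩ := Ideal.exists_relNorm_eq_pow_of_isPrime M m
  have h1 : Ideal.relNorm A (m.map (algebraMap A B)) = m ^ Module.finrank A B :=
    Ideal.relNorm_algebraMap B m
  rw [hpow, map_pow, hs, ← pow_mul] at h1
  have hmtop : m ≠ 1 := by
    rw [Ideal.one_eq_top]
    exact Ideal.IsPrime.ne_top'
  have h2 : s * k = Module.finrank A B :=
    (IsLeftCancelMulZero.mul_left_cancel_of_ne_zero hm0).pow_injective hmtop h1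
  -- the fundamental identity with a unique prime
  have hflat : Module.Flat A B := inferInstance
  let u : Unique (m.primesOver B) :=
    { default := ⟨M, inferInstance, hMm⟩
      uniq := fun Q ↦ Subtype.ext (huniq Q.1 (by
        have : Q.1.IsPrime := Q.2.1
        have : Q.1.LiesOver m := Q.2.2
        exact Ideal.IsMaximal.of_liesOver_isMaximal Q.1 m)) }
  let _ : Fintype (m.primesOver B) := Fintype.ofFinite _
  have h3 := Ideal.sum_ramification_inertia_eq_finrank m B
  rw [Fintype.sum_unique] at h3
  change M.ramificationIdx A * M.inertiaDeg A = Module.finrank A B at h3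
  refine ⟨?_, h3⟩
  have hk0 : k ≠ 0 := by
    intro h0
    rw [hke, h0, zero_mul] at h3
    have : 0 < Module.finrank A B := Module.finrank_pos
    omega
  have : s = M.inertiaDeg A := by
    rw [hke, ← h2, mul_comm] at h3
    exact (Nat.eq_of_mul_eq_mul_right (Nat.pos_of_ne_zero hk0) h3).symm
  rw [hs, this]

end

end Groth.Agent.Lib.Helper25
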