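import Groth.Agent.Lib.Helper29.QCohIdealMod
import Groth.Agent.Lib.Helper29.Cocycle
import Groth.Agent.Lib.Helper29.QCohExt

/-!
# The ideal module of a locally principal ideal sheaf generated by a nonzerodivisor is trivialised
by its generator
-/

set_option autoImplicit false

universe u

open CategoryTheory CategoryTheory.Limits AlgebraicGeometry Opposite TopologicalSpace

namespace Groth.Agent.Lib.Helper25.HypTwist

open Groth.Agent.Lib.Helper29.QCoh

variable {X : Scheme.{u}} (I : X.IdealSheafData)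

/-- The function underlying a section of the ideal module. -/
noncomputable def ifun {W : X.Opens} (t : Γ(ClSub.idealMod I, W)) : Γ(X, W) :=
  fromUnit ((ClSub.idealModι I).app W t)

theorem ifun_injective (W : X.Opens) : Function.Injective (ifun I (W := W)) :=
  fun _ _ h => idealModι_app_injective I W h

theorem ifun_smul {W : X.Opens} (r : Γ(X, W)) (t : Γ(ClSub.idealMod I, W)) :
    ifun I (r • t) = r * ifun I t := by
  unfold ifun
  rw [Scheme.Modules.Hom.app_smul]
  rfl

theorem ifun_res {W W' : X.Opens} (h : W' ≤ W) (t : Γ(ClSub.idealMod I, W)) :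
    ifun I (res (ClSub.idealMod I) h t) = rres X h (ifun I t) := by
  unfold ifun
  rw [app_res]
  rfl

theorem ifun_mem (W : X.affineOpens) (t : Γ(ClSub.idealMod I, W.1)) : ifun I t ∈ I.ideal W :=
  idealModι_app_mem I W t

theorem exists_ifun_eq (W : X.affineOpens) (a : Γ(X, W.1)) (ha : a ∈ I.ideal W) :
    ∃ t : Γ(ClSub.idealMod I, W.1), ifun I t = a :=
  exists_idealModι_app_eq I W a ha

/-- A section `m` of the ideal module over `U` whose underlying function generates the ideal on
every affine open inside `U` and is a nonzerodivisor on every open inside `U` trivialises the ideal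
module over `U`. -/
theorem isTriv_idealMod {U : X.Opens} (m : Γ(ClSub.idealMod I, U))
    (hspan : ∀ (W : X.affineOpens) (h : W.1 ≤ U),
      I.ideal W ≤ Ideal.span {rres X h (ifun I m)})
    (hnzd : ∀ (W : X.Opens) (h : W ≤ U) (r : Γ(X, W)), r * rres X h (ifun I m) = 0 → r = 0) :
    IsTriv (ClSub.idealMod I) U m := by
  intro W hW
  have hinj : ∀ (W' : X.Opens) (h : W' ≤ U) (r r' : Γ(X, W')),
      r • res (ClSub.idealMod I) h m = r' • res (ClSub.idealMod I) h m → r = r' := by
    intro W' h r r' hr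
    have h1 := congrArg (ifun I) hr
    rw [ifun_smul, ifun_smul, ifun_res] at h1
    have h2 : (r - r') * rres X h (ifun I m) = 0 := by rw [sub_mul, h1, sub_self]
    exact sub_eq_zero.mp (hnzd W' h _ h2)
  refine ⟨fun r r' hr => hinj W hW r r' hr, fun t => ?_⟩
  -- cover `W` by affine opens
  have hcov : ∀ x : W, ∃ V : X.Opens, IsAffineOpen V ∧ x.1 ∈ V ∧ V ≤ W := by
    intro x
    obtain ⟨V, hV, hxV, hVW⟩ := exists_isAffineOpen_mem_and_subset (x := x.1) (U := W) x.2
    exact ⟨V, hV, hxV, hVW⟩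
  choose V hVaff hxV hVW using hcov
  have hloc : ∀ x : W, ∃ r : Γ(X, V x), res (ClSub.idealMod I) (hVW x) t =
      r • res (ClSub.idealMod I) ((hVW x).trans hW) m := by
    intro x
    have h1 : ifun I (res (ClSub.idealMod I) (hVW x) t) ∈ I.ideal ⟨V x, hVaff x⟩ :=
      ifun_mem I ⟨V x, hVaff x⟩ _
    have h2 := hspan ⟨V x, hVaff x⟩ ((hVW x).trans hW) h1
    rw [Ideal.mem_span_singleton'] at h2
    obtain ⟨r, hr⟩ := h2
    refine ⟨r, ifun_injective I _ ?_⟩
    rw [ifun_smul, ifun_res (I := I) ((hVW x).trans hW), hr]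
  choose r hr using hloc
  have hcompat : ∀ x y : W, res (unitM X) (inf_le_left : V x ⊓ V y ≤ V x) (toUnit (r x)) =
      res (unitM X) (inf_le_right : V x ⊓ V y ≤ V y) (toUnit (r y)) := by
    intro x y
    have hle : V x ⊓ V y ≤ U := inf_le_left.trans ((hVW x).trans hW)
    have h1 := congrArg (res (ClSub.idealMod I) (inf_le_left : V x ⊓ V y ≤ V x)) (hr x)
    have h2 := congrArg (res (ClSub.idealMod I) (inf_le_right : V x ⊓ V y ≤ V y)) (hr y)
    rw [res_res, res_smul, res_res] at h1 h2
    exact hinj (V x ⊓ V y) hle _ _ (h1.symm.trans h2)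
  obtain ⟨s, hs⟩ := exists_gluing (unitM X) V W hVW
    (fun x hx => Opens.mem_iSup.mpr ⟨⟨x, hx⟩, hxV ⟨x, hx⟩⟩) (fun x => toUnit (r x)) hcompat
  refine ⟨fromUnit s, ?_⟩
  refine eq_of_res_cover_eq (ClSub.idealMod I) V hVW
    (fun x hx => Opens.mem_iSup.mpr ⟨⟨x, hx⟩, hxV ⟨x, hx⟩⟩) _ _ fun x => ?_
  rw [res_smul, res_res, hr x]
  congr 1
  exact hs x

end Groth.Agent.Lib.Helper25.HypTwist
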