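import Mathlib
import Groth.Agent.Lib.Helper21.ZMTExt3
import Groth.Agent.Lib.Helper21.BiratPre

set_option autoImplicit false
universe u
open CategoryTheory CategoryTheory.Limits AlgebraicGeometry TopologicalSpace

namespace Groth.Agent.Lib.Helper25.BiratIso

theorem gen_eq_singleton (X : Scheme.{u}) [IsIntegral X] :
    Groth.Agent.Lib.Helper21.Birat.gen X = {genericPoint X} := by
  ext x
  simp only [Groth.Agent.Lib.Helper21.Birat.gen, Set.mem_ofPred_eq, Set.mem_singleton_iff]
  rw [irreducibleComponents_eq_singleton, Set.mem_singleton_iff]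
  constructor
  · intro h
    have h1 : IsGenericPoint x (⊤ : Set X) := h
    exact (genericPoint_spec X).eq h1 |>.symm
  · rintro rfl
    exact (genericPoint_spec X)

/-- A birational separated morphism locally of finite type between integral schemes is an
isomorphism over a dense open of the target. -/
theorem exists_dense_open_isIso {X Y : Scheme.{u}} [IsIntegral X] [IsIntegral Y] (f : X ⟶ Y)
    [IsSeparated f] [LocallyOfFiniteType f]
    (hgen : f (genericPoint X) = genericPoint Y) (hbir : IsIso (f.stalkMap (genericPoint X))) :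
    ∃ V : Y.Opens, Dense (V : Set ↥Y) ∧ IsIso (f ∣_ V) := by
  apply Groth.Agent.Lib.Helper21.Birat.exists_dense_open_isIso_morphismRestrict f
  · rw [irreducibleComponents_eq_singleton]; exact Set.finite_singleton _
  · rw [irreducibleComponents_eq_singleton]; exact Set.finite_singleton _
  · rw [gen_eq_singleton, gen_eq_singleton]
    refine ⟨?_, ?_, ?_⟩
    · rintro _ rfl
      exact hgen
    · rintro _ rfl _ rfl _
      rfl
    · rintro _ rfl
      exact ⟨_, rfl, hgen⟩
  · intro x hx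
    rw [gen_eq_singleton] at hx
    obtain rfl := hx
    exact hbir
  · exact Or.inr inferInstance
  · exact Or.inl ⟨inferInstance, inferInstance⟩


/-- A section `v` over an open `V₂` of a separated morphism `f` with integral source, whose range
contains a nonempty open of `X`, makes `f ∣_ V₂` an isomorphism. -/
theorem isIso_morphismRestrict_of_section {X Y : Scheme.{u}} [IsIntegral X] (f : X ⟶ Y)
    [IsSeparated f] (V₂ : Y.Opens) (v : (V₂ : Scheme.{u}) ⟶ X) (hv : v ≫ f = V₂.ι)
    (O : X.Opens) (hO : (O : Set X).Nonempty) (hOv : (O : Set X) ⊆ Set.range v) :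
    IsIso (f ∣_ V₂) := by
  -- lift `v` to the preimage
  have hrange : Set.range v ⊆ Set.range (f ⁻¹ᵁ V₂).ι := by
    rintro _ ⟨t, rfl⟩
    rw [Scheme.Opens.range_ι]
    change f (v t) ∈ V₂
    rw [← Scheme.Hom.comp_apply, hv]
    exact t.2
  let v' : (V₂ : Scheme.{u}) ⟶ (f ⁻¹ᵁ V₂ : Scheme.{u}) := IsOpenImmersion.lift (f ⁻¹ᵁ V₂).ι v hrange
  have hv' : v' ≫ (f ⁻¹ᵁ V₂).ι = v := IsOpenImmersion.lift_fac _ _ _
  have hsec : v' ≫ (f ∣_ V₂) = 𝟙 _ := by
    rw [← cancel_mono V₂.ι, Category.assoc, morphismRestrict_ι, ← Category.assoc, hv', hv,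
      Category.id_comp]
  have hci : IsClosedImmersion v' := by
    have : IsClosedImmersion (v' ≫ (f ∣_ V₂)) := by rw [hsec]; infer_instance
    exact IsClosedImmersion.of_comp v' (f ∣_ V₂)
  -- surjectivity
  have hsurj : Surjective v' := by
    refine ⟨fun t₀ => ?_⟩
    by_contra hnot
    have hopen : IsOpen ((Set.range v')ᶜ : Set (f ⁻¹ᵁ V₂ : Scheme.{u})) :=
      v'.isClosedEmbedding.isClosed_range.isOpen_compl
    have hopen' : IsOpen ((f ⁻¹ᵁ V₂).ι '' (Set.range v')ᶜ) :=
      (f ⁻¹ᵁ V₂).ι.isOpenEmbedding.isOpenMap _ hopen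
    have hne : ((f ⁻¹ᵁ V₂).ι '' (Set.range v')ᶜ).Nonempty := ⟨_, t₀, hnot, rfl⟩
    obtain ⟨w, ⟨t, ht, rfl⟩, hwO⟩ := nonempty_preirreducible_inter hopen' O.2 hne hO
    obtain ⟨s, hs⟩ := hOv hwO
    apply ht
    refine ⟨s, ?_⟩
    apply (f ⁻¹ᵁ V₂).ι.isOpenEmbedding.injective
    rw [← Scheme.Hom.comp_apply, hv', hs]
  have hred : IsReduced (f ⁻¹ᵁ V₂ : Scheme.{u}) := isReduced_of_isOpenImmersion (f ⁻¹ᵁ V₂).ι
  have hiso : IsIso v' := isIso_of_isClosedImmersion_of_surjective v'
  have : f ∣_ V₂ = inv v' := by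
    rw [← cancel_epi v', hsec, IsIso.hom_inv_id]
  rw [this]
  infer_instance

end Groth.Agent.Lib.Helper25.BiratIso

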