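import Mathlib
import Groth.Prelude.Def_Mor2
import Groth.Agent.S0080
import Groth.Agent.Lib.Helper13.QuasiAffineLocal
import Groth.Agent.Lib.Helper25.ProperDescent

/-! Quasi-affine morphisms (`Mor2.IsQuasiAffine`): local on the target, base change, composition,
cancellation, topological embeddings, and fpqc descent. -/

open AlgebraicGeometry CategoryTheory Limits MorphismProperty TopologicalSpace

namespace Groth.Agent.Lib.Helper25.QAff

universe u

/-- Quasi-affineness transfers along an open immersion with the same compactness. -/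
theorem isQuasiAffine_of_isOpenImmersion_of_compact {X Y : Scheme.{u}} (j : X ⟶ Y)
    [IsImmersion j] [Y.IsQuasiAffine] (h : IsCompact (Set.univ : Set X)) : X.IsQuasiAffine := by
  have : CompactSpace X := ⟨h⟩
  exact Scheme.IsQuasiAffine.of_isImmersion j

/-- A quasi-compact open of a quasi-affine scheme is quasi-affine. -/
theorem isQuasiAffine_opens {X : Scheme.{u}} [X.IsQuasiAffine] (U : X.Opens)
    (hU : IsCompact (U : Set X)) : Scheme.IsQuasiAffine (U : Scheme.{u}) := by
  have : CompactSpace ↑U := isCompact_iff_compactSpace.mp hU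
  exact Scheme.IsQuasiAffine.of_isImmersion U.ι

/-- Two open immersions with the same range have simultaneously quasi-affine sources. -/
theorem isQuasiAffine_of_range_eq {X Y Z : Scheme.{u}} (i : X ⟶ Z) (j : Y ⟶ Z)
    [IsOpenImmersion i] [IsOpenImmersion j] (h : Set.range i = Set.range j)
    [X.IsQuasiAffine] : Y.IsQuasiAffine := by
  let e := IsOpenImmersion.isoOfRangeEq j i h.symm
  have : CompactSpace Y := e.hom.homeomorph.symm.compactSpace
  exact Scheme.IsQuasiAffine.of_isImmersion e.hom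

/-- Over an affine base, a morphism is quasi-affine iff its source is a quasi-affine scheme. -/
theorem isQuasiAffine_iff_of_isAffine {X Y : Scheme.{u}} [IsAffine Y] (f : X ⟶ Y) :
    Mor2.IsQuasiAffine f ↔ X.IsQuasiAffine := by
  constructor
  · rintro ⟨hqc, h⟩
    have := h ⊤ (isAffineOpen_top Y)
    refine isQuasiAffine_of_range_eq (f ⁻¹ᵁ ⊤).ι (𝟙 X) ?_
    rw [Scheme.Opens.range_ι]
    simp
  · intro hX
    have hqc : QuasiCompact f := (quasiCompact_iff_compactSpace f).mpr inferInstance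
    refine ⟨hqc, fun V hV => ?_⟩
    exact isQuasiAffine_opens _ (f.isCompact_preimage hV.isCompact)

set_option backward.isDefEq.respectTransparency false in
/-- Quasi-affineness of a morphism can be checked on an affine open cover of the target. -/
theorem isQuasiAffine_of_forall_exists {X Y : Scheme.{u}} (f : X ⟶ Y)
    (H : ∀ y : Y, ∃ W : Y.Opens, y ∈ W ∧ IsAffineOpen W ∧
      Scheme.IsQuasiAffine (f ⁻¹ᵁ W : Scheme.{u})) :
    Mor2.IsQuasiAffine f := by
  choose W hyW hW hqa using H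
  have hcov : iSup W = ⊤ := eq_top_iff.mpr fun y _ => Opens.mem_iSup.mpr ⟨y, hyW y⟩
  have hqc : QuasiCompact f := by
    rw [IsZariskiLocalAtTarget.iff_of_iSup_eq_top (P := @QuasiCompact) W hcov]
    intro y
    have : IsAffine (W y) := hW y
    rw [quasiCompact_iff_compactSpace]
    exact (hqa y).toCompactSpace
  exact ⟨hqc, fun V hV => Helper13.isQuasiAffine_preimage_of_cover f V hV
    (fun y _ => ⟨W y, hyW y, hW y, hqa y⟩)⟩

/-- Restriction of a quasi-affine morphism to an open of the target. -/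
theorem isQuasiAffine_morphismRestrict {X Y : Scheme.{u}} (f : X ⟶ Y) (U : Y.Opens)
    (hf : Mor2.IsQuasiAffine f) : Mor2.IsQuasiAffine (f ∣_ U) := by
  have := hf.1
  refine ⟨inferInstance, fun V hV => ?_⟩
  have h1 := hf.2 (U.ι ''ᵁ V) (hV.image_of_isOpenImmersion U.ι)
  refine isQuasiAffine_of_range_eq (f ⁻¹ᵁ (U.ι ''ᵁ V)).ι (((f ∣_ U) ⁻¹ᵁ V).ι ≫ (f ⁻¹ᵁ U).ι) ?_
  rw [Scheme.Opens.range_ι, Scheme.Hom.comp_base, TopCat.coe_comp, Set.range_comp,
    Scheme.Opens.range_ι, ← image_morphismRestrict_preimage]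
  rfl

/-- If the restrictions of `f` to an open cover of the target are quasi-affine, so is `f`. -/
theorem isQuasiAffine_of_iSup_eq_top {X Y : Scheme.{u}} (f : X ⟶ Y) {ι : Type u}
    (U : ι → Y.Opens) (hU : iSup U = ⊤) (H : ∀ i, Mor2.IsQuasiAffine (f ∣_ U i)) :
    Mor2.IsQuasiAffine f := by
  refine isQuasiAffine_of_forall_exists f fun y => ?_
  have hy : y ∈ iSup U := by rw [hU]; trivial
  obtain ⟨i, hi⟩ := Opens.mem_iSup.mp hy
  obtain ⟨_, ⟨V, hV, rfl⟩, hyV, -⟩ := (U i).toScheme.isBasis_affineOpens.exists_subset_of_mem_open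
    (Set.mem_univ (⟨y, hi⟩ : U i)) isOpen_univ
  have hV' : IsAffineOpen V := hV
  refine ⟨(U i).ι ''ᵁ V, ⟨⟨y, hi⟩, hyV, rfl⟩, hV'.image_of_isOpenImmersion (U i).ι, ?_⟩
  have h1 := (H i).2 V hV'
  refine isQuasiAffine_of_range_eq (((f ∣_ U i) ⁻¹ᵁ V).ι ≫ (f ⁻¹ᵁ U i).ι)
    (f ⁻¹ᵁ ((U i).ι ''ᵁ V)).ι ?_
  rw [Scheme.Opens.range_ι, Scheme.Hom.comp_base, TopCat.coe_comp, Set.range_comp,
    Scheme.Opens.range_ι, ← image_morphismRestrict_preimage]
  rfl

/-- Quasi-affine morphisms are stable under base change. -/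
theorem isQuasiAffine_of_isPullback {X' X Y' Y : Scheme.{u}} {fst : X' ⟶ X} {snd : X' ⟶ Y'}
    {f : X ⟶ Y} {g : Y' ⟶ Y} (H : IsPullback fst snd f g) (hf : Mor2.IsQuasiAffine f) :
    Mor2.IsQuasiAffine snd := by
  refine isQuasiAffine_of_forall_exists snd fun y' => ?_
  obtain ⟨_, ⟨V, hV, rfl⟩, hyV, -⟩ :=
    Y.isBasis_affineOpens.exists_subset_of_mem_open (Set.mem_univ (g y')) isOpen_univ
  obtain ⟨_, ⟨V', hV', rfl⟩, hyV', hV'V⟩ :=
    Y'.isBasis_affineOpens.exists_subset_of_mem_open (show y' ∈ (g ⁻¹ᵁ V : Set Y') from hyV)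
      (g ⁻¹ᵁ V).isOpen
  have hV0 : IsAffineOpen V := hV
  have hV0' : IsAffineOpen V' := hV'
  have hle : V' ≤ g ⁻¹ᵁ V := hV'V
  refine ⟨V', hyV', hV0', ?_⟩
  have hUY : snd ⁻¹ᵁ V' = fst ⁻¹ᵁ (f ⁻¹ᵁ V) ⊓ snd ⁻¹ᵁ V' := by
    rw [right_eq_inf, ← Scheme.Hom.comp_preimage, H.w, Scheme.Hom.comp_preimage]
    exact snd.preimage_mono hle
  have hsq := Scheme.Hom.isPullback_resLE H hle le_rfl hUY
  have : IsAffine V := hV0
  have : IsAffine V' := hV0'
  have haff : IsAffineHom (g.resLE V V' hle) := inferInstance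
  have hle2 : snd ⁻¹ᵁ V' ≤ fst ⁻¹ᵁ (f ⁻¹ᵁ V) := by rw [hUY]; exact inf_le_left
  have : IsAffineHom (fst.resLE (f ⁻¹ᵁ V) (snd ⁻¹ᵁ V') hle2) :=
    MorphismProperty.of_isPullback hsq.flip haff
  have := hf.2 V hV0
  exact Scheme.IsQuasiAffine.of_isAffineHom (fst.resLE (f ⁻¹ᵁ V) (snd ⁻¹ᵁ V') hle2)

/-- The source of a quasi-affine morphism to a quasi-affine scheme is quasi-affine. -/
theorem isQuasiAffine_source {X Y : Scheme.{u}} (f : X ⟶ Y) (hf : Mor2.IsQuasiAffine f)
    [Y.IsQuasiAffine] : X.IsQuasiAffine := by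
  have := hf.1
  have : CompactSpace X := QuasiCompact.compactSpace_of_compactSpace f
  refine Helper13.isQuasiAffine_of_forall_exists_mem_basicOpen X fun x => ?_
  obtain ⟨_, ⟨_, ⟨b, hb, rfl⟩, rfl⟩, hxb, -⟩ := (Scheme.IsQuasiAffine.isBasis_basicOpen Y).exists_subset_of_mem_open
    (Set.mem_univ (f x)) isOpen_univ
  refine ⟨f.appTop b, ?_, ?_⟩
  · refine Helper13.isQuasiAffine_of_eq ?_ (hf.2 _ hb)
    rw [Scheme.preimage_basicOpen_top]
  · rw [← Scheme.preimage_basicOpen_top]
    exact hxb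

/-- Quasi-affine morphisms are stable under composition. -/
theorem isQuasiAffine_comp {X Y Z : Scheme.{u}} (f : X ⟶ Y) (g : Y ⟶ Z)
    (hf : Mor2.IsQuasiAffine f) (hg : Mor2.IsQuasiAffine g) : Mor2.IsQuasiAffine (f ≫ g) := by
  have := hf.1
  have := hg.1
  refine ⟨inferInstance, fun W hW => ?_⟩
  have := hg.2 W hW
  have h1 := isQuasiAffine_source (f ∣_ (g ⁻¹ᵁ W)) (isQuasiAffine_morphismRestrict f _ hf)
  exact Helper13.isQuasiAffine_of_eq (Scheme.Hom.comp_preimage f g W).symm h1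

/-- A quasi-compact topological embedding into an affine scheme has quasi-affine source. -/
theorem isQuasiAffine_of_isEmbedding_of_isAffine {X Y : Scheme.{u}} [IsAffine Y] (f : X ⟶ Y)
    [QuasiCompact f] (hf : Topology.IsEmbedding f) : X.IsQuasiAffine := by
  have : CompactSpace X := QuasiCompact.compactSpace_of_compactSpace f
  refine Scheme.IsQuasiAffine.of_forall_exists_mem_basicOpen X fun x => ?_
  obtain ⟨_, ⟨U, hU, rfl⟩, hxU, -⟩ :=
    X.isBasis_affineOpens.exists_subset_of_mem_open (Set.mem_univ x) isOpen_univ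
  have hU' : IsAffineOpen U := hU
  obtain ⟨W, hW, hWU⟩ := hf.isInducing.isOpen_iff.mp U.isOpen
  have hxW : f x ∈ (⟨W, hW⟩ : Y.Opens) := by
    change x ∈ f ⁻¹' W
    rw [hWU]; exact hxU
  obtain ⟨b, hbW, hxb⟩ := (isAffineOpen_top Y).exists_basicOpen_le
    (V := (⟨W, hW⟩ : Y.Opens)) ⟨f x, hxW⟩ (by trivial)
  refine ⟨f.appTop b, ?_, ?_⟩
  · have hle : X.basicOpen (f.appTop b) ≤ U := by
      rw [← Scheme.preimage_basicOpen_top]
      intro z hz
      have : z ∈ f ⁻¹' W := hbW hz
      rw [hWU] at this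
      exact this
    have h2 := hU'.basicOpen (X.presheaf.map (homOfLE (le_top : U ≤ ⊤)).op (f.appTop b))
    rw [Scheme.basicOpen_res, inf_eq_right.mpr hle] at h2
    exact h2
  · rw [← Scheme.preimage_basicOpen_top]
    exact hxb

/-- A quasi-compact morphism which is a topological embedding is quasi-affine. -/
theorem isQuasiAffine_of_isEmbedding {X Y : Scheme.{u}} (f : X ⟶ Y) [QuasiCompact f]
    (hf : Topology.IsEmbedding f) : Mor2.IsQuasiAffine f := by
  refine isQuasiAffine_of_forall_exists f fun y => ?_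
  obtain ⟨_, ⟨V, hV, rfl⟩, hyV, -⟩ :=
    Y.isBasis_affineOpens.exists_subset_of_mem_open (Set.mem_univ y) isOpen_univ
  have hV' : IsAffineOpen V := hV
  refine ⟨V, hyV, hV', ?_⟩
  have : IsAffine V := hV'
  refine isQuasiAffine_of_isEmbedding_of_isAffine (f ∣_ V) ?_
  rw [morphismRestrict_base]
  exact hf.restrictPreimage _

/-- If `f ≫ g` is quasi-affine and `g` is quasi-separated, then `f` is quasi-affine. -/
theorem isQuasiAffine_of_comp {X Y Z : Scheme.{u}} (f : X ⟶ Y) (g : Y ⟶ Z) [QuasiSeparated g]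
    (h : Mor2.IsQuasiAffine (f ≫ g)) : Mor2.IsQuasiAffine f := by
  have hsq := pullback_lift_diagonal_isPullback f g
  have h1 : QuasiCompact (pullback.lift (𝟙 X) f (by simp) : X ⟶ pullback (f ≫ g) g) :=
    MorphismProperty.of_isPullback hsq inferInstance
  have h2 : IsImmersion (pullback.lift (𝟙 X) f (by simp) : X ⟶ pullback (f ≫ g) g) :=
    MorphismProperty.of_isPullback hsq inferInstance
  have h3 := isQuasiAffine_of_isEmbedding
    (pullback.lift (𝟙 X) f (Category.id_comp _) : X ⟶ pullback (f ≫ g) g)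
    (Scheme.Hom.isEmbedding _)
  have h4 : Mor2.IsQuasiAffine (pullback.snd (f ≫ g) g) :=
    isQuasiAffine_of_isPullback (IsPullback.of_hasPullback _ _) h
  have := isQuasiAffine_comp _ _ h3 h4
  rwa [pullback.lift_snd] at this

/-- Flat base change of global sections for qcqs `Y` over an affine base, as a pullback of
spectra. -/
theorem isPullback_SpecMap_appTop {R S : CommRingCat.{u}} {Y : Scheme.{u}} (φ : R ⟶ S)
    (g : Y ⟶ Spec R) [Flat (Spec.map φ)] [CompactSpace Y] [QuasiSeparatedSpace Y] :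
    IsPullback (Spec.map (pullback.fst (Spec.map φ) g).appTop)
      (Spec.map (pullback.snd (Spec.map φ) g).appTop)
      (Spec.map (Spec.map φ).appTop) (Spec.map g.appTop) := by
  let Y' := pullback (Spec.map φ) g
  have H : IsPullback (pullback.snd (Spec.map φ) g) (pullback.fst (Spec.map φ) g) g (Spec.map φ) :=
    (IsPullback.of_hasPullback (Spec.map φ) g).flip
  have hUST : (⊤ : (Spec S).Opens) ≤ (Spec.map φ) ⁻¹ᵁ (⊤ : (Spec R).Opens) := le_top
  have hUSX : (⊤ : Y.Opens) ≤ g ⁻¹ᵁ (⊤ : (Spec R).Opens) := le_top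
  have hUY : (⊤ : Y'.Opens) = (pullback.snd (Spec.map φ) g) ⁻¹ᵁ (⊤ : Y.Opens) ⊓
      (pullback.fst (Spec.map φ) g) ⁻¹ᵁ (⊤ : (Spec S).Opens) := by simp
  have hiso := isIso_pushoutSection_of_isQuasiSeparated_of_flat_right H hUST hUSX hUY
    (isAffineOpen_top _) (isAffineOpen_top _) isCompact_univ isQuasiSeparated_univ
  have hpo := (isIso_pushoutSection_iff H hUST hUSX hUY).mp hiso
  have e1 : ∀ {A B : Scheme.{u}} (f : A ⟶ B) (h : (⊤ : A.Opens) ≤ f ⁻¹ᵁ (⊤ : B.Opens)),
      Scheme.Hom.appLE f ⊤ ⊤ h = f.appTop := by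
    intro A B f h
    rw [Scheme.Hom.appTop, Scheme.Hom.app_eq_appLE]
    rfl
  rw [e1, e1, e1, e1] at hpo
  exact hpo.op.map Scheme.Spec

/-- Flat base change of the canonical morphism `Y ⟶ Spec Γ(Y)` for qcqs `Y` over an affine base. -/
theorem isPullback_toSpecΓ {R S : CommRingCat.{u}} {Y : Scheme.{u}} (φ : R ⟶ S)
    (g : Y ⟶ Spec R) [Flat (Spec.map φ)] [CompactSpace Y] [QuasiSeparatedSpace Y] :
    IsPullback (pullback (Spec.map φ) g).toSpecΓ (pullback.snd (Spec.map φ) g)
      (Spec.map (pullback.snd (Spec.map φ) g).appTop) Y.toSpecΓ := by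
  let Y' := pullback (Spec.map φ) g
  have H : IsPullback (pullback.snd (Spec.map φ) g) (pullback.fst (Spec.map φ) g) g (Spec.map φ) :=
    (IsPullback.of_hasPullback (Spec.map φ) g).flip
  have t := (isPullback_SpecMap_appTop φ g).flip
  have s : IsPullback (pullback.snd (Spec.map φ) g)
      (Y'.toSpecΓ ≫ Spec.map (pullback.fst (Spec.map φ) g).appTop)
      (Y.toSpecΓ ≫ Spec.map g.appTop) (Spec.map (Spec.map φ).appTop) := by
    rw [← Scheme.toSpecΓ_naturality, ← Scheme.toSpecΓ_naturality]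
    exact H.of_iso (Iso.refl _) (Iso.refl _) (asIso (Spec S).toSpecΓ) (asIso (Spec R).toSpecΓ)
      (by simp) (by simp) (by simp) (by simp [Scheme.toSpecΓ_naturality])
  have top := IsPullback.of_bot s (Scheme.toSpecΓ_naturality _) t
  exact top.flip

/-- fpqc descent for quasi-affine morphisms: affine case. -/
theorem isQuasiAffine_of_pullback_fst_Spec {R S : CommRingCat.{u}} {Y : Scheme.{u}} (φ : R ⟶ S)
    (g : Y ⟶ Spec R) (hφ : (@Surjective ⊓ @Flat : MorphismProperty Scheme.{u}) (Spec.map φ))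
    (hY' : (pullback (Spec.map φ) g).IsQuasiAffine) : Y.IsQuasiAffine := by
  have hqc := Groth.Agent.S0079.result.{u}
  have hqs := Groth.Agent.S0080.result.{u}
  obtain ⟨hsurj, hflat⟩ := hφ
  have : Surjective (Spec.map φ) := hsurj
  have : Flat (Spec.map φ) := hflat
  have hQ : (@Surjective ⊓ @Flat ⊓ @QuasiCompact : MorphismProperty Scheme.{u}) (Spec.map φ) :=
    ⟨⟨hsurj, hflat⟩, inferInstance⟩
  have h1 : QuasiCompact (pullback.fst (Spec.map φ) g) :=
    (quasiCompact_iff_compactSpace _).mpr inferInstance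
  have h2 : QuasiSeparated (pullback.fst (Spec.map φ) g) :=
    (quasiSeparated_iff_quasiSeparatedSpace _).mpr inferInstance
  have hg1 : QuasiCompact g :=
    MorphismProperty.of_pullback_fst_of_descendsAlong (P := @QuasiCompact) hQ h1
  have hg2 : QuasiSeparated g :=
    MorphismProperty.of_pullback_fst_of_descendsAlong (P := @QuasiSeparated) hQ h2
  have : CompactSpace Y := QuasiCompact.compactSpace_of_compactSpace g
  have : QuasiSeparatedSpace Y := quasiSeparatedSpace_of_quasiSeparated g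
  have hsq := isPullback_toSpecΓ φ g
  -- the base change morphism is fpqc
  have hQ' : (@Surjective ⊓ @Flat ⊓ @QuasiCompact : MorphismProperty Scheme.{u})
      (Spec.map (pullback.snd (Spec.map φ) g).appTop) := by
    have hQ0 : (@Surjective ⊓ @Flat ⊓ @QuasiCompact : MorphismProperty Scheme.{u})
        (Spec.map (Spec.map φ).appTop) := by
      rw [← MorphismProperty.cancel_left_of_respectsIso
        (@Surjective ⊓ @Flat ⊓ @QuasiCompact : MorphismProperty Scheme.{u}) (Spec S).toSpecΓ,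
        ← Scheme.toSpecΓ_naturality,
        MorphismProperty.cancel_right_of_respectsIso
        (@Surjective ⊓ @Flat ⊓ @QuasiCompact : MorphismProperty Scheme.{u})]
      exact hQ
    exact MorphismProperty.of_isPullback (isPullback_SpecMap_appTop φ g) hQ0
  have hopen : IsOpenImmersion Y.toSpecΓ :=
    MorphismProperty.of_isPullback_of_descendsAlong (P := @IsOpenImmersion)
      (Q := (@Surjective ⊓ @Flat ⊓ @QuasiCompact : MorphismProperty Scheme.{u})) hsq hQ'
      inferInstance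
  exact { }


/-- The morphism property of quasi-affine morphisms. -/
def QA : MorphismProperty Scheme.{u} := fun _ _ f => Mor2.IsQuasiAffine f

instance : QA.{u}.IsStableUnderBaseChange :=
  ⟨fun sq h => isQuasiAffine_of_isPullback sq h⟩

instance : IsZariskiLocalAtTarget QA.{u} :=
  IsZariskiLocalAtTarget.mk' (fun f U h => isQuasiAffine_morphismRestrict f U h)
    (fun f _ U hU H => isQuasiAffine_of_iSup_eq_top f U hU H)

/-- fpqc descent for quasi-affine morphisms. -/
theorem descendsAlong_isQuasiAffine :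
    DescendsAlong QA.{u} (@Surjective ⊓ @Flat ⊓ @QuasiCompact : MorphismProperty Scheme.{u}) := by
  refine IsZariskiLocalAtTarget.descendsAlong_inf_quasiCompact _ _ ?_ ?_
  · rw [inf_comm]
    exact inf_le_inf le_rfl (IsLocalIso.le_of_isZariskiLocalAtSource _)
  intro R S Y φ g hφ hfst
  change Mor2.IsQuasiAffine _ at hfst
  change Mor2.IsQuasiAffine g
  rw [isQuasiAffine_iff_of_isAffine] at hfst ⊢
  exact isQuasiAffine_of_pullback_fst_Spec φ g hφ hfst

end Groth.Agent.Lib.Helper25.QAff
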