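import Mathlib
import Groth.Agent.Helper19.OmegaD8

set_option autoImplicit false
universe u
open CategoryTheory CategoryTheory.Limits AlgebraicGeometry TopologicalSpace
open scoped TensorProduct
open Groth.Agent.Lib.Helper29.QCoh Groth.Agent.Helper19.OmegaD Groth.Agent.Helper19.OmegaLocal
open Groth.Agent.Helper19.OmegaAlg

namespace Groth.Agent.Lib.Helper25.DomSepOmega

theorem mapBaseChange_injective_of_formallySmooth (R A B : Type u) [CommRing R] [CommRing A]
    [CommRing B] [Algebra R A] [Algebra A B] [Algebra R B] [IsScalarTower R A B]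
    [Algebra.FormallySmooth A B] :
    Function.Injective (KaehlerDifferential.mapBaseChange R A B) := by
  rw [injective_iff_map_eq_zero]
  intro x hx
  obtain ⟨y, rfl⟩ := (Algebra.H1Cotangent.exact_δ_mapBaseChange R A B x).mp hx
  rw [Subsingleton.elim y 0, map_zero]

/-- If `A → L` is formally smooth, `B → L` injective and `Ω[A/R]` flat, then
`B ⊗ Ω[A/R] → Ω[B/R]` is injective. -/
theorem mapBaseChange_injective_of_tower (R A B L : Type u) [CommRing R] [CommRing A]
    [CommRing B] [CommRing L]
    [Algebra R A] [Algebra A B] [Algebra R B] [IsScalarTower R A B]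
    [Algebra B L] [Algebra A L] [Algebra R L] [IsScalarTower A B L] [IsScalarTower R A L]
    [IsScalarTower R B L]
    [Module.Flat A Ω[A⁄R]] (hinj : Function.Injective (algebraMap B L))
    [Algebra.FormallySmooth A L] :
    Function.Injective (KaehlerDifferential.mapBaseChange R A B) := by
  let ι : B ⊗[A] Ω[A⁄R] →ₗ[A] L ⊗[A] Ω[A⁄R] :=
    LinearMap.rTensor Ω[A⁄R] (IsScalarTower.toAlgHom A B L).toLinearMap
  have hι : Function.Injective ι :=
    Module.Flat.rTensor_preserves_injective_linearMap _ hinj
  have key : ∀ x, KaehlerDifferential.mapBaseChange R A L (ι x) =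
      KaehlerDifferential.map R R B L (KaehlerDifferential.mapBaseChange R A B x) := by
    intro x
    induction x using TensorProduct.induction_on with
    | zero => simp
    | add x y hx hy => simp only [map_add, hx, hy]
    | tmul b ω =>
      simp only [ι, LinearMap.rTensor_tmul, AlgHom.toLinearMap_apply,
        IsScalarTower.coe_toAlgHom', KaehlerDifferential.mapBaseChange_tmul]
      have h2 : ∀ ω : Ω[A⁄R], KaehlerDifferential.map R R B L (KaehlerDifferential.map R R A B ω) =
          KaehlerDifferential.map R R A L ω := by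
        intro ω
        have hω : ω ∈ Submodule.span A (Set.range (KaehlerDifferential.D R A)) := by
          rw [KaehlerDifferential.span_range_derivation]; trivial
        induction hω using Submodule.span_induction with
        | mem x hx =>
          obtain ⟨a, rfl⟩ := hx
          simp only [KaehlerDifferential.map_D]
          rw [← IsScalarTower.algebraMap_apply]
        | zero => simp
        | add x y _ _ hx hy => simp only [map_add, hx, hy]
        | smul a x _ hx =>
          simp only [map_smul, LinearMap.map_smul_of_tower, hx]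
      rw [map_smul, h2, algebraMap_smul]
  rw [injective_iff_map_eq_zero]
  intro x hx
  apply hι
  rw [map_zero]
  apply mapBaseChange_injective_of_formallySmooth R A L
  rw [key, hx, map_zero, map_zero]

theorem residue_bijective_of_isGenericPoint {Y : Scheme.{u}} [IsIntegral Y] (y : Y)
    (hy : IsGenericPoint y ⊤) : Function.Bijective (Y.residue y).hom := by
  obtain rfl : y = genericPoint Y := hy.eq (genericPoint_spec Y)
  refine ⟨?_, Y.residue_surjective _⟩
  exact (Y.residue (genericPoint Y)).hom.injective

theorem formallySmooth_germ {Y : Scheme.{u}} {V : Y.Opens} (hV : IsAffineOpen V) (y : Y)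
    (hy : y ∈ V) : (Y.presheaf.germ V y hy).hom.FormallySmooth := by
  letI := TopCat.Presheaf.algebra_section_stalk Y.presheaf (U := V) ⟨y, hy⟩
  haveI := hV.isLocalization_stalk ⟨y, hy⟩
  change Algebra.FormallySmooth Γ(Y, V) (Y.presheaf.stalk y)
  exact Algebra.FormallySmooth.of_isLocalization (hV.primeIdealOf ⟨y, hy⟩).asIdeal.primeCompl

variable {X Y S : Scheme.{u}} (g : Y ⟶ S) (f : X ⟶ Y)
  [IsIntegral X] [IsIntegral Y] [Smooth g]
  (hdom : DenseRange f.base)
  (hsep : letI := (f.residueFieldMap (genericPoint X)).hom.toAlgebra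
      Algebra.IsSeparable (Y.residueField (f.base (genericPoint X)))
        (X.residueField (genericPoint X)))

omit [IsIntegral Y] in
include hdom in
theorem isGenericPoint_map_genericPoint : IsGenericPoint (f.base (genericPoint X)) ⊤ := by
  rw [isGenericPoint_def]
  have h1 := (genericPoint_spec X).image f.continuous
  rw [isGenericPoint_def] at h1
  rw [h1, Set.top_eq_univ, Set.image_univ]
  exact hdom.closure_range

include hdom hsep in
theorem mapBaseChange_injective_chart {U : X.Opens} (_hU : IsAffineOpen U) {V : Y.Opens}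
    (hV : IsAffineOpen V) {W : S.Opens} (hW : IsAffineOpen W) (hUV : U ≤ f ⁻¹ᵁ V)
    (hVW : V ≤ g ⁻¹ᵁ W) (hne : (U : Set X).Nonempty) :
    letI := algΓ g hVW
    letI := algΓ (f ≫ g) (le_comp_preimage g f hUV hVW)
    letI := algΓ f hUV
    haveI := isScalarTower_tri g f hUV hVW
    Function.Injective (KaehlerDifferential.mapBaseChange Γ(S, W) Γ(Y, V) Γ(X, U)) := by
  have hUW := le_comp_preimage g f hUV hVW
  letI := algΓ g hVW
  letI := algΓ (f ≫ g) hUW
  letI := algΓ f hUV
  haveI := isScalarTower_tri g f hUV hVW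
  have hξ : genericPoint X ∈ U :=
    ((genericPoint_spec X).mem_open_set_iff U.isOpen).mpr (by simpa using hne)
  have hfξ : f.base (genericPoint X) ∈ V := hUV hξ
  let L := X.residueField (genericPoint X)
  letI algBL : Algebra Γ(X, U) L := (X.evaluation U (genericPoint X) hξ).hom.toAlgebra
  letI algAL : Algebra Γ(Y, V) L :=
    ((X.evaluation U (genericPoint X) hξ).hom.comp (algebraMap Γ(Y, V) Γ(X, U))).toAlgebra
  letI algRL : Algebra Γ(S, W) L :=
    ((X.evaluation U (genericPoint X) hξ).hom.comp (algebraMap Γ(S, W) Γ(X, U))).toAlgebra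
  haveI : IsScalarTower Γ(Y, V) Γ(X, U) L := IsScalarTower.of_algebraMap_eq' rfl
  haveI : IsScalarTower Γ(S, W) Γ(X, U) L := IsScalarTower.of_algebraMap_eq' rfl
  haveI : IsScalarTower Γ(S, W) Γ(Y, V) L := by
    apply IsScalarTower.of_algebraMap_eq'
    change (X.evaluation U (genericPoint X) hξ).hom.comp (algebraMap Γ(S, W) Γ(X, U)) =
      ((X.evaluation U (genericPoint X) hξ).hom.comp (algebraMap Γ(Y, V) Γ(X, U))).comp
        (algebraMap Γ(S, W) Γ(Y, V))
    rw [IsScalarTower.algebraMap_eq Γ(S, W) Γ(Y, V) Γ(X, U), RingHom.comp_assoc]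
  haveI : Algebra.Smooth Γ(S, W) Γ(Y, V) :=
    HasRingHomProperty.appLE (P := @Smooth) g inferInstance ⟨W, hW⟩ ⟨V, hV⟩ hVW
  haveI : Module.Flat Γ(Y, V) Ω[Γ(Y, V)⁄Γ(S, W)] := inferInstance
  have hinj : Function.Injective (algebraMap Γ(X, U) L) := by
    change Function.Injective (X.presheaf.germ U (genericPoint X) hξ ≫ X.residue _).hom
    rw [CommRingCat.hom_comp, RingHom.coe_comp]
    exact (residue_bijective_of_isGenericPoint _ (genericPoint_spec X)).1.comp
      (germ_injective_of_isIntegral X _ hξ)
  haveI : Algebra.FormallySmooth Γ(Y, V) L := by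
    rw [← RingHom.formallySmooth_algebraMap]
    have e1 : algebraMap Γ(Y, V) L =
        ((f.residueFieldMap (genericPoint X)).hom.comp
          (Y.residue (f.base (genericPoint X))).hom).comp
            (Y.presheaf.germ V (f.base (genericPoint X)) hfξ).hom := by
      change (X.evaluation U (genericPoint X) hξ).hom.comp (f.appLE V U hUV).hom = _
      have e0 : f.appLE V U hUV ≫ X.evaluation U (genericPoint X) hξ =
          Y.presheaf.germ V (f.base (genericPoint X)) hfξ ≫ Y.residue _ ≫
            f.residueFieldMap (genericPoint X) := by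
        rw [Scheme.germ_residue_assoc, Scheme.evaluation_naturality, Scheme.Hom.appLE,
          Category.assoc]
        congr 1
        rw [← Scheme.germ_residue, ← Category.assoc, X.presheaf.germ_res]
        rfl
      have e0' := congrArg CommRingCat.Hom.hom e0
      simpa only [CommRingCat.hom_comp, RingHom.comp_assoc] using e0'
    rw [e1]
    refine RingHom.FormallySmooth.comp (formallySmooth_germ hV _ hfξ)
      (RingHom.FormallySmooth.comp (RingHom.FormallySmooth.of_bijective
        (residue_bijective_of_isGenericPoint _ (isGenericPoint_map_genericPoint f hdom))) ?_)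
    letI := (f.residueFieldMap (genericPoint X)).hom.toAlgebra
    have : Algebra.FormallyEtale (Y.residueField (f.base (genericPoint X)))
        (X.residueField (genericPoint X)) := Algebra.FormallyEtale.of_isSeparable _ _
    change Algebra.FormallySmooth _ _
    infer_instance
  exact mapBaseChange_injective_of_tower Γ(S, W) Γ(Y, V) Γ(X, U) L hinj

variable (ΩY : Y.Modules) (dY : OmegaSh.Der g ΩY) (hY : OmegaSh.IsUniversal dY)
  (ΩX : X.Modules) (dX : OmegaSh.Der (f ≫ g) ΩX) (hX : OmegaSh.IsUniversal dX)
  (c : (Scheme.Modules.pullback f).obj ΩY ⟶ ΩX) (hc : OmegaSh.IsDiffCompat f dY dX c)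

include hdom hsep hY hX hc in
theorem app_injective {U : X.Opens} (hU : IsAffineOpen U) {V : Y.Opens} (hV : IsAffineOpen V)
    {W : S.Opens} (hW : IsAffineOpen W) (hUV : U ≤ f ⁻¹ᵁ V) (hVW : V ≤ g ⁻¹ᵁ W) :
    Function.Injective (c.app U) := by
  have hUW := le_comp_preimage g f hUV hVW
  letI := algΓ g hVW
  letI := algΓ (f ≫ g) hUW
  letI := algΓ f hUV
  haveI := isScalarTower_tri g f hUV hVW
  obtain ⟨P, EX, -, hPE⟩ :=
    exists_local_diffCompat' g (f ≫ g) f dY hY dX hX c hc hV hW hVW hU hW hUW hUV
  let κ₁ : Γ(X, U) ⊗[Γ(Y, V)] Ω[Γ(Y, V)⁄Γ(S, W)] →ₗ[Γ(X, U)] Ω[Γ(X, U)⁄Γ(S, W)] :=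
    EX.toLinearMap ∘ₗ (appₗ c U) ∘ₗ P.symm.toLinearMap
  have hκ₁ : κ₁ = KaehlerDifferential.mapBaseChange Γ(S, W) Γ(Y, V) Γ(X, U) :=
    eq_mapBaseChange _ _ _ κ₁ (fun b' b => hPE b' b)
  have hinj : Function.Injective κ₁ := by
    rw [hκ₁]
    by_cases hne : (U : Set X).Nonempty
    · exact mapBaseChange_injective_chart g f hdom hsep hU hV hW hUV hVW hne
    · haveI : Subsingleton Γ(X, U) := by
        have : U = ⊥ := by
          ext x
          simp only [Opens.coe_bot, Set.mem_empty_iff_false, iff_false]
          exact fun hx => hne ⟨x, hx⟩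
        subst this
        infer_instance
      haveI : Subsingleton (Γ(X, U) ⊗[Γ(Y, V)] Ω[Γ(Y, V)⁄Γ(S, W)]) :=
        Module.subsingleton Γ(X, U) _
      exact Function.injective_of_subsingleton _
  intro m₁ m₂ hm
  have h1 : κ₁ (P m₁) = κ₁ (P m₂) := by
    change EX (c.app U (P.symm (P m₁))) = EX (c.app U (P.symm (P m₂)))
    rw [LinearEquiv.symm_apply_apply, LinearEquiv.symm_apply_apply, hm]
  exact P.injective (hinj h1)

include hdom hsep hY hX hc in
theorem mono_of_dominant_separable : Mono c := by
  apply Groth.Agent.Helper19.OmegaD.mono_of_injective_on_basis c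
    (Groth.Agent.Helper19.OmegaD.triOpens g f) (Groth.Agent.Helper19.OmegaD.isBasis_triOpens g f)
  rintro U ⟨hU, V, W, hV, hW, hUV, hVW⟩
  exact app_injective g f hdom hsep ΩY dY hY ΩX dX hX c hc hU hV hW hUV hVW

end Groth.Agent.Lib.Helper25.DomSepOmega
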