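import Mathlib
import Groth.Agent.Lib.Helper25.DomSepOmega

set_option autoImplicit false
universe u
open CategoryTheory CategoryTheory.Limits AlgebraicGeometry TopologicalSpace
open scoped TensorProduct
open Groth.Agent.Lib.Helper29.QCoh Groth.Agent.Helper19.OmegaD Groth.Agent.Helper19.OmegaLocal
open Groth.Agent.Helper19.OmegaAlg

namespace Groth.Agent.Lib.Helper25.DomSepOmega

variable {X Y S : Scheme.{u}} (g : Y ⟶ S) (f : X ⟶ Y)
  [IsIntegral X] [IsIntegral Y] [Smooth g]
  (hdom : DenseRange f.base)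
  (hfs : (f.residueFieldMap (genericPoint X)).hom.FormallySmooth)

include hdom hfs in
theorem mapBaseChange_injective_chart' {U : X.Opens} (_hU : IsAffineOpen U) {V : Y.Opens}
    (hV : IsAffineOpen V) {W : S.Opens} (hW : IsAffineOpen W) (hUV : U ≤ f ⁻¹ᵁ V)
    (hVW : V ≤ g ⁻¹ᵁ W) (hne : (U : Set X).Nonempty) :
    letI := algΓ g hVW
    letI := algΓ (f ≫ g) (le_comp_preimage g f hUV hVW)
    letI := algΓ f hUV
    haveI := isScalarTower_tri g f hUV hVW
    Function.Injective (KaehlerDifferential.mapBaseChange Γ(S, W) Γ(Y, V) Γ(X, U)) := by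
  have hUW := le_comp_preimage g f hUV hVW
  letI := algΓ g hVW
  letI := algΓ (f ≫ g) hUW
  letI := algΓ f hUV
  haveI := isScalarTower_tri g f hUV hVW
  have hξ : genericPoint X ∈ U :=
    ((genericPoint_spec X).mem_open_set_iff U.isOpen).mpr (by simpa using hne)
  have hfξ : f.base (genericPoint X) ∈ V := hUV hξ
  let L := X.residueField (genericPoint X)
  letI algBL : Algebra Γ(X, U) L := (X.evaluation U (genericPoint X) hξ).hom.toAlgebra
  letI algAL : Algebra Γ(Y, V) L :=
    ((X.evaluation U (genericPoint X) hξ).hom.comp (algebraMap Γ(Y, V) Γ(X, U))).toAlgebra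
  letI algRL : Algebra Γ(S, W) L :=
    ((X.evaluation U (genericPoint X) hξ).hom.comp (algebraMap Γ(S, W) Γ(X, U))).toAlgebra
  haveI : IsScalarTower Γ(Y, V) Γ(X, U) L := IsScalarTower.of_algebraMap_eq' rfl
  haveI : IsScalarTower Γ(S, W) Γ(X, U) L := IsScalarTower.of_algebraMap_eq' rfl
  haveI : IsScalarTower Γ(S, W) Γ(Y, V) L := by
    apply IsScalarTower.of_algebraMap_eq'
    change (X.evaluation U (genericPoint X) hξ).hom.comp (algebraMap Γ(S, W) Γ(X, U)) =
      ((X.evaluation U (genericPoint X) hξ).hom.comp (algebraMap Γ(Y, V) Γ(X, U))).comp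
        (algebraMap Γ(S, W) Γ(Y, V))
    rw [IsScalarTower.algebraMap_eq Γ(S, W) Γ(Y, V) Γ(X, U), RingHom.comp_assoc]
  haveI : Algebra.Smooth Γ(S, W) Γ(Y, V) :=
    HasRingHomProperty.appLE (P := @Smooth) g inferInstance ⟨W, hW⟩ ⟨V, hV⟩ hVW
  haveI : Module.Flat Γ(Y, V) Ω[Γ(Y, V)⁄Γ(S, W)] := inferInstance
  have hinj : Function.Injective (algebraMap Γ(X, U) L) := by
    change Function.Injective (X.presheaf.germ U (genericPoint X) hξ ≫ X.residue _).hom
    rw [CommRingCat.hom_comp, RingHom.coe_comp]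
    exact (residue_bijective_of_isGenericPoint _ (genericPoint_spec X)).1.comp
      (germ_injective_of_isIntegral X _ hξ)
  haveI : Algebra.FormallySmooth Γ(Y, V) L := by
    rw [← RingHom.formallySmooth_algebraMap]
    have e1 : algebraMap Γ(Y, V) L =
        ((f.residueFieldMap (genericPoint X)).hom.comp
          (Y.residue (f.base (genericPoint X))).hom).comp
            (Y.presheaf.germ V (f.base (genericPoint X)) hfξ).hom := by
      change (X.evaluation U (genericPoint X) hξ).hom.comp (f.appLE V U hUV).hom = _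
      have e0 : f.appLE V U hUV ≫ X.evaluation U (genericPoint X) hξ =
          Y.presheaf.germ V (f.base (genericPoint X)) hfξ ≫ Y.residue _ ≫
            f.residueFieldMap (genericPoint X) := by
        rw [Scheme.germ_residue_assoc, Scheme.evaluation_naturality, Scheme.Hom.appLE,
          Category.assoc]
        congr 1
        rw [← Scheme.germ_residue, ← Category.assoc, X.presheaf.germ_res]
        rfl
      have e0' := congrArg CommRingCat.Hom.hom e0
      simpa only [CommRingCat.hom_comp, RingHom.comp_assoc] using e0'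
    rw [e1]
    exact RingHom.FormallySmooth.comp (formallySmooth_germ hV _ hfξ)
      (RingHom.FormallySmooth.comp (RingHom.FormallySmooth.of_bijective
        (residue_bijective_of_isGenericPoint _ (isGenericPoint_map_genericPoint f hdom))) hfs)
  exact mapBaseChange_injective_of_tower Γ(S, W) Γ(Y, V) Γ(X, U) L hinj

variable (ΩY : Y.Modules) (dY : OmegaSh.Der g ΩY) (hY : OmegaSh.IsUniversal dY)
  (ΩX : X.Modules) (dX : OmegaSh.Der (f ≫ g) ΩX) (hX : OmegaSh.IsUniversal dX)
  (c : (Scheme.Modules.pullback f).obj ΩY ⟶ ΩX) (hc : OmegaSh.IsDiffCompat f dY dX c)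

include hdom hfs hY hX hc in
theorem app_injective' {U : X.Opens} (hU : IsAffineOpen U) {V : Y.Opens} (hV : IsAffineOpen V)
    {W : S.Opens} (hW : IsAffineOpen W) (hUV : U ≤ f ⁻¹ᵁ V) (hVW : V ≤ g ⁻¹ᵁ W) :
    Function.Injective (c.app U) := by
  have hUW := le_comp_preimage g f hUV hVW
  letI := algΓ g hVW
  letI := algΓ (f ≫ g) hUW
  letI := algΓ f hUV
  haveI := isScalarTower_tri g f hUV hVW
  obtain ⟨P, EX, -, hPE⟩ :=
    exists_local_diffCompat' g (f ≫ g) f dY hY dX hX c hc hV hW hVW hU hW hUW hUV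
  let κ₁ : Γ(X, U) ⊗[Γ(Y, V)] Ω[Γ(Y, V)⁄Γ(S, W)] →ₗ[Γ(X, U)] Ω[Γ(X, U)⁄Γ(S, W)] :=
    EX.toLinearMap ∘ₗ (appₗ c U) ∘ₗ P.symm.toLinearMap
  have hκ₁ : κ₁ = KaehlerDifferential.mapBaseChange Γ(S, W) Γ(Y, V) Γ(X, U) :=
    eq_mapBaseChange _ _ _ κ₁ (fun b' b => hPE b' b)
  have hinj : Function.Injective κ₁ := by
    rw [hκ₁]
    by_cases hne : (U : Set X).Nonempty
    · exact mapBaseChange_injective_chart' g f hdom hfs hU hV hW hUV hVW hne
    · haveI : Subsingleton Γ(X, U) := by
        have : U = ⊥ := by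
          ext x
          simp only [Opens.coe_bot, Set.mem_empty_iff_false, iff_false]
          exact fun hx => hne ⟨x, hx⟩
        subst this
        infer_instance
      haveI : Subsingleton (Γ(X, U) ⊗[Γ(Y, V)] Ω[Γ(Y, V)⁄Γ(S, W)]) :=
        Module.subsingleton Γ(X, U) _
      exact Function.injective_of_subsingleton _
  intro m₁ m₂ hm
  have h1 : κ₁ (P m₁) = κ₁ (P m₂) := by
    change EX (c.app U (P.symm (P m₁))) = EX (c.app U (P.symm (P m₂)))
    rw [LinearEquiv.symm_apply_apply, LinearEquiv.symm_apply_apply, hm]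
  exact P.injective (hinj h1)

include hdom hfs hY hX hc in
theorem mono_of_dominant_formallySmooth : Mono c := by
  apply Groth.Agent.Helper19.OmegaD.mono_of_injective_on_basis c
    (Groth.Agent.Helper19.OmegaD.triOpens g f) (Groth.Agent.Helper19.OmegaD.isBasis_triOpens g f)
  rintro U ⟨hU, V, W, hV, hW, hUV, hVW⟩
  exact app_injective' g f hdom hfs ΩY dY hY ΩX dX hX c hc hU hV hW hUV hVW

end Groth.Agent.Lib.Helper25.DomSepOmega
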