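import Mathlib
import Groth.Agent.Helper19.OmegaD8
import Groth.Agent.Lib.Helper25.DomSepOmega
import Groth.Agent.Lib.Helper25.DomSepOmega2
import Groth.Agent.Lib27.SepGen

set_option autoImplicit false
universe u
open CategoryTheory CategoryTheory.Limits AlgebraicGeometry TopologicalSpace
open scoped TensorProduct
open Groth.Agent.Helper19.OmegaLocal

namespace Groth.Agent.Lib.Helper25.GenFibreRed

/-- `B ⊗[A] Lb` reduced, `K` a localization of `A`, `L` a localization of `B`:
`Lb ⊗[K] L` is reduced. -/
theorem isReduced_tensor_of_isLocalization (A B K L Lb : Type u) [CommRing A] [CommRing B]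
    [CommRing K] [CommRing L] [CommRing Lb]
    [Algebra A B] [Algebra A K] [Algebra K L] [Algebra B L] [Algebra A L] [Algebra K Lb]
    [Algebra A Lb]
    [IsScalarTower A K L] [IsScalarTower A B L] [IsScalarTower A K Lb]
    (M : Submonoid A) [IsLocalization M K] (N : Submonoid B) [IsLocalization N L]
    (h : IsReduced (B ⊗[A] Lb)) : IsReduced (Lb ⊗[K] L) := by
  have h1 : IsReduced (Lb ⊗[A] B) :=
    isReduced_of_injective (Algebra.TensorProduct.comm A Lb B).toRingHom
      (Algebra.TensorProduct.comm A Lb B).injective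
  letI : Algebra (Lb ⊗[A] B) (Lb ⊗[A] L) :=
    (Algebra.TensorProduct.map (AlgHom.id Lb Lb) (IsScalarTower.toAlgHom A B L)).toRingHom.toAlgebra
  haveI : IsScalarTower Lb (Lb ⊗[A] B) (Lb ⊗[A] L) := by
    apply IsScalarTower.of_algebraMap_eq'
    ext x
    simp [RingHom.algebraMap_toAlgebra]
  have H : (algebraMap (Lb ⊗[A] B) (Lb ⊗[A] L)).comp
      (Algebra.TensorProduct.includeRight (R := A) (A := Lb) (B := B)).toRingHom =
      (Algebra.TensorProduct.includeRight (R := A) (A := Lb) (B := L)).toRingHom.comp
        (algebraMap B L) := by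
    ext x
    simp [RingHom.algebraMap_toAlgebra]
  haveI := IsLocalization.tensorProduct_tensorProduct_right A Lb N L H
  have h2 : IsReduced (Lb ⊗[A] L) :=
    isReduced_localizationPreserves (N.map (Algebra.TensorProduct.includeRight (R := A) (A := Lb)))
      (Lb ⊗[A] L) h1
  haveI : TensorProduct.CompatibleSMul A K Lb L :=
    IsLocalization.tensorProduct_compatibleSMul M K Lb L
  let e : Lb ⊗[K] L ≃ₐ[Lb] Lb ⊗[A] L := Algebra.TensorProduct.equivOfCompatibleSMul A K Lb Lb L
  exact isReduced_of_injective e.toRingHom e.injective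

theorem SpecMap_evaluation_fromSpec {Z : Scheme.{u}} {V : Z.Opens} (hV : IsAffineOpen V) (z : Z)
    (hz : z ∈ V) : Spec.map (Z.evaluation V z hz) ≫ hV.fromSpec = Z.fromSpecResidueField z := by
  rw [← Scheme.germ_residue, Spec.map_comp, Category.assoc, Scheme.fromSpecResidueField,
    ← hV.fromSpecStalk_eq_fromSpecStalk hz, IsAffineOpen.fromSpecStalk]

/-- The fibre over `f x`, base changed to `Lb` and restricted to an affine chart, is reduced. -/
theorem isReduced_tensor_of_geometricallyReduced {X Z : Scheme.{u}} (f : X ⟶ Z) (x : X)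
    (hsep : GeometricallyReduced (pullback.snd f (Z.fromSpecResidueField (f.base x))))
    {U : X.Opens} (hU : IsAffineOpen U) {V : Z.Opens} (hV : IsAffineOpen V) (hUV : U ≤ f ⁻¹ᵁ V)
    (hx : x ∈ U) (Lb : Type u) [Field Lb] [Algebra (Z.residueField (f.base x)) Lb] :
    letI := algΓ f hUV
    letI : Algebra Γ(Z, V) Lb := ((algebraMap (Z.residueField (f.base x)) Lb).comp
      (Z.evaluation V (f.base x) (hUV hx)).hom).toAlgebra
    IsReduced (Γ(X, U) ⊗[Γ(Z, V)] Lb) := by
  letI := algΓ f hUV
  letI : Algebra Γ(Z, V) Lb := ((algebraMap (Z.residueField (f.base x)) Lb).comp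
      (Z.evaluation V (f.base x) (hUV hx)).hom).toAlgebra
  let g := Z.fromSpecResidueField (f.base x)
  let yK : Spec (CommRingCat.of Lb) ⟶ Spec (Z.residueField (f.base x)) :=
    Spec.map (CommRingCat.ofHom (algebraMap (Z.residueField (f.base x)) Lb))
  let y' : Spec (CommRingCat.of Lb) ⟶ Z := yK ≫ g
  -- (1)
  have h1 : IsReduced (pullback f y') := by
    let fst' : pullback f y' ⟶ pullback f g :=
      pullback.lift (pullback.fst f y') (pullback.snd f y' ≫ yK)
        (by rw [pullback.condition, Category.assoc])
    have hpb : IsPullback fst' (pullback.snd f y') (pullback.snd f g) yK := by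
      refine IsPullback.of_right ?_ (pullback.lift_snd _ _ _) (IsPullback.of_hasPullback f g)
      rw [pullback.lift_fst]
      exact IsPullback.of_hasPullback f y'
    exact hsep.geometrically_isReduced yK fst' (pullback.snd f y') hpb
  -- (2)
  have h2 : Spec.map (CommRingCat.ofHom (algebraMap Γ(Z, V) Lb)) ≫ hV.fromSpec = y' := by
    have : CommRingCat.ofHom (algebraMap Γ(Z, V) Lb) =
        Z.evaluation V (f.base x) (hUV hx) ≫
          CommRingCat.ofHom (algebraMap (Z.residueField (f.base x)) Lb) := rfl
    rw [this, Spec.map_comp, Category.assoc, SpecMap_evaluation_fromSpec]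
  -- (3)
  have e₁ : Spec.map (CommRingCat.ofHom (algebraMap Γ(Z, V) Γ(X, U))) ≫ hV.fromSpec =
      hU.fromSpec ≫ f := IsAffineOpen.SpecMap_appLE_fromSpec f hV hU hUV
  have e₂ : Spec.map (CommRingCat.ofHom (algebraMap Γ(Z, V) Lb)) ≫ hV.fromSpec = 𝟙 _ ≫ y' := by
    rw [h2, Category.id_comp]
  let j := pullback.map (Spec.map (CommRingCat.ofHom (algebraMap Γ(Z, V) Γ(X, U))))
    (Spec.map (CommRingCat.ofHom (algebraMap Γ(Z, V) Lb))) f y' hU.fromSpec (𝟙 _) hV.fromSpec e₁ e₂
  haveI : IsOpenImmersion j := inferInstance
  have h3 : IsReduced (pullback (Spec.map (CommRingCat.ofHom (algebraMap Γ(Z, V) Γ(X, U))))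
      (Spec.map (CommRingCat.ofHom (algebraMap Γ(Z, V) Lb)))) := isReduced_of_isOpenImmersion j
  have h4 : IsReduced (Spec (CommRingCat.of (Γ(X, U) ⊗[Γ(Z, V)] Lb))) :=
    isReduced_of_isOpenImmersion (pullbackSpecIso Γ(Z, V) Γ(X, U) Lb).inv
  exact (affine_isReduced_iff _).mp h4

open Groth.Agent.Lib.Helper25.DomSepOmega in
theorem isLocalization_residueField_of_isGenericPoint {Z : Scheme.{u}} [IsIntegral Z] {V : Z.Opens}
    (hV : IsAffineOpen V) (z : Z) (hz : z ∈ V) (hgen : IsGenericPoint z ⊤) :
    letI : Algebra Γ(Z, V) (Z.residueField z) := (Z.evaluation V z hz).hom.toAlgebra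
    IsLocalization (hV.primeIdealOf ⟨z, hz⟩).asIdeal.primeCompl (Z.residueField z) := by
  letI : Algebra Γ(Z, V) (Z.residueField z) := (Z.evaluation V z hz).hom.toAlgebra
  letI := TopCat.Presheaf.algebra_section_stalk Z.presheaf (U := V) ⟨z, hz⟩
  haveI : IsLocalization (hV.primeIdealOf ⟨z, hz⟩).asIdeal.primeCompl (Z.presheaf.stalk z) :=
    hV.isLocalization_stalk ⟨z, hz⟩
  let φ : Z.presheaf.stalk z →ₐ[Γ(Z, V)] Z.residueField z :=
    { (Z.residue z).hom with commutes' := fun a => rfl }
  have hφ : Function.Bijective φ := residue_bijective_of_isGenericPoint z hgen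
  exact IsLocalization.isLocalization_of_algEquiv _ (AlgEquiv.ofBijective φ hφ)

open Groth.Agent.Lib.Helper25.DomSepOmega in
theorem isReduced_tensor_residueField_genericPoint {X Z : Scheme.{u}} (f : X ⟶ Z)
    [IsIntegral X] [IsIntegral Z] (hdom : DenseRange f.base)
    (hsep : GeometricallyReduced
      (pullback.snd f (Z.fromSpecResidueField (f.base (genericPoint X)))))
    (Lb : Type u) [Field Lb] [Algebra (Z.residueField (f.base (genericPoint X))) Lb] :
    letI := (f.residueFieldMap (genericPoint X)).hom.toAlgebra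
    IsReduced (Lb ⊗[Z.residueField (f.base (genericPoint X))]
      (X.residueField (genericPoint X))) := by
  letI algKL := (f.residueFieldMap (genericPoint X)).hom.toAlgebra
  obtain ⟨V, hV, hz, -⟩ :=
    exists_isAffineOpen_mem_and_subset (x := f.base (genericPoint X)) (U := ⊤) trivial
  obtain ⟨U, hU, hξ, hUV⟩ :=
    exists_isAffineOpen_mem_and_subset (x := genericPoint X) (U := f ⁻¹ᵁ V) hz
  letI := algΓ f hUV
  letI algAK : Algebra Γ(Z, V) (Z.residueField (f.base (genericPoint X))) :=
    (Z.evaluation V (f.base (genericPoint X)) (hUV hξ)).hom.toAlgebra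
  letI algBL : Algebra Γ(X, U) (X.residueField (genericPoint X)) :=
    (X.evaluation U (genericPoint X) hξ).hom.toAlgebra
  letI algAL : Algebra Γ(Z, V) (X.residueField (genericPoint X)) :=
    ((algebraMap (Z.residueField (f.base (genericPoint X))) (X.residueField (genericPoint X))).comp
      (algebraMap Γ(Z, V) (Z.residueField (f.base (genericPoint X))))).toAlgebra
  letI algALb : Algebra Γ(Z, V) Lb :=
    ((algebraMap (Z.residueField (f.base (genericPoint X))) Lb).comp
      (Z.evaluation V (f.base (genericPoint X)) (hUV hξ)).hom).toAlgebra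
  haveI : IsScalarTower Γ(Z, V) (Z.residueField (f.base (genericPoint X)))
      (X.residueField (genericPoint X)) := IsScalarTower.of_algebraMap_eq' rfl
  haveI : IsScalarTower Γ(Z, V) (Z.residueField (f.base (genericPoint X))) Lb :=
    IsScalarTower.of_algebraMap_eq' rfl
  haveI : IsScalarTower Γ(Z, V) Γ(X, U) (X.residueField (genericPoint X)) := by
    apply IsScalarTower.of_algebraMap_eq'
    change (f.residueFieldMap (genericPoint X)).hom.comp
      (Z.evaluation V (f.base (genericPoint X)) (hUV hξ)).hom =
      (X.evaluation U (genericPoint X) hξ).hom.comp (f.appLE V U hUV).hom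
    have e0 : f.appLE V U hUV ≫ X.evaluation U (genericPoint X) hξ =
        Z.evaluation V (f.base (genericPoint X)) (hUV hξ) ≫
          f.residueFieldMap (genericPoint X) := by
      rw [Scheme.evaluation_naturality, Scheme.Hom.appLE, Category.assoc]
      congr 1
      rw [← Scheme.germ_residue, ← Category.assoc, X.presheaf.germ_res]
      rfl
    have e0' := congrArg CommRingCat.Hom.hom e0
    simpa only [CommRingCat.hom_comp] using e0'.symm
  haveI := isLocalization_residueField_of_isGenericPoint hV _ (hUV hξ)
    (isGenericPoint_map_genericPoint f hdom)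
  haveI := isLocalization_residueField_of_isGenericPoint hU _ hξ (genericPoint_spec X)
  have h := isReduced_tensor_of_geometricallyReduced f (genericPoint X) hsep hU hV hUV hξ Lb
  exact isReduced_tensor_of_isLocalization Γ(Z, V) Γ(X, U) _ _ _
    (hV.primeIdealOf ⟨_, hUV hξ⟩).asIdeal.primeCompl
    (hU.primeIdealOf ⟨_, hξ⟩).asIdeal.primeCompl h

theorem isGeometricallyReduced_residueField_genericPoint {X Z : Scheme.{u}} (f : X ⟶ Z)
    [IsIntegral X] [IsIntegral Z] (hdom : DenseRange f.base)
    (hsep : GeometricallyReduced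
      (pullback.snd f (Z.fromSpecResidueField (f.base (genericPoint X))))) :
    letI := (f.residueFieldMap (genericPoint X)).hom.toAlgebra
    Algebra.IsGeometricallyReduced (Z.residueField (f.base (genericPoint X)))
      (X.residueField (genericPoint X)) := by
  letI algKL := (f.residueFieldMap (genericPoint X)).hom.toAlgebra
  exact (Algebra.isGeometricallyReduced_field_iff _ _).mpr
    (isReduced_tensor_residueField_genericPoint f hdom hsep _)

/-- generic fibre geometrically reduced and `f` locally of finite type: the extension of residue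
fields at the generic points is formally smooth. -/
theorem formallySmooth_residueFieldMap_genericPoint {X Z : Scheme.{u}} (f : X ⟶ Z)
    [IsIntegral X] [IsIntegral Z] [LocallyOfFiniteType f] (hdom : DenseRange f.base)
    (hsep : GeometricallyReduced
      (pullback.snd f (Z.fromSpecResidueField (f.base (genericPoint X))))) :
    (f.residueFieldMap (genericPoint X)).hom.FormallySmooth := by
  letI algKL := (f.residueFieldMap (genericPoint X)).hom.toAlgebra
  haveI := isGeometricallyReduced_residueField_genericPoint f hdom hsep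
  haveI : Algebra.EssFiniteType (Z.residueField (f.base (genericPoint X)))
      (X.residueField (genericPoint X)) :=
    (LocallyOfFiniteType.stalkMap f (genericPoint X)).residueFieldMap
  exact Groth.Agent.Lib27.formallySmooth_of_isGeometricallyReduced _ _

open Groth.Agent.Lib.Helper25.DomSepOmega in
/-- `f : X ⟶ Z` dominant, locally of finite type between integral schemes, `Z` smooth over `S`,
generic fibre geometrically reduced: `f^*Ω_{Z/S} → Ω_{X/S}` is a monomorphism. -/
theorem mono_of_geometricallyReduced_genericFibre {X Z S : Scheme.{u}} (g : Z ⟶ S) (h : X ⟶ S)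
    (f : X ⟶ Z) (w : f ≫ g = h)
    [IsIntegral X] [IsIntegral Z] [Smooth g] [LocallyOfFiniteType f] (hdom : DenseRange f.base)
    (hsep : GeometricallyReduced
      (pullback.snd f (Z.fromSpecResidueField (genericPoint Z))))
    (ΩZ : Z.Modules) (dZ : OmegaSh.Der g ΩZ) (hZ : OmegaSh.IsUniversal dZ)
    (ΩX : X.Modules) (dX : OmegaSh.Der h ΩX) (hX : OmegaSh.IsUniversal dX)
    (c : (Scheme.Modules.pullback f).obj ΩZ ⟶ ΩX) (hc : OmegaSh.IsDiffCompat f dZ dX c) :
    Mono c := by
  subst w
  have hη : genericPoint Z = f.base (genericPoint X) :=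
    (genericPoint_spec Z).eq (isGenericPoint_map_genericPoint f hdom)
  rw [hη] at hsep
  have hfs := formallySmooth_residueFieldMap_genericPoint f hdom hsep
  exact mono_of_dominant_formallySmooth g f hdom hfs ΩZ dZ hZ ΩX dX hX c hc

end Groth.Agent.Lib.Helper25.GenFibreRed
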