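import Groth.Agent.S0500
import Groth.Agent.Lib.Helper4.HenselEtale

set_option autoImplicit false
universe u

namespace Groth.Agent.Lib.Helper25

/-- A local ring which is finite over a Henselian local ring is Henselian. -/
theorem henselianLocalRing_of_finite (A B : Type u) [CommRing A] [HenselianLocalRing A]
    [CommRing B] [IsLocalRing B] [Algebra A B] [Module.Finite A B] : HenselianLocalRing B := by
  refine Groth.Agent.S0500.result B fun S _ _ hS ↦ ?_
  let _ : Algebra A S := ((algebraMap B S).comp (algebraMap A B)).toAlgebra
  have : IsScalarTower A B S := IsScalarTower.of_algebraMap_eq fun _ ↦ rfl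
  have : Module.Finite A S := Module.Finite.trans B S
  exact Helper4.exists_pi_isLocalRing_of_finite_of_henselian (R := A) S

end Groth.Agent.Lib.Helper25
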