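import Groth.Agent.Lib.Helper25.TopDual
import Mathlib.RingTheory.LocalRing.Quotient
import Mathlib.RingTheory.Ideal.Over

/-!
# Coextension of scalars along a finite local algebra preserves hulls of residue fields
-/

set_option autoImplicit false
universe u v
namespace Groth.Agent.Lib.Helper25
open InjHull IsLocalRing CategoryTheory

section FL

variable {A : Type u} [CommRing A] [IsLocalRing A] [IsNoetherianRing A]

theorem isFiniteLength_of_finite_of_isPowerTorsion {M : Type u} [AddCommGroup M] [Module A M]
    [Module.Finite A M] (hM : LocCoh.IsPowerTorsion (maximalIdeal A) M) :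
    IsFiniteLength A M := by
  rw [isFiniteLength_iff_isNoetherian_isArtinian]
  refine ⟨inferInstance, ?_⟩
  rw [isArtinian_iff_isPowerTorsion_and_finite]
  refine ⟨hM, ?_⟩
  have : Module.Finite A ↥(LocCoh.torsionBy (maximalIdeal A) M) := inferInstance
  exact Module.Finite.of_restrictScalars_finite A _ _

end FL

section CoextGen

variable {R : Type u} [CommRing R] {S : Type u} [CommRing S] [Algebra R S]
  {M : Type u} [AddCommGroup M] [Module R M]

/-- the linear map underlying an element of the coextension -/
noncomputable def coextToHom (g : (ModuleCat.coextendScalars (algebraMap R S)).obj (ModuleCat.of R M)) :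
    S →ₗ[R] M where
  toFun x := g x
  map_add' x y := (ModuleCat.CoextendScalars.equiv _ _ g).map_add x y
  map_smul' c x := by
    have := (ModuleCat.CoextendScalars.equiv (algebraMap R S) (ModuleCat.of R M) g).map_smul c x
    rw [Algebra.smul_def]
    exact this

theorem coextToHom_smul (a : S)
    (g : (ModuleCat.coextendScalars (algebraMap R S)).obj (ModuleCat.of R M)) (x : S) :
    coextToHom (a • g) x = coextToHom g (x * a) := rfl

theorem coextToHom_injective : Function.Injective (coextToHom (R := R) (S := S) (M := M)) := by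
  intro g g' h
  apply ModuleCat.CoextendScalars.ext
  apply LinearMap.ext
  intro x
  exact LinearMap.congr_fun h x

/-- an element of the coextension from a linear map -/
noncomputable def coextOfHom (ψ : S →ₗ[R] M) :
    (ModuleCat.coextendScalars (algebraMap R S)).obj (ModuleCat.of R M) :=
  (ModuleCat.CoextendScalars.equiv (algebraMap R S) (ModuleCat.of R M)).symm
    { toFun := fun x => ψ x
      map_add' := fun x y => ψ.map_add x y
      map_smul' := fun c x => by
        change ψ (algebraMap R S c * (show S from x)) = c • ψ (show S from x)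
        rw [← Algebra.smul_def]
        exact ψ.map_smul c x }

theorem coextToHom_coextOfHom (ψ : S →ₗ[R] M) : coextToHom (coextOfHom ψ) = ψ := rfl

theorem coextToHom_zero :
    coextToHom (0 : (ModuleCat.coextendScalars (algebraMap R S)).obj (ModuleCat.of R M)) = 0 := rfl

end CoextGen

end Groth.Agent.Lib.Helper25

namespace Groth.Agent.Lib.Helper25
open InjHull IsLocalRing CategoryTheory

section LengthEq

variable {R : Type u} [CommRing R] {M : Type v} [AddCommGroup M] [Module R M]

theorem eq_of_le_of_length_eq {N K : Submodule R M} (hle : N ≤ K)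
    (hlen : Module.length R N = Module.length R K) (hfin : IsFiniteLength R K) : N = K := by
  obtain ⟨_, _⟩ := isFiniteLength_iff_isNoetherian_isArtinian.1 hfin
  by_contra hne
  have hne' : Submodule.comap K.subtype N ≠ ⊤ := by
    intro h
    apply hne
    apply le_antisymm hle
    intro x hx
    have : (⟨x, hx⟩ : K) ∈ Submodule.comap K.subtype N := by rw [h]; trivial
    exact this
  have hlt := Submodule.length_lt (R := R) hne'
  rw [(Submodule.comapSubtypeEquivOfLe hle).length_eq, hlen] at hlt
  exact lt_irrefl _ hlt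

end LengthEq

section FiniteLocal

variable {A B : Type u} [CommRing A] [IsLocalRing A] [IsNoetherianRing A] [CommRing B]
  [IsLocalRing B] [Algebra A B] [Module.Finite A B]

omit [IsNoetherianRing A] in
theorem algebraMap_mem_maximalIdeal {a : A} (ha : a ∈ maximalIdeal A) :
    algebraMap A B a ∈ maximalIdeal B := by
  by_contra hnot
  have hu : IsUnit (algebraMap A B a) := by
    by_contra h
    exact hnot ((mem_maximalIdeal _).2 h)
  have htop : (⊤ : Submodule A B) ≤ maximalIdeal A • ⊤ := by
    intro b _
    obtain ⟨u, hu⟩ := hu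
    have : b = a • ((↑u⁻¹ : B) * b) := by
      rw [Algebra.smul_def, ← hu, ← mul_assoc, Units.mul_inv, one_mul]
    rw [this]
    exact Submodule.smul_mem_smul ha Submodule.mem_top
  have hbot := Submodule.eq_bot_of_le_smul_of_le_jacobson_bot (maximalIdeal A)
    (⊤ : Submodule A B) Module.Finite.fg_top htop (maximalIdeal_le_jacobson _)
  have : (1 : B) ∈ (⊥ : Submodule A B) := hbot ▸ Submodule.mem_top
  exact one_ne_zero ((Submodule.mem_bot A).1 this)

theorem exists_pow_maximalIdeal_le_map :
    ∃ N, maximalIdeal B ^ N ≤ (maximalIdeal A).map (algebraMap A B) := by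
  have hpt : LocCoh.IsPowerTorsion (maximalIdeal A)
      (B ⧸ (maximalIdeal A).map (algebraMap A B)) := by
    intro q
    refine ⟨1, fun a ha => ?_⟩
    rw [pow_one] at ha
    obtain ⟨b, rfl⟩ := Ideal.Quotient.mk_surjective q
    have h1 : a • (Ideal.Quotient.mk ((maximalIdeal A).map (algebraMap A B))) b =
        Ideal.Quotient.mk _ (a • b) := rfl
    rw [h1, Ideal.Quotient.eq_zero_iff_mem, Algebra.smul_def]
    exact Ideal.mul_mem_right _ _ (Ideal.mem_map_of_mem _ ha)
  have hfl := isFiniteLength_of_finite_of_isPowerTorsion hpt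
  obtain ⟨_, hart⟩ := isFiniteLength_iff_isNoetherian_isArtinian.1 hfl
  have : IsArtinianRing (B ⧸ (maximalIdeal A).map (algebraMap A B)) :=
    isArtinian_of_tower A hart
  exact exists_maximalIdeal_pow_le_of_isArtinianRing_quotient _

end FiniteLocal

end Groth.Agent.Lib.Helper25

namespace Groth.Agent.Lib.Helper25
open InjHull IsLocalRing CategoryTheory

section CoextHull

variable {A B : Type u} [CommRing A] [IsLocalRing A] [IsNoetherianRing A] [CommRing B]
  [IsLocalRing B] [Algebra A B] [Module.Finite A B]
  {E : Type u} [AddCommGroup E] [Module A E]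

theorem isPowerTorsion_coext (hE : LocCoh.IsPowerTorsion (maximalIdeal A) E) :
    LocCoh.IsPowerTorsion (maximalIdeal B)
      ((ModuleCat.coextendScalars (algebraMap A B)).obj (ModuleCat.of A E)) := by
  classical
  intro g
  obtain ⟨s, hs⟩ := (Module.Finite.fg_top : (⊤ : Submodule A B).FG)
  have hex : ∀ b : s, ∃ n : ℕ, ∀ a ∈ maximalIdeal A ^ n, a • coextToHom g b = 0 :=
    fun b => hE _
  choose N hN using hex
  let n : ℕ := s.attach.sup N
  have hkill : ∀ a ∈ maximalIdeal A ^ n, ∀ x : B, a • coextToHom g x = 0 := by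
    intro a ha x
    have hle : (⊤ : Submodule A B) ≤ LinearMap.ker (a • coextToHom g) := by
      rw [← hs, Submodule.span_le]
      intro b hb
      rw [SetLike.mem_coe, LinearMap.mem_ker, LinearMap.smul_apply]
      exact hN ⟨b, hb⟩ a (Ideal.pow_le_pow_right (Finset.le_sup (f := N)
        (Finset.mem_attach s ⟨b, hb⟩)) ha)
    exact hle (Submodule.mem_top : x ∈ ⊤)
  have hkill' : ∀ a ∈ maximalIdeal A ^ n, algebraMap A B a • g = 0 := by
    intro a ha
    apply coextToHom_injective
    apply LinearMap.ext
    intro x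
    rw [coextToHom_smul, coextToHom_zero, LinearMap.zero_apply, mul_comm, ← Algebra.smul_def,
      map_smul]
    exact hkill a ha x
  have hann : (maximalIdeal A ^ n).map (algebraMap A B) ≤ (Submodule.span B {g}).annihilator := by
    rw [Ideal.map, Ideal.span_le]
    rintro _ ⟨a, ha, rfl⟩
    rw [SetLike.mem_coe, Submodule.mem_annihilator_span_singleton]
    exact hkill' a ha
  obtain ⟨N₀, hN₀⟩ := exists_pow_maximalIdeal_le_map (A := A) (B := B)
  refine ⟨N₀ * n, fun c hc => ?_⟩
  have h1 : maximalIdeal B ^ (N₀ * n) ≤ (maximalIdeal A ^ n).map (algebraMap A B) := by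
    rw [pow_mul, Ideal.map_pow]
    exact Ideal.pow_right_mono hN₀ n
  exact (Submodule.mem_annihilator_span_singleton _ _).1 (hann (h1 hc))

variable (f : ResidueField A →ₗ[A] E) (hf : IsInjectiveHull f)

include hf in
theorem exists_mul_right_eq_hom (φ ψ : B →ₗ[A] E) (hφ : ∀ b ∈ maximalIdeal B, φ b = 0)
    (hψ : ∀ b ∈ maximalIdeal B, ψ b = 0) (hφ0 : φ ≠ 0) : ∃ b : B, ∀ x, ψ x = φ (x * b) := by
  let W : Submodule A B := (maximalIdeal B).restrictScalars A
  let Θ : B →ₗ[A] (B →ₗ[A] E) := (LinearMap.mul A B).compr₂ φ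
  have hΘ : ∀ a x, Θ a x = φ (a * x) := fun a x => rfl
  let K : Submodule A (B →ₗ[A] E) := LinearMap.range (LinearMap.lcomp A E W.mkQ)
  have hK : ∀ χ : B →ₗ[A] E, (∀ w ∈ maximalIdeal B, χ w = 0) → χ ∈ K := by
    intro χ hχ
    have hle : W ≤ LinearMap.ker χ := fun w hw => hχ w hw
    exact ⟨W.liftQ χ hle, LinearMap.ext fun x => rfl⟩
  have hker : W = LinearMap.ker Θ := by
    ext a
    rw [LinearMap.mem_ker]
    constructor
    · intro ha
      apply LinearMap.ext
      intro x
      change φ (a * x) = 0
      exact hφ _ (Ideal.mul_mem_right x _ ha)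
    · intro h
      by_contra ha
      have ha' : a ∉ maximalIdeal B := ha
      obtain ⟨b, i, hi, hbi⟩ := (maximalIdeal.isMaximal B).exists_inv ha'
      apply hφ0
      apply LinearMap.ext
      intro x
      have h1 : Θ a (x * b) = 0 := by
        rw [h]; rfl
      rw [hΘ] at h1
      have h2 : x = a * (x * b) + x * i := by
        calc x = x * (b * a + i) := by rw [hbi, mul_one]
          _ = a * (x * b) + x * i := by ring
      rw [h2, map_add, h1, hφ _ (Ideal.mul_mem_left _ x hi), add_zero, LinearMap.zero_apply]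
  let Θbar : (B ⧸ W) →ₗ[A] (B →ₗ[A] E) := W.liftQ Θ (le_of_eq hker)
  have hinj : Function.Injective Θbar := by
    rw [← LinearMap.ker_eq_bot]
    exact Submodule.ker_liftQ_eq_bot' _ _ hker
  have hle : LinearMap.range Θbar ≤ K := by
    rintro _ ⟨q, rfl⟩
    obtain ⟨a, rfl⟩ := W.mkQ_surjective q
    apply hK
    intro w hw
    change φ (a * w) = 0
    exact hφ _ (Ideal.mul_mem_left _ a hw)
  -- `B ⧸ W` has finite length over `A`
  have hpt : LocCoh.IsPowerTorsion (maximalIdeal A) (B ⧸ W) := by
    intro q
    refine ⟨1, fun a ha => ?_⟩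
    rw [pow_one] at ha
    obtain ⟨b, rfl⟩ := W.mkQ_surjective q
    rw [Submodule.mkQ_apply, ← Submodule.Quotient.mk_smul, Submodule.Quotient.mk_eq_zero,
      Algebra.smul_def]
    exact Ideal.mul_mem_right _ _ (algebraMap_mem_maximalIdeal ha)
  have hfl : IsFiniteLength A (B ⧸ W) := isFiniteLength_of_finite_of_isPowerTorsion hpt
  have hlenK : Module.length A K = Module.length A (B ⧸ W) := by
    rw [← (LinearEquiv.ofInjective _
      (lcomp_injective_of_surjective (E := E) W.mkQ W.mkQ_surjective)).length_eq,
      length_hom_eq_length f hf hfl]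
  have hflK : IsFiniteLength A K := by
    rw [← Module.length_ne_top_iff, hlenK, Module.length_ne_top_iff]
    exact hfl
  have heq : LinearMap.range Θbar = K := by
    apply eq_of_le_of_length_eq hle _ hflK
    rw [hlenK, ← (LinearEquiv.ofInjective _ hinj).length_eq]
  have hψmem : ψ ∈ K := hK ψ hψ
  rw [← heq] at hψmem
  obtain ⟨q, hq⟩ := hψmem
  obtain ⟨a, rfl⟩ := W.mkQ_surjective q
  refine ⟨a, fun x => ?_⟩
  have h1 : Θ a = ψ := hq
  rw [← h1, hΘ, mul_comm]

omit [IsNoetherianRing A] [Module.Finite A B] in
include hf in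
theorem exists_hom_ne_zero_killing : ∃ φ : B →ₗ[A] E, φ ≠ 0 ∧ ∀ b ∈ maximalIdeal B, φ b = 0 := by
  let W : Submodule A B := (maximalIdeal B).restrictScalars A
  have h1 : (W.mkQ (1 : B)) ≠ 0 := by
    rw [Ne, Submodule.mkQ_apply, Submodule.Quotient.mk_eq_zero]
    intro h
    exact (maximalIdeal.isMaximal B).ne_top ((Ideal.eq_top_iff_one _).2 h)
  obtain ⟨χ, hχ⟩ := exists_hom_ne_zero f hf h1
  refine ⟨χ ∘ₗ W.mkQ, ?_, fun b hb => ?_⟩
  · intro h
    apply hχ
    exact LinearMap.congr_fun h 1
  · rw [LinearMap.comp_apply, Submodule.mkQ_apply, (Submodule.Quotient.mk_eq_zero W).2 hb,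
      map_zero]

include hf in
/-- `Hom_A(B, E)` is the hull of the residue field of a finite local `A`-algebra `B` -/
theorem exists_hull_coext [IsNoetherianRing B] :
    ∃ g : ResidueField B →ₗ[B]
      (ModuleCat.coextendScalars (algebraMap A B)).obj (ModuleCat.of A E),
      IsInjectiveHull g := by
  have hEinj := hf.isInjective
  have hH : Module.Injective B
      ((ModuleCat.coextendScalars (algebraMap A B)).obj (ModuleCat.of A E)) :=
    injective_coextendScalars (algebraMap A B) E
  have hpt := isPowerTorsion_coext (B := B) (isPowerTorsion_of_isInjectiveHull f hf)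
  have hform : ∀ g : (ModuleCat.coextendScalars (algebraMap A B)).obj (ModuleCat.of A E),
      (∀ b ∈ maximalIdeal B, b • g = 0) → ∀ b ∈ maximalIdeal B, coextToHom g b = 0 := by
    intro g hg b hb
    have h1 : coextToHom (b • g) 1 = coextToHom g (1 * b) := coextToHom_smul b g 1
    rw [hg b hb, coextToHom_zero, LinearMap.zero_apply, one_mul] at h1
    exact h1.symm
  apply exists_hull_of_socle_simple hH hpt
  rw [isSimpleModule_iff_toSpanSingleton_surjective]
  constructor
  · obtain ⟨φ, hφ0, hφm⟩ := exists_hom_ne_zero_killing (B := B) f hf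
    have hgm : ∀ b ∈ maximalIdeal B, b • coextOfHom φ = 0 := by
      intro b hb
      apply coextToHom_injective
      apply LinearMap.ext
      intro x
      rw [coextToHom_smul, coextToHom_coextOfHom, coextToHom_zero, LinearMap.zero_apply]
      exact hφm _ (Ideal.mul_mem_left _ x hb)
    have hmem : coextOfHom φ ∈ LocCoh.torsionBy (maximalIdeal B)
        ((ModuleCat.coextendScalars (algebraMap A B)).obj (ModuleCat.of A E)) := by
      rw [Submodule.mem_torsionBySet_iff]
      rintro ⟨b, hb⟩
      exact hgm b hb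
    refine ⟨⟨⟨coextOfHom φ, hmem⟩, 0, ?_⟩⟩
    intro h
    apply hφ0
    have h1 : coextOfHom φ = 0 := congrArg Subtype.val h
    rw [← coextToHom_coextOfHom φ, h1, coextToHom_zero]
  · rintro ⟨g, hg⟩ hne ⟨g', hg'⟩
    have hgm : ∀ b ∈ maximalIdeal B, b • g = 0 := fun b hb =>
      (Submodule.mem_torsionBySet_iff _ _).1 hg ⟨b, hb⟩
    have hg'm : ∀ b ∈ maximalIdeal B, b • g' = 0 := fun b hb =>
      (Submodule.mem_torsionBySet_iff _ _).1 hg' ⟨b, hb⟩
    have hg0 : coextToHom g ≠ 0 := by
      intro h
      apply hne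
      have : g = 0 := coextToHom_injective (by rw [h, coextToHom_zero])
      exact Subtype.ext this
    obtain ⟨b, hb⟩ := exists_mul_right_eq_hom f hf (coextToHom g) (coextToHom g')
      (hform g hgm) (hform g' hg'm) hg0
    refine ⟨b, Subtype.ext ?_⟩
    apply coextToHom_injective
    apply LinearMap.ext
    intro x
    change coextToHom (b • g) x = coextToHom g' x
    rw [coextToHom_smul, hb]

end CoextHull

end Groth.Agent.Lib.Helper25
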