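import Groth.Agent.Lib.Helper25.BlowUpIntegral

/-!
# Scheme-theoretic density and blowing ups
-/

set_option autoImplicit false
universe u
open CategoryTheory CategoryTheory.Limits AlgebraicGeometry TopologicalSpace

namespace Groth.Agent.Lib.Helper25.BlowUpUP

variable {X : Scheme.{u}}

/-- The open complement of an effective Cartier divisor is scheme-theoretically dense. -/
theorem isSchemeTheoreticallyDominant_ι_complSupport (𝓙 : X.IdealSheafData)
    (h : BlowUp.IsEffCartierIdeal 𝓙) : IsSchemeTheoreticallyDominant (complSupport 𝓙).ι := by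
  rw [isSchemeTheoreticallyDominant_iff]
  -- affine opens on which the ideal is generated by a nonzerodivisor
  let S : Type u := {V : X.affineOpens // ∃ t : Γ(X, V.1), t ∈ nonZeroDivisors Γ(X, V.1) ∧
    𝓙.ideal V = Ideal.span {t}}
  have hcov : ⨆ i : S, (i.1 : X.affineOpens).1 = ⊤ := by
    rw [eq_top_iff]
    intro x _
    obtain ⟨V, hxV, t, ht, hI⟩ := h x
    exact Opens.mem_iSup.mpr ⟨⟨V, t, ht, hI⟩, hxV⟩
  refine Scheme.IdealSheafData.ext_of_iSup_eq_top (fun i : S => i.1) hcov ?_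
  rintro ⟨V, t, ht, hI⟩
  rw [Scheme.IdealSheafData.ideal_bot, Pi.bot_apply, eq_bot_iff]
  refine (Scheme.Hom.ideal_ker_le _ V).trans ?_
  intro s hs
  rw [RingHom.mem_ker] at hs
  rw [Ideal.mem_bot]
  apply res_basicOpen_injective V.2 t ht
  rw [map_zero]
  have hle : X.basicOpen t ≤ (complSupport 𝓙).ι ''ᵁ ((complSupport 𝓙).ι ⁻¹ᵁ V.1) := by
    intro y hy
    have hy1 : y ∉ 𝓙.support := notMem_support_of_mem_basicOpen 𝓙 V t hI y hy
    exact ⟨⟨y, hy1⟩, X.basicOpen_le t hy, rfl⟩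
  have himg : (complSupport 𝓙).ι ''ᵁ ((complSupport 𝓙).ι ⁻¹ᵁ V.1) ≤ V.1 :=
    Set.image_preimage_subset _ _
  have hs' : (X.presheaf.map (homOfLE himg).op).hom s = 0 := hs
  have h1 : X.presheaf.map (homOfLE (X.basicOpen_le t)).op =
      X.presheaf.map (homOfLE himg).op ≫ X.presheaf.map (homOfLE hle).op := by
    rw [← Functor.map_comp]; rfl
  rw [h1, CommRingCat.comp_apply, hs', map_zero]

theorem complSupport_comap {Y : Scheme.{u}} (𝓘 : X.IdealSheafData) (f : Y ⟶ X) :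
    complSupport (𝓘.comap f) = f ⁻¹ᵁ complSupport 𝓘 := by
  ext y
  change y ∉ (𝓘.comap f).support ↔ f y ∉ 𝓘.support
  rw [Scheme.IdealSheafData.support_comap]
  rfl

/-- The preimage under a blowing up of a scheme-theoretically dense quasi-compact open
disjoint from the centre is scheme-theoretically dense. -/
theorem isSchemeTheoreticallyDominant_preimage_of_isBlowUp {X' : Scheme.{u}}
    (U : X.Opens) [IsSchemeTheoreticallyDominant U.ι] [QuasiCompact U.ι]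
    (𝓘 : X.IdealSheafData) (hU : Disjoint (𝓘.support : Set X) (U : Set X)) (π : X' ⟶ X)
    (hπ : BlowUp.IsBlowUp π 𝓘) : IsSchemeTheoreticallyDominant (π ⁻¹ᵁ U).ι := by
  set W : X.Opens := complSupport 𝓘 with hW
  have hUW : U ≤ W := fun x hx hxs => Set.disjoint_left.1 hU hxs hx
  have h1 : IsSchemeTheoreticallyDominant (π ⁻¹ᵁ W).ι := by
    have := isSchemeTheoreticallyDominant_ι_complSupport (𝓘.comap π) hπ.1
    rw [complSupport_comap] at this
    exact this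
  have hiso : IsIso (π ∣_ W) := isIso_restrict_compl_support 𝓘 π hπ
  set g : (π ⁻¹ᵁ W).toScheme ⟶ X := (π ⁻¹ᵁ W).ι ≫ π with hg
  have hg' : g = (π ∣_ W) ≫ W.ι := (morphismRestrict_ι π W).symm
  have hgo : IsOpenImmersion g := by rw [hg']; infer_instance
  have h2 : IsSchemeTheoreticallyDominant (g ⁻¹ᵁ U).ι :=
    IsSchemeTheoreticallyDominant.of_isPullback (isPullback_morphismRestrict g U)
  have h3 : IsSchemeTheoreticallyDominant ((g ⁻¹ᵁ U).ι ≫ (π ⁻¹ᵁ W).ι) := inferInstance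
  have hrange : Set.range (π ⁻¹ᵁ U).ι = Set.range ((g ⁻¹ᵁ U).ι ≫ (π ⁻¹ᵁ W).ι) := by
    rw [Scheme.Opens.range_ι]
    ext x'
    constructor
    · intro hx'
      have hx'W : x' ∈ π ⁻¹ᵁ W := hUW hx'
      exact ⟨⟨⟨x', hx'W⟩, hx'⟩, rfl⟩
    · rintro ⟨⟨⟨y, hyW⟩, hyU⟩, rfl⟩
      exact hyU
  have h4 : (π ⁻¹ᵁ U).ι = (IsOpenImmersion.isoOfRangeEq (π ⁻¹ᵁ U).ι
      ((g ⁻¹ᵁ U).ι ≫ (π ⁻¹ᵁ W).ι) hrange).hom ≫ ((g ⁻¹ᵁ U).ι ≫ (π ⁻¹ᵁ W).ι) :=
    (IsOpenImmersion.isoOfRangeEq_hom_fac _ _ _).symm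
  rw [h4]
  infer_instance

end Groth.Agent.Lib.Helper25.BlowUpUP
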