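import Groth.Prelude.Def_Rees
import Mathlib

/-!
# The degree-zero localizations of the Rees algebra (charts of the blowing up)

For an ideal `I` of `A` and `a ∈ I`, the ring `Away (Rees.deg (reesAlgebra I)) (aX)` is the affine
blow-up algebra: `a` becomes a nonzerodivisor generating the extension of `I`, and it is universal
for this property.
-/

set_option autoImplicit false

namespace Groth.Agent.Lib.Helper25.ReesAway

open Polynomial HomogeneousLocalization

universe u
variable {A : Type u} [CommRing A] (I : Ideal A)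

/-- The element `aX` of degree one of the Rees algebra. -/
noncomputable def tilde (a : A) (ha : a ∈ I) : reesAlgebra I :=
  ⟨monomial 1 a, reesAlgebra.monomial_mem.2 (by simpa using ha)⟩

lemma tilde_mem (a : A) (ha : a ∈ I) : tilde I a ha ∈ Rees.deg (reesAlgebra I) 1 := by
  intro m hm
  change (monomial 1 a).coeff m = 0
  rw [coeff_monomial, if_neg]
  exact fun h => hm h.symm

/-- The structure map `A → (R_{aX})₀`. -/
noncomputable def kap (a : A) (ha : a ∈ I) :
    A →+* Away (Rees.deg (reesAlgebra I)) (tilde I a ha) :=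
  (fromZeroRingHom (Rees.deg (reesAlgebra I)) _).comp
    (algebraMap A ↥(Rees.deg (reesAlgebra I) 0))

lemma val_kap (a : A) (ha : a ∈ I) (r : A) :
    (kap I a ha r).val =
      algebraMap (reesAlgebra I) (Localization.Away (tilde I a ha)) (algebraMap A _ r) := by
  change Localization.mk _ _ = _
  rw [Localization.mk_eq_mk', IsLocalization.mk'_eq_iff_eq_mul]
  change _ = _ * algebraMap (reesAlgebra I) (Localization.Away (tilde I a ha)) 1
  rw [map_one, mul_one]
  rfl

/-- Elements of degree `n` are the monomials `cXⁿ` with `c ∈ Iⁿ`. -/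
lemma mem_deg_iff' (n : ℕ) (x : reesAlgebra I) :
    x ∈ Rees.deg (reesAlgebra I) n ↔ ∃ c ∈ I ^ n, (x : A[X]) = monomial n c := by
  constructor
  · intro hx
    refine ⟨(x : A[X]).coeff n, x.2 n, ?_⟩
    ext m
    rw [coeff_monomial]
    split_ifs with h
    · rw [h]
    · exact hx m (fun h' => h h'.symm)
  · rintro ⟨c, hc, hx⟩ m hm
    rw [hx, coeff_monomial, if_neg (fun h => hm h.symm)]

/-- The monomial `cXⁿ`, `c ∈ Iⁿ`, as an element of the Rees algebra. -/
noncomputable def mono (n : ℕ) (c : A) (hc : c ∈ I ^ n) : reesAlgebra I :=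
  ⟨monomial n c, reesAlgebra.monomial_mem.2 hc⟩

lemma mono_mem (n : ℕ) (c : A) (hc : c ∈ I ^ n) :
    mono I n c hc ∈ Rees.deg (reesAlgebra I) (n • 1) := by
  rw [smul_eq_mul, mul_one, mem_deg_iff']
  exact ⟨c, hc, rfl⟩

/-- Key relation in the Rees algebra: `aⁿ · cXⁿ = c · (aX)ⁿ`. -/
lemma smul_mono_eq (a : A) (ha : a ∈ I) (n : ℕ) (c : A) (hc : c ∈ I ^ n) :
    algebraMap A (reesAlgebra I) (a ^ n) * mono I n c hc =
      algebraMap A (reesAlgebra I) c * tilde I a ha ^ n := by
  apply Subtype.ext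
  change C (a ^ n) * monomial n c = C c * (monomial 1 a) ^ n
  rw [monomial_pow, C_mul_monomial, C_mul_monomial, one_mul, mul_comm]

/-- The fraction `cXⁿ/(aX)ⁿ`. -/
noncomputable def frac (a : A) (ha : a ∈ I) (n : ℕ) (c : A) (hc : c ∈ I ^ n) :
    Away (Rees.deg (reesAlgebra I)) (tilde I a ha) :=
  Away.mk (Rees.deg (reesAlgebra I)) (tilde_mem I a ha) n (mono I n c hc) (mono_mem I n c hc)

lemma frac_surjective (a : A) (ha : a ∈ I)
    (z : Away (Rees.deg (reesAlgebra I)) (tilde I a ha)) :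
    ∃ n c hc, frac I a ha n c hc = z := by
  obtain ⟨n, x, hx, rfl⟩ := Away.mk_surjective (Rees.deg (reesAlgebra I)) (tilde_mem I a ha) z
  have hx' := hx
  rw [smul_eq_mul, mul_one, mem_deg_iff'] at hx'
  obtain ⟨c, hc, hxc⟩ := hx'
  refine ⟨n, c, hc, ?_⟩
  have : mono I n c hc = x := Subtype.ext hxc.symm
  subst this
  rfl

/-- `aⁿ · (cXⁿ/(aX)ⁿ) = c` in the chart. -/
lemma kap_pow_mul_frac (a : A) (ha : a ∈ I) (n : ℕ) (c : A) (hc : c ∈ I ^ n) :
    kap I a ha a ^ n * frac I a ha n c hc = kap I a ha c := by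
  apply HomogeneousLocalization.val_injective
  rw [val_mul, val_pow, val_kap, val_kap, frac, Away.val_mk, Localization.mk_eq_mk', ← map_pow,
    ← map_pow, IsLocalization.mul_mk'_eq_mk'_of_mul, IsLocalization.mk'_eq_iff_eq_mul,
    smul_mono_eq I a ha n c hc, map_mul]

/-- (F1) The extension of `I` to the chart is generated by `a`. -/
lemma map_kap_eq_span (a : A) (ha : a ∈ I) :
    I.map (kap I a ha) = Ideal.span {kap I a ha a} := by
  apply le_antisymm
  · rw [Ideal.map_le_iff_le_comap]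
    intro x hx
    rw [Ideal.mem_comap, Ideal.mem_span_singleton]
    have hx1 : x ∈ I ^ 1 := by simpa using hx
    refine ⟨frac I a ha 1 x hx1, ?_⟩
    exact ((kap_pow_mul_frac I a ha 1 x hx1).symm.trans
      (congrArg (· * frac I a ha 1 x hx1) (pow_one (kap I a ha a))))
  · rw [Ideal.span_le, Set.singleton_subset_iff]
    exact Ideal.mem_map_of_mem _ ha

lemma tilde_pow_mul_eq (a : A) (ha : a ∈ I) (m : ℕ) (x : reesAlgebra I) :
    ((tilde I a ha ^ m * x : reesAlgebra I) : A[X]) = X ^ m * (C (a ^ m) * (x : A[X])) := by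
  change (monomial 1 a) ^ m * (x : A[X]) = _
  rw [monomial_pow, one_mul, ← C_mul_X_pow_eq_monomial]
  ring

/-- (F2) `a` is a nonzerodivisor of the chart. -/
lemma kap_mem_nonZeroDivisors (a : A) (ha : a ∈ I) :
    kap I a ha a ∈ nonZeroDivisors (Away (Rees.deg (reesAlgebra I)) (tilde I a ha)) := by
  refine (mem_nonZeroDivisors_iff_right (r := kap I a ha a)).2 (fun z hz => ?_)
  apply HomogeneousLocalization.val_injective
  have hz' := congrArg HomogeneousLocalization.val hz
  rw [val_mul, val_kap, val_zero] at hz'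
  rw [val_zero]
  obtain ⟨⟨x, s⟩, hx⟩ := IsLocalization.mk'_surjective (Submonoid.powers (tilde I a ha)) z.val
  dsimp only at hx
  rw [← hx] at hz' ⊢
  rw [mul_comm, IsLocalization.mul_mk'_eq_mk'_of_mul,
    IsLocalization.mk'_eq_zero_iff] at hz'
  obtain ⟨⟨_, k, rfl⟩, hk⟩ := hz'
  rw [IsLocalization.mk'_eq_zero_iff]
  refine ⟨⟨tilde I a ha ^ (k + 1), k + 1, rfl⟩, ?_⟩
  apply Subtype.ext
  have hk' := congrArg (Subtype.val : reesAlgebra I → A[X]) hk
  change ((tilde I a ha ^ k * (algebraMap A (reesAlgebra I) a * x) : reesAlgebra I) : A[X]) =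
    ((0 : reesAlgebra I) : A[X]) at hk'
  rw [tilde_pow_mul_eq] at hk'
  change ((tilde I a ha ^ (k + 1) * x : reesAlgebra I) : A[X]) = ((0 : reesAlgebra I) : A[X])
  rw [tilde_pow_mul_eq]
  have h1 : X ^ k * (C (a ^ (k + 1)) * (x : A[X])) = 0 := by
    have e0 : (((0 : reesAlgebra I)) : A[X]) = 0 := rfl
    have e1 : ((algebraMap A (reesAlgebra I) a * x : reesAlgebra I) : A[X]) = C a * (x : A[X]) :=
      rfl
    rw [e0, e1] at hk'
    rw [← hk', pow_succ, C_mul]
    ring
  have h2 : C (a ^ (k + 1)) * (x : A[X]) = 0 := by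
    have := (Polynomial.isRegular_X_pow (R := A) k).left
    exact this (h1.trans (mul_zero _).symm)
  rw [h2, mul_zero]
  rfl

/-- (F4) Ring homomorphisms out of the chart are determined by their restriction to `A`, provided
`a` goes to a nonzerodivisor. -/
lemma hom_ext_of_comp_kap {B : Type*} [CommRing B] (a : A) (ha : a ∈ I)
    (ψ₁ ψ₂ : Away (Rees.deg (reesAlgebra I)) (tilde I a ha) →+* B)
    (h : ψ₁.comp (kap I a ha) = ψ₂.comp (kap I a ha))
    (hnzd : ψ₁ (kap I a ha a) ∈ nonZeroDivisors B) : ψ₁ = ψ₂ := by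
  ext z
  obtain ⟨n, c, hc, rfl⟩ := frac_surjective I a ha z
  have h1 : ψ₁ (kap I a ha a) ^ n * ψ₁ (frac I a ha n c hc) = ψ₁ (kap I a ha c) := by
    rw [← map_pow, ← map_mul]
    exact congrArg ψ₁ (kap_pow_mul_frac I a ha n c hc)
  have h2 : ψ₂ (kap I a ha a) ^ n * ψ₂ (frac I a ha n c hc) = ψ₂ (kap I a ha c) := by
    rw [← map_pow, ← map_mul]
    exact congrArg ψ₂ (kap_pow_mul_frac I a ha n c hc)
  have e1 : ∀ r, ψ₂ (kap I a ha r) = ψ₁ (kap I a ha r) := fun r => (RingHom.congr_fun h r).symm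
  rw [e1, e1] at h2
  have h3 : ψ₁ (kap I a ha a) ^ n * (ψ₁ (frac I a ha n c hc) - ψ₂ (frac I a ha n c hc)) = 0 := by
    rw [mul_sub, h1, h2, sub_self]
  have h4 := (mem_nonZeroDivisors_iff.1 (pow_mem hnzd n)).1 _ h3
  exact sub_eq_zero.1 h4

/-- (F5) In the chart of `b`, `a = (aX/bX) · b`. -/
lemma kap_eq_isLocalizationElem_mul (a b : A) (ha : a ∈ I) (hb : b ∈ I) :
    kap I b hb a =
      Away.isLocalizationElem (tilde_mem I b hb) (tilde_mem I a ha) * kap I b hb b := by
  have h1 : Away.isLocalizationElem (tilde_mem I b hb) (tilde_mem I a ha) =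
      frac I b hb 1 a (by simpa using ha) := by
    apply HomogeneousLocalization.val_injective
    rw [frac, Away.val_mk, Away.val_mk]
    congr 1
    apply Subtype.ext
    change ((tilde I a ha ^ 1 : reesAlgebra I) : A[X]) = monomial 1 a
    rw [pow_one]
    rfl
  have ha1 : a ∈ I ^ 1 := by simpa using ha
  rw [h1]
  calc kap I b hb a = kap I b hb b ^ 1 * frac I b hb 1 a ha1 :=
        (kap_pow_mul_frac I b hb 1 a ha1).symm
    _ = kap I b hb b * frac I b hb 1 a ha1 :=
        congrArg (· * frac I b hb 1 a ha1) (pow_one (kap I b hb b))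
    _ = frac I b hb 1 a ha1 * kap I b hb b := mul_comm (kap I b hb b) (frac I b hb 1 a ha1)

section Lift

variable {B : Type*} [CommRing B] (φ : A →+* B)

lemma pow_dvd_of_mem_pow (a : A) (hI : ∀ x ∈ I, φ a ∣ φ x) (n : ℕ) (c : A) (hc : c ∈ I ^ n) :
    φ a ^ n ∣ φ c := by
  have h1 : I.map φ ≤ Ideal.span {φ a} := by
    rw [Ideal.map_le_iff_le_comap]
    intro x hx
    rw [Ideal.mem_comap, Ideal.mem_span_singleton]
    exact hI x hx
  have h2 : φ c ∈ (I.map φ) ^ n := by
    rw [← Ideal.map_pow]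
    exact Ideal.mem_map_of_mem _ hc
  have h3 := Ideal.pow_right_mono h1 n h2
  rwa [Ideal.span_singleton_pow, Ideal.mem_span_singleton] at h3

/-- The evaluation `R → B[1/φ a]`, `X ↦ 1/φ a`. -/
noncomputable def evalLoc (a : A) : reesAlgebra I →+* Localization.Away (φ a) :=
  (Polynomial.eval₂RingHom ((algebraMap B (Localization.Away (φ a))).comp φ)
    (IsLocalization.Away.invSelf (φ a))).comp (reesAlgebra I).val.toRingHom

lemma evalLoc_mono (a : A) (n : ℕ) (c : A) (hc : c ∈ I ^ n) :
    evalLoc I φ a (mono I n c hc) =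
      algebraMap B (Localization.Away (φ a)) (φ c) * IsLocalization.Away.invSelf (φ a) ^ n := by
  change Polynomial.eval₂ _ _ (monomial n c) = _
  rw [eval₂_monomial]
  rfl

lemma evalLoc_tilde (a : A) (ha : a ∈ I) : evalLoc I φ a (tilde I a ha) = 1 := by
  change Polynomial.eval₂ _ _ (monomial 1 a) = _
  rw [eval₂_monomial, pow_one]
  exact IsLocalization.Away.mul_invSelf (φ a)

lemma evalLoc_algebraMap (a : A) (r : A) :
    evalLoc I φ a (algebraMap A (reesAlgebra I) r) =
      algebraMap B (Localization.Away (φ a)) (φ r) := by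
  change Polynomial.eval₂ _ _ (C r) = _
  rw [eval₂_C]
  rfl

/-- (F3) Existence of the lift to the chart. -/
theorem exists_lift (a : A) (ha : a ∈ I) (hnzd : φ a ∈ nonZeroDivisors B)
    (hI : ∀ x ∈ I, φ a ∣ φ x) :
    ∃ ψ : Away (Rees.deg (reesAlgebra I)) (tilde I a ha) →+* B, ψ.comp (kap I a ha) = φ := by
  let ι := algebraMap B (Localization.Away (φ a))
  have hι : Function.Injective ι :=
    IsLocalization.injective (M := Submonoid.powers (φ a)) _ ((Submonoid.powers_le).2 hnzd)
  have hu : IsUnit (evalLoc I φ a (tilde I a ha)) := by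
    rw [evalLoc_tilde]; exact isUnit_one
  let ρ' : Localization.Away (tilde I a ha) →+* Localization.Away (φ a) :=
    IsLocalization.Away.lift (tilde I a ha) hu
  let ψ' : Away (Rees.deg (reesAlgebra I)) (tilde I a ha) →+* Localization.Away (φ a) :=
    ρ'.comp (algebraMap _ (Localization.Away (tilde I a ha)))
  have hrange : ∀ z, ψ' z ∈ ι.range := by
    intro z
    obtain ⟨n, c, hc, rfl⟩ := frac_surjective I a ha z
    obtain ⟨b, hb⟩ := pow_dvd_of_mem_pow I φ a hI n c hc
    refine ⟨b, ?_⟩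
    change ι b = ρ' (frac I a ha n c hc).val
    rw [frac, Away.val_mk, Localization.mk_eq_mk']
    symm
    change IsLocalization.Away.lift (tilde I a ha) hu _ = _
    unfold IsLocalization.Away.lift
    rw [IsLocalization.lift_mk'_spec]
    change evalLoc I φ a (mono I n c hc) = evalLoc I φ a (tilde I a ha ^ n) * ι b
    rw [evalLoc_mono, map_pow, evalLoc_tilde, one_pow, one_mul, hb, map_mul, map_pow,
      mul_right_comm, ← mul_pow, IsLocalization.Away.mul_invSelf, one_pow, one_mul]
  let e : B ≃+* ι.range := RingEquiv.ofBijective ι.rangeRestrict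
    ⟨fun x y hxy => hι (congrArg Subtype.val hxy), ι.rangeRestrict_surjective⟩
  let ψ : Away (Rees.deg (reesAlgebra I)) (tilde I a ha) →+* B :=
    e.symm.toRingHom.comp (ψ'.codRestrict ι.range hrange)
  have hψ : ∀ z, ι (ψ z) = ψ' z := by
    intro z
    have h1 : e (ψ z) = ψ'.codRestrict ι.range hrange z := e.apply_symm_apply _
    exact congrArg Subtype.val h1
  refine ⟨ψ, ?_⟩
  ext r
  apply hι
  rw [RingHom.comp_apply, hψ]
  change ρ' (kap I a ha r).val = ι (φ r)
  rw [val_kap]
  change IsLocalization.Away.lift (tilde I a ha) hu (algebraMap _ _ _) = _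
  rw [IsLocalization.Away.lift_eq, evalLoc_algebraMap]

end Lift

end Groth.Agent.Lib.Helper25.ReesAway
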