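import Groth.Agent.Lib.Helper25.BlowUpAffine
import Groth.Agent.Lib.Helper25.ReesAway
import Groth.Prelude.Def_ega3

/-!
# `Proj` of the Rees algebra is the blowing up (affine case)
-/

set_option autoImplicit false
universe u
open CategoryTheory CategoryTheory.Limits AlgebraicGeometry TopologicalSpace
open HomogeneousLocalization

namespace Groth.Agent.Lib.Helper25.ProjRees

open Groth.Agent.Lib.Helper25.ReesAway Groth.Agent.Lib.Helper25.BlowUpUP

variable {A : Type u} [CommRing A] (I : Ideal A)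

/-- The structure morphism `Proj R(I) ⟶ Spec A`. -/
noncomputable abbrev proj : Proj (Rees.deg (reesAlgebra I)) ⟶ Spec (CommRingCat.of A) :=
  Proj (Rees.deg (reesAlgebra I)) ↘ Spec (CommRingCat.of A)

/-- The chart `Spec (R(I)_(aX))₀ ⟶ Proj R(I)`. -/
noncomputable abbrev chart (a : A) (ha : a ∈ I) :
    Spec (CommRingCat.of (Away (Rees.deg (reesAlgebra I)) (tilde I a ha))) ⟶
      Proj (Rees.deg (reesAlgebra I)) :=
  Proj.awayι (Rees.deg (reesAlgebra I)) (tilde I a ha) (tilde_mem I a ha) one_pos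

theorem chart_proj (a : A) (ha : a ∈ I) :
    chart I a ha ≫ proj I = Spec.map (CommRingCat.ofHom (kap I a ha)) := by
  change Proj.awayι _ _ _ _ ≫ Proj.toSpecZero _ ≫ Spec.map _ = _
  rw [Proj.awayι_toSpecZero_assoc, ← Spec.map_comp]
  rfl

theorem mono_mem_span (n : ℕ) (r : A) (hr : r ∈ I ^ (n + 1)) :
    mono I (n + 1) r hr ∈ Ideal.span (Set.range fun a : I => tilde I a.1 a.2) := by
  have key : ∀ r ∈ I ^ n * I, ∃ h : r ∈ I ^ (n + 1),
      mono I (n + 1) r h ∈ Ideal.span (Set.range fun a : I => tilde I a.1 a.2) := by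
    intro r hr
    refine Submodule.mul_induction_on hr ?_ ?_
    · intro s hs t ht
      have hst : s * t ∈ I ^ (n + 1) := by rw [pow_succ]; exact Ideal.mul_mem_mul hs ht
      refine ⟨hst, ?_⟩
      have : mono I (n + 1) (s * t) hst = mono I n s hs * tilde I t ht := by
        apply Subtype.ext
        change Polynomial.monomial (n + 1) (s * t) =
          Polynomial.monomial n s * Polynomial.monomial 1 t
        rw [Polynomial.monomial_mul_monomial]
      rw [this]
      exact Ideal.mul_mem_left _ _ (Ideal.subset_span ⟨⟨t, ht⟩, rfl⟩)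
    · rintro x y ⟨hx, hx'⟩ ⟨hy, hy'⟩
      refine ⟨add_mem hx hy, ?_⟩
      have : mono I (n + 1) (x + y) (add_mem hx hy) = mono I (n + 1) x hx + mono I (n + 1) y hy := by
        apply Subtype.ext
        change Polynomial.monomial (n + 1) (x + y) =
          Polynomial.monomial (n + 1) x + Polynomial.monomial (n + 1) y
        rw [map_add]
      rw [this]
      exact add_mem hx' hy'
  obtain ⟨_, h⟩ := key r (by rw [← pow_succ]; exact hr)
  exact h

theorem irrelevant_le_span :
    (HomogeneousIdeal.irrelevant (Rees.deg (reesAlgebra I))).toIdeal ≤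
      Ideal.span (Set.range fun a : I => tilde I a.1 a.2) := by
  classical
  intro z hz
  rw [← DirectSum.sum_support_decompose (Rees.deg (reesAlgebra I)) z]
  refine Ideal.sum_mem _ fun c hc => ?_
  by_cases hc0 : c = 0
  · subst hc0
    have : ((DirectSum.decompose (Rees.deg (reesAlgebra I)) z 0 : Rees.deg (reesAlgebra I) 0) :
        reesAlgebra I) = 0 := hz
    rw [this]
    exact Ideal.zero_mem _
  · obtain ⟨n, rfl⟩ := Nat.exists_eq_succ_of_ne_zero hc0
    obtain ⟨r, hr, hval⟩ := (mem_deg_iff' I (n + 1) _).1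
      (DirectSum.decompose (Rees.deg (reesAlgebra I)) z (n + 1)).2
    have : ((DirectSum.decompose (Rees.deg (reesAlgebra I)) z (n + 1) :
        Rees.deg (reesAlgebra I) (n + 1)) : reesAlgebra I) = mono I (n + 1) r hr :=
      Subtype.ext hval
    rw [this]
    exact mono_mem_span I n r hr

theorem exists_mem_basicOpen (x : Proj (Rees.deg (reesAlgebra I))) :
    ∃ (a : A) (ha : a ∈ I), x ∈ Proj.basicOpen (Rees.deg (reesAlgebra I)) (tilde I a ha) := by
  have h := Proj.iSup_basicOpen_eq_top (Rees.deg (reesAlgebra I))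
    (fun a : I => tilde I a.1 a.2) (irrelevant_le_span I)
  have hx : x ∈ (⊤ : (Proj (Rees.deg (reesAlgebra I))).Opens) := trivial
  rw [← h] at hx
  obtain ⟨a, ha⟩ := Opens.mem_iSup.1 hx
  exact ⟨a.1, a.2, ha⟩

theorem range_chart (a : A) (ha : a ∈ I) :
    Set.range (chart I a ha) =
      (Proj.basicOpen (Rees.deg (reesAlgebra I)) (tilde I a ha) : Set _) := by
  have := Proj.opensRange_awayι (Rees.deg (reesAlgebra I)) (tilde I a ha) (tilde_mem I a ha) one_pos
  exact congrArg (fun U : (Proj (Rees.deg (reesAlgebra I))).Opens =>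
    (U : Set (Proj (Rees.deg (reesAlgebra I))))) this

/-- (P3) the inverse image of `I` on `Proj R(I)` is effective Cartier. -/
theorem isEffCartierIdeal_comap_proj :
    BlowUp.IsEffCartierIdeal ((specIdeal I).comap (proj I)) := by
  refine isEffCartierIdeal_of_forall_openImmersion _ fun x => ?_
  obtain ⟨a, ha, hx⟩ := exists_mem_basicOpen I x
  refine ⟨_, chart I a ha, inferInstance, ?_, ?_⟩
  · rw [range_chart]; exact hx
  · rw [← Scheme.IdealSheafData.comap_comp, chart_proj]
    exact isEffCartierIdeal_specIdeal_comap I (kap I a ha) a (map_kap_eq_span I a ha)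
      (kap_mem_nonZeroDivisors I a ha)

/-- (P5b) existence of a lift on an affine test scheme on which the image of one element of `I`
generates the inverse image ideal and is a nonzerodivisor. -/
theorem exists_lift_spec {B : Type u} [CommRing B] (φ : A →+* B) (a : A) (ha : a ∈ I)
    (hnzd : φ a ∈ nonZeroDivisors B) (hI : I.map φ = Ideal.span {φ a}) :
    ∃ k : Spec (CommRingCat.of B) ⟶ Proj (Rees.deg (reesAlgebra I)),
      k ≫ proj I = Spec.map (CommRingCat.ofHom φ) := by
  have hdvd : ∀ x ∈ I, φ a ∣ φ x := fun x hx =>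
    Ideal.mem_span_singleton.1 (hI ▸ Ideal.mem_map_of_mem φ hx)
  obtain ⟨ψ, hψ⟩ := exists_lift I φ a ha hnzd hdvd
  refine ⟨Spec.map (CommRingCat.ofHom ψ) ≫ chart I a ha, ?_⟩
  rw [Category.assoc, chart_proj, ← Spec.map_comp, ← CommRingCat.ofHom_comp, hψ]

/-- (U0) a morphism from an affine scheme landing in a chart factors through it. -/
theorem exists_factor_chart {B : Type u} [CommRing B]
    (h : Spec (CommRingCat.of B) ⟶ Proj (Rees.deg (reesAlgebra I))) (a : A) (ha : a ∈ I)
    (hr : ∀ z, h z ∈ Proj.basicOpen (Rees.deg (reesAlgebra I)) (tilde I a ha)) :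
    ∃ ψ : Away (Rees.deg (reesAlgebra I)) (tilde I a ha) →+* B,
      h = Spec.map (CommRingCat.ofHom ψ) ≫ chart I a ha := by
  have hrange : Set.range h ⊆ Set.range (chart I a ha) := by
    rw [range_chart]; rintro _ ⟨z, rfl⟩; exact hr z
  obtain ⟨ψ, hψ⟩ := Spec.map_surjective (IsOpenImmersion.lift (chart I a ha) h hrange)
  refine ⟨ψ.hom, ?_⟩
  rw [show CommRingCat.ofHom ψ.hom = ψ from rfl, hψ, IsOpenImmersion.lift_fac]

theorem comp_kap_of_factor {B : Type u} [CommRing B] (φ : A →+* B) (a : A) (ha : a ∈ I)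
    (ψ : Away (Rees.deg (reesAlgebra I)) (tilde I a ha) →+* B)
    (hπ : (Spec.map (CommRingCat.ofHom ψ) ≫ chart I a ha) ≫ proj I =
      Spec.map (CommRingCat.ofHom φ)) : ψ.comp (kap I a ha) = φ := by
  rw [Category.assoc, chart_proj, ← Spec.map_comp] at hπ
  have := Spec.map_injective hπ
  exact congrArg CommRingCat.Hom.hom this

/-- (U1) uniqueness of lifts inside one chart. -/
theorem eq_of_mem_chart {B : Type u} [CommRing B] (φ : A →+* B) (a : A) (ha : a ∈ I)
    (hnzd : φ a ∈ nonZeroDivisors B)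
    (h h' : Spec (CommRingCat.of B) ⟶ Proj (Rees.deg (reesAlgebra I)))
    (hr : ∀ z, h z ∈ Proj.basicOpen (Rees.deg (reesAlgebra I)) (tilde I a ha))
    (hr' : ∀ z, h' z ∈ Proj.basicOpen (Rees.deg (reesAlgebra I)) (tilde I a ha))
    (hπ : h ≫ proj I = Spec.map (CommRingCat.ofHom φ))
    (hπ' : h' ≫ proj I = Spec.map (CommRingCat.ofHom φ)) : h = h' := by
  obtain ⟨ψ, rfl⟩ := exists_factor_chart I h a ha hr
  obtain ⟨ψ', rfl⟩ := exists_factor_chart I h' a ha hr'
  have h1 := comp_kap_of_factor I φ a ha ψ hπ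
  have h2 := comp_kap_of_factor I φ a ha ψ' hπ'
  have : ψ = ψ' := by
    refine hom_ext_of_comp_kap I a ha ψ ψ' (h1.trans h2.symm) ?_
    have : ψ (kap I a ha a) = φ a := by rw [← h1]; rfl
    rw [this]; exact hnzd
  rw [this]

/-- (U2) chart switching: a lift landing in the chart of `b` lands in the chart of any `a`
whose image generates the inverse image ideal. -/
theorem mem_basicOpen_of_generator {B : Type u} [CommRing B] (φ : A →+* B) (a : A) (ha : a ∈ I)
    (hnzd : φ a ∈ nonZeroDivisors B) (hI : I.map φ = Ideal.span {φ a}) (b : A) (hb : b ∈ I)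
    (h : Spec (CommRingCat.of B) ⟶ Proj (Rees.deg (reesAlgebra I)))
    (hr : ∀ z, h z ∈ Proj.basicOpen (Rees.deg (reesAlgebra I)) (tilde I b hb))
    (hπ : h ≫ proj I = Spec.map (CommRingCat.ofHom φ)) :
    ∀ z, h z ∈ Proj.basicOpen (Rees.deg (reesAlgebra I)) (tilde I a ha) := by
  obtain ⟨ψ, rfl⟩ := exists_factor_chart I h b hb hr
  have h1 := comp_kap_of_factor I φ b hb ψ hπ
  set e := Away.isLocalizationElem (tilde_mem I b hb) (tilde_mem I a ha) with he
  have hF5 : kap I b hb a = e * kap I b hb b := kap_eq_isLocalizationElem_mul I a b ha hb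
  have hφa : φ a = ψ e * φ b := by
    have := congrArg ψ hF5
    rw [map_mul] at this
    have e1 : ψ (kap I b hb a) = φ a := by rw [← h1]; rfl
    have e2 : ψ (kap I b hb b) = φ b := by rw [← h1]; rfl
    rw [e1, e2] at this
    exact this
  obtain ⟨d, hd⟩ : φ a ∣ φ b :=
    Ideal.mem_span_singleton.1 (hI ▸ Ideal.mem_map_of_mem φ hb)
  have hunit : IsUnit (ψ e) := by
    have h2 : (ψ e * d - 1) * φ a = 0 := by
      rw [sub_mul, one_mul, mul_assoc, mul_comm d, ← hd, ← hφa, sub_self]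
    have h3 := (mem_nonZeroDivisors_iff_right.1 hnzd) _ h2
    exact IsUnit.of_mul_eq_one d (sub_eq_zero.1 h3)
  intro z
  have hz : Spec.map (CommRingCat.ofHom ψ) z ∈
      chart I b hb ⁻¹ᵁ Proj.basicOpen (Rees.deg (reesAlgebra I)) (tilde I a ha) := by
    rw [Proj.awayι_preimage_basicOpen (Rees.deg (reesAlgebra I)) (tilde_mem I b hb) one_pos
      (tilde_mem I a ha) one_pos]
    rw [Spec.map_apply]
    change e ∉ Ideal.comap ψ z.asIdeal
    rw [Ideal.mem_comap]
    intro hmem
    exact z.isPrime.ne_top (Ideal.eq_top_of_isUnit_mem _ hmem hunit)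
  exact hz

/-- (P4) uniqueness of lifts through `Proj R(I)`. -/
theorem eq_of_comp_proj_eq {Y : Scheme.{u}} (h h' : Y ⟶ Proj (Rees.deg (reesAlgebra I)))
    (heq : h ≫ proj I = h' ≫ proj I)
    (hE : BlowUp.IsEffCartierIdeal ((specIdeal I).comap (h ≫ proj I))) : h = h' := by
  refine hom_ext_of_forall_fromSpec h h' fun y => ?_
  obtain ⟨a, ha, hya⟩ := exists_mem_basicOpen I (h y)
  obtain ⟨b, hb, hyb⟩ := exists_mem_basicOpen I (h' y)
  set W : Y.Opens := h ⁻¹ᵁ Proj.basicOpen (Rees.deg (reesAlgebra I)) (tilde I a ha) ⊓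
    h' ⁻¹ᵁ Proj.basicOpen (Rees.deg (reesAlgebra I)) (tilde I b hb) with hW
  have hyW : y ∈ W := ⟨hya, hyb⟩
  obtain ⟨V, hyV, hVW, c, hc, hnzd, hIc⟩ := exists_affine_generator I (h ≫ proj I) hE y W hyW
  refine ⟨V.1, V.2, hyV, ?_⟩
  have hmemV : ∀ z, V.2.fromSpec z ∈ V.1 := by
    intro z
    have : V.2.fromSpec z ∈ Set.range V.2.fromSpec := ⟨z, rfl⟩
    rw [V.2.range_fromSpec] at this
    exact this
  have hπ : (V.2.fromSpec ≫ h) ≫ proj I =
      Spec.map (CommRingCat.ofHom (phi (h ≫ proj I) V.1)) := by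
    rw [SpecMap_phi _ V.2, Category.assoc]
  have hπ' : (V.2.fromSpec ≫ h') ≫ proj I =
      Spec.map (CommRingCat.ofHom (phi (h ≫ proj I) V.1)) := by
    rw [SpecMap_phi _ V.2, Category.assoc, heq]
  have hr : ∀ z, (V.2.fromSpec ≫ h) z ∈
      Proj.basicOpen (Rees.deg (reesAlgebra I)) (tilde I a ha) := fun z => (hVW (hmemV z)).1
  have hr' : ∀ z, (V.2.fromSpec ≫ h') z ∈
      Proj.basicOpen (Rees.deg (reesAlgebra I)) (tilde I b hb) := fun z => (hVW (hmemV z)).2
  exact eq_of_mem_chart I (phi (h ≫ proj I) V.1) c hc hnzd _ _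
    (mem_basicOpen_of_generator I _ c hc hnzd hIc a ha _ hr hπ)
    (mem_basicOpen_of_generator I _ c hc hnzd hIc b hb _ hr' hπ') hπ hπ'

/-- Local existence of lifts. -/
theorem exists_local_lift {Y : Scheme.{u}} (g : Y ⟶ Spec (CommRingCat.of A))
    (hg : BlowUp.IsEffCartierIdeal ((specIdeal I).comap g)) (y : Y) :
    ∃ U : Y.Opens, y ∈ U ∧ ∃ k : U.toScheme ⟶ Proj (Rees.deg (reesAlgebra I)),
      k ≫ proj I = U.ι ≫ g := by
  obtain ⟨V, hyV, -, c, hc, hnzd, hIc⟩ := exists_affine_generator I g hg y ⊤ trivial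
  obtain ⟨k₀, hk₀⟩ := exists_lift_spec I (phi g V.1) c hc hnzd hIc
  refine ⟨V.1, hyV, V.2.isoSpec.hom ≫ k₀, ?_⟩
  rw [Category.assoc, hk₀, SpecMap_phi g V.2, ← Category.assoc, V.2.isoSpec_hom_fromSpec]

/-- `Proj` of the Rees algebra is the blowing up. -/
theorem isBlowUp_proj : BlowUp.IsBlowUp (proj I) (specIdeal I) :=
  isBlowUp_of_local (proj I) (specIdeal I) (isEffCartierIdeal_comap_proj I)
    (fun _ h h' heq hE => eq_of_comp_proj_eq I h h' heq hE)
    (fun _ g hg y => exists_local_lift I g hg y)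

end Groth.Agent.Lib.Helper25.ProjRees
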