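import Groth.Agent.Lib.Helper25.BlowUpLocal
import Groth.Agent.Lib.Helper25.ProjRees

/-!
# Existence of blowing ups (gluing the affine blowing ups `Proj` of Rees algebras)
-/

set_option autoImplicit false
universe u
open CategoryTheory CategoryTheory.Limits AlgebraicGeometry TopologicalSpace

namespace Groth.Agent.Lib.Helper25.BlowUpUP

open Groth.Agent.Lib.Helper25.ProjRees

theorem specIdeal_comap_isoSpec_hom (Z : Scheme.{u}) [IsAffine Z] (𝓙 : Z.IdealSheafData) :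
    (specIdeal (𝓙.ideal ⟨⊤, isAffineOpen_top Z⟩)).comap Z.isoSpec.hom = 𝓙 := by
  refine Scheme.IdealSheafData.ext_of_isAffine ?_
  rw [Groth.Agent.Lib.Helper1.ideal_comap _ _ ⟨⊤, isAffineOpen_top _⟩ ⟨⊤, isAffineOpen_top _⟩
    (by rfl : (⊤ : Z.Opens) ≤ _)]
  rw [Scheme.IdealSheafData.ofIdealTop_ideal, Ideal.map_map, Ideal.map_map]
  have e1 : Z.isoSpec.hom.appLE ⊤ ⊤ (by rfl) = (Scheme.ΓSpecIso Γ(Z, ⊤)).hom := by
    rw [← Scheme.toSpecΓ_appTop]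
    exact Scheme.Hom.appLE_eq_app Z.isoSpec.hom (U := ⊤)
  have e2 : (Spec (CommRingCat.of ↑Γ(Z, ⊤))).presheaf.map
      (homOfLE (le_top : (⊤ : (Spec (CommRingCat.of ↑Γ(Z, ⊤))).Opens) ≤ ⊤)).op = 𝟙 _ := by
    rw [show homOfLE (le_top : (⊤ : (Spec (CommRingCat.of ↑Γ(Z, ⊤))).Opens) ≤ ⊤) = 𝟙 _ from
      Subsingleton.elim _ _]
    simp
  convert Ideal.map_id _
  ext x
  simp only [RingHom.comp_apply, RingHom.id_apply]
  change (CommRingCat.Hom.hom (Z.isoSpec.hom.appLE ⊤ ⊤ (by rfl)))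
    ((CommRingCat.Hom.hom ((Spec (CommRingCat.of ↑Γ(Z, ⊤))).presheaf.map
      (homOfLE (le_top : (⊤ : (Spec (CommRingCat.of ↑Γ(Z, ⊤))).Opens) ≤ ⊤)).op)) _) = _
  rw [e1, e2]
  change ((Scheme.ΓSpecIso Γ(Z, ⊤)).inv ≫ (Scheme.ΓSpecIso Γ(Z, ⊤)).hom).hom x = x
  rw [Iso.inv_hom_id]
  rfl

/-- (E1) blowing ups of affine schemes exist. -/
theorem exists_isBlowUp_of_isAffine (Z : Scheme.{u}) [IsAffine Z] (𝓙 : Z.IdealSheafData) :
    ∃ (P : Scheme.{u}) (p : P ⟶ Z), BlowUp.IsBlowUp p 𝓙 := by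
  refine ⟨_, proj (𝓙.ideal ⟨⊤, isAffineOpen_top Z⟩) ≫ Z.isoSpec.inv, ?_⟩
  have := isBlowUp_comp_iso_inv _ _ Z.isoSpec (isBlowUp_proj (𝓙.ideal ⟨⊤, isAffineOpen_top Z⟩))
  rwa [specIdeal_comap_isoSpec_hom] at this

section Glue

variable (X : Scheme.{u}) (𝓘 : X.IdealSheafData)

theorem exists_isBlowUp_affineOpens (U : X.affineOpens) :
    ∃ (P : Scheme.{u}) (p : P ⟶ U.1.toScheme), BlowUp.IsBlowUp p (𝓘.comap U.1.ι) :=
  haveI : IsAffine U.1.toScheme := U.2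
  exists_isBlowUp_of_isAffine U.1.toScheme (𝓘.comap U.1.ι)

/-- The chosen blowing up of the affine open `U`. -/
noncomputable def blP (U : X.affineOpens) : Scheme.{u} :=
  (exists_isBlowUp_affineOpens X 𝓘 U).choose

/-- Its structure morphism. -/
noncomputable def blp (U : X.affineOpens) : blP X 𝓘 U ⟶ U.1.toScheme :=
  (exists_isBlowUp_affineOpens X 𝓘 U).choose_spec.choose

theorem isBlowUp_blp (U : X.affineOpens) : BlowUp.IsBlowUp (blp X 𝓘 U) (𝓘.comap U.1.ι) :=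
  (exists_isBlowUp_affineOpens X 𝓘 U).choose_spec.choose_spec

theorem blp_effCartier {U V : X.affineOpens} (h : U ≤ V) :
    BlowUp.IsEffCartierIdeal ((𝓘.comap V.1.ι).comap (blp X 𝓘 U ≫ X.homOfLE h)) := by
  rw [← Scheme.IdealSheafData.comap_comp, Category.assoc, Scheme.homOfLE_ι,
    Scheme.IdealSheafData.comap_comp]
  exact (isBlowUp_blp X 𝓘 U).1

/-- The transition morphisms between the chosen blowing ups. -/
noncomputable def bltr {U V : X.affineOpens} (h : U ≤ V) : blP X 𝓘 U ⟶ blP X 𝓘 V :=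
  ((isBlowUp_blp X 𝓘 V).2 _ _ (blp_effCartier X 𝓘 h)).choose

theorem bltr_blp {U V : X.affineOpens} (h : U ≤ V) :
    bltr X 𝓘 h ≫ blp X 𝓘 V = blp X 𝓘 U ≫ X.homOfLE h :=
  ((isBlowUp_blp X 𝓘 V).2 _ _ (blp_effCartier X 𝓘 h)).choose_spec.1

theorem bltr_unique {U V : X.affineOpens} (h : U ≤ V) (m : blP X 𝓘 U ⟶ blP X 𝓘 V)
    (hm : m ≫ blp X 𝓘 V = blp X 𝓘 U ≫ X.homOfLE h) : m = bltr X 𝓘 h :=
  ((isBlowUp_blp X 𝓘 V).2 _ _ (blp_effCartier X 𝓘 h)).choose_spec.2 m hm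

theorem isPullback_bltr {U V : X.affineOpens} (h : U ≤ V) :
    IsPullback (bltr X 𝓘 h) (blp X 𝓘 U) (blp X 𝓘 V) (X.homOfLE h) := by
  have hb := isBlowUp_pullback_fst_of_flat (X.homOfLE h) (𝓘.comap V.1.ι) (blp X 𝓘 V)
    (isBlowUp_blp X 𝓘 V)
  rw [← Scheme.IdealSheafData.comap_comp, Scheme.homOfLE_ι] at hb
  have hl : pullback.lift (blp X 𝓘 U) (bltr X 𝓘 h) (bltr_blp X 𝓘 h).symm ≫
      pullback.fst (X.homOfLE h) (blp X 𝓘 V) = blp X 𝓘 U := pullback.lift_fst _ _ _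
  have hiso := isIso_of_isBlowUp _ _ _ (isBlowUp_blp X 𝓘 U) hb _ hl
  have := IsPullback.of_iso_pullback ⟨(bltr_blp X 𝓘 h).symm⟩
    (asIso (pullback.lift (blp X 𝓘 U) (bltr X 𝓘 h) (bltr_blp X 𝓘 h).symm))
    (pullback.lift_fst _ _ _) (pullback.lift_snd _ _ _)
  exact this.flip

theorem bltr_refl (U : X.affineOpens) : bltr X 𝓘 (le_refl U) = 𝟙 (blP X 𝓘 U) := by
  symm
  apply bltr_unique
  rw [Category.id_comp]
  have : X.homOfLE (le_refl U : U.1 ≤ U.1) = 𝟙 _ := Scheme.homOfLE_rfl X U.1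
  rw [this, Category.comp_id]

theorem bltr_trans {U V W : X.affineOpens} (h₁ : U ≤ V) (h₂ : V ≤ W) :
    bltr X 𝓘 (h₁.trans h₂) = bltr X 𝓘 h₁ ≫ bltr X 𝓘 h₂ := by
  symm
  apply bltr_unique
  rw [Category.assoc, bltr_blp, ← Category.assoc, bltr_blp, Category.assoc,
    Scheme.homOfLE_homOfLE]

/-- The functor of chosen blowing ups of the affine opens. -/
noncomputable def blFunctor : X.affineOpens ⥤ Scheme.{u} where
  obj U := blP X 𝓘 U
  map f := bltr X 𝓘 (leOfHom f)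
  map_id U := bltr_refl X 𝓘 U
  map_comp f g := bltr_trans X 𝓘 (leOfHom f) (leOfHom g)

/-- The relative gluing datum of the chosen blowing ups. -/
noncomputable def blGluing :
    Scheme.Cover.RelativeGluingData X.directedAffineCover where
  functor := (blFunctor X 𝓘 : X.affineOpens ⥤ Scheme.{u})
  natTrans :=
    { app := fun U => blp X 𝓘 U
      naturality := fun _ _ f => bltr_blp X 𝓘 (leOfHom f) }
  equifibered := fun _ _ f => isPullback_bltr X 𝓘 (leOfHom f)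

/-- (E3) Blowing ups exist. -/
theorem exists_isBlowUp : ∃ (X' : Scheme.{u}) (b : X' ⟶ X), BlowUp.IsBlowUp b 𝓘 := by
  refine ⟨(blGluing X 𝓘).glued, (blGluing X 𝓘).toBase, ?_⟩
  exact isBlowUp_of_isPullback_cover (blGluing X 𝓘).toBase 𝓘 X.directedAffineCover
    (fun U => blP X 𝓘 U) (fun U => blp X 𝓘 U)
    (fun U => colimit.ι (blGluing X 𝓘).functor U)
    (fun U => (blGluing X 𝓘).isPullback_natTrans_ι_toBase U) (fun U => isBlowUp_blp X 𝓘 U)

end Glue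

end Groth.Agent.Lib.Helper25.BlowUpUP
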