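import Groth.Agent.Lib.Helper25.ReesQC
import Groth.Agent.Lib.Helper25.BlowUpExist
import Groth.Agent.Lib.Helper3.RelProjExist
/-!
# The relative Proj of the Rees algebra is the blowing up; blowing ups are projective
-/
universe u
open CategoryTheory CategoryTheory.Limits AlgebraicGeometry Opposite TopologicalSpace Polynomial
open scoped HomogeneousIdeal
open RelSpec AlgebraicGeometry.Scheme.AffineZariskiSite

namespace Groth.Agent.Lib.Helper25.ReesQC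
open Groth.Agent.Lib.Helper25.ProjClosedAlg RelProj
open Groth.Agent.Lib.Helper3 Groth.Agent.Lib.Helper25.ReesLoc Groth.Agent.Lib.Helper25.BlowUpUP
open Groth.Agent.Lib.Helper25.ProjRees

section ring
variable {A : Type u} [CommRing A] (I : Ideal A)

/-- the identity as a graded homomorphism -/
noncomputable def idG : Rees.deg (reesAlgebra I) →+*ᵍ rdeg I :=
  { RingHom.id ↥(reesAlgebra I) with map_mem := fun {d x} hx => (mem_rdeg_iff' I d x).mpr hx }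

/-- the identity as a graded homomorphism -/
noncomputable def idG' : rdeg I →+*ᵍ Rees.deg (reesAlgebra I) :=
  { RingHom.id ↥(reesAlgebra I) with map_mem := fun {d x} hx => (mem_rdeg_iff' I d x).mp hx }

theorem idG_irr : (rdeg I)₊ ≤ ((Rees.deg (reesAlgebra I))₊).map (idG I) :=
  OfAffGr.irr_le_map_of_surj' (𝒜 := Rees.deg (reesAlgebra I)) (ℬ := rdeg I) (idG I)
    fun d b hb => ⟨b, (mem_rdeg_iff' I d b).mp hb, rfl⟩

theorem idG'_irr : (Rees.deg (reesAlgebra I))₊ ≤ ((rdeg I)₊).map (idG' I) :=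
  OfAffGr.irr_le_map_of_surj' (𝒜 := rdeg I) (ℬ := Rees.deg (reesAlgebra I)) (idG' I)
    fun d b hb => ⟨b, (mem_rdeg_iff' I d b).mpr hb, rfl⟩

theorem irr_id {B τ : Type*} [CommRing B] [SetLike τ B] [AddSubgroupClass τ B] (ℬ : ℕ → τ) [GradedRing ℬ] :
    ℬ₊ ≤ (ℬ₊).map (GradedRingHom.id ℬ) := by simp

/-- the comparison of the two Proj's -/
noncomputable def θ' : Proj (rdeg I) ≅ Proj (Rees.deg (reesAlgebra I)) where
  hom := Proj.map (idG I) (idG_irr I)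
  inv := Proj.map (idG' I) (idG'_irr I)
  hom_inv_id := by
    rw [← Proj.map_comp (idG' I) (idG I) (idG'_irr I) (idG_irr I)]
    exact (ProjAux.map_congr (𝒜 := rdeg I) (ℬ := rdeg I) (GradedRingHom.ext fun x => rfl) _
      (irr_id (rdeg I))).trans (Proj.map_id (𝒜 := rdeg I))
  inv_hom_id := by
    rw [← Proj.map_comp (idG I) (idG' I) (idG_irr I) (idG'_irr I)]
    exact (ProjAux.map_congr (𝒜 := Rees.deg (reesAlgebra I)) (ℬ := Rees.deg (reesAlgebra I))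
      (GradedRingHom.ext fun x => rfl) _ (irr_id (Rees.deg (reesAlgebra I)))).trans
      (Proj.map_id (𝒜 := Rees.deg (reesAlgebra I)))

/-- the structure map into degree zero -/
noncomputable def ρ₀' : A →+* rdeg I 0 :=
  RingHom.codRestrict (algebraMap A ↥(reesAlgebra I)) (SetLike.GradeZero.subring (rdeg I))
    (algebraMap_mem_rdeg I)

theorem θ'_proj :
    (θ' I).hom ≫ proj I = Proj.toSpecZero (rdeg I) ≫ Spec.map (CommRingCat.ofHom (ρ₀' I)) := by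
  change Proj.map (idG I) (idG_irr I) ≫ Proj.toSpecZero (Rees.deg (reesAlgebra I)) ≫
    Spec.map (CommRingCat.ofHom (algebraMap A (Rees.deg (reesAlgebra I) 0))) = _
  rw [← Category.assoc, ProjAux.map_toSpecZero, Category.assoc, ← Spec.map_comp]
  rfl

end ring

variable {X : Scheme.{u}} (𝓘 : X.IdealSheafData)

theorem specIdeal_comap_isoSpec (U : X.Opens) (hU : IsAffineOpen U) :
    (specIdeal (𝓘.ideal ⟨U, hU⟩)).comap hU.isoSpec.hom = 𝓘.comap U.ι := by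
  haveI : IsAffine (U : Scheme.{u}) := hU
  refine Scheme.IdealSheafData.ext_of_isAffine ?_
  have e : (⊤ : (U : Scheme.{u}).Opens) ≤ U.ι ⁻¹ᵁ U := by
    intro x _; exact x.2
  rw [specIdeal_comap_ideal, Groth.Agent.Lib.Helper1.ideal_comap 𝓘 U.ι ⟨⊤, isAffineOpen_top _⟩ ⟨U, hU⟩ e]
  congr 1
  have h1 := SpecMap_phi hU.isoSpec.hom (isAffineOpen_top (U : Scheme.{u}))
  have h2 := IsAffineOpen.SpecMap_appLE_fromSpec U.ι hU (isAffineOpen_top (U : Scheme.{u})) e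
  have h3 : Spec.map (CommRingCat.ofHom (phi hU.isoSpec.hom ⊤)) = Spec.map (U.ι.appLE U ⊤ e) := by
    rw [← cancel_mono hU.fromSpec, h2, h1, Category.assoc, hU.isoSpec_hom_fromSpec]
  exact congrArg CommRingCat.Hom.hom (Spec.map_injective h3)

theorem chart_toU {S P : Scheme.{u}} (𝒮 : QCGrAlg S) (p : P ⟶ S)
    (chart : ∀ (U : S.Opens) (hU : IsAffineOpen U), (((p ⁻¹ᵁ U : P.Opens) : Scheme.{u}) ≅ Proj (𝒮.deg U hU)))
    (hP : IsRelProj 𝒮 p chart) (U : S.Opens) (hU : IsAffineOpen U) :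
    (chart U hU).hom ≫ RelProjExist.toU 𝒮 U hU = p ∣_ U := by
  rw [← cancel_mono U.ι, Category.assoc, RelProjExist.toU_ι, morphismRestrict_ι]
  exact hP.chart_over U hU

/-- **The relative Proj of the Rees algebra is the blowing up.** -/
theorem isBlowUp_relProj :
    BlowUp.IsBlowUp (RelProjExist.relProjπ (reesGrAlg 𝓘)) 𝓘 := by
  have hP := RelProjExist.isRelProj (reesGrAlg 𝓘)
  refine isBlowUp_of_isPullback_cover (RelProjExist.relProjπ (reesGrAlg 𝓘)) 𝓘 X.directedAffineCover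
    (fun U => ↑(RelProjExist.relProjπ (reesGrAlg 𝓘) ⁻¹ᵁ U.1))
    (fun U => RelProjExist.relProjπ (reesGrAlg 𝓘) ∣_ U.1)
    (fun U => (RelProjExist.relProjπ (reesGrAlg 𝓘) ⁻¹ᵁ U.1).ι)
    (fun U => isPullback_morphismRestrict (RelProjExist.relProjπ (reesGrAlg 𝓘)) U.1) (fun U => ?_)
  obtain ⟨U, hU0⟩ := U
  have hU : IsAffineOpen U := hU0
  change BlowUp.IsBlowUp (RelProjExist.relProjπ (reesGrAlg 𝓘) ∣_ U) (𝓘.comap U.ι)
  have h1 : RelProjExist.relProjπ (reesGrAlg 𝓘) ∣_ U =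
      (RelProjExist.chart (reesGrAlg 𝓘) U hU).hom ≫
        (OfAffGr.θ (reesα_coequifibered 𝓘) (rdegU 𝓘) (rdegU_res 𝓘) (rdegU_str 𝓘) U hU).hom ≫
          (θ' (𝓘.ideal ⟨U, hU⟩)).hom ≫ proj (𝓘.ideal ⟨U, hU⟩) ≫ hU.isoSpec.inv := by
    have h2 := OfAffGr.θ_toSpec (reesα_coequifibered 𝓘) (rdegU 𝓘) (rdegU_res 𝓘) (rdegU_str 𝓘) U hU
    have h3 : (θ' (𝓘.ideal ⟨U, hU⟩)).hom ≫ proj (𝓘.ideal ⟨U, hU⟩) =
        Proj.toSpecZero (rdegU 𝓘 U hU) ≫
          Spec.map (CommRingCat.ofHom (OfAffGr.ρ₀ (rdegU 𝓘) (rdegU_str 𝓘) U hU)) :=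
      θ'_proj (𝓘.ideal ⟨U, hU⟩)
    have e1 : RelProjExist.toU (reesGrAlg 𝓘) U hU =
        (Proj.toSpecZero ((reesGrAlg 𝓘).deg U hU) ≫ Spec.map ((reesGrAlg 𝓘).strZero U hU)) ≫
          hU.isoSpec.inv := (Category.assoc _ _ _).symm
    have h4 : RelProjExist.toU (reesGrAlg 𝓘) U hU =
        (OfAffGr.θ (reesα_coequifibered 𝓘) (rdegU 𝓘) (rdegU_res 𝓘) (rdegU_str 𝓘) U hU).hom ≫
          (θ' (𝓘.ideal ⟨U, hU⟩)).hom ≫ proj (𝓘.ideal ⟨U, hU⟩) ≫ hU.isoSpec.inv := by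
      refine e1.trans ((congrArg (· ≫ hU.isoSpec.inv) h2.symm).trans ?_)
      refine (congrArg (fun k =>
        ((OfAffGr.θ (reesα_coequifibered 𝓘) (rdegU 𝓘) (rdegU_res 𝓘) (rdegU_str 𝓘) U hU).hom ≫ k) ≫
          hU.isoSpec.inv) h3.symm).trans ?_
      simp only [Category.assoc]
      exact congrArg (_ ≫ ·) (Category.assoc _ _ _)
    rw [← chart_toU (reesGrAlg 𝓘) _ _ hP U hU, h4]
  rw [h1]
  refine isBlowUp_iso_comp _ _ (RelProjExist.chart (reesGrAlg 𝓘) U hU) (isBlowUp_iso_comp _ _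
    (OfAffGr.θ (reesα_coequifibered 𝓘) (rdegU 𝓘) (rdegU_res 𝓘) (rdegU_str 𝓘) U hU)
    (isBlowUp_iso_comp _ _ (θ' (𝓘.ideal ⟨U, hU⟩)) ?_))
  have := isBlowUp_comp_iso_inv (proj (𝓘.ideal ⟨U, hU⟩)) (specIdeal (𝓘.ideal ⟨U, hU⟩)) hU.isoSpec
    (isBlowUp_proj (𝓘.ideal ⟨U, hU⟩))
  rwa [specIdeal_comap_isoSpec] at this

/-- **A blowing up in a quasi-coherent ideal of finite type is projective.** -/
theorem isProjective_of_isBlowUp {X' : Scheme.{u}} (h𝓘 : BlowUp.IsFiniteTypeIdeal 𝓘)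
    (b : X' ⟶ X) (hb : BlowUp.IsBlowUp b 𝓘) : RelProj.IsProjective b := by
  obtain ⟨e, he⟩ := exists_iso_of_isBlowUp b (RelProjExist.relProjπ (reesGrAlg 𝓘)) 𝓘 hb (isBlowUp_relProj 𝓘)
  exact ⟨reesGrAlg 𝓘, _, RelProjExist.relProjπ (reesGrAlg 𝓘), RelProjExist.chart (reesGrAlg 𝓘), e,
    isGenDegOne_rees 𝓘, isFTDeg_one_rees 𝓘 h𝓘, RelProjExist.isRelProj (reesGrAlg 𝓘), he⟩

end Groth.Agent.Lib.Helper25.ReesQC
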