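import Mathlib

set_option autoImplicit false
universe u

open CategoryTheory CategoryTheory.Limits AlgebraicGeometry TensorProduct

namespace Groth.Agent.Lib.Helper25.ClosedImmNear

/-- Nakayama: a finite algebra whose fibre at `p` is generated by `1` is generated by `1`
after inverting some `a ∉ p`. -/
theorem exists_notMem_mul_mem_range {R S : Type u} [CommRing R] [CommRing S] [Algebra R S]
    [Module.Finite R S] (p : PrimeSpectrum R)
    (h : Function.Surjective (algebraMap p.asIdeal.ResidueField (p.asIdeal.Fiber S))) :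
    ∃ a : R, a ∉ p.asIdeal ∧ ∀ s : S, ∃ r : R, algebraMap R S a * s = algebraMap R S r := by
  let N := S ⧸ LinearMap.range (Algebra.linearMap R S)
  have hsub : Subsingleton (p.asIdeal.ResidueField ⊗[R] N) := by
    refine ⟨fun x y => ?_⟩
    suffices H : ∀ z : p.asIdeal.ResidueField ⊗[R] N, z = 0 by rw [H x, H y]
    intro z
    induction z using TensorProduct.induction_on with
    | zero => rfl
    | add x y hx hy => rw [hx, hy, add_zero]
    | tmul c n =>
      obtain ⟨s, rfl⟩ := Submodule.Quotient.mk_surjective _ n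
      obtain ⟨c', hc'⟩ := h (c ⊗ₜ[R] s)
      have h1 : (LinearMap.lTensor p.asIdeal.ResidueField
          (LinearMap.range (Algebra.linearMap R S)).mkQ) (c ⊗ₜ[R] s) =
          c ⊗ₜ[R] (Submodule.Quotient.mk s : N) := by
        simp
      rw [← h1, ← hc']
      have h2 : algebraMap p.asIdeal.ResidueField (p.asIdeal.Fiber S) c' = c' ⊗ₜ[R] (1 : S) := by
        rw [Algebra.algebraMap_eq_smul_one]
        rw [Algebra.TensorProduct.one_def]
        rw [TensorProduct.smul_tmul']
        simp
      rw [h2]
      simp only [LinearMap.lTensor_tmul, Submodule.mkQ_apply]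
      have h3 : (Submodule.Quotient.mk (1 : S) : N) = 0 := by
        rw [Submodule.Quotient.mk_eq_zero]
        exact ⟨1, by simp⟩
      rw [h3, TensorProduct.tmul_zero]
  have hnot : p ∉ Module.support R N := by
    rw [Module.mem_support_iff_nontrivial_residueField_tensorProduct]
    exact not_nontrivial _
  rw [Module.mem_support_iff_of_finite, SetLike.not_le_iff_exists] at hnot
  obtain ⟨a, ha, hap⟩ := hnot
  refine ⟨a, hap, fun s => ?_⟩
  have h1 : a • (Submodule.Quotient.mk s : N) = 0 := Module.mem_annihilator.mp ha _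
  rw [← Submodule.Quotient.mk_smul, Submodule.Quotient.mk_eq_zero] at h1
  obtain ⟨r, hr⟩ := h1
  refine ⟨r, ?_⟩
  rw [← Algebra.smul_def]
  exact hr.symm

/-- Surjectivity of the localized map. -/
theorem away_map_surjective {R S : Type u} [CommRing R] [CommRing S] (φ : R →+* S) (a : R)
    (h : ∀ s : S, ∃ r : R, φ a * s = φ r)
    (Ra Sa : Type u) [CommRing Ra] [CommRing Sa] [Algebra R Ra] [Algebra S Sa]
    [IsLocalization.Away a Ra] [IsLocalization.Away (φ a) Sa] :
    Function.Surjective (IsLocalization.Away.map Ra Sa φ a) := by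
  intro z
  obtain ⟨n, s, hs⟩ := IsLocalization.Away.surj (φ a) z
  obtain ⟨r, hr⟩ := h s
  have hu : IsUnit (algebraMap R Ra a) := IsLocalization.Away.algebraMap_isUnit a
  obtain ⟨u, hu'⟩ := hu
  refine ⟨(↑(u⁻¹ ^ (n + 1)) : Ra) * algebraMap R Ra r, ?_⟩
  have hmap : ∀ x : R, IsLocalization.Away.map Ra Sa φ a (algebraMap R Ra x) =
      algebraMap S Sa (φ x) := fun x => by
    simp [IsLocalization.Away.map, IsLocalization.map_eq]
  have hua : IsLocalization.Away.map Ra Sa φ a (↑u : Ra) = algebraMap S Sa (φ a) := by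
    rw [hu', hmap]
  have hu2 : IsUnit (algebraMap S Sa (φ a)) := IsLocalization.Away.algebraMap_isUnit (φ a)
  have key : IsLocalization.Away.map Ra Sa φ a (↑(u⁻¹ ^ (n + 1)) : Ra) * 
      algebraMap S Sa (φ a) ^ (n + 1) = 1 := by
    rw [← hua, ← map_pow, ← map_mul, ← Units.val_pow_eq_pow_val, ← Units.val_mul]
    simp
  rw [map_mul, hmap, ← hr, map_mul]
  apply (hu2.pow (n + 1)).mul_left_injective
  simp only
  calc _ = (IsLocalization.Away.map Ra Sa φ a (↑(u⁻¹ ^ (n + 1)) : Ra) *
        algebraMap S Sa (φ a) ^ (n + 1)) * (algebraMap S Sa (φ a) * algebraMap S Sa s) := by ring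
    _ = algebraMap S Sa (φ a) * algebraMap S Sa s := by rw [key, one_mul]
    _ = z * algebraMap S Sa (φ a) ^ (n + 1) := by rw [← hs]; ring

end Groth.Agent.Lib.Helper25.ClosedImmNear
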