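import Mathlib
import Groth.Agent.Lib.Helper25.ClosedImmNearRing
import Groth.Agent.Lib.Helper13.SchemeLocal

/-! A morphism locally of finite type which is universally closed and whose fibre over `y` is empty
or `Spec κ(y)` is a closed immersion over a neighbourhood of `y`. -/

set_option autoImplicit false
universe u

open CategoryTheory CategoryTheory.Limits AlgebraicGeometry TensorProduct TopologicalSpace

namespace Groth.Agent.Lib.Helper25.ClosedImmNear


theorem isIso_fiberToSpecResidueField_of_isPullback {P X Y Z : Scheme.{u}} {fst : P ⟶ X}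
    {snd : P ⟶ Y} {f : X ⟶ Z} {g : Y ⟶ Z} (h : IsPullback fst snd f g) (y : Y)
    (hiso : IsIso (f.fiberToSpecResidueField (g y))) :
    IsIso (snd.fiberToSpecResidueField y) :=
  (MorphismProperty.isomorphisms Scheme).of_isPullback
    (isPullback_fiberToSpecResidueField_of_isPullback h y) hiso



theorem isEmpty_fiber_of_isPullback {P X Y Z : Scheme.{u}} {fst : P ⟶ X}
    {snd : P ⟶ Y} {f : X ⟶ Z} {g : Y ⟶ Z} (h : IsPullback fst snd f g) (y : Y)
    (hemp : IsEmpty ↥(f.fiber (g y))) : IsEmpty ↥(snd.fiber y) :=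
  @Function.isEmpty _ _ hemp (fun x => (pullback.map _ _ _ _ fst (Spec.map (g.residueFieldMap y))
    g h.w.symm (by simp) : snd.fiber y ⟶ f.fiber (g y)) x)



/-- A closed immersion into the spectrum of a field is empty or an isomorphism. -/
theorem isEmpty_or_isIso_of_isClosedImmersion_field {Z : Scheme.{u}} {K : CommRingCat.{u}}
    (hK : IsField K) (g : Z ⟶ Spec K) [IsClosedImmersion g] : IsEmpty ↥Z ∨ IsIso g := by
  obtain ⟨I, e, rfl⟩ := IsClosedImmersion.Spec_iff.mp ‹IsClosedImmersion g›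
  have := Ring.isField_iff_isSimpleOrder_ideal.mp hK
  rcases eq_bot_or_eq_top I with rfl | rfl
  · right
    have : IsIso (CommRingCat.ofHom (Ideal.Quotient.mk (⊥ : Ideal K))) := by
      rw [ConcreteCategory.isIso_iff_bijective]
      exact ⟨(RingHom.injective_iff_ker_eq_bot _).mpr (by simp), Ideal.Quotient.mk_surjective⟩
    infer_instance
  · left
    have : IsEmpty ↥(Spec (CommRingCat.of (K ⧸ (⊤ : Ideal K)))) := by
      change IsEmpty (PrimeSpectrum (K ⧸ (⊤ : Ideal K)))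
      infer_instance
    exact Function.isEmpty e.hom



theorem isPullback_fromSpec {X Y : Scheme.{u}} (g : X ⟶ Y) {U : Y.Opens} (hU : IsAffineOpen U)
    (hW : IsAffineOpen (g ⁻¹ᵁ U)) :
    IsPullback hW.fromSpec (Spec.map (g.app U)) g hU.fromSpec := by
  have t := (isPullback_morphismRestrict g U).flip
  have comm : hW.isoSpec.inv ≫ (g ∣_ U) = Spec.map (g.app U) ≫ hU.isoSpec.inv := by
    rw [← cancel_mono U.ι, Category.assoc, Category.assoc, morphismRestrict_ι]
    have h1 := IsAffineOpen.SpecMap_appLE_fromSpec g hU hW le_rfl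
    rw [Scheme.Hom.appLE_eq_app] at h1
    exact h1.symm
  exact (IsPullback.of_horiz_isIso ⟨comm⟩).paste_horiz t



theorem surjective_fiber_of_isIso {X Y : Scheme.{u}} (g : X ⟶ Y) {U : Y.Opens}
    (hU : IsAffineOpen U) (hW : IsAffineOpen (g ⁻¹ᵁ U)) (y : Y) (hy : y ∈ U)
    (hiso : IsIso (g.fiberToSpecResidueField y)) :
    letI := (g.app U).hom.toAlgebra
    Function.Surjective (algebraMap (hU.primeIdealOf ⟨y, hy⟩).asIdeal.ResidueField
      ((hU.primeIdealOf ⟨y, hy⟩).asIdeal.Fiber Γ(X, g ⁻¹ᵁ U))) := by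
  let _ := (g.app U).hom.toAlgebra
  set p := hU.primeIdealOf ⟨y, hy⟩ with hp
  have hpy : hU.fromSpec p = y := hU.fromSpec_primeIdealOf ⟨y, hy⟩
  have h1 : IsIso ((Spec.map (g.app U)).fiberToSpecResidueField p) := by
    apply isIso_fiberToSpecResidueField_of_isPullback (isPullback_fromSpec g hU hW) p
    rw [hpy]
    exact hiso
  have h2 : IsIso (Spec.map (CommRingCat.ofHom
      (algebraMap p.asIdeal.ResidueField (p.asIdeal.Fiber Γ(X, g ⁻¹ᵁ U))))) :=
    ((MorphismProperty.isomorphisms Scheme).arrow_mk_iso_iff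
      (Spec.fiberToSpecResidueFieldIso Γ(Y, U) Γ(X, g ⁻¹ᵁ U) p)).mp h1
  have h3 : IsIso (CommRingCat.ofHom
      (algebraMap p.asIdeal.ResidueField (p.asIdeal.Fiber Γ(X, g ⁻¹ᵁ U)))) := by
    have h4 : IsIso (Scheme.Spec.map (CommRingCat.ofHom
      (algebraMap p.asIdeal.ResidueField (p.asIdeal.Fiber Γ(X, g ⁻¹ᵁ U)))).op) := h2
    have h5 := isIso_of_reflects_iso ((CommRingCat.ofHom
      (algebraMap p.asIdeal.ResidueField (p.asIdeal.Fiber Γ(X, g ⁻¹ᵁ U)))).op) Scheme.Spec
    exact isIso_of_op _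
  exact ((ConcreteCategory.isIso_iff_bijective _).mp h3).2



theorem surjective_app_basicOpen {X Y : Scheme.{u}} (g : X ⟶ Y) {U : Y.Opens}
    (hU : IsAffineOpen U) (hW : IsAffineOpen (g ⁻¹ᵁ U)) (a : Γ(Y, U))
    (ha : ∀ s : Γ(X, g ⁻¹ᵁ U), ∃ r : Γ(Y, U), (g.app U).hom a * s = (g.app U).hom r) :
    Function.Surjective (g.app (Y.basicOpen a)).hom := by
  have := hU.isLocalization_basicOpen a
  have := hW.isLocalization_basicOpen (g.app U a)
  rw [hU.app_basicOpen_eq_away_map g hW a, CommRingCat.hom_comp, RingHom.coe_comp]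
  refine Function.Surjective.comp ?_ ?_
  · exact (ConcreteCategory.bijective_of_isIso
      (X.presheaf.map (eqToHom (by simp)).op)).2
  · exact away_map_surjective (g.app U).hom a ha _ _



theorem exists_isClosedImmersion_of_isFinite {X Y : Scheme.{u}} (g : X ⟶ Y) [IsFinite g] (y : Y)
    (hiso : IsIso (g.fiberToSpecResidueField y)) :
    ∃ U : Y.Opens, y ∈ U ∧ IsClosedImmersion (g ∣_ U) := by
  obtain ⟨U₀, hU₀, hyU₀, -⟩ := Opens.isBasis_iff_nbhd.mp Y.isBasis_affineOpens (Opens.mem_top y)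
  have hW₀ : IsAffineOpen (g ⁻¹ᵁ U₀) := hU₀.preimage g
  have hfin : (g.app U₀).hom.Finite := IsFinite.finite_app g U₀ hU₀
  let _ := (g.app U₀).hom.toAlgebra
  have : Module.Finite Γ(Y, U₀) Γ(X, g ⁻¹ᵁ U₀) := hfin
  obtain ⟨a, hap, ha⟩ := exists_notMem_mul_mem_range (hU₀.primeIdealOf ⟨y, hyU₀⟩)
    (surjective_fiber_of_isIso g hU₀ hW₀ y hyU₀ hiso)
  refine ⟨Y.basicOpen a, (Groth.Agent.Lib.Helper13.mem_basicOpen_iff_primeIdealOf hU₀ a hyU₀).mpr hap, ?_⟩
  have hU : IsAffineOpen (Y.basicOpen a) := hU₀.basicOpen a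
  have : IsAffine (Y.basicOpen a).toScheme := hU
  rw [HasAffineProperty.iff_of_isAffine (P := @IsClosedImmersion)]
  refine ⟨hU.preimage g, ?_⟩
  rw [morphismRestrict_appTop]
  have key : ∀ U' : Y.Opens, U' = Y.basicOpen a → Function.Surjective (g.app U').hom := by
    rintro _ rfl
    exact surjective_app_basicOpen g hU₀ hW₀ a ha
  change Function.Surjective (g.app _ ≫ X.presheaf.map _).hom
  rw [CommRingCat.hom_comp, RingHom.coe_comp]
  refine Function.Surjective.comp ?_ (key _ ?_)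
  · exact (ConcreteCategory.bijective_of_isIso (X.presheaf.map (eqToHom _).op)).2
  · simp



theorem of_restrict_of_range_subset (P : MorphismProperty Scheme.{u}) [P.IsStableUnderBaseChange]
    {X Y T : Scheme.{u}} (f : X ⟶ Y) (U : Y.Opens) (hP : P (f ∣_ U)) (t : T ⟶ Y)
    (ht : Set.range t ⊆ U) : P (pullback.snd f t) := by
  let j : T ⟶ U.toScheme := IsOpenImmersion.lift U.ι t (by simpa using ht)
  have hj : j ≫ U.ι = t := IsOpenImmersion.lift_fac _ _ _
  have R := (isPullback_morphismRestrict f U).flip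
  let l : pullback f t ⟶ (f ⁻¹ᵁ U).toScheme :=
    R.lift (pullback.fst f t) (pullback.snd f t ≫ j)
      (by rw [Category.assoc, hj, pullback.condition])
  have hl1 : l ≫ (f ⁻¹ᵁ U).ι = pullback.fst f t := R.lift_fst _ _ _
  have hl2 : l ≫ (f ∣_ U) = pullback.snd f t ≫ j := R.lift_snd _ _ _
  have big : IsPullback (l ≫ (f ⁻¹ᵁ U).ι) (pullback.snd f t) f (j ≫ U.ι) := by
    rw [hl1, hj]
    exact IsPullback.of_hasPullback f t
  exact P.of_isPullback (IsPullback.of_right big hl2 R) hP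



theorem exists_isClosedImmersion_of_universallyClosed {X Y : Scheme.{u}} (f : X ⟶ Y)
    [LocallyOfFiniteType f] [UniversallyClosed f] (y : Y)
    (h : IsEmpty ↥(f.fiber y) ∨ IsIso (f.fiberToSpecResidueField y)) :
    ∃ U : Y.Opens, y ∈ U ∧ IsClosedImmersion (f ∣_ U) := by
  rcases h with hemp | hiso
  · have hy : y ∉ Set.range f := by
      rintro ⟨x, rfl⟩
      exact hemp.false (f.asFiber x)
    refine ⟨⟨(Set.range f)ᶜ, f.isClosedMap.isClosed_range.isOpen_compl⟩, hy, ?_⟩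
    have : IsEmpty ↥(f ⁻¹ᵁ ⟨(Set.range f)ᶜ, f.isClosedMap.isClosed_range.isOpen_compl⟩).toScheme := by
      refine ⟨fun x => ?_⟩
      exact x.2 ⟨x.1, rfl⟩
    infer_instance
  · -- unique point of the fibre
    have e : ↥(f.fiber y) ≃ₜ ↥(Spec (Y.residueField y)) :=
      Scheme.homeoOfIso (asIso (f.fiberToSpecResidueField y))
    have hsub : Subsingleton ↥(f.fiber y) := by
      have : Subsingleton ↥(Spec (Y.residueField y)) :=
        inferInstanceAs (Subsingleton (PrimeSpectrum (Y.residueField y)))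
      exact e.injective.subsingleton
    have hne : Nonempty ↥(f.fiber y) := by
      have : Nonempty ↥(Spec (Y.residueField y)) :=
        inferInstanceAs (Nonempty (PrimeSpectrum (Y.residueField y)))
      exact ⟨e.symm (Classical.arbitrary _)⟩
    obtain ⟨x₀⟩ := hne
    set x := f.fiberι y x₀ with hx
    have hfx : f x = y := by
      have : x ∈ Set.range (f.fiberι y) := ⟨x₀, rfl⟩
      rw [f.range_fiberι] at this
      exact this
    have huniq : ∀ x' : X, f x' = y → x' = x := by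
      intro x' hx'
      have : x' ∈ Set.range (f.fiberι y) := by
        rw [f.range_fiberι]; exact hx'
      obtain ⟨z, rfl⟩ := this
      rw [Subsingleton.elim z x₀]
    obtain ⟨U₀, hU₀, hyU₀, -⟩ := Opens.isBasis_iff_nbhd.mp Y.isBasis_affineOpens (Opens.mem_top y)
    obtain ⟨V₀, hV₀, hxV₀, hVU⟩ := Opens.isBasis_iff_nbhd.mp X.isBasis_affineOpens
      (show x ∈ f ⁻¹ᵁ U₀ from by rw [Scheme.Hom.mem_preimage, hfx]; exact hyU₀)
    have hC : IsClosed (f '' (V₀ : Set X)ᶜ) := f.isClosedMap _ V₀.isOpen.isClosed_compl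
    have hyC : y ∉ f '' (V₀ : Set X)ᶜ := by
      rintro ⟨x', hx', hfx'⟩
      rw [huniq x' hfx'] at hx'
      exact hx' hxV₀
    let U₁ : Y.Opens := U₀ ⊓ ⟨(f '' (V₀ : Set X)ᶜ)ᶜ, hC.isOpen_compl⟩
    have hyU₁ : y ∈ U₁ := ⟨hyU₀, hyC⟩
    obtain ⟨a, haU₁, hya⟩ := hU₀.exists_basicOpen_le (V := U₁) ⟨y, hyU₁⟩ hyU₀
    have hU₂ : IsAffineOpen (Y.basicOpen a) := hU₀.basicOpen a
    have hpre : f ⁻¹ᵁ Y.basicOpen a ≤ V₀ := by
      intro x' hx'
      by_contra hcon
      have h1 : f x' ∈ U₁ := haU₁ hx'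
      exact h1.2 ⟨x', hcon, rfl⟩
    have hW₂ : IsAffineOpen (f ⁻¹ᵁ Y.basicOpen a) := by
      have h1 : f ⁻¹ᵁ Y.basicOpen a = X.basicOpen (f.appLE U₀ V₀ hVU a) := by
        rw [Scheme.Hom.appLE, CommRingCat.comp_apply, Scheme.basicOpen_res,
          ← Scheme.preimage_basicOpen]
        exact (inf_eq_right.mpr hpre).symm
      rw [h1]
      exact hV₀.basicOpen _
    have : IsAffine (Y.basicOpen a).toScheme := hU₂
    have : IsAffine (f ⁻¹ᵁ Y.basicOpen a).toScheme := hW₂
    have hint : IsIntegralHom (f ∣_ Y.basicOpen a) :=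
      IsIntegralHom.iff_universallyClosed_and_isAffineHom.mpr ⟨inferInstance, inferInstance⟩
    have hfin : IsFinite (f ∣_ Y.basicOpen a) :=
      (IsFinite.iff_isIntegralHom_and_locallyOfFiniteType _).mpr ⟨hint, inferInstance⟩
    have hiso₂ : IsIso ((f ∣_ Y.basicOpen a).fiberToSpecResidueField ⟨y, hya⟩) :=
      isIso_fiberToSpecResidueField_of_isPullback
        (isPullback_morphismRestrict f (Y.basicOpen a)).flip ⟨y, hya⟩ hiso
    obtain ⟨U₃, hyU₃, hcl⟩ := exists_isClosedImmersion_of_isFinite (f ∣_ Y.basicOpen a) ⟨y, hya⟩ hiso₂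
    refine ⟨(Y.basicOpen a).ι ''ᵁ U₃, ⟨⟨y, hya⟩, hyU₃, rfl⟩, ?_⟩
    exact (MorphismProperty.arrow_mk_iso_iff @IsClosedImmersion
      (morphismRestrictRestrict f (Y.basicOpen a) U₃)).mp hcl

end Groth.Agent.Lib.Helper25.ClosedImmNear
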