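import Groth.Agent.Lib.Helper25.ReesAwayMap
import Groth.Agent.Lib.Helper25.BlowUpExist

set_option autoImplicit false
universe u
open CategoryTheory CategoryTheory.Limits AlgebraicGeometry TopologicalSpace
open HomogeneousLocalization

namespace Groth.Agent.Lib.Helper25.ProjRees

open Groth.Agent.Lib.Helper25.ReesAway Groth.Agent.Lib.Helper25.BlowUpUP

variable {A B : Type u} [CommRing A] [CommRing B] (I : Ideal A) (q : A →+* B)

theorem ofIdealTop_ideal_top {X : Scheme.{u}} [IsAffine X] (J : Ideal Γ(X, ⊤)) :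
    (Scheme.IdealSheafData.ofIdealTop J).ideal ⟨⊤, isAffineOpen_top X⟩ = J := by
  rw [Scheme.IdealSheafData.ofIdealTop_ideal]
  have e2 : X.presheaf.map (homOfLE (le_top : (⊤ : X.Opens) ≤ ⊤)).op = 𝟙 _ := by
    rw [show homOfLE (le_top : (⊤ : X.Opens) ≤ ⊤) = 𝟙 _ from Subsingleton.elim _ _]
    simp
  change Ideal.map (X.presheaf.map (homOfLE (le_top : (⊤ : X.Opens) ≤ ⊤)).op).hom J = J
  rw [e2]
  exact Ideal.map_id J

theorem specIdeal_comap_SpecMap :
    (specIdeal I).comap (Spec.map (CommRingCat.ofHom q)) = specIdeal (I.map q) := by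
  refine Scheme.IdealSheafData.ext_of_isAffine ?_
  rw [specIdeal_comap_ideal_top, ofIdealTop_ideal_top]

theorem isEffCartierIdeal_comap_proj_map :
    BlowUp.IsEffCartierIdeal
      ((specIdeal I).comap (proj (I.map q) ≫ Spec.map (CommRingCat.ofHom q))) := by
  rw [Scheme.IdealSheafData.comap_comp, specIdeal_comap_SpecMap]
  exact isEffCartierIdeal_comap_proj (I.map q)

/-- The morphism `Proj R(I B) ⟶ Proj R(I)` induced by `q : A → B`. -/
noncomputable def projMap :
    Proj (Rees.deg (reesAlgebra (I.map q))) ⟶ Proj (Rees.deg (reesAlgebra I)) :=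
  ((isBlowUp_proj I).2 _ _ (isEffCartierIdeal_comap_proj_map I q)).choose

theorem projMap_proj :
    projMap I q ≫ proj I = proj (I.map q) ≫ Spec.map (CommRingCat.ofHom q) :=
  ((isBlowUp_proj I).2 _ _ (isEffCartierIdeal_comap_proj_map I q)).choose_spec.1

/-- (K1) `projMap` in the charts. -/
theorem chart_projMap (a : A) (ha : a ∈ I)
    (ρ : Away (Rees.deg (reesAlgebra I)) (tilde I a ha) →+*
        Away (Rees.deg (reesAlgebra (I.map q))) (tilde (I.map q) (q a) (Ideal.mem_map_of_mem q ha)))
    (hρ : ρ.comp (kap I a ha) = (kap (I.map q) (q a) (Ideal.mem_map_of_mem q ha)).comp q) :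
    chart (I.map q) (q a) (Ideal.mem_map_of_mem q ha) ≫ projMap I q =
      Spec.map (CommRingCat.ofHom ρ) ≫ chart I a ha := by
  have ha' := Ideal.mem_map_of_mem q ha
  have e1 : (chart (I.map q) (q a) ha' ≫ projMap I q) ≫ proj I =
      Spec.map (CommRingCat.ofHom ((kap (I.map q) (q a) ha').comp q)) := by
    rw [Category.assoc, projMap_proj, ← Category.assoc, chart_proj, ← Spec.map_comp]
    rfl
  have e2 : (Spec.map (CommRingCat.ofHom ρ) ≫ chart I a ha) ≫ proj I =
      Spec.map (CommRingCat.ofHom ((kap (I.map q) (q a) ha').comp q)) := by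
    rw [Category.assoc, chart_proj, ← Spec.map_comp, ← hρ]
    rfl
  refine eq_of_comp_proj_eq I _ _ (e1.trans e2.symm) ?_
  rw [e1]
  refine isEffCartierIdeal_specIdeal_comap I _ a ?_ ?_
  · rw [← Ideal.map_map, map_kap_eq_span]
    rfl
  · exact kap_mem_nonZeroDivisors (I.map q) (q a) ha'


/-- (K2) for surjective `q`, `projMap` pulls the standard chart `D₊(aX)` back to `D₊(q(a)X)`. -/
theorem projMap_preimage_basicOpen (hq : Function.Surjective q) (a : A) (ha : a ∈ I) :
    projMap I q ⁻¹ᵁ Proj.basicOpen (Rees.deg (reesAlgebra I)) (tilde I a ha) =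
      Proj.basicOpen (Rees.deg (reesAlgebra (I.map q)))
        (tilde (I.map q) (q a) (Ideal.mem_map_of_mem q ha)) := by
  have ha' := Ideal.mem_map_of_mem q ha
  apply le_antisymm
  · intro z hz
    obtain ⟨c', hc', hzc⟩ := exists_mem_basicOpen (I.map q) z
    obtain ⟨c, hc, rfl⟩ := (Ideal.mem_map_iff_of_surjective q hq).1 hc'
    obtain ⟨ρ, hρ, -, hρ2⟩ := exists_awayMap_surjective I q hq c hc
    have hzr : z ∈ Set.range (chart (I.map q) (q c) hc') := by
      rw [range_chart]; exact hzc
    obtain ⟨w, rfl⟩ := hzr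
    have hK := chart_projMap I q c hc ρ hρ
    have h1 : projMap I q (chart (I.map q) (q c) hc' w) =
        chart I c hc (Spec.map (CommRingCat.ofHom ρ) w) := by
      rw [← Scheme.Hom.comp_apply, ← Scheme.Hom.comp_apply, hK]
    have h2 : Spec.map (CommRingCat.ofHom ρ) w ∈
        chart I c hc ⁻¹ᵁ Proj.basicOpen (Rees.deg (reesAlgebra I)) (tilde I a ha) := by
      change chart I c hc (Spec.map (CommRingCat.ofHom ρ) w) ∈
        Proj.basicOpen (Rees.deg (reesAlgebra I)) (tilde I a ha)
      rw [← h1]; exact hz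
    rw [Proj.awayι_preimage_basicOpen (Rees.deg (reesAlgebra I)) (tilde_mem I c hc) one_pos
      (tilde_mem I a ha) one_pos, Spec.map_apply] at h2
    have h3 : w ∈ chart (I.map q) (q c) hc' ⁻¹ᵁ
        Proj.basicOpen (Rees.deg (reesAlgebra (I.map q))) (tilde (I.map q) (q a) ha') := by
      rw [Proj.awayι_preimage_basicOpen (Rees.deg (reesAlgebra (I.map q)))
        (tilde_mem (I.map q) (q c) hc') one_pos (tilde_mem (I.map q) (q a) ha') one_pos]
      change _ ∉ w.asIdeal
      rw [← hρ2 a ha]
      exact h2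
    exact h3
  · intro z hz
    obtain ⟨ρ, hρ, -⟩ := exists_awayMap I q a ha
    have hzr : z ∈ Set.range (chart (I.map q) (q a) ha') := by
      rw [range_chart]; exact hz
    obtain ⟨w, rfl⟩ := hzr
    have hK := chart_projMap I q a ha ρ hρ
    change projMap I q (chart (I.map q) (q a) ha' w) ∈
      Proj.basicOpen (Rees.deg (reesAlgebra I)) (tilde I a ha)
    have h1 : projMap I q (chart (I.map q) (q a) ha' w) =
        chart I a ha (Spec.map (CommRingCat.ofHom ρ) w) := by
      rw [← Scheme.Hom.comp_apply, ← Scheme.Hom.comp_apply, hK]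
    rw [h1]
    have : chart I a ha (Spec.map (CommRingCat.ofHom ρ) w) ∈ Set.range (chart I a ha) := ⟨_, rfl⟩
    rw [range_chart] at this
    exact this


/-- The standard affine open cover of `Proj R(I)` by the charts `D₊(aX)`, `a ∈ I`. -/
noncomputable def chartCover : (Proj (Rees.deg (reesAlgebra I))).OpenCover :=
  (Proj.affineOpenCoverOfIrrelevantLESpan (Rees.deg (reesAlgebra I))
    (fun a : I => tilde I a.1 a.2) (fun a => tilde_mem I a.1 a.2) (fun _ => one_pos)
    (irrelevant_le_span I)).openCover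

/-- (K3) for surjective `q : A → B`, `Proj R(I B) ⟶ Proj R(I)` is a closed immersion. -/
theorem isClosedImmersion_projMap (hq : Function.Surjective q) :
    IsClosedImmersion (projMap I q) := by
  refine IsZariskiLocalAtTarget.of_openCover (P := @IsClosedImmersion) (chartCover I) ?_
  intro a
  obtain ⟨ρ, hρ, hρs, -⟩ := exists_awayMap_surjective I q hq a.1 a.2
  have hK := chart_projMap I q a.1 a.2 ρ hρ
  have hK2 : projMap I q ⁻¹ᵁ (chart I a.1 a.2).opensRange =
      (chart (I.map q) (q a.1) (Ideal.mem_map_of_mem q a.2)).opensRange := by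
    rw [Proj.opensRange_awayι, Proj.opensRange_awayι]
    exact projMap_preimage_basicOpen I q hq a.1 a.2
  have hpb := (IsOpenImmersion.isPullback (Spec.map (CommRingCat.ofHom ρ))
    (chart (I.map q) (q a.1) (Ideal.mem_map_of_mem q a.2)) (chart I a.1 a.2) (projMap I q)
    hK hK2).flip
  have hci : IsClosedImmersion (Spec.map (CommRingCat.ofHom ρ)) :=
    IsClosedImmersion.spec_of_surjective _ hρs
  have e : pullback.snd (projMap I q) (chart I a.1 a.2) = hpb.isoPullback.inv ≫
      Spec.map (CommRingCat.ofHom ρ) := by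
    rw [Iso.eq_inv_comp]
    exact hpb.isoPullback_hom_snd
  have : IsClosedImmersion (pullback.snd (projMap I q) (chart I a.1 a.2)) := by
    rw [e]
    infer_instance
  exact this

end Groth.Agent.Lib.Helper25.ProjRees
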