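import Groth.Agent.Lib.Helper25.BlowUpExist

/-!
# Blowing up a product of ideals
-/

set_option autoImplicit false
universe u
open CategoryTheory CategoryTheory.Limits AlgebraicGeometry TopologicalSpace

namespace Groth.Agent.Lib.Helper25.BlowUpUP

/-- Ring lemma: if `I J = (f)` with `f` a nonzerodivisor and `a b = c f` with `a ∈ I`, `b ∈ J`,
then after a ring map making `c` a unit and keeping `f` a nonzerodivisor, the extension of `I` is
generated by the image of `a`, a nonzerodivisor. -/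
theorem map_eq_span_of_mul_eq_span {R S : Type*} [CommRing R] [CommRing S] (I J : Ideal R) (f : R)
    (hf : f ∈ nonZeroDivisors R) (hIJ : I * J = Ideal.span {f}) (a b c : R) (ha : a ∈ I)
    (hb : b ∈ J) (hab : a * b = c * f) (φ : R →+* S) (hc : IsUnit (φ c))
    (hφf : φ f ∈ nonZeroDivisors S) :
    I.map φ = Ideal.span {φ a} ∧ φ a ∈ nonZeroDivisors S := by
  constructor
  · apply le_antisymm
    · rw [Ideal.map_le_iff_le_comap]
      intro x hx
      rw [Ideal.mem_comap, Ideal.mem_span_singleton]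
      have hxb : x * b ∈ Ideal.span {f} := hIJ ▸ Ideal.mul_mem_mul hx hb
      obtain ⟨d, hd⟩ := Ideal.mem_span_singleton.1 hxb
      have h1 : (x * c - a * d) * f = 0 := by
        have : x * c * f = a * d * f := by
          calc x * c * f = x * (c * f) := by ring
            _ = x * (a * b) := by rw [hab]
            _ = a * (x * b) := by ring
            _ = a * (f * d) := by rw [hd]
            _ = a * d * f := by ring
        rw [sub_mul, this, sub_self]
      have h2 : x * c = a * d := sub_eq_zero.1 ((mem_nonZeroDivisors_iff_right.1 hf) _ h1)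
      obtain ⟨u, hu⟩ := hc
      refine ⟨φ d * ↑u⁻¹, ?_⟩
      have h3 : φ x * φ c = φ a * φ d := by rw [← map_mul, ← map_mul, h2]
      calc φ x = φ x * φ c * ↑u⁻¹ := by rw [← hu, mul_assoc, Units.mul_inv, mul_one]
        _ = φ a * φ d * ↑u⁻¹ := by rw [h3]
        _ = φ a * (φ d * ↑u⁻¹) := by ring
    · rw [Ideal.span_le, Set.singleton_subset_iff]
      exact Ideal.mem_map_of_mem φ ha
  · rw [mem_nonZeroDivisors_iff_right]
    intro z hz
    have h1 : z * (φ c * φ f) = 0 := by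
      rw [← map_mul, ← hab, map_mul, ← mul_assoc, hz, zero_mul]
    have h2 : φ c * φ f ∈ nonZeroDivisors S := Submonoid.mul_mem _ hc.mem_nonZeroDivisors hφf
    exact (mem_nonZeroDivisors_iff_right.1 h2) z h1

variable {X : Scheme.{u}}

/-- (P1) If a product of two ideal sheaves is effective Cartier, so is the first factor. -/
theorem isEffCartierIdeal_of_mul_left (𝓐 𝓑 : X.IdealSheafData)
    (h : BlowUp.IsEffCartierIdeal (𝓐 * 𝓑)) : BlowUp.IsEffCartierIdeal 𝓐 := by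
  intro x
  obtain ⟨U, hxU, f, hf, hI⟩ := h x
  rw [Scheme.IdealSheafData.ideal_mul, Pi.mul_apply] at hI
  set 𝔭 := (U.2.primeIdealOf ⟨x, hxU⟩).asIdeal with h𝔭
  have hex : ∃ a ∈ 𝓐.ideal U, ∃ b ∈ 𝓑.ideal U, ∃ c, a * b = c * f ∧ c ∉ 𝔭 := by
    by_contra hcon
    push Not at hcon
    have hle : 𝓐.ideal U * 𝓑.ideal U ≤ 𝔭 * Ideal.span {f} := by
      rw [Ideal.mul_le]
      intro a ha b hb
      have hab : a * b ∈ Ideal.span {f} := hI ▸ Ideal.mul_mem_mul ha hb
      obtain ⟨c, hc⟩ := Ideal.mem_span_singleton'.1 hab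
      rw [← hc]
      exact Ideal.mul_mem_mul (hcon a ha b hb c hc.symm) (Ideal.mem_span_singleton_self f)
    have hfm : f ∈ 𝔭 * Ideal.span {f} := hle (hI ▸ Ideal.mem_span_singleton_self f)
    obtain ⟨z, hz, hzf⟩ := Ideal.mem_mul_span_singleton.1 hfm
    have hz1 : z = 1 := by
      have : (z - 1) * f = 0 := by rw [sub_mul, hzf, one_mul, sub_self]
      exact sub_eq_zero.1 ((mem_nonZeroDivisors_iff_right.1 hf) _ this)
    rw [hz1] at hz
    exact (U.2.primeIdealOf ⟨x, hxU⟩).isPrime.ne_top ((Ideal.eq_top_iff_one _).2 hz)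
  obtain ⟨a, ha, b, hb, c, hab, hc𝔭⟩ := hex
  have hxc : x ∈ X.basicOpen c := (mem_basicOpen_iff_notMem_primeIdealOf U.2 x hxU c).2 hc𝔭
  have hle : X.basicOpen c ≤ U.1 := X.basicOpen_le c
  have hunit : IsUnit ((X.presheaf.map (homOfLE hle).op).hom c) :=
    X.toRingedSpace.isUnit_res_basicOpen c
  have hfnzd : (X.presheaf.map (homOfLE hle).op).hom f ∈ nonZeroDivisors Γ(X, X.basicOpen c) :=
    res_basicOpen_mem_nonZeroDivisors U.2 c f hf
  obtain ⟨h1, h2⟩ := map_eq_span_of_mul_eq_span (𝓐.ideal U) (𝓑.ideal U) f hf hI a b c ha hb hab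
    (X.presheaf.map (homOfLE hle).op).hom hunit hfnzd
  refine ⟨X.affineBasicOpen c, hxc, (X.presheaf.map (homOfLE hle).op).hom a, h2, ?_⟩
  rw [← 𝓐.map_ideal_basicOpen U c]
  exact h1

theorem isEffCartierIdeal_of_mul_right (𝓐 𝓑 : X.IdealSheafData)
    (h : BlowUp.IsEffCartierIdeal (𝓐 * 𝓑)) : BlowUp.IsEffCartierIdeal 𝓑 :=
  isEffCartierIdeal_of_mul_left 𝓑 𝓐 (mul_comm 𝓐 𝓑 ▸ h)

/-- (P2) Blowing up `I`, then the inverse image of `J`, is blowing up `I J`. -/
theorem isBlowUp_comp_of_mul {X' X'' : Scheme.{u}} (𝓘 𝓙 : X.IdealSheafData) (b : X' ⟶ X)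
    (hb : BlowUp.IsBlowUp b 𝓘) (b' : X'' ⟶ X') (hb' : BlowUp.IsBlowUp b' (𝓙.comap b)) :
    BlowUp.IsBlowUp (b' ≫ b) (𝓘 * 𝓙) := by
  refine ⟨?_, fun Y g hg => ?_⟩
  · rw [Groth.Agent.Lib.Helper1.comap_mul, Scheme.IdealSheafData.comap_comp,
      Scheme.IdealSheafData.comap_comp]
    exact isEffCartierIdeal_mul _ _
      (isEffCartierIdeal_comap_of_isBlowUp _ b' hb' _ hb.1) hb'.1
  · rw [Groth.Agent.Lib.Helper1.comap_mul] at hg
    have hg1 := isEffCartierIdeal_of_mul_left _ _ hg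
    have hg2 := isEffCartierIdeal_of_mul_right _ _ hg
    obtain ⟨h₁, hh₁, hu₁⟩ := hb.2 Y g hg1
    have hg2' : BlowUp.IsEffCartierIdeal ((𝓙.comap b).comap h₁) := by
      rw [← Scheme.IdealSheafData.comap_comp, hh₁]; exact hg2
    obtain ⟨h₂, hh₂, hu₂⟩ := hb'.2 Y h₁ hg2'
    refine ⟨h₂, ?_, fun m hm => ?_⟩
    · change h₂ ≫ b' ≫ b = g
      rw [← Category.assoc, hh₂, hh₁]
    · have hm' : m ≫ b' ≫ b = g := hm
      have h3 : m ≫ b' = h₁ := hu₁ (m ≫ b') (by
        change (m ≫ b') ≫ b = g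
        rw [Category.assoc, hm'])
      exact hu₂ m h3

/-- (P3) The morphism from the blowing up of `I J` to the blowing up of `I` is the blowing up of
the inverse image of `J`. -/
theorem isBlowUp_of_comp_eq_of_mul {X' X'' : Scheme.{u}} (𝓘 𝓙 : X.IdealSheafData) (b : X' ⟶ X)
    (hb : BlowUp.IsBlowUp b 𝓘) (c : X'' ⟶ X) (hc : BlowUp.IsBlowUp c (𝓘 * 𝓙)) (g : X'' ⟶ X')
    (hg : g ≫ b = c) : BlowUp.IsBlowUp g (𝓙.comap b) := by
  obtain ⟨Z, b', hb'⟩ := exists_isBlowUp X' (𝓙.comap b)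
  have h1 := isBlowUp_comp_of_mul 𝓘 𝓙 b hb b' hb'
  obtain ⟨θ, hθ⟩ := exists_iso_of_isBlowUp c (b' ≫ b) _ hc h1
  have hc1 : BlowUp.IsEffCartierIdeal (𝓘.comap c) := by
    have := hc.1
    rw [Groth.Agent.Lib.Helper1.comap_mul] at this
    exact isEffCartierIdeal_of_mul_left _ _ this
  have h2 : θ.hom ≫ b' = g := by
    refine (hb.2 X'' c hc1).unique ?_ hg
    rw [Category.assoc, hθ]
  rw [← h2]
  exact isBlowUp_iso_comp b' _ θ hb'

/-- The unique morphism from the blowing up of `I J` to the blowing up of `I` exists. -/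
theorem exists_factor_of_mul {X' X'' : Scheme.{u}} (𝓘 𝓙 : X.IdealSheafData) (b : X' ⟶ X)
    (hb : BlowUp.IsBlowUp b 𝓘) (c : X'' ⟶ X) (hc : BlowUp.IsBlowUp c (𝓘 * 𝓙)) :
    ∃ g : X'' ⟶ X', g ≫ b = c ∧ BlowUp.IsBlowUp g (𝓙.comap b) := by
  have hc1 : BlowUp.IsEffCartierIdeal (𝓘.comap c) := by
    have := hc.1
    rw [Groth.Agent.Lib.Helper1.comap_mul] at this
    exact isEffCartierIdeal_of_mul_left _ _ this
  obtain ⟨g, hg, -⟩ := hb.2 X'' c hc1
  exact ⟨g, hg, isBlowUp_of_comp_eq_of_mul 𝓘 𝓙 b hb c hc g hg⟩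

end Groth.Agent.Lib.Helper25.BlowUpUP
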