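import Groth.Agent.Lib.Helper25.StrictClosed
import Groth.Agent.Lib.Helper25.BlowUpDense

set_option autoImplicit false
universe u
open CategoryTheory CategoryTheory.Limits AlgebraicGeometry TopologicalSpace

namespace Groth.Agent.Lib.Helper25.BlowUpUP

variable {X : Scheme.{u}}

theorem complSupport_inf_eq_basicOpen (𝓙 : X.IdealSheafData) (U : X.affineOpens)
    (t : Γ(X, U.1)) (hI : 𝓙.ideal U = Ideal.span {t}) :
    complSupport 𝓙 ⊓ U.1 = X.basicOpen t := by
  ext y
  constructor
  · rintro ⟨hy1, hyU⟩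
    by_contra hyt
    apply hy1
    change y ∈ 𝓙.support
    rw [Scheme.IdealSheafData.mem_support_iff_of_mem hyU, Scheme.mem_zeroLocus_iff]
    intro f hf hyf
    rw [SetLike.mem_coe, hI, Ideal.mem_span_singleton] at hf
    obtain ⟨c, rfl⟩ := hf
    rw [Scheme.basicOpen_mul] at hyf
    exact hyt hyf.1
  · intro hy
    exact ⟨notMem_support_of_mem_basicOpen 𝓙 U t hI y hy, X.basicOpen_le t hy⟩

/-- The open complement of an effective Cartier divisor is affine over the ambient scheme. -/
theorem isAffineHom_ι_complSupport (𝓙 : X.IdealSheafData) (h : BlowUp.IsEffCartierIdeal 𝓙) :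
    IsAffineHom (complSupport 𝓙).ι := by
  apply isAffineHom_of_forall_exists_isAffineOpen
  intro x
  obtain ⟨V, hxV, t, ht, hI⟩ := h x
  refine ⟨V.1, hxV, V.2, ?_⟩
  rw [← (complSupport 𝓙).ι.isAffineOpen_iff_of_isOpenImmersion,
    Scheme.Hom.image_preimage_eq_opensRange_inf, Scheme.Opens.opensRange_ι,
    complSupport_inf_eq_basicOpen 𝓙 V t hI]
  exact V.2.basicOpen t

end Groth.Agent.Lib.Helper25.BlowUpUP
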