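import Mathlib

open AlgebraicGeometry CategoryTheory Limits TensorProduct IsLocalRing

namespace Groth.Agent.Lib.Helper25.RedDVR

universe u

/-- If the closed fibre of a local ring map is reduced then nilpotents lie in `𝔪 A`. -/
theorem mem_map_maximalIdeal_of_isNilpotent {R A : Type*} [CommRing R] [IsLocalRing R]
    [CommRing A] [Algebra R A] [IsReduced ((maximalIdeal R).Fiber A)] (n : A)
    (hn : IsNilpotent n) : n ∈ (maximalIdeal R).map (algebraMap R A) := by
  let e : (maximalIdeal R).Fiber A ≃ₐ[R] A ⧸ (maximalIdeal R).map (algebraMap R A) :=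
    (Algebra.TensorProduct.congr (.symm <| .ofBijective _
      (Ideal.bijective_algebraMap_quotient_residueField (maximalIdeal R))) .refl).trans <|
    (Algebra.TensorProduct.comm _ _ _).trans
    ((Algebra.TensorProduct.quotIdealMapEquivTensorQuot A (maximalIdeal R)).symm.restrictScalars _)
  have : IsReduced (A ⧸ (maximalIdeal R).map (algebraMap R A)) :=
    isReduced_of_injective e.symm.toRingEquiv e.symm.injective
  rw [← Ideal.Quotient.eq_zero_iff_mem]
  exact (hn.map (Ideal.Quotient.mk _)).eq_zero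

/-- Nakayama-type statement: if `π` is regular, nilpotents are divisible by `π` and `A` is
Noetherian, then some `a ≡ 1 mod π` has `A[1/a]` reduced. -/
theorem exists_isReduced_away {A : Type*} [CommRing A] [IsNoetherianRing A] (π : A)
    (hπ : π ∈ nonZeroDivisors A) (hred : ∀ n : A, IsNilpotent n → π ∣ n) :
    ∃ a : A, π ∣ (a - 1) ∧ IsReduced (Localization.Away a) := by
  have hle : nilradical A ≤ Ideal.span {π} • nilradical A := by
    intro n hn
    obtain ⟨b, rfl⟩ := hred n hn
    have hb : b ∈ nilradical A := by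
      obtain ⟨k, hk⟩ := hn
      refine ⟨k, ?_⟩
      rw [mul_pow] at hk
      exact (mul_left_mem_nonZeroDivisors_eq_zero_iff (pow_mem hπ k)).mp hk
    exact Submodule.smul_mem_smul (Ideal.mem_span_singleton_self π) hb
  obtain ⟨a, ha1, ha⟩ := Submodule.exists_sub_one_mem_and_smul_eq_zero_of_fg_of_le_smul
    (Ideal.span {π}) (nilradical A) (IsNoetherian.noetherian _) hle
  refine ⟨a, Ideal.mem_span_singleton.mp ha1, ⟨fun x hx => ?_⟩⟩
  obtain ⟨k, hk⟩ := hx
  obtain ⟨y, s, rfl⟩ := IsLocalization.exists_mk'_eq (Submonoid.powers a) x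
  rw [← IsLocalization.mk'_pow, IsLocalization.mk'_eq_zero_iff] at hk
  obtain ⟨⟨_, i, rfl⟩, hi⟩ := hk
  rw [IsLocalization.mk'_eq_zero_iff]
  have hi' : a ^ i * y ^ k = 0 := hi
  have hay : a * y ∈ nilradical A := by
    refine ⟨i + k, ?_⟩
    rw [mul_pow, pow_add, pow_add]
    calc a ^ i * a ^ k * (y ^ i * y ^ k) = (a ^ i * y ^ k) * (a ^ k * y ^ i) := by ring
      _ = 0 := by rw [hi', zero_mul]
  refine ⟨⟨a ^ 2, 2, rfl⟩, ?_⟩
  have := ha _ hay
  simp only [smul_eq_mul] at this
  change a ^ 2 * y = 0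
  rw [pow_two, mul_assoc]
  exact this

end Groth.Agent.Lib.Helper25.RedDVR
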