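import Mathlib
import Groth.Agent.Lib.Helper25.RedDVRRing
import Groth.Agent.Lib.Helper25.RedFiber

open AlgebraicGeometry CategoryTheory Limits TensorProduct IsLocalRing

namespace Groth.Agent.Lib.Helper25.RedDVR

universe u

theorem isReduced_fiber_ring_of_isReduced_fiber_Spec {R S : Type u} [CommRing R] [CommRing S]
    [Algebra R S] (p : PrimeSpectrum R)
    (h : IsReduced ((Spec.map (CommRingCat.ofHom <| algebraMap R S)).fiber p)) :
    IsReduced (p.asIdeal.Fiber S) := by
  have e : (Spec.map (CommRingCat.ofHom <| algebraMap R S)).fiber p ≅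
      Spec (CommRingCat.of (p.asIdeal.Fiber S)) :=
    Arrow.leftFunc.mapIso (Spec.fiberToSpecResidueFieldIso R S p)
  have : IsReduced (Spec (CommRingCat.of (p.asIdeal.Fiber S))) :=
    isReduced_of_isOpenImmersion e.inv
  exact (affine_isReduced_iff _).mp this

/-- A scheme covered by reduced opens is reduced. -/
theorem isReduced_of_forall_exists {X : Scheme.{u}}
    (H : ∀ t : X, ∃ U : X.Opens, t ∈ U ∧ IsReduced U.toScheme) : IsReduced X := by
  choose U hU hred using H
  let 𝒰 : X.OpenCover :=
    Scheme.Cover.mkOfCovers _ (fun t => (U t).toScheme) (fun t => (U t).ι)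
      (fun t => ⟨t, by simpa using ⟨⟨t, hU t⟩, rfl⟩⟩) (fun _ => inferInstance)
  have : ∀ i, IsReduced (𝒰.X i) := hred
  exact IsReduced.of_openCover _ 𝒰

/-- Local statement: near the special fibre, a flat locally noetherian scheme over a local ring
with principal maximal ideal and reduced special fibre is reduced. -/
theorem exists_basicOpen_isReduced {R : Type u} [CommRing R] [IsLocalRing R] {X : Scheme.{u}}
    (f : X ⟶ Spec (CommRingCat.of R)) [Flat f] [IsLocallyNoetherian X]
    (π : R) (hπ : π ∈ nonZeroDivisors R) (hm : maximalIdeal R = Ideal.span {π})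
    (hred : IsReduced (f.fiber (closedPoint R))) (U : X.Opens) (hU : IsAffineOpen U) :
    ∃ a : Γ(X, U), (∀ x ∈ U, f x = closedPoint R → x ∈ X.basicOpen a) ∧
      IsReduced (X.basicOpen a).toScheme := by
  obtain ⟨φ, hφ⟩ : ∃ φ : CommRingCat.of R ⟶ Γ(X, U), Spec.map φ = hU.fromSpec ≫ f :=
    ⟨Spec.preimage (hU.fromSpec ≫ f), Spec.map_preimage _⟩
  have hflat : φ.hom.Flat := by
    rw [← HasRingHomProperty.Spec_iff (P := @Flat), hφ]
    infer_instance
  have : IsNoetherianRing Γ(X, U) := IsLocallyNoetherian.component_noetherian ⟨U, hU⟩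
  algebraize [φ.hom]
  have hfib : IsReduced ((Spec.map φ).fiber (closedPoint R)) := by
    have : IsReduced (pullback f ((Spec (CommRingCat.of R)).fromSpecResidueField (closedPoint R))) :=
      hred
    have e₁ : Spec.map φ ≫ 𝟙 _ = hU.fromSpec ≫ f := by simp [hφ]
    have e₂ : (Spec (CommRingCat.of R)).fromSpecResidueField (closedPoint R) ≫ 𝟙 _ =
        𝟙 _ ≫ (Spec (CommRingCat.of R)).fromSpecResidueField (closedPoint R) := by simp
    have hoi := Scheme.pullback_map_isOpenImmersion (Spec.map φ)
        ((Spec (CommRingCat.of R)).fromSpecResidueField (closedPoint R)) f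
        ((Spec (CommRingCat.of R)).fromSpecResidueField (closedPoint R))
        hU.fromSpec (𝟙 _) (𝟙 _) e₁ e₂
    exact @isReduced_of_isOpenImmersion _ _ _ hoi this
  have hfib' : IsReduced ((maximalIdeal R).Fiber Γ(X, U)) :=
    isReduced_fiber_ring_of_isReduced_fiber_Spec (R := R) (S := Γ(X, U)) (closedPoint R) hfib
  have hdiv : ∀ n : Γ(X, U), IsNilpotent n → (algebraMap R Γ(X, U) π) ∣ n := by
    intro n hn
    have := mem_map_maximalIdeal_of_isNilpotent (R := R) n hn
    rw [hm, Ideal.map_span, Set.image_singleton, Ideal.mem_span_singleton] at this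
    exact this
  have hreg : algebraMap R Γ(X, U) π ∈ nonZeroDivisors Γ(X, U) := by
    rw [mem_nonZeroDivisors_iff_left]
    intro x hx
    have := Module.Flat.isSMulRegular_of_nonZeroDivisors (M := Γ(X, U)) hπ
    apply this
    simp only [Algebra.smul_def, mul_zero]
    exact hx
  obtain ⟨a, ha1, hared⟩ := exists_isReduced_away _ hreg hdiv
  refine ⟨a, ?_, ?_⟩
  · intro x hxU hx
    obtain ⟨p, rfl⟩ : x ∈ Set.range hU.fromSpec := by rw [hU.range_fromSpec]; exact hxU
    rw [← hU.fromSpec_image_basicOpen]
    refine ⟨p, ?_, rfl⟩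
    change a ∉ p.asIdeal
    intro hap
    have hπp : algebraMap R Γ(X, U) π ∈ p.asIdeal := by
      have h1 : (Spec.map φ) p = closedPoint R := by rw [hφ]; exact hx
      have h2 : π ∈ (closedPoint R).asIdeal := by
        change π ∈ maximalIdeal R
        rw [hm]; exact Ideal.mem_span_singleton_self π
      rw [← h1] at h2
      exact h2
    obtain ⟨b, hb⟩ := ha1
    have : (1 : Γ(X, U)) ∈ p.asIdeal := by
      have h1 : (1 : Γ(X, U)) = a - algebraMap R Γ(X, U) π * b := by rw [← hb]; ring
      rw [h1]
      exact sub_mem hap (Ideal.mul_mem_right _ _ hπp)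
    exact p.isPrime.ne_top ((Ideal.eq_top_iff_one _).mpr this)
  · have hloc := hU.isLocalization_basicOpen a
    have haff : IsAffineOpen (X.basicOpen a) := hU.basicOpen a
    have : IsAffine (X.basicOpen a).toScheme := haff
    let e : Localization.Away a ≃ₐ[Γ(X, U)] Γ(X, X.basicOpen a) :=
      IsLocalization.algEquiv (Submonoid.powers a) _ _
    have h1 : _root_.IsReduced Γ(X, X.basicOpen a) :=
      isReduced_of_injective e.symm.toRingEquiv e.symm.injective
    have h2 : _root_.IsReduced Γ((X.basicOpen a).toScheme, ⊤) :=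
      isReduced_of_injective (X.basicOpen a).topIso.hom.hom
        (X.basicOpen a).topIso.commRingCatIsoToRingEquiv.injective
    exact isReduced_of_isAffine_isReduced _

end Groth.Agent.Lib.Helper25.RedDVR
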