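import Mathlib

set_option autoImplicit false
universe u

open TensorProduct

namespace Groth.Agent.Lib.Helper25.FlatEtale

variable {R T : Type*} [CommRing R] [CommRing T] [Algebra R T]
  (P : Type*) [AddCommGroup P] [Module T P] [Module R P] [IsScalarTower R T P]

/-- the action map `T ⊗[R] P → P`, `T`-linear -/
noncomputable def act : T ⊗[R] P →ₗ[T] P := LinearMap.liftBaseChange T (LinearMap.id : P →ₗ[R] P)

@[simp] theorem act_tmul (t : T) (p : P) : act (R := R) P (t ⊗ₜ[R] p) = t • p := by
  simp [act]

/-- `x ↦ (p ↦ x · (1 ⊗ p))` where `T ⊗ T` acts on `T ⊗ P` factorwise -/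
noncomputable def twist (x : T ⊗[R] T) : P →ₗ[R] T ⊗[R] P :=
  (LinearMap.lTensor T ((act (R := R) P).restrictScalars R)) ∘ₗ
    (TensorProduct.assoc R T T P).toLinearMap ∘ₗ (TensorProduct.mk R (T ⊗[R] T) P x)

theorem twist_tmul (a b : T) (p : P) : twist (R := R) P (a ⊗ₜ[R] b) p = a ⊗ₜ[R] (b • p) := by
  simp [twist]

theorem twist_add (x y : T ⊗[R] T) (p : P) :
    twist (R := R) P (x + y) p = twist P x p + twist P y p := by
  simp [twist, TensorProduct.add_tmul]

theorem twist_zero (p : P) : twist (R := R) P (0 : T ⊗[R] T) p = 0 := by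
  simp [twist]

theorem act_twist (x : T ⊗[R] T) (p : P) :
    act (R := R) P (twist P x p) = (Algebra.TensorProduct.lmul' R x : T) • p := by
  induction x using TensorProduct.induction_on with
  | zero => simp [twist_zero]
  | tmul a b => simp [twist_tmul, mul_smul]
  | add x y hx hy => rw [twist_add, map_add, hx, hy, map_add, add_smul]

theorem twist_left_mul (s : T) (x : T ⊗[R] T) (p : P) :
    twist (R := R) P ((s ⊗ₜ[R] 1) * x) p = s • twist P x p := by
  induction x using TensorProduct.induction_on with
  | zero => simp [twist_zero]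
  | tmul a b => simp [twist_tmul, TensorProduct.smul_tmul']
  | add x y hx hy => rw [mul_add, twist_add, hx, hy, twist_add, smul_add]

theorem twist_right_mul (s : T) (x : T ⊗[R] T) (p : P) :
    twist (R := R) P ((1 ⊗ₜ[R] s) * x) p = twist P x (s • p) := by
  induction x using TensorProduct.induction_on with
  | zero => simp [twist_zero]
  | tmul a b => simp [twist_tmul, mul_smul, mul_comm s b]
  | add x y hx hy => rw [mul_add, twist_add, hx, hy, twist_add]

variable (R T)

theorem flat_of_flat_of_unramified [Algebra.FormallyUnramified R T] [Algebra.EssFiniteType R T]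
    [Module.Flat R P] : Module.Flat T P := by
  let e := Algebra.FormallyUnramified.elem R T
  let i : P →ₗ[T] T ⊗[R] P :=
    { toFun := fun p => twist P e p
      map_add' := fun p p' => map_add _ p p'
      map_smul' := fun s p => by
        simp only [RingHom.id_apply]
        rw [← twist_right_mul, ← twist_left_mul, mul_comm (1 ⊗ₜ[R] s) e, mul_comm (s ⊗ₜ[R] 1) e,
          mul_comm e, mul_comm e, Algebra.FormallyUnramified.one_tmul_mul_elem] }
  refine Module.Flat.of_retract i (act (R := R) P) ?_
  ext p
  show act P (twist P e p) = p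
  rw [act_twist, Algebra.FormallyUnramified.lmul_elem, one_smul]

theorem flat_iff_of_etale [Algebra.Etale R T] : Module.Flat R P ↔ Module.Flat T P := by
  constructor
  · intro h
    exact flat_of_flat_of_unramified R T P
  · intro h
    exact Module.Flat.trans R T P

end Groth.Agent.Lib.Helper25.FlatEtale
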