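import Mathlib
set_option autoImplicit false
universe u
open CategoryTheory CategoryTheory.Limits AlgebraicGeometry TensorProduct

namespace Groth.Agent.Lib.Helper25.BertiniJets


/-- Jacobian criterion with a derivation: if `D g ≡ 1 mod g` then `A/(g)` is formally smooth. -/
theorem formallySmooth_quotient_of_derivation {k A : Type u} [CommRing k] [CommRing A]
    [Algebra k A] [Algebra.FormallySmooth k A] (g : A) (D : Derivation k A A)
    (hD : D g - 1 ∈ Ideal.span {g}) : Algebra.FormallySmooth k (A ⧸ Ideal.span {g}) := by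
  apply Algebra.FormallySmooth.of_comp_surjective
  intro C _ _ I hI φ
  let φ₀ : A →ₐ[k] C ⧸ I := φ.comp (Ideal.Quotient.mkₐ k (Ideal.span {g}))
  obtain ⟨h, hh⟩ := Algebra.FormallySmooth.comp_surjective k A I hI φ₀
  have hh' : ∀ a, Ideal.Quotient.mk I (h a) = φ₀ a := fun a => by
    rw [← hh]; rfl
  set ε : C := h g with hε
  have hεI : ε ∈ I := by
    rw [← Ideal.Quotient.eq_zero_iff_mem, hh']
    change φ (Ideal.Quotient.mk _ g) = 0
    have hg0 : (Ideal.Quotient.mk (Ideal.span {g})) g = 0 :=
      Ideal.Quotient.eq_zero_iff_mem.mpr (Ideal.subset_span (Set.mem_singleton g))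
    rw [hg0, map_zero]
  have hε2 : ε * ε = 0 := by
    have : ε * ε ∈ I ^ 2 := by rw [pow_two]; exact Ideal.mul_mem_mul hεI hεI
    rw [hI] at this
    exact this
  obtain ⟨y, hy⟩ := Ideal.mem_span_singleton'.mp hD
  let h' : A →ₐ[k] C :=
    { toFun := fun a => h a - h (D a) * ε
      map_one' := by simp
      map_mul' := fun a b => by
        rw [Derivation.leibniz, map_add, map_mul, smul_eq_mul, smul_eq_mul, map_mul, map_mul]
        have : (h a - h (D a) * ε) * (h b - h (D b) * ε) =
            h a * h b - (h a * h (D b) + h b * h (D a)) * ε + h (D a) * h (D b) * (ε * ε) := by ring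
        rw [this, hε2, mul_zero, add_zero]
      map_zero' := by simp
      map_add' := fun a b => by simp only [map_add]; ring
      commutes' := fun r => by simp }
  have hg : h' g = 0 := by
    change h g - h (D g) * ε = 0
    have hDg : D g = 1 + y * g := by rw [hy]; ring
    rw [hDg, map_add, map_one, map_mul, ← hε]
    have : ε - (1 + h y * ε) * ε = - h y * (ε * ε) := by ring
    rw [this, hε2, mul_zero]
  refine ⟨Ideal.Quotient.liftₐ (Ideal.span {g}) h' ?_, ?_⟩
  · intro x hx
    obtain ⟨z, rfl⟩ := Ideal.mem_span_singleton'.mp hx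
    rw [map_mul, hg, mul_zero]
  · apply Ideal.Quotient.algHom_ext
    ext a
    simp only [AlgHom.coe_comp, Function.comp_apply, Ideal.Quotient.mkₐ_eq_mk,
      Ideal.Quotient.liftₐ_apply, Ideal.Quotient.lift_mk]
    change Ideal.Quotient.mk I (h a - h (D a) * ε) = φ (Ideal.Quotient.mk _ a)
    rw [map_sub, map_mul, Ideal.Quotient.eq_zero_iff_mem.mpr hεI, mul_zero, sub_zero, hh']
    rfl




section Core
open MvPolynomial
variable (k : Type u) [Field k] {A : Type u} [CommRing A] [Algebra k A] {m : ℕ}
  (a : Fin m → A) (f₀ : A)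

/-- The member `f₀ + Σ c_i a_i` of the affine-linear system. -/
def Fc (c : Fin m → k) : A := f₀ + ∑ i, algebraMap k A (c i) * a i

/-- The universal member `f₀ + Σ X_i a_i`. -/
noncomputable def FU : MvPolynomial (Fin m) A := C f₀ + ∑ i, X i * C (a i)

/-- A derivation applied coefficientwise to the universal member. -/
noncomputable def GU (D : Derivation k A A) : MvPolynomial (Fin m) A :=
  C (D f₀) + ∑ i, X i * C (D (a i))

/-- Evaluation of the parameters at `c`. -/
noncomputable def evc (c : Fin m → k) : MvPolynomial (Fin m) A →+* A :=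
  MvPolynomial.eval (fun i => algebraMap k A (c i))

variable {k}

theorem evc_FU (c : Fin m → k) : evc k c (FU a f₀) = Fc k a f₀ c := by
  simp only [evc, FU, Fc, map_add, map_sum, map_mul, eval_C, eval_X]

theorem evc_GU (c : Fin m → k) (D : Derivation k A A) :
    evc k c (GU k a f₀ D) = D (Fc k a f₀ c) := by
  simp only [evc, GU, Fc, map_add, map_sum, map_mul, eval_C, eval_X, Derivation.leibniz,
    Derivation.map_algebraMap, smul_eq_mul, mul_zero, add_zero]

theorem evc_map (c : Fin m → k) (q : MvPolynomial (Fin m) k) :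
    evc k c (MvPolynomial.map (algebraMap k A) q) = algebraMap k A (MvPolynomial.eval c q) := by
  simp only [evc]
  rw [MvPolynomial.eval_map]
  exact (MvPolynomial.eval₂_comp_left (algebraMap k A) (RingHom.id k) c q).symm

/-- The ideal of the universal singular locus. -/
noncomputable def JU {N : ℕ} (Dt : Fin N → Derivation k A A) : Ideal (MvPolynomial (Fin m) A) :=
  Ideal.span (insert (FU a f₀) (Set.range fun t => GU k a f₀ (Dt t)))

theorem smooth_of_mem_JU [Algebra.Smooth k A] {N : ℕ} (Dt : Fin N → Derivation k A A)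
    (q : MvPolynomial (Fin m) k) (hq : MvPolynomial.map (algebraMap k A) q ∈ JU a f₀ Dt)
    (c : Fin m → k) (hc : MvPolynomial.eval c q ≠ 0) :
    Algebra.Smooth k (A ⧸ Ideal.span {Fc k a f₀ c}) := by
  have h1 : algebraMap k A (MvPolynomial.eval c q) ∈
      Ideal.span (insert (Fc k a f₀ c) (Set.range fun t => Dt t (Fc k a f₀ c))) := by
    rw [← evc_map]
    have := Ideal.mem_map_of_mem (evc k c) hq
    rw [JU, Ideal.map_span] at this
    convert this using 2
    rw [Set.image_insert_eq, evc_FU, ← Set.range_comp]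
    congr 1
    ext x
    simp only [Set.mem_range, Function.comp_apply, evc_GU]
  have h2 : (1 : A) ∈
      Ideal.span (insert (Fc k a f₀ c) (Set.range fun t => Dt t (Fc k a f₀ c))) := by
    have hu : IsUnit (algebraMap k A (MvPolynomial.eval c q)) := (IsUnit.mk0 _ hc).map _
    exact (Ideal.eq_top_of_isUnit_mem _ h1 hu) ▸ Submodule.mem_top
  obtain ⟨r, z, hz, h3⟩ := Ideal.mem_span_insert.mp h2
  obtain ⟨rt, hrt⟩ := Ideal.mem_span_range_iff_exists_fun.mp hz
  let D : Derivation k A A := ∑ t, rt t • Dt t
  have hD : D (Fc k a f₀ c) - 1 ∈ Ideal.span {Fc k a f₀ c} := by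
    have : D (Fc k a f₀ c) = z := by
      rw [← hrt]
      have : ∀ (S : Finset (Fin N)) (x : A),
          (∑ t ∈ S, rt t • Dt t : Derivation k A A) x = ∑ t ∈ S, rt t * Dt t x := by
        intro S x
        classical
        induction S using Finset.induction_on with
        | empty => simp
        | insert t S ht ih => rw [Finset.sum_insert ht, Finset.sum_insert ht, Derivation.add_apply, ih]; rfl
      exact this _ _
    rw [this, h3]
    rw [Ideal.mem_span_singleton']
    exact ⟨-r, by ring⟩
  haveI := formallySmooth_quotient_of_derivation (Fc k a f₀ c) D hD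
  exact ⟨inferInstance,
    Algebra.FinitePresentation.quotient (Submodule.fg_span (Set.finite_singleton _))⟩

end Core



open Cardinal in
/-- If `c ∈ L^m` satisfies the affine-linear relations `φ(w₀) + Σ c_i φ(w_i) = 0` for all functionals
`φ` on a space `E` spanned by the `w_i`, then `trdeg_κ κ(c) ≤ m - dim E`. -/
theorem trdeg_add_finrank_le {κ L : Type u} [Field κ] [Field L] [Algebra κ L] {E : Type u}
    [AddCommGroup E] [Module κ E] [FiniteDimensional κ E] {m : ℕ} (w : Fin m → E)
    (hw : Submodule.span κ (Set.range w) = ⊤) (w₀ : E) (c : Fin m → L)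
    (hrel : ∀ φ : E →ₗ[κ] κ, algebraMap κ L (φ w₀) + ∑ i, c i * algebraMap κ L (φ (w i)) = 0)
    (halg : Algebra.IsAlgebraic (Algebra.adjoin κ (Set.range c)) L) :
    Algebra.trdeg κ L + (Module.finrank κ E : Cardinal.{u}) ≤ (m : Cardinal.{u}) := by
  classical
  obtain ⟨b, -, -, hb₂, hb₃⟩ := exists_linearIndepOn_extension (K := κ) (v := w)
    (linearIndepOn_empty κ w) (Set.empty_subset Set.univ)
  have hspan : ⊤ ≤ Submodule.span κ (Set.range fun x : b => w x) := by
    rw [← hw, Submodule.span_le]
    rintro _ ⟨i, rfl⟩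
    have := hb₂ ⟨i, Set.mem_univ i, rfl⟩
    have hr : (Set.range fun x : b => w x) = w '' b := by
      ext x
      constructor
      · rintro ⟨⟨i, hi⟩, rfl⟩; exact ⟨i, hi, rfl⟩
      · rintro ⟨i, hi, rfl⟩; exact ⟨⟨i, hi⟩, rfl⟩
    rw [hr]
    exact this
  let B : Module.Basis b κ E := Module.Basis.mk hb₃ hspan
  have hB : ∀ s : b, B s = w s := fun s => Module.Basis.mk_apply hb₃ hspan s
  -- the relation for the coordinate functional
  have key : ∀ s : b, c s = -algebraMap κ L (B.coord s w₀) -
      ∑ i ∈ Finset.univ.filter (fun i => i ∉ b), c i * algebraMap κ L (B.coord s (w i)) := by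
    intro s
    have h1 := hrel (B.coord s)
    rw [← Finset.sum_filter_add_sum_filter_not Finset.univ (fun i => i ∈ b)] at h1
    have h2 : ∑ i ∈ Finset.univ.filter (fun i => i ∈ b), c i * algebraMap κ L (B.coord s (w i)) =
        c s := by
      rw [Finset.sum_eq_single_of_mem (s : Fin m) (by simp [s.2])]
      · rw [← hB s, Module.Basis.coord_apply, Module.Basis.repr_self, Finsupp.single_eq_same,
          map_one, mul_one]
      · intro i hi his
        have hib : i ∈ b := (Finset.mem_filter.mp hi).2
        have : w i = B ⟨i, hib⟩ := (hB ⟨i, hib⟩).symm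
        have hne : (⟨i, hib⟩ : b) ≠ s := fun h => his (congrArg Subtype.val h)
        rw [this, Module.Basis.coord_apply, Module.Basis.repr_self,
          Finsupp.single_eq_of_ne hne.symm, map_zero, mul_zero]
    rw [h2] at h1
    linear_combination h1
  let Tf : Finset L := (Finset.univ.filter (fun i => i ∉ b)).image c
  have hle : Algebra.adjoin κ (Set.range c) ≤ Algebra.adjoin κ (Tf : Set L) := by
    apply Algebra.adjoin_le
    rintro _ ⟨i, rfl⟩
    by_cases hi : i ∈ b
    · have := key ⟨i, hi⟩
      simp only at this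
      rw [this]
      refine Subalgebra.sub_mem _ (Subalgebra.neg_mem _ (Subalgebra.algebraMap_mem _ _)) ?_
      refine Subalgebra.sum_mem _ fun j hj => ?_
      refine Subalgebra.mul_mem _ (Algebra.subset_adjoin ?_) (Subalgebra.algebraMap_mem _ _)
      exact Finset.mem_coe.mpr (Finset.mem_image_of_mem c hj)
    · exact Algebra.subset_adjoin (Finset.mem_coe.mpr
        (Finset.mem_image_of_mem c (Finset.mem_filter.mpr ⟨Finset.mem_univ i, hi⟩)))
  haveI : Algebra.IsAlgebraic (Algebra.adjoin κ (Tf : Set L)) L :=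
    ⟨fun x => (halg.isAlgebraic x).tower_top_of_subalgebra_le hle⟩
  have h3 : Algebra.trdeg κ L ≤ #(Tf : Set L) :=
    Algebra.IsAlgebraic.trdeg_le_cardinalMk κ (Tf : Set L)
  have h4 : #(Tf : Set L) = (Tf.card : Cardinal.{u}) := Cardinal.mk_coe_finset
  have h4' : Tf.card ≤ (Finset.univ.filter (fun i : Fin m => i ∉ b)).card := Finset.card_image_le
  have h5 : Module.finrank κ E = (Finset.univ.filter (fun i : Fin m => i ∈ b)).card := by
    rw [Module.finrank_eq_card_basis B, Fintype.card_subtype]
  have h6 : (Finset.univ.filter (fun i : Fin m => i ∈ b)).card +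
      (Finset.univ.filter (fun i : Fin m => i ∉ b)).card = m := by
    rw [Finset.card_filter_add_card_filter_not]; simp
  rw [h4] at h3
  calc Algebra.trdeg κ L + (Module.finrank κ E : Cardinal.{u})
      ≤ (Tf.card : Cardinal.{u}) + (Module.finrank κ E : Cardinal.{u}) := by gcongr
    _ = ((Tf.card + Module.finrank κ E : ℕ) : Cardinal.{u}) := by push_cast; rfl
    _ ≤ (m : Cardinal.{u}) := by
        apply Nat.cast_le.mpr
        omega




theorem span_one_tmul_eq_top {A : Type u} [CommRing A] {K : Type u} [CommRing K] [Algebra A K]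
    {M : Type u} [AddCommGroup M] [Module A M] {ι : Type*} (w : ι → M)
    (hw : Submodule.span A (Set.range w) = ⊤) :
    Submodule.span K (Set.range fun i => (1 : K) ⊗ₜ[A] w i) = ⊤ := by
  rw [eq_top_iff]
  rintro z -
  induction z using TensorProduct.induction_on with
  | zero => exact Submodule.zero_mem _
  | add x y hx hy => exact Submodule.add_mem _ hx hy
  | tmul x y =>
    have hy : y ∈ Submodule.span A (Set.range w) := by rw [hw]; trivial
    induction hy using Submodule.span_induction with
    | mem y hy =>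
      obtain ⟨i, rfl⟩ := hy
      have : x ⊗ₜ[A] w i = x • ((1 : K) ⊗ₜ[A] w i) := by
        rw [TensorProduct.smul_tmul', smul_eq_mul, mul_one]
      rw [this]
      exact Submodule.smul_mem _ _ (Submodule.subset_span ⟨i, rfl⟩)
    | zero => rw [TensorProduct.tmul_zero]; exact Submodule.zero_mem _
    | add y y' _ _ hy hy' => rw [TensorProduct.tmul_add]; exact Submodule.add_mem _ hy hy'
    | smul r y _ hy =>
      rw [← TensorProduct.smul_tmul, Algebra.smul_def]
      have : (algebraMap A K r * x) ⊗ₜ[A] y = (algebraMap A K r) • (x ⊗ₜ[A] y) := by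
        rw [TensorProduct.smul_tmul', smul_eq_mul]
      rw [this]
      exact Submodule.smul_mem _ _ hy

/-- The transcendence degree count. -/
theorem count {k : Type u} [Field k] {A : Type u} [CommRing A] [Algebra k A]
    (𝔭 : Ideal A) [𝔭.IsPrime] {L : Type u} [Field L] [Algebra k L] [Algebra A L]
    [IsScalarTower k A L] (hker : RingHom.ker (algebraMap A L) = 𝔭)
    {M : Type u} [AddCommGroup M] [Module A M] [Module.Finite A M]
    {m : ℕ} (w : Fin m → M) (hw : Submodule.span A (Set.range w) = ⊤) (w₀ : M) (c : Fin m → L)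
    (hrel : ∀ φ : M →ₗ[A] L, φ w₀ + ∑ i, c i * φ (w i) = 0)
    (halg : Algebra.IsAlgebraic (Algebra.adjoin A (Set.range c)) L) :
    Algebra.trdeg k L + (Module.finrank 𝔭.ResidueField (𝔭.ResidueField ⊗[A] M) : Cardinal.{u}) ≤
      (m : Cardinal.{u}) + Algebra.trdeg k 𝔭.ResidueField := by
  have hf₁ : 𝔭 ≤ RingHom.ker (algebraMap A L) := hker.ge
  have hf₂ : 𝔭.primeCompl ≤ (IsUnit.submonoid L).comap (algebraMap A L) := by
    intro x hx
    change IsUnit (algebraMap A L x)
    rw [isUnit_iff_ne_zero]
    intro h0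
    exact hx (hker ▸ (RingHom.mem_ker.mpr h0))
  letI algκL : Algebra 𝔭.ResidueField L :=
    (Ideal.ResidueField.lift 𝔭 (algebraMap A L) hf₁ hf₂).toAlgebra
  haveI towerA : IsScalarTower A 𝔭.ResidueField L := IsScalarTower.of_algebraMap_eq fun r =>
    (Ideal.ResidueField.lift_algebraMap 𝔭 (algebraMap A L) hf₁ hf₂ r).symm
  haveI towerk : IsScalarTower k 𝔭.ResidueField L := IsScalarTower.of_algebraMap_eq fun r => by
    rw [IsScalarTower.algebraMap_apply k A L, IsScalarTower.algebraMap_apply k A 𝔭.ResidueField,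
      ← IsScalarTower.algebraMap_apply A 𝔭.ResidueField L]
  let E := 𝔭.ResidueField ⊗[A] M
  have h1 := trdeg_add_finrank_le (κ := 𝔭.ResidueField) (L := L) (E := E)
    (fun i => (1 : 𝔭.ResidueField) ⊗ₜ[A] w i) (span_one_tmul_eq_top w hw)
    ((1 : 𝔭.ResidueField) ⊗ₜ[A] w₀) c ?_ ?_
  · have h2 := trdeg_add_eq k 𝔭.ResidueField (A := L)
    rw [← h2]
    calc Algebra.trdeg k 𝔭.ResidueField + Algebra.trdeg 𝔭.ResidueField L +
          (Module.finrank 𝔭.ResidueField E : Cardinal.{u})
        = Algebra.trdeg k 𝔭.ResidueField + (Algebra.trdeg 𝔭.ResidueField L +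
          (Module.finrank 𝔭.ResidueField E : Cardinal.{u})) := add_assoc _ _ _
      _ ≤ Algebra.trdeg k 𝔭.ResidueField + (m : Cardinal.{u}) := by gcongr
      _ = _ := add_comm _ _
  · intro φ
    let φ' : M →ₗ[A] L :=
      { toFun := fun x => algebraMap 𝔭.ResidueField L (φ ((1 : 𝔭.ResidueField) ⊗ₜ[A] x))
        map_add' := fun x y => by rw [TensorProduct.tmul_add, map_add, map_add]
        map_smul' := fun r x => by
          rw [RingHom.id_apply, TensorProduct.tmul_smul, ← algebraMap_smul 𝔭.ResidueField r,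
            map_smul, smul_eq_mul, map_mul, Algebra.smul_def,
            ← IsScalarTower.algebraMap_apply A 𝔭.ResidueField L] }
    exact hrel φ'
  · refine ⟨fun x => ?_⟩
    have hx := halg.isAlgebraic x
    have hle : Algebra.adjoin A (Set.range c) ≤
        (Algebra.adjoin 𝔭.ResidueField (Set.range c)).restrictScalars A := by
      apply Algebra.adjoin_le
      intro y hy
      exact Algebra.subset_adjoin hy
    exact hx.tower_top_of_subalgebra_le hle

end Groth.Agent.Lib.Helper25.BertiniJets
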