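import Mathlib
import Groth.Agent.Lib.Helper25.SmoothLocalDim2
import Groth.Agent.Lib.Helper25.LocalDimRing
import Groth.Agent.Lib.Helper25.BertiniJets1
set_option autoImplicit false
universe u
open CategoryTheory CategoryTheory.Limits AlgebraicGeometry TensorProduct

namespace Groth.Agent.Lib.Helper25.BertiniJets


/-- For a smooth algebra over a field, the transcendence degree of a residue field is at most the
rank of the differentials there. -/
theorem trdeg_le_finrank_kaehler (k A : Type u) [Field k] [CommRing A] [Algebra k A]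
    [Algebra.Smooth k A] (𝔭 : Ideal A) [𝔭.IsPrime] :
    Algebra.trdeg k 𝔭.ResidueField ≤
      (Module.finrank 𝔭.ResidueField (𝔭.ResidueField ⊗[A] Ω[A⁄k]) : Cardinal.{u}) := by
  haveI : Algebra.FiniteType k A := inferInstance
  have hq : Algebra.IsSmoothAt k 𝔭 := by
    show Algebra.FormallySmooth k (Localization.AtPrime 𝔭)
    haveI : Algebra.FormallySmooth A (Localization.AtPrime 𝔭) :=
      Algebra.FormallySmooth.of_isLocalization 𝔭.primeCompl
    exact Algebra.FormallySmooth.comp k A (Localization.AtPrime 𝔭)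
  have h1 := Groth.Agent.Lib.Helper25.SmoothLocalDim.finrank_eq_localDim_of_isSmoothAt k A 𝔭 hq
  haveI : Algebra.EssFiniteType k 𝔭.ResidueField := Algebra.EssFiniteType.comp k A _
  obtain ⟨a, ha⟩ := Cardinal.lt_aleph0.mp (trdeg_lt_aleph0 k 𝔭.ResidueField)
  have : IsNoetherianRing A := Algebra.FiniteType.isNoetherianRing k A
  have : IsNoetherianRing (Localization.AtPrime 𝔭) :=
    IsLocalization.isNoetherianRing 𝔭.primeCompl _ inferInstance
  obtain ⟨b, hb⟩ := Groth.Agent.Lib.Helper21.exists_nat_eq_ringKrullDim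
    (R := Localization.AtPrime 𝔭)
  have h2 := Groth.Agent.Lib.Helper25.LocalDimRing.localDim_eq_add k A 𝔭 a b ha hb
  rw [h2] at h1
  have h3 : Module.finrank 𝔭.ResidueField (𝔭.ResidueField ⊗[A] Ω[A⁄k]) = a + b := by
    exact_mod_cast h1
  rw [ha, h3]
  exact_mod_cast Nat.le_add_right a b


theorem sum_rearrange {L : Type*} [CommRing L] {m N : ℕ} (x0 lam : L) (u0 mu : Fin N → L)
    (cb x : Fin m → L) (u : Fin N → Fin m → L) :
    x0 * lam + ∑ t, u0 t * mu t + ∑ i, cb i * (x i * lam + ∑ t, u t i * mu t) =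
      (x0 + ∑ i, cb i * x i) * lam + ∑ t, (u0 t + ∑ i, cb i * u t i) * mu t := by
  have e1 : ∑ i, cb i * ∑ t, u t i * mu t = ∑ t, (∑ i, cb i * u t i) * mu t := by
    simp only [Finset.mul_sum, Finset.sum_mul]
    rw [Finset.sum_comm]
    exact Finset.sum_congr rfl fun t _ => Finset.sum_congr rfl fun i _ => by ring
  simp only [mul_add, add_mul, Finset.sum_add_distrib]
  rw [e1, Finset.sum_mul]
  have e2 : ∑ i, cb i * (x i * lam) = ∑ i, cb i * x i * lam :=
    Finset.sum_congr rfl fun i _ => by ring
  rw [e2]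
  ring

open MvPolynomial in
theorem exists_ne_zero_map_mem_JU {k : Type u} [Field k] {A : Type u} [CommRing A] [Algebra k A]
    [Algebra.Smooth k A] {m : ℕ} (a : Fin m → A) (f₀ : A)
    (hΨ : Submodule.span A
      (Set.range fun i => ((a i, KaehlerDifferential.D k A (a i)) : A × Ω[A⁄k])) = ⊤)
    {N : ℕ} (fΩ : (Fin N → A) →ₗ[A] Ω[A⁄k]) (gΩ : Ω[A⁄k] →ₗ[A] (Fin N → A))
    (hfg : fΩ ∘ₗ gΩ = LinearMap.id) :
    ∃ q : MvPolynomial (Fin m) k, q ≠ 0 ∧
      MvPolynomial.map (algebraMap k A) q ∈
        JU a f₀ (fun t => ((LinearMap.proj t).comp gΩ).compDer (KaehlerDifferential.D k A)) := by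
  by_contra hcon
  push Not at hcon
  set Dt : Fin N → Derivation k A A :=
    fun t => ((LinearMap.proj t).comp gΩ).compDer (KaehlerDifferential.D k A) with hDt
  let ι : MvPolynomial (Fin m) k →+* MvPolynomial (Fin m) A := MvPolynomial.map (algebraMap k A)
  let S : Submonoid (MvPolynomial (Fin m) A) :=
    Submonoid.map ι (nonZeroDivisors (MvPolynomial (Fin m) k))
  have hdisj : Disjoint ((JU a f₀ Dt : Ideal (MvPolynomial (Fin m) A)) : Set (MvPolynomial (Fin m) A))
      (S : Set (MvPolynomial (Fin m) A)) := by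
    rw [Set.disjoint_left]
    rintro x hx ⟨q, hq, rfl⟩
    exact hcon q (nonZeroDivisors.ne_zero hq) hx
  obtain ⟨P, hP, hJP, hPS⟩ := Ideal.exists_le_prime_disjoint _ S hdisj
  haveI := hP
  let B := MvPolynomial (Fin m) A ⧸ P
  let L := FractionRing B
  let cbar : Fin m → L := fun i => algebraMap B L (Ideal.Quotient.mk P (X i))
  have hAL : ∀ x : A, algebraMap A L x = algebraMap B L (Ideal.Quotient.mk P (C x)) :=
    fun x => rfl
  have hkL : ∀ x : k, algebraMap k L x = algebraMap A L (algebraMap k A x) :=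
    fun x => IsScalarTower.algebraMap_apply k A L x
  have hinj : Function.Injective (algebraMap B L) := IsFractionRing.injective B L
  haveI h𝔭 : (P.comap (C : A →+* MvPolynomial (Fin m) A)).IsPrime := Ideal.comap_isPrime _ _
  have hker : RingHom.ker (algebraMap A L) = P.comap (C : A →+* MvPolynomial (Fin m) A) := by
    ext x
    rw [RingHom.mem_ker, Ideal.mem_comap, hAL, map_eq_zero_iff _ hinj,
      Ideal.Quotient.eq_zero_iff_mem]
  -- every element of `B` maps into the subalgebra generated by the `cbar`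
  have hB : ∀ p : MvPolynomial (Fin m) A, algebraMap B L (Ideal.Quotient.mk P p) ∈
      Algebra.adjoin A (Set.range cbar) := by
    intro p
    induction p using MvPolynomial.induction_on with
    | C x => rw [← hAL]; exact Subalgebra.algebraMap_mem _ x
    | add p q hp hq => rw [map_add, map_add]; exact Subalgebra.add_mem _ hp hq
    | mul_X p i hp =>
      rw [map_mul, map_mul]
      exact Subalgebra.mul_mem _ hp (Algebra.subset_adjoin ⟨i, rfl⟩)
  have halg : Algebra.IsAlgebraic (Algebra.adjoin A (Set.range cbar)) L := by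
    refine ⟨fun x => ?_⟩
    obtain ⟨b₁, b₂, hb₂, rfl⟩ := IsFractionRing.div_surjective (A := B) x
    obtain ⟨p₁, rfl⟩ := Ideal.Quotient.mk_surjective b₁
    obtain ⟨p₂, rfl⟩ := Ideal.Quotient.mk_surjective b₂
    let y₁ : Algebra.adjoin A (Set.range cbar) := ⟨_, hB p₁⟩
    let y₂ : Algebra.adjoin A (Set.range cbar) := ⟨_, hB p₂⟩
    have hy₂ : y₂ ≠ 0 := by
      intro h
      have : algebraMap B L (Ideal.Quotient.mk P p₂) = 0 := congrArg Subtype.val h
      rw [map_eq_zero_iff _ hinj] at this
      exact (nonZeroDivisors.ne_zero hb₂) this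
    refine ⟨Polynomial.C y₂ * Polynomial.X - Polynomial.C y₁, ?_, ?_⟩
    · intro h
      have := congrArg (fun p => Polynomial.coeff p 1) h
      simp at this
      exact hy₂ this
    · simp only [map_sub, map_mul, Polynomial.aeval_C, Polynomial.aeval_X]
      change algebraMap B L (Ideal.Quotient.mk P p₂) *
        (algebraMap B L (Ideal.Quotient.mk P p₁) / algebraMap B L (Ideal.Quotient.mk P p₂)) -
        algebraMap B L (Ideal.Quotient.mk P p₁) = 0
      have hne : algebraMap B L (Ideal.Quotient.mk P p₂) ≠ 0 := fun h =>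
        hy₂ (Subtype.ext h)
      rw [mul_div_cancel₀ _ hne, sub_self]
  -- the relation
  have hFU0 : algebraMap B L (Ideal.Quotient.mk P (FU a f₀)) = 0 := by
    rw [map_eq_zero_iff _ hinj, Ideal.Quotient.eq_zero_iff_mem]
    exact hJP (Ideal.subset_span (Set.mem_insert _ _))
  have hGU0 : ∀ t, algebraMap B L (Ideal.Quotient.mk P (GU k a f₀ (Dt t))) = 0 := by
    intro t
    rw [map_eq_zero_iff _ hinj, Ideal.Quotient.eq_zero_iff_mem]
    exact hJP (Ideal.subset_span (Set.mem_insert_of_mem _ ⟨t, rfl⟩))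
  have hFU1 : algebraMap B L (Ideal.Quotient.mk P (FU a f₀)) =
      algebraMap A L f₀ + ∑ i, cbar i * algebraMap A L (a i) := by
    simp only [FU, map_add, map_sum, map_mul, hAL, cbar]
  have hGU1 : ∀ t, algebraMap B L (Ideal.Quotient.mk P (GU k a f₀ (Dt t))) =
      algebraMap A L (Dt t f₀) + ∑ i, cbar i * algebraMap A L (Dt t (a i)) := by
    intro t
    simp only [GU, map_add, map_sum, map_mul, hAL, cbar]
  have hφ : ∀ (φ : (A × Ω[A⁄k]) →ₗ[A] L) (x : A),
      φ (x, KaehlerDifferential.D k A x) = algebraMap A L x * φ (1, 0) +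
        ∑ t, algebraMap A L (Dt t x) * φ (0, fΩ (Pi.single t 1)) := by
    intro φ x
    have h1 : ((x, KaehlerDifferential.D k A x) : A × Ω[A⁄k]) =
        x • ((1, 0) : A × Ω[A⁄k]) +
          ∑ t, (Dt t x) • ((0, fΩ (Pi.single t 1)) : A × Ω[A⁄k]) := by
      have h2 : KaehlerDifferential.D k A x =
          ∑ t, (Dt t x) • fΩ (Pi.single t (1 : A)) := by
        have h3 : fΩ (gΩ (KaehlerDifferential.D k A x)) = KaehlerDifferential.D k A x := by
          have := congrArg (fun F => F (KaehlerDifferential.D k A x)) hfg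
          simpa using this
        have h4 : gΩ (KaehlerDifferential.D k A x) =
            ∑ t, (Dt t x) • (Pi.single t (1 : A) : Fin N → A) := by
          ext s
          simp [hDt, Finset.sum_apply, Pi.single_apply]
        rw [← h3]
        conv_lhs => rw [h4]
        rw [map_sum]
        simp only [map_smul]
      apply Prod.ext
      · simp [Prod.fst_sum]
      · simp only [Prod.snd_add, Prod.smul_snd, smul_zero, zero_add, Prod.snd_sum]
        exact h2
    conv_lhs => rw [h1]
    rw [map_add, map_smul, map_sum]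
    simp only [map_smul, Algebra.smul_def]
  have hrel : ∀ φ : (A × Ω[A⁄k]) →ₗ[A] L,
      φ (f₀, KaehlerDifferential.D k A f₀) +
        ∑ i, cbar i * φ (a i, KaehlerDifferential.D k A (a i)) = 0 := by
    intro φ
    rw [hφ φ f₀]
    simp only [hφ φ (a _)]
    have : algebraMap A L f₀ * φ (1, 0) +
        ∑ t, algebraMap A L (Dt t f₀) * φ (0, fΩ (Pi.single t 1)) +
        ∑ i, cbar i * (algebraMap A L (a i) * φ (1, 0) +
          ∑ t, algebraMap A L (Dt t (a i)) * φ (0, fΩ (Pi.single t 1))) =
        (algebraMap A L f₀ + ∑ i, cbar i * algebraMap A L (a i)) * φ (1, 0) +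
        ∑ t, (algebraMap A L (Dt t f₀) + ∑ i, cbar i * algebraMap A L (Dt t (a i))) *
          φ (0, fΩ (Pi.single t 1)) := by
      exact sum_rearrange _ _ _ _ _ _ _
    rw [this, ← hFU1, hFU0, zero_mul, zero_add]
    apply Finset.sum_eq_zero
    intro t _
    rw [← hGU1, hGU0, zero_mul]
  -- algebraic independence of the `cbar`
  have hai : AlgebraicIndependent k cbar := by
    have hae : ∀ q : MvPolynomial (Fin m) k,
        MvPolynomial.aeval cbar q = algebraMap B L (Ideal.Quotient.mk P (ι q)) := by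
      intro q
      induction q using MvPolynomial.induction_on with
      | C x =>
        rw [MvPolynomial.aeval_C]
        change algebraMap k L x = algebraMap B L (Ideal.Quotient.mk P (MvPolynomial.map (algebraMap k A) (C x)))
        rw [MvPolynomial.map_C, ← hAL, hkL]
      | add p q hp hq => rw [map_add, map_add, map_add, map_add, hp, hq]
      | mul_X p i hp =>
        rw [map_mul, map_mul, map_mul, map_mul, hp, MvPolynomial.aeval_X]
        change _ = _ * algebraMap B L (Ideal.Quotient.mk P (MvPolynomial.map (algebraMap k A) (X i)))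
        rw [MvPolynomial.map_X]
    rw [algebraicIndependent_iff_injective_aeval]
    rw [injective_iff_map_eq_zero]
    intro q hq
    by_contra hq0
    rw [hae, map_eq_zero_iff _ hinj, Ideal.Quotient.eq_zero_iff_mem] at hq
    have hqS : ι q ∈ S := ⟨q, mem_nonZeroDivisors_of_ne_zero hq0, rfl⟩
    exact (Set.disjoint_left.mp hPS) hq hqS
  have htr : (m : Cardinal.{u}) ≤ Algebra.trdeg k L := by
    have := hai.lift_cardinalMk_le_trdeg
    simpa using this
  haveI : Module.Finite A Ω[A⁄k] := inferInstance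
  have hcount := count (k := k) (P.comap (C : A →+* MvPolynomial (Fin m) A)) hker
    (M := A × Ω[A⁄k]) (fun i => (a i, KaehlerDifferential.D k A (a i))) hΨ
    (f₀, KaehlerDifferential.D k A f₀) cbar hrel halg
  have hkae := trdeg_le_finrank_kaehler k A (P.comap (C : A →+* MvPolynomial (Fin m) A))
  have hfr : Module.finrank (P.comap (C : A →+* MvPolynomial (Fin m) A)).ResidueField
      ((P.comap (C : A →+* MvPolynomial (Fin m) A)).ResidueField ⊗[A] (A × Ω[A⁄k])) =
      1 + Module.finrank (P.comap (C : A →+* MvPolynomial (Fin m) A)).ResidueField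
      ((P.comap (C : A →+* MvPolynomial (Fin m) A)).ResidueField ⊗[A] Ω[A⁄k]) := by
    rw [LinearEquiv.finrank_eq (TensorProduct.prodRight A
      (P.comap (C : A →+* MvPolynomial (Fin m) A)).ResidueField
      (P.comap (C : A →+* MvPolynomial (Fin m) A)).ResidueField A Ω[A⁄k]),
      Module.finrank_prod,
      LinearEquiv.finrank_eq (TensorProduct.AlgebraTensorModule.rid A
        (P.comap (C : A →+* MvPolynomial (Fin m) A)).ResidueField
        (P.comap (C : A →+* MvPolynomial (Fin m) A)).ResidueField), Module.finrank_self]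
  rw [hfr] at hcount
  generalize Module.finrank (P.comap (C : A →+* MvPolynomial (Fin m) A)).ResidueField
      ((P.comap (C : A →+* MvPolynomial (Fin m) A)).ResidueField ⊗[A] Ω[A⁄k]) = r at hcount hkae
  have h1 : (m : Cardinal.{u}) + ((1 + r : ℕ) : Cardinal.{u}) ≤ (m : Cardinal.{u}) + (r : Cardinal.{u}) :=
    calc (m : Cardinal.{u}) + ((1 + r : ℕ) : Cardinal.{u})
        ≤ Algebra.trdeg k L + ((1 + r : ℕ) : Cardinal.{u}) := add_le_add htr le_rfl
      _ ≤ (m : Cardinal.{u}) + Algebra.trdeg k (P.comap (C : A →+* MvPolynomial (Fin m) A)).ResidueField := hcount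
      _ ≤ (m : Cardinal.{u}) + (r : Cardinal.{u}) := add_le_add le_rfl hkae
  have h2 : ((m + (1 + r) : ℕ) : Cardinal.{u}) ≤ ((m + r : ℕ) : Cardinal.{u}) := by
    push_cast
    push_cast at h1
    exact h1
  rw [Nat.cast_le] at h2
  omega

end Groth.Agent.Lib.Helper25.BertiniJets
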