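import Mathlib
import Groth.Agent.Lib.Helper25.BertiniJets2
set_option autoImplicit false
universe u
open CategoryTheory CategoryTheory.Limits AlgebraicGeometry TensorProduct

namespace Groth.Agent.Lib.Helper25.BertiniJets

/-- Nakayama: a submodule of a finite module which is everything modulo each maximal ideal is
everything. -/
theorem eq_top_of_forall_sup_smul_eq_top {A : Type u} [CommRing A] {M : Type u} [AddCommGroup M]
    [Module A M] [Module.Finite A M] (N : Submodule A M)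
    (h : ∀ 𝔪 : Ideal A, 𝔪.IsMaximal → N ⊔ 𝔪 • (⊤ : Submodule A M) = ⊤) : N = ⊤ := by
  by_contra hN
  let Q := M ⧸ N
  let I : Ideal A := Module.annihilator A Q
  have hI : I ≠ ⊤ := by
    intro hI
    have h1 : (1 : A) ∈ I := by rw [hI]; trivial
    apply hN
    rw [eq_top_iff]
    rintro x -
    have := Module.mem_annihilator.mp h1 (N.mkQ x)
    rw [one_smul] at this
    exact (Submodule.Quotient.mk_eq_zero N).mp this
  obtain ⟨𝔪, h𝔪, hI𝔪⟩ := Ideal.exists_le_maximal I hI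
  have hle : (⊤ : Submodule A Q) ≤ 𝔪 • (⊤ : Submodule A Q) := by
    have h2 : Submodule.map N.mkQ (N ⊔ 𝔪 • (⊤ : Submodule A M)) = ⊤ := by
      rw [h 𝔪 h𝔪, Submodule.map_top, Submodule.range_mkQ]
    rw [Submodule.map_sup, Submodule.map_smul'', Submodule.map_top, Submodule.range_mkQ] at h2
    have h3 : Submodule.map N.mkQ N = ⊥ := by
      rw [eq_bot_iff]
      rintro _ ⟨x, hx, rfl⟩
      exact (Submodule.mem_bot A).mpr ((Submodule.Quotient.mk_eq_zero N).mpr hx)
    rw [h3, bot_sup_eq] at h2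
    exact h2.ge
  obtain ⟨r, hr1, hr⟩ := Submodule.exists_sub_one_mem_and_smul_eq_zero_of_fg_of_le_smul 𝔪
    (⊤ : Submodule A Q) Module.Finite.fg_top hle
  have hrI : r ∈ I := Module.mem_annihilator.mpr fun q => hr q trivial
  have : (1 : A) ∈ 𝔪 := by
    have := 𝔪.sub_mem (hI𝔪 hrI) hr1
    simpa using this
  exact h𝔪.ne_top ((Ideal.eq_top_iff_one 𝔪).mpr this)

theorem D_mem_smul_top_of_mem_sq {k A : Type u} [CommRing k] [CommRing A] [Algebra k A]
    (𝔪 : Ideal A) {g : A} (hg : g ∈ 𝔪 ^ 2) :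
    KaehlerDifferential.D k A g ∈ 𝔪 • (⊤ : Submodule A Ω[A⁄k]) := by
  rw [pow_two] at hg
  refine Submodule.mul_induction_on hg (fun x hx y hy => ?_) (fun x y hx hy => ?_)
  · rw [Derivation.leibniz]
    exact Submodule.add_mem _ (Submodule.smul_mem_smul hx trivial)
      (Submodule.smul_mem_smul hy trivial)
  · rw [map_add]; exact Submodule.add_mem _ hx hy

theorem span_eq_top_of_jets {k A : Type u} [Field k] [CommRing A] [Algebra k A]
    [Algebra.Smooth k A] {m : ℕ} (a : Fin m → A)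
    (hjet : ∀ 𝔪 : Ideal A, 𝔪.IsMaximal → ∀ b : A, ∃ c : Fin m → k,
      ∑ i, algebraMap k A (c i) * a i - b ∈ 𝔪 ^ 2) :
    Submodule.span A
      (Set.range fun i => ((a i, KaehlerDifferential.D k A (a i)) : A × Ω[A⁄k])) = ⊤ := by
  haveI : Module.Finite A Ω[A⁄k] := inferInstance
  apply eq_top_of_forall_sup_smul_eq_top
  intro 𝔪 h𝔪
  set N := Submodule.span A
      (Set.range fun i => ((a i, KaehlerDifferential.D k A (a i)) : A × Ω[A⁄k])) with hN
  set T := N ⊔ 𝔪 • (⊤ : Submodule A (A × Ω[A⁄k])) with hT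
  have hinr : ∀ ω ∈ 𝔪 • (⊤ : Submodule A Ω[A⁄k]), ((0, ω) : A × Ω[A⁄k]) ∈ T := by
    intro ω hω
    apply Submodule.mem_sup_right
    have : Submodule.map (LinearMap.inr A A Ω[A⁄k]) (𝔪 • (⊤ : Submodule A Ω[A⁄k])) ≤
        𝔪 • (⊤ : Submodule A (A × Ω[A⁄k])) := by
      rw [Submodule.map_smul'']
      exact Submodule.smul_mono le_rfl le_top
    exact this ⟨ω, hω, rfl⟩
  have h1 : ∀ b : A, ((b, KaehlerDifferential.D k A b) : A × Ω[A⁄k]) ∈ T := by
    intro b
    obtain ⟨c, hc⟩ := hjet 𝔪 h𝔪 b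
    set g := ∑ i, algebraMap k A (c i) * a i - b with hg
    have e1 : ((b, KaehlerDifferential.D k A b) : A × Ω[A⁄k]) =
        ∑ i, algebraMap k A (c i) • ((a i, KaehlerDifferential.D k A (a i)) : A × Ω[A⁄k]) -
          (g • ((1, 0) : A × Ω[A⁄k]) + (0, KaehlerDifferential.D k A g)) := by
      apply Prod.ext
      · simp [hg, Prod.fst_sum, Algebra.smul_def]
      · simp only [hg, Prod.snd_sub, Prod.snd_sum, Prod.smul_snd, Prod.snd_add, smul_zero, zero_add,
          map_sub, map_sum, Derivation.leibniz, Derivation.map_algebraMap, add_zero]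
        abel
    rw [e1]
    refine Submodule.sub_mem _ ?_ (Submodule.add_mem _ ?_ ?_)
    · apply Submodule.mem_sup_left
      exact Submodule.sum_mem _ fun i _ => Submodule.smul_mem _ _ (Submodule.subset_span ⟨i, rfl⟩)
    · apply Submodule.mem_sup_right
      exact Submodule.smul_mem_smul (Ideal.pow_le_self two_ne_zero hc) trivial
    · exact hinr _ (D_mem_smul_top_of_mem_sq 𝔪 hc)
  have h2 : ((1, 0) : A × Ω[A⁄k]) ∈ T := by
    have := h1 1
    rwa [Derivation.map_one_eq_zero] at this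
  have h3 : ∀ b : A, ((0, KaehlerDifferential.D k A b) : A × Ω[A⁄k]) ∈ T := by
    intro b
    have e : ((0, KaehlerDifferential.D k A b) : A × Ω[A⁄k]) =
        (b, KaehlerDifferential.D k A b) - b • ((1, 0) : A × Ω[A⁄k]) := by
      apply Prod.ext <;> simp
    rw [e]
    exact Submodule.sub_mem _ (h1 b) (Submodule.smul_mem _ _ h2)
  rw [eq_top_iff]
  rintro ⟨x, ω⟩ -
  have e : ((x, ω) : A × Ω[A⁄k]) = x • ((1, 0) : A × Ω[A⁄k]) + (0, ω) := by
    apply Prod.ext <;> simp
  rw [e]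
  refine Submodule.add_mem _ (Submodule.smul_mem _ _ h2) ?_
  have hω : ω ∈ Submodule.span A (Set.range (KaehlerDifferential.D k A)) := by
    rw [KaehlerDifferential.span_range_derivation]; trivial
  have : Submodule.map (LinearMap.inr A A Ω[A⁄k])
      (Submodule.span A (Set.range (KaehlerDifferential.D k A))) ≤ T := by
    rw [Submodule.map_span, Submodule.span_le]
    rintro _ ⟨_, ⟨b, rfl⟩, rfl⟩
    exact h3 b
  exact this ⟨ω, hω, rfl⟩

open MvPolynomial in
/-- Ring-level Bertini with jets. -/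
theorem bertini_jets_ring {k A : Type u} [Field k] [CommRing A] [Algebra k A]
    [Algebra.Smooth k A] {m : ℕ} (a : Fin m → A) (f₀ : A)
    (hjet : ∀ 𝔪 : Ideal A, 𝔪.IsMaximal → ∀ b : A, ∃ c : Fin m → k,
      ∑ i, algebraMap k A (c i) * a i - b ∈ 𝔪 ^ 2) :
    ∃ q : MvPolynomial (Fin m) k, q ≠ 0 ∧ ∀ c : Fin m → k, MvPolynomial.eval c q ≠ 0 →
      Algebra.Smooth k (A ⧸ Ideal.span {Fc k a f₀ c}) := by
  haveI : Module.Finite A Ω[A⁄k] := inferInstance
  haveI : Module.Projective A Ω[A⁄k] := inferInstance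
  obtain ⟨N, fΩ, gΩ, -, -, hfg⟩ := Module.Finite.exists_comp_eq_id_of_projective A Ω[A⁄k]
  obtain ⟨q, hq0, hq⟩ := exists_ne_zero_map_mem_JU a f₀ (span_eq_top_of_jets a hjet) fΩ gΩ hfg
  exact ⟨q, hq0, fun c hc => smooth_of_mem_JU a f₀ _ q hq c hc⟩

end Groth.Agent.Lib.Helper25.BertiniJets
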