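import Mathlib
import Groth.Agent.Lib.Helper25.StandardElement
import Groth.Agent.Lib.Helper25.SmoothLocalDim2

/-!
Jacobian criterion for presentations whose fibres have the expected dimension (helper25):
right exactness in terms of `finrank`, the conormal sequence with explicit generators,
Jacobian minors versus independence of differentials, and passage to the fibre ring.
-/

set_option autoImplicit false
universe u v w
open TensorProduct KaehlerDifferential

namespace Groth.Agent.Lib.Helper25.RelGCIJacobian

section Exact

variable {A : Type u} [CommRing A] {M : Type*} {T : Type*} {N : Type*}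
  [AddCommGroup M] [AddCommGroup T] [AddCommGroup N] [Module A M] [Module A T] [Module A N]

/-- Right exactness of base change to a field, in terms of `finrank`s: if `M → T → N → 0` is exact and
`M` is spanned by a family `v`, then `dim (L ⊗ T) = dim span (1 ⊗ f (v i)) + dim (L ⊗ N)`. -/
theorem finrank_baseChange_eq_add (L : Type w) [Field L] [Algebra A L]
    (f : M →ₗ[A] T) (g : T →ₗ[A] N) (hfg : Function.Exact f g) (hg : Function.Surjective g)
    [Module.Finite A T] {ι : Type*} (v : ι → M) (hv : Submodule.span A (Set.range v) = ⊤) :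
    Module.finrank L (L ⊗[A] T) =
      Module.finrank L (Submodule.span L (Set.range fun i => (1 : L) ⊗ₜ[A] f (v i))) +
        Module.finrank L (L ⊗[A] N) := by
  have hex : Function.Exact (f.baseChange L) (g.baseChange L) := by
    rw [LinearMap.baseChange_eq_ltensor, LinearMap.baseChange_eq_ltensor]
    exact lTensor_exact L hfg hg
  have hsurj : Function.Surjective (g.baseChange L) := by
    rw [LinearMap.baseChange_eq_ltensor]
    exact LinearMap.lTensor_surjective L hg
  have hrange : LinearMap.range (f.baseChange L) =
      Submodule.span L (Set.range fun i => (1 : L) ⊗ₜ[A] f (v i)) := by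
    apply le_antisymm
    · rintro _ ⟨x, rfl⟩
      induction x using TensorProduct.induction_on with
      | zero => simp
      | add x y hx hy => rw [map_add]; exact add_mem hx hy
      | tmul l m =>
        have hm : m ∈ Submodule.span A (Set.range v) := hv ▸ Submodule.mem_top
        induction hm using Submodule.span_induction with
        | mem m hm =>
          obtain ⟨i, rfl⟩ := hm
          rw [LinearMap.baseChange_tmul]
          have : l ⊗ₜ[A] f (v i) = l • ((1 : L) ⊗ₜ[A] f (v i)) := by
            rw [TensorProduct.smul_tmul', smul_eq_mul, mul_one]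
          rw [this]
          exact Submodule.smul_mem _ _ (Submodule.subset_span ⟨i, rfl⟩)
        | zero => simp
        | add x y _ _ hx hy =>
          rw [TensorProduct.tmul_add, map_add]; exact add_mem hx hy
        | smul a x _ hx =>
          rw [← TensorProduct.smul_tmul]
          rw [LinearMap.baseChange_tmul] at hx ⊢
          have : (a • l) ⊗ₜ[A] f x = (algebraMap A L a) • (l ⊗ₜ[A] f x) := by
            rw [TensorProduct.smul_tmul', Algebra.smul_def, smul_eq_mul]
          rw [this]
          exact Submodule.smul_mem _ _ hx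
    · rw [Submodule.span_le]
      rintro _ ⟨i, rfl⟩
      exact ⟨(1 : L) ⊗ₜ[A] v i, by simp⟩
  have h1 := LinearMap.finrank_range_add_finrank_ker (g.baseChange L)
  rw [LinearMap.range_eq_top.mpr hsurj, finrank_top] at h1
  rw [← h1, ← hrange, LinearMap.exact_iff.mp hex, add_comm]

end Exact

section Conormal

variable (R : Type u) {P : Type v} {A : Type w} [CommRing R] [CommRing P] [CommRing A]
  [Algebra R P] [Algebra P A] [Algebra R A] [IsScalarTower R P A]

/-- The conormal sequence with explicit generators of the kernel. -/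
theorem exact_linearCombination_mapBaseChange (hsurj : Function.Surjective (algebraMap P A))
    {ι : Type*} [Fintype ι] (F : ι → P)
    (hker : RingHom.ker (algebraMap P A) = Ideal.span (Set.range F)) :
    Function.Exact (Fintype.linearCombination A fun j => (1 : A) ⊗ₜ[P] D R P (F j))
      (mapBaseChange R P A) := by
  rw [LinearMap.exact_iff, Fintype.range_linearCombination]
  have key : ∀ z ∈ Ideal.span (Set.range F), (1 : A) ⊗ₜ[P] D R P z ∈
      Submodule.span A (Set.range fun j => (1 : A) ⊗ₜ[P] D R P (F j)) := by
    intro z hz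
    induction hz using Submodule.span_induction with
    | mem z hz =>
      obtain ⟨j, rfl⟩ := hz
      exact Submodule.subset_span ⟨j, rfl⟩
    | zero => simp
    | add x y _ _ hx hy => rw [map_add, TensorProduct.tmul_add]; exact add_mem hx hy
    | smul a x hx h =>
      have h0 : algebraMap P A x = 0 := by
        rw [← RingHom.mem_ker, hker]; exact hx
      rw [smul_eq_mul, Derivation.leibniz, TensorProduct.tmul_add, TensorProduct.tmul_smul,
        TensorProduct.tmul_smul]
      have h1 : x • ((1 : A) ⊗ₜ[P] D R P a) = 0 := by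
        rw [TensorProduct.smul_tmul', Algebra.smul_def, h0, zero_mul, TensorProduct.zero_tmul]
      rw [h1, add_zero]
      have h2 : a • ((1 : A) ⊗ₜ[P] D R P x) = algebraMap P A a • ((1 : A) ⊗ₜ[P] D R P x) := by
        rw [algebraMap_smul]
      rw [h2]
      exact Submodule.smul_mem _ _ h
  apply le_antisymm
  · intro x hx
    have hx' : x ∈ (LinearMap.ker (mapBaseChange R P A)).restrictScalars P := hx
    rw [← range_kerCotangentToTensor R P A hsurj] at hx'
    obtain ⟨y, rfl⟩ := hx'
    obtain ⟨z, rfl⟩ := Ideal.toCotangent_surjective _ y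
    rw [kerCotangentToTensor_toCotangent]
    exact key z.1 (hker ▸ z.2)
  · rw [Submodule.span_le]
    rintro _ ⟨j, rfl⟩
    have h0 : algebraMap P A (F j) = 0 := by
      rw [← RingHom.mem_ker, hker]; exact Ideal.subset_span ⟨j, rfl⟩
    simp [h0]

/-- If the fibre of `Ω_{A/R}` at a field `L` has dimension at most `n - c`, where `A = P/(F_1..F_c)`
and `Ω_{P/R}` is free of rank `n`, then the `dF_j` are linearly independent in `L ⊗ Ω_{P/R}`. -/
theorem linearIndependent_of_finrank_add_le (hsurj : Function.Surjective (algebraMap P A))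
    {ι : Type*} [Fintype ι] (F : ι → P)
    (hker : RingHom.ker (algebraMap P A) = Ideal.span (Set.range F))
    [Module.Free P Ω[P⁄R]] [Module.Finite P Ω[P⁄R]]
    (L : Type*) [Field L] [Algebra A L]
    (h : Module.finrank L (L ⊗[A] Ω[A⁄R]) + Fintype.card ι ≤ Module.finrank P Ω[P⁄R]) :
    LinearIndependent L fun j => (1 : L) ⊗ₜ[A] ((1 : A) ⊗ₜ[P] D R P (F j)) := by
  classical
  have : Nontrivial A := (algebraMap A L).domain_nontrivial
  have : Nontrivial P := (algebraMap P A).domain_nontrivial
  have h1 := finrank_baseChange_eq_add L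
    (Fintype.linearCombination A fun j => (1 : A) ⊗ₜ[P] D R P (F j))
    ((mapBaseChange R P A).restrictScalars A)
    (exact_linearCombination_mapBaseChange R hsurj F hker)
    (mapBaseChange_surjective R P A hsurj)
    (fun j : ι => (Pi.single j (1 : A) : ι → A))
    (by
      rw [← (Pi.basisFun A ι).span_eq]
      congr 1)
  have h2 : Module.finrank L (L ⊗[A] (A ⊗[P] Ω[P⁄R])) = Module.finrank P Ω[P⁄R] := by
    rw [Module.finrank_baseChange, Module.finrank_baseChange]
  rw [linearIndependent_iff_card_le_finrank_span]
  have h3 : (fun i => (1 : L) ⊗ₜ[A] (Fintype.linearCombination A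
      fun j => (1 : A) ⊗ₜ[P] D R P (F j)) (Pi.single i (1 : A))) =
      fun j => (1 : L) ⊗ₜ[A] ((1 : A) ⊗ₜ[P] D R P (F j)) := by
    funext i
    rw [Fintype.linearCombination_apply_single, one_smul]
  rw [h3] at h1
  unfold Set.finrank
  omega

end Conormal

section Det

variable {R : Type u} [CommRing R] {n c : ℕ}

open Groth.Agent.Lib.Helper25.JacobianCrit in
/-- Independent differentials in a double base change of `Ω_{R[x]/R}` to a field have a maximal Jacobian
minor with nonzero image. -/
theorem exists_cols_det_ne_zero {A : Type v} [CommRing A] [Algebra (MvPolynomial (Fin n) R) A]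
    {L : Type w} [Field L] [Algebra A L] (F : Fin c → MvPolynomial (Fin n) R)
    (hli : LinearIndependent L fun j => (1 : L) ⊗ₜ[A] ((1 : A) ⊗ₜ[MvPolynomial (Fin n) R]
      D R (MvPolynomial (Fin n) R) (F j))) :
    ∃ cols : Fin c ↪ Fin n, algebraMap A L (algebraMap (MvPolynomial (Fin n) R) A
      (Matrix.det (Matrix.of fun j k : Fin c => MvPolynomial.pderiv (cols k) (F j)))) ≠ 0 := by
  classical
  let b : Module.Basis (Fin n) L (L ⊗[A] (A ⊗[MvPolynomial (Fin n) R] Ω[MvPolynomial (Fin n) R⁄R])) :=
    ((KaehlerDifferential.mvPolynomialBasis R (Fin n)).baseChange A).baseChange L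
  let M : Matrix (Fin c) (Fin n) L := fun j k =>
    algebraMap A L (algebraMap (MvPolynomial (Fin n) R) A (MvPolynomial.pderiv k (F j)))
  have hrow : M.row = (b.equivFun.toLinearMap ∘ fun j => (1 : L) ⊗ₜ[A]
      ((1 : A) ⊗ₜ[MvPolynomial (Fin n) R] D R (MvPolynomial (Fin n) R) (F j))) := by
    funext j k
    simp only [Function.comp_apply, LinearEquiv.coe_coe, Module.Basis.equivFun_apply, b,
      Module.Basis.baseChange_repr_tmul, KaehlerDifferential.mvPolynomialBasis_repr_apply,
      Algebra.smul_def, mul_one]
    rfl
  have hM : LinearIndependent L M.row := by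
    rw [hrow]
    exact hli.map' b.equivFun.toLinearMap (LinearEquiv.ker _)
  obtain ⟨cols, hdet⟩ := exists_embedding_det_ne_zero_of_linearIndependent_rows M hM
  refine ⟨cols, fun h0 => hdet ?_⟩
  have h1 : M.submatrix id cols =
      ((algebraMap A L).comp (algebraMap (MvPolynomial (Fin n) R) A)).mapMatrix
        (Matrix.of fun j k : Fin c => MvPolynomial.pderiv (cols k) (F j)) := by
    ext j k
    rfl
  rw [h1, ← RingHom.map_det]
  exact h0

/-- A nonvanishing maximal Jacobian minor forces the differentials to be independent. -/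
theorem linearIndependent_one_tmul_D_of_det_ne_zero
    {L : Type w} [Field L] [Algebra (MvPolynomial (Fin n) R) L] (F : Fin c → MvPolynomial (Fin n) R)
    (cols : Fin c → Fin n)
    (h : algebraMap (MvPolynomial (Fin n) R) L
      (Matrix.det (Matrix.of fun j k : Fin c => MvPolynomial.pderiv (cols k) (F j))) ≠ 0) :
    LinearIndependent L fun j => (1 : L) ⊗ₜ[MvPolynomial (Fin n) R]
      D R (MvPolynomial (Fin n) R) (F j) := by
  classical
  let b : Module.Basis (Fin n) L (L ⊗[MvPolynomial (Fin n) R] Ω[MvPolynomial (Fin n) R⁄R]) :=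
    (KaehlerDifferential.mvPolynomialBasis R (Fin n)).baseChange L
  let M : Matrix (Fin c) (Fin n) L := fun j k =>
    algebraMap (MvPolynomial (Fin n) R) L (MvPolynomial.pderiv k (F j))
  have hrow : M.row = (b.equivFun.toLinearMap ∘ fun j => (1 : L) ⊗ₜ[MvPolynomial (Fin n) R]
      D R (MvPolynomial (Fin n) R) (F j)) := by
    funext j k
    simp only [Function.comp_apply, LinearEquiv.coe_coe, Module.Basis.equivFun_apply, b,
      Module.Basis.baseChange_repr_tmul, KaehlerDifferential.mvPolynomialBasis_repr_apply,
      Algebra.smul_def, mul_one]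
    rfl
  have h1 : M.submatrix id cols =
      (algebraMap (MvPolynomial (Fin n) R) L).mapMatrix
        (Matrix.of fun j k : Fin c => MvPolynomial.pderiv (cols k) (F j)) := by
    ext j k
    rfl
  have hdet : (M.submatrix id cols).det ≠ 0 := by
    rw [h1, ← RingHom.map_det]
    exact h
  have hsub : LinearIndependent L (M.submatrix id cols).row :=
    Matrix.linearIndependent_rows_of_det_ne_zero hdet
  have hM : LinearIndependent L M.row := by
    refine LinearIndependent.of_comp (LinearMap.funLeft L L cols) ?_
    exact hsub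
  rw [hrow] at hM
  exact LinearIndependent.of_comp _ hM

end Det

section Fibre

attribute [local instance] Algebra.TensorProduct.rightAlgebra

variable {R A : Type u} [CommRing R] [CommRing A] [Algebra R A]

/-- Smoothness at a prime passes to the fibre. -/
theorem isSmoothAt_fiber [Algebra.FinitePresentation R A] (p : Ideal R) [p.IsPrime]
    (q' : Ideal (p.Fiber A)) [q'.IsPrime] (q : Ideal A) [q.IsPrime]
    (hq' : q = q'.comap Algebra.TensorProduct.includeRight.toRingHom)
    (h : Algebra.IsSmoothAt R q) : Algebra.IsSmoothAt p.ResidueField q' := by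
  obtain ⟨f, hf, hsm⟩ := Algebra.IsSmoothAt.exists_notMem_smooth R q
  have h1 : Algebra.Smooth p.ResidueField (p.ResidueField ⊗[R] Localization.Away f) :=
    inferInstance
  let e := IsLocalization.Away.tensorProductEquivTMulRight R p.ResidueField f
    (Localization.Away f)
  have h2 : Algebra.FormallySmooth p.ResidueField
      (Localization.Away ((1 : p.ResidueField) ⊗ₜ[R] f)) := .of_equiv e
  have h3 := (Algebra.basicOpen_subset_smoothLocus_iff (R := p.ResidueField)
    (A := p.Fiber A)).mpr h2
  refine h3 (show (⟨q', inferInstance⟩ : PrimeSpectrum (p.Fiber A)) ∈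
    PrimeSpectrum.basicOpen ((1 : p.ResidueField) ⊗ₜ[R] f) from ?_)
  intro hmem
  apply hf
  rw [hq']
  exact hmem

/-- The fibre of `Ω` of the fibre ring at one of its primes is the fibre of `Ω_{A/R}`. -/
noncomputable def fiberKaehlerEquiv (p : Ideal R) [p.IsPrime]
    (q' : Ideal (p.Fiber A)) [q'.IsPrime] :
    q'.ResidueField ⊗[p.Fiber A] Ω[p.Fiber A⁄p.ResidueField] ≃ₗ[q'.ResidueField]
      q'.ResidueField ⊗[A] Ω[A⁄R] :=
  (LinearEquiv.baseChange (p.Fiber A) q'.ResidueField _ _
    (KaehlerDifferential.tensorKaehlerEquiv R p.ResidueField A (p.Fiber A)).symm).trans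
    (TensorProduct.AlgebraTensorModule.cancelBaseChange A (p.Fiber A) q'.ResidueField
      q'.ResidueField Ω[A⁄R])

/-- At a smooth prime, the fibre rank of `Ω_{A/R}` is at most the dimension of the fibre ring. -/
theorem finrank_fiber_le_ringKrullDim [Algebra.FinitePresentation R A] (p : Ideal R) [p.IsPrime]
    (q' : Ideal (p.Fiber A)) [q'.IsPrime] (q : Ideal A) [q.IsPrime]
    (hq' : q = q'.comap Algebra.TensorProduct.includeRight.toRingHom)
    (h : Algebra.IsSmoothAt R q) :
    ((Module.finrank q'.ResidueField (q'.ResidueField ⊗[A] Ω[A⁄R]) : ℕ) : WithBot ℕ∞) ≤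
      ringKrullDim (p.Fiber A) := by
  have hs := isSmoothAt_fiber p q' q hq' h
  have h1 := Groth.Agent.Lib.Helper25.SmoothLocalDim.finrank_le_of_isSmoothAt
    p.ResidueField (p.Fiber A) q' hs
  rw [(fiberKaehlerEquiv p q').finrank_eq] at h1
  refine h1.trans ?_
  have h2 := Groth.Agent.Lib.Helper25.LocalDimRing.localDim_le_topologicalKrullDim
    (A := p.Fiber A) ⟨q', inferInstance⟩ ⊤ trivial
  refine h2.trans ?_
  rw [← PrimeSpectrum.topologicalKrullDim_eq_ringKrullDim]
  exact topologicalKrullDim_subspace_le _ _

end Fibre

end Groth.Agent.Lib.Helper25.RelGCIJacobian
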