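import Mathlib
import Groth.Agent.Lib.Helper25.BertiniJets3
import Groth.Agent.Lib.Helper25.RelGCIJacobian
set_option autoImplicit false
universe u
open CategoryTheory CategoryTheory.Limits AlgebraicGeometry TensorProduct KaehlerDifferential

namespace Groth.Agent.Lib.Helper25.BertiniJets

open Groth.Agent.Lib.Helper25.RelGCIJacobian in
/-- If a derivation `D` of a smooth algebra `B` has `D ℓ ≡ 1` modulo `ℓ`, then the rank of the
differentials of `C = B/(ℓ)` drops by exactly one. -/
theorem rankAtStalk_quotient_of_derivation {k B C : Type u} [Field k] [CommRing B] [Algebra k B]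
    [Algebra.Smooth k B] [CommRing C] [Algebra B C] [Algebra k C] [IsScalarTower k B C]
    [Algebra.Smooth k C] (ℓ : B) (hsurj : Function.Surjective (algebraMap B C))
    (hker : RingHom.ker (algebraMap B C) = Ideal.span {ℓ}) (D' : Derivation k B B)
    (hD : D' ℓ - 1 ∈ Ideal.span {ℓ}) (q : PrimeSpectrum C) :
    Module.rankAtStalk (Ω[C⁄k]) q + 1 =
      Module.rankAtStalk (Ω[B⁄k]) (q.comap (algebraMap B C)) := by
  classical
  have hker' : RingHom.ker (algebraMap B C) = Ideal.span (Set.range fun _ : Fin 1 => ℓ) := by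
    rw [Set.range_const]; exact hker
  haveI : Module.Finite B Ω[B⁄k] := inferInstance
  haveI : Module.Finite C (C ⊗[B] Ω[B⁄k]) := inferInstance
  have h1 := finrank_baseChange_eq_add q.asIdeal.ResidueField
    (Fintype.linearCombination C fun _ : Fin 1 => (1 : C) ⊗ₜ[B] D k B ℓ)
    ((mapBaseChange k B C).restrictScalars C)
    (exact_linearCombination_mapBaseChange k hsurj (fun _ : Fin 1 => ℓ) hker')
    (mapBaseChange_surjective k B C hsurj)
    (fun j : Fin 1 => (Pi.single j (1 : C) : Fin 1 → C))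
    (by
      rw [← (Pi.basisFun C (Fin 1)).span_eq]
      congr 1
      ext x
      simp only [Set.mem_range, Pi.basisFun_apply])
  have h2 : Module.finrank q.asIdeal.ResidueField
      (q.asIdeal.ResidueField ⊗[C] (C ⊗[B] Ω[B⁄k])) =
      Module.rankAtStalk (Ω[B⁄k]) (q.comap (algebraMap B C)) := by
    rw [← Module.rankAtStalk_baseChange, Module.rankAtStalk_eq]
  have h3 : (fun i : Fin 1 => (1 : q.asIdeal.ResidueField) ⊗ₜ[C] (Fintype.linearCombination C
      fun _ : Fin 1 => (1 : C) ⊗ₜ[B] D k B ℓ) (Pi.single i (1 : C))) =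
      fun _ => (1 : q.asIdeal.ResidueField) ⊗ₜ[C] ((1 : C) ⊗ₜ[B] D k B ℓ) := by
    funext i
    rw [Fintype.linearCombination_apply_single, one_smul]
  rw [h3, Set.range_const, h2] at h1
  have hw : (1 : q.asIdeal.ResidueField) ⊗ₜ[C] ((1 : C) ⊗ₜ[B] D k B ℓ) ≠ 0 := by
    intro h0
    let φ : Ω[B⁄k] →ₗ[B] B := D'.liftKaehlerDifferential
    let ψ₁ : C ⊗[B] Ω[B⁄k] →ₗ[C] C := LinearMap.liftBaseChange C ((Algebra.linearMap B C) ∘ₗ φ)
    let ψ₂ : q.asIdeal.ResidueField ⊗[C] (C ⊗[B] Ω[B⁄k]) →ₗ[q.asIdeal.ResidueField]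
        q.asIdeal.ResidueField :=
      LinearMap.liftBaseChange q.asIdeal.ResidueField
        ((Algebra.linearMap C q.asIdeal.ResidueField) ∘ₗ ψ₁)
    have h4 := congrArg ψ₂ h0
    rw [map_zero] at h4
    have h5 : ψ₂ ((1 : q.asIdeal.ResidueField) ⊗ₜ[C] ((1 : C) ⊗ₜ[B] D k B ℓ)) =
        algebraMap C q.asIdeal.ResidueField (algebraMap B C (D' ℓ)) := by
      simp only [ψ₂, ψ₁, φ, LinearMap.liftBaseChange_tmul, one_smul, LinearMap.comp_apply,
        Algebra.linearMap_apply, Derivation.liftKaehlerDifferential_comp_D]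
    have h6 : algebraMap B C (D' ℓ) = 1 := by
      have : D' ℓ - 1 ∈ RingHom.ker (algebraMap B C) := hker ▸ hD
      rw [RingHom.mem_ker, map_sub, map_one, sub_eq_zero] at this
      exact this
    rw [h5, h6, map_one] at h4
    exact one_ne_zero h4
  rw [finrank_span_singleton hw] at h1
  rw [Module.rankAtStalk_eq, h1, add_comm]

theorem smooth_quotient_of_derivation {k B : Type u} [Field k] [CommRing B] [Algebra k B]
    [Algebra.Smooth k B] (ℓ : B) (D' : Derivation k B B)
    (hD : D' ℓ - 1 ∈ Ideal.span {ℓ}) (J : Ideal B) (hJ : J = Ideal.span {ℓ}) :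
    Algebra.Smooth k (B ⧸ J) := by
  subst hJ
  haveI := formallySmooth_quotient_of_derivation ℓ D' hD
  exact ⟨inferInstance,
    Algebra.FinitePresentation.quotient (Submodule.fg_span (Set.finite_singleton _))⟩

end Groth.Agent.Lib.Helper25.BertiniJets
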