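import Mathlib
import Groth.Agent.Lib.Helper4.GenericSmooth
import Groth.Agent.Lib.Helper25.FiberSmoothScheme2
set_option autoImplicit false
universe u
open CategoryTheory CategoryTheory.Limits AlgebraicGeometry

/-! # Bertini: ring core -/

namespace Groth.Agent.Lib.Helper25.Bertini

section Ring
variable {A : Type u} [CommRing A] {n : ℕ} (a : Fin n → A)

/-- The universal linear form `Σ X_i a_i`. -/
noncomputable def FF : MvPolynomial (Fin n) A := ∑ i, MvPolynomial.X i * MvPolynomial.C (a i)

/-- The universal hyperplane-section algebra `A[X]/(Σ X_i a_i)`. -/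
abbrev BB : Type u := MvPolynomial (Fin n) A ⧸ Ideal.span {FF a}

theorem mk_FF : (Ideal.Quotient.mk (Ideal.span {FF a})) (FF a) = 0 :=
  Ideal.Quotient.eq_zero_iff_mem.mpr (Ideal.subset_span rfl)

theorem mk_FF_eq_sum : (Ideal.Quotient.mk (Ideal.span {FF a})) (FF a) =
    ∑ i, (Ideal.Quotient.mk (Ideal.span {FF a})) (MvPolynomial.X i) *
      algebraMap A (BB a) (a i) := by
  have : FF a = ∑ i, MvPolynomial.X i * MvPolynomial.C (a i) := rfl
  refine (congrArg (Ideal.Quotient.mk (Ideal.span {FF a})) this).trans ?_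
  rw [map_sum]
  apply Finset.sum_congr rfl
  intro i _
  rw [map_mul]
  rfl

theorem formallySmooth_BB (h : Ideal.span (Set.range a) = ⊤) :
    Algebra.FormallySmooth A (BB a) := by
  apply Algebra.FormallySmooth.of_comp_surjective
  intro C _ _ I _ g
  -- lifts of the images of the variables
  have hsurj := Ideal.Quotient.mk_surjective (I := I)
  choose t ht using fun i => hsurj (g (Ideal.Quotient.mk _ (MvPolynomial.X i)))
  have h1 : (1 : A) ∈ Ideal.span (Set.range a) := by rw [h]; trivial
  obtain ⟨b, hb⟩ := (Ideal.mem_span_range_iff_exists_fun).mp h1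
  let ε : C := ∑ i, t i * algebraMap A C (a i)
  have hε : Ideal.Quotient.mk I ε = 0 := by
    have : g (Ideal.Quotient.mk _ (FF a)) = 0 := by
      rw [mk_FF, map_zero]
    rw [mk_FF_eq_sum, map_sum] at this
    simp only [ε, map_sum, map_mul, ht]
    rw [← this]
    apply Finset.sum_congr rfl
    intro i _
    rw [map_mul, AlgHom.commutes]
    rfl
  let t' : Fin n → C := fun i => t i - algebraMap A C (b i) * ε
  have hF : MvPolynomial.aeval t' (FF a) = 0 := by
    simp only [FF, map_sum, map_mul, MvPolynomial.aeval_X, MvPolynomial.aeval_C, t']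
    have : ∑ x, (t x - (algebraMap A C) (b x) * ε) * (algebraMap A C) (a x) =
        ε - (algebraMap A C (∑ x, b x * a x)) * ε := by
      simp only [sub_mul, Finset.sum_sub_distrib, map_sum, map_mul, Finset.sum_mul]
      congr 1
      apply Finset.sum_congr rfl
      intro i _; ring
    rw [this, hb, map_one, one_mul, sub_self]
  refine ⟨Ideal.Quotient.liftₐ (Ideal.span {FF a}) (MvPolynomial.aeval t') ?_, ?_⟩
  · intro x hx
    obtain ⟨y, rfl⟩ := Ideal.mem_span_singleton'.mp hx
    rw [map_mul, hF, mul_zero]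
  · apply Ideal.Quotient.algHom_ext
    apply MvPolynomial.algHom_ext
    intro i
    simp only [AlgHom.coe_comp, Function.comp_apply, Ideal.Quotient.mkₐ_eq_mk,
      Ideal.Quotient.liftₐ_apply, Ideal.Quotient.lift_mk, AlgHom.coe_toRingHom,
      MvPolynomial.aeval_X, t']
    rw [map_sub, map_mul, hε, mul_zero, sub_zero, ht]

theorem smooth_BB (h : Ideal.span (Set.range a) = ⊤) : Algebra.Smooth A (BB a) :=
  ⟨formallySmooth_BB a h,
    Algebra.FinitePresentation.quotient (Submodule.fg_span (Set.finite_singleton _))⟩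

end Ring

section Gen
variable (k : Type u) [Field k] {A : Type u} [CommRing A] [Algebra k A]
  {n : ℕ} (a : Fin n → A)

/-- The map `k[X] → A[X]/(F)`. -/
noncomputable def φφ : MvPolynomial (Fin n) k →+* BB a :=
  (Ideal.Quotient.mk _).comp (MvPolynomial.map (algebraMap k A))

theorem φφ_comp_C : (φφ k a).comp MvPolynomial.C = algebraMap k (BB a) := by
  ext r
  simp only [φφ, RingHom.coe_comp, Function.comp_apply, MvPolynomial.map_C]
  rfl

variable (c : Fin n → k)

/-- The member `Σ c_i a_i` of the linear system. -/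
def fc : A := ∑ i, algebraMap k A (c i) * a i

/-- The fibre algebra `A/(Σ c_i a_i)`. -/
abbrev QQ : Type u := A ⧸ Ideal.span {fc k a c}

/-- `A[X]/(F) → A/(f_c)`, `X_i ↦ c_i`. -/
noncomputable def ψψ : BB a →+* QQ k a c :=
  Ideal.Quotient.lift (Ideal.span {FF a})
    (MvPolynomial.eval₂Hom (Ideal.Quotient.mk (Ideal.span {fc k a c}))
      (fun i => algebraMap k (QQ k a c) (c i))) (by
    intro x hx
    obtain ⟨y, rfl⟩ := Ideal.mem_span_singleton'.mp hx
    rw [map_mul]
    have : (MvPolynomial.eval₂Hom (Ideal.Quotient.mk (Ideal.span {fc k a c}))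
      (fun i => algebraMap k (QQ k a c) (c i))) (FF a) = 0 := by
      have h1 : FF a = ∑ i, MvPolynomial.X i * MvPolynomial.C (a i) := rfl
      rw [h1, map_sum]
      simp only [map_mul, MvPolynomial.eval₂Hom_X', MvPolynomial.coe_eval₂Hom, MvPolynomial.eval₂_C]
      have h2 : (Ideal.Quotient.mk (Ideal.span {fc k a c})) (fc k a c) = 0 :=
        Ideal.Quotient.eq_zero_iff_mem.mpr (Ideal.subset_span rfl)
      have h3 : fc k a c = ∑ i, algebraMap k A (c i) * a i := rfl
      rw [← h2]
      refine Eq.trans ?_ (congrArg (Ideal.Quotient.mk (Ideal.span {fc k a c})) h3).symm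
      rw [map_sum]
      apply Finset.sum_congr rfl
      intro i _
      rw [map_mul]
      rfl
    rw [this, mul_zero])

theorem ψψ_mk (x : MvPolynomial (Fin n) A) :
    ψψ k a c (Ideal.Quotient.mk _ x) = MvPolynomial.eval₂Hom (Ideal.Quotient.mk (Ideal.span {fc k a c}))
      (fun i => algebraMap k (QQ k a c) (c i)) x := rfl

theorem comm_sq : (ψψ k a c).comp (φφ k a) =
    (algebraMap k (QQ k a c)).comp (MvPolynomial.eval c) := by
  apply MvPolynomial.ringHom_ext
  · intro r
    simp only [φφ, RingHom.coe_comp, Function.comp_apply, MvPolynomial.map_C, ψψ_mk,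
      MvPolynomial.coe_eval₂Hom, MvPolynomial.eval₂_C, MvPolynomial.eval_C]
    rfl
  · intro i
    simp only [φφ, RingHom.coe_comp, Function.comp_apply, MvPolynomial.map_X, ψψ_mk,
      MvPolynomial.coe_eval₂Hom, MvPolynomial.eval₂_X, MvPolynomial.eval_X]

section Desc
variable {k a c}
variable {T : Type u} [CommRing T] (u : BB a →+* T) (v : k →+* T)
  (huv : u.comp (φφ k a) = v.comp (MvPolynomial.eval c))

include huv in
theorem u_mk_X (i : Fin n) : u (Ideal.Quotient.mk _ (MvPolynomial.X i)) =
    u (Ideal.Quotient.mk _ (MvPolynomial.C (algebraMap k A (c i)))) := by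
  have h1 : u (φφ k a (MvPolynomial.X i)) = v (c i) := by
    have := congrFun (congrArg DFunLike.coe huv) (MvPolynomial.X i)
    simpa using this
  have h2 : u (φφ k a (MvPolynomial.C (c i))) = v (c i) := by
    have := congrFun (congrArg DFunLike.coe huv) (MvPolynomial.C (c i))
    simpa using this
  have h3 : φφ k a (MvPolynomial.X i) = Ideal.Quotient.mk _ (MvPolynomial.X i) := by
    simp [φφ]
  have h4 : φφ k a (MvPolynomial.C (c i)) =
      Ideal.Quotient.mk _ (MvPolynomial.C (algebraMap k A (c i))) := by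
    simp [φφ]
  rw [← h3, ← h4, h1, h2]

include huv in
theorem u_fc : u (Ideal.Quotient.mk _ (MvPolynomial.C (fc k a c))) = 0 := by
  have h3 : fc k a c = ∑ i, algebraMap k A (c i) * a i := rfl
  rw [h3, map_sum, map_sum, map_sum]
  have : u (Ideal.Quotient.mk _ (FF a)) = 0 := by rw [mk_FF, map_zero]
  rw [← this, mk_FF_eq_sum, map_sum]
  apply Finset.sum_congr rfl
  intro i _
  rw [map_mul, map_mul, map_mul, map_mul, u_mk_X u v huv i]
  rfl

/-- The induced map out of the fibre algebra. -/
noncomputable def descQ : QQ k a c →+* T :=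
  Ideal.Quotient.lift (Ideal.span {fc k a c})
    (u.comp ((Ideal.Quotient.mk _).comp MvPolynomial.C)) (by
    intro x hx
    obtain ⟨y, rfl⟩ := Ideal.mem_span_singleton'.mp hx
    rw [map_mul]
    have : (u.comp ((Ideal.Quotient.mk (Ideal.span {FF a})).comp MvPolynomial.C)) (fc k a c) = 0 :=
      u_fc u v huv
    rw [this, mul_zero])

theorem descQ_mk (x : A) : descQ u v huv (Ideal.Quotient.mk _ x) =
    u (Ideal.Quotient.mk _ (MvPolynomial.C x)) := rfl

theorem descQ_comp_ψψ : (descQ u v huv).comp (ψψ k a c) = u := by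
  apply Ideal.Quotient.ringHom_ext
  apply MvPolynomial.ringHom_ext
  · intro r
    simp only [RingHom.coe_comp, Function.comp_apply, ψψ_mk, MvPolynomial.coe_eval₂Hom,
      MvPolynomial.eval₂_C, descQ_mk]
  · intro i
    simp only [RingHom.coe_comp, Function.comp_apply, ψψ_mk, MvPolynomial.coe_eval₂Hom,
      MvPolynomial.eval₂_X]
    rw [u_mk_X u v huv i]
    rfl

theorem descQ_comp_algebraMap : (descQ u v huv).comp (algebraMap k (QQ k a c)) = v := by
  ext r
  have h2 : u (φφ k a (MvPolynomial.C r)) = v r := by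
    have := congrFun (congrArg DFunLike.coe huv) (MvPolynomial.C r)
    simpa using this
  rw [← h2]
  simp only [φφ, RingHom.coe_comp, Function.comp_apply, MvPolynomial.map_C]
  rfl

theorem descQ_unique (w : QQ k a c →+* T) (hw : w.comp (ψψ k a c) = u) : w = descQ u v huv := by
  apply Ideal.Quotient.ringHom_ext
  ext x
  simp only [RingHom.coe_comp, Function.comp_apply, descQ_mk]
  rw [← hw]
  simp only [RingHom.coe_comp, Function.comp_apply, ψψ_mk, MvPolynomial.coe_eval₂Hom,
      MvPolynomial.eval₂_C]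

end Desc

theorem isPushout_fibre :
    IsPushout (CommRingCat.ofHom (φφ k a)) (CommRingCat.ofHom (MvPolynomial.eval c))
      (CommRingCat.ofHom (ψψ k a c)) (CommRingCat.ofHom (algebraMap k (QQ k a c))) := by
  have hsq : CommRingCat.ofHom (φφ k a) ≫ CommRingCat.ofHom (ψψ k a c) =
      CommRingCat.ofHom (MvPolynomial.eval c) ≫ CommRingCat.ofHom (algebraMap k (QQ k a c)) := by
    rw [← CommRingCat.ofHom_comp, ← CommRingCat.ofHom_comp, comm_sq]
  have key : ∀ s : PushoutCocone (CommRingCat.ofHom (φφ k a)) (CommRingCat.ofHom (MvPolynomial.eval c)),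
      s.inl.hom.comp (φφ k a) = s.inr.hom.comp (MvPolynomial.eval c) := by
    intro s
    have := s.condition
    exact congrArg CommRingCat.Hom.hom this
  refine IsPushout.of_isColimit' ⟨hsq⟩ (PushoutCocone.IsColimit.mk hsq
    (fun s => CommRingCat.ofHom (descQ s.inl.hom s.inr.hom (key s))) ?_ ?_ ?_)
  · intro s
    ext1
    exact descQ_comp_ψψ s.inl.hom s.inr.hom (key s)
  · intro s
    ext1
    exact descQ_comp_algebraMap s.inl.hom s.inr.hom (key s)
  · intro s m hm1 hm2
    ext1
    exact descQ_unique s.inl.hom s.inr.hom (key s) m.hom (congrArg CommRingCat.Hom.hom hm1)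


instance lofp_φφ [Algebra.FinitePresentation k A] :
    LocallyOfFinitePresentation (Spec.map (CommRingCat.ofHom (φφ k a))) := by
  rw [HasRingHomProperty.Spec_iff (P := @LocallyOfFinitePresentation)]
  letI := (φφ k a).toAlgebra
  haveI : IsScalarTower k (MvPolynomial (Fin n) k) (BB a) :=
    IsScalarTower.of_algebraMap_eq (fun r => (congrFun (congrArg DFunLike.coe (φφ_comp_C k a)) r).symm)
  haveI : Algebra.FinitePresentation A (BB a) :=
    Algebra.FinitePresentation.quotient (Submodule.fg_span (Set.finite_singleton _))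
  haveI : Algebra.FinitePresentation k (BB a) := Algebra.FinitePresentation.trans k A (BB a)
  exact Algebra.FinitePresentation.of_restrict_scalars_finitePresentation k _ _

theorem exists_basicOpen_smooth [CharZero k] [Algebra.Smooth k A] (h : Ideal.span (Set.range a) = ⊤) :
    ∃ p : MvPolynomial (Fin n) k, p ≠ 0 ∧
      ∀ x : Spec (CommRingCat.of (BB a)),
        (Spec.map (CommRingCat.ofHom (φφ k a))) x ∈ PrimeSpectrum.basicOpen p →
        x ∈ (Spec.map (CommRingCat.ofHom (φφ k a))).smoothLocus := by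
  haveI : Algebra.Smooth A (BB a) := smooth_BB a h
  haveI : Algebra.Smooth k (BB a) := Algebra.Smooth.comp k A (BB a)
  let qY : Spec (CommRingCat.of (MvPolynomial (Fin n) k)) ⟶ Spec (CommRingCat.of k) :=
    Spec.map (CommRingCat.ofHom MvPolynomial.C)
  let f := Spec.map (CommRingCat.ofHom (φφ k a))
  haveI : LocallyOfFiniteType qY := by
    rw [HasRingHomProperty.Spec_iff (P := @LocallyOfFiniteType)]
    exact RingHom.finiteType_algebraMap.mpr inferInstance
  haveI : Smooth (f ≫ qY) := by
    have : f ≫ qY = Spec.map (CommRingCat.ofHom (algebraMap k (BB a))) := by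
      rw [← Spec.map_comp, ← CommRingCat.ofHom_comp, φφ_comp_C]
    rw [this, HasRingHomProperty.Spec_iff (P := @Smooth)]
    exact RingHom.smooth_algebraMap.mpr inferInstance
  let W : Set (Spec (CommRingCat.of (BB a))) := f.smoothLocus
  have hWopen : IsOpen W := f.smoothLocus.2
  haveI : IsNoetherianRing (BB a) := Algebra.FiniteType.isNoetherianRing k (BB a)
  haveI : TopologicalSpace.NoetherianSpace (Spec (CommRingCat.of (BB a))) :=
    inferInstanceAs (TopologicalSpace.NoetherianSpace (PrimeSpectrum (BB a)))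
  have hη := genericPoint_spec (Spec (CommRingCat.of (MvPolynomial (Fin n) k)))
  have hfib : ∀ x, f x = genericPoint _ → x ∈ W := fun x hx =>
    Groth.Agent.Lib.Helper4.mem_smoothLocus_of_eq_genericPoint k qY f x hx
  have hnot := Groth.Agent.Lib.Helper4.not_mem_closure_image_compl_of_fibre_subset
    f.continuous hη hWopen hfib
  obtain ⟨_, ⟨p, rfl⟩, hηp, hpsub⟩ :=
    PrimeSpectrum.isTopologicalBasis_basic_opens.exists_subset_of_mem_open
      (show genericPoint (Spec (CommRingCat.of (MvPolynomial (Fin n) k))) ∈ (closure (f '' Wᶜ))ᶜ from hnot)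
      isClosed_closure.isOpen_compl
  refine ⟨p, ?_, ?_⟩
  · rintro rfl
    simp at hηp
  · intro x hx
    by_contra hxW
    exact hpsub hx (subset_closure ⟨x, hxW, rfl⟩)


theorem bertini_ring [CharZero k] [Algebra.Smooth k A] (h : Ideal.span (Set.range a) = ⊤) :
    ∃ p : MvPolynomial (Fin n) k, p ≠ 0 ∧
      ∀ c : Fin n → k, MvPolynomial.eval c p ≠ 0 → Algebra.Smooth k (QQ k a c) := by
  obtain ⟨p, hp0, hp⟩ := exists_basicOpen_smooth k a h
  refine ⟨p, hp0, fun c hc => ?_⟩
  have hpb := isPullback_SpecMap_of_isPushout _ _ _ _ (isPushout_fibre k a c)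
  haveI : LocallyOfFinitePresentation (Spec.map (CommRingCat.ofHom (algebraMap k (QQ k a c)))) :=
    MorphismProperty.of_isPullback hpb (lofp_φφ k a)
  have hle := Groth.Agent.Lib.Helper25.FiberSmoothScheme.preimage_smoothLocus_le_of_isPullback hpb
  have htop : (Spec.map (CommRingCat.ofHom (algebraMap k (QQ k a c)))).smoothLocus = ⊤ := by
    rw [eq_top_iff]
    intro z _
    apply hle
    change (Spec.map (CommRingCat.ofHom (ψψ k a c))) z ∈
      (Spec.map (CommRingCat.ofHom (φφ k a))).smoothLocus
    apply hp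
    have hcomm : (Spec.map (CommRingCat.ofHom (φφ k a))) ((Spec.map (CommRingCat.ofHom (ψψ k a c))) z) =
        (Spec.map (CommRingCat.ofHom (MvPolynomial.eval c)))
          ((Spec.map (CommRingCat.ofHom (algebraMap k (QQ k a c)))) z) := by
      rw [← Scheme.Hom.comp_apply, ← Scheme.Hom.comp_apply, hpb.w]
    rw [hcomm]
    change p ∉ _
    intro hmem
    set w := (Spec.map (CommRingCat.ofHom (algebraMap k (QQ k a c)))) z with hw
    have h1 : MvPolynomial.eval c p ∈ w.asIdeal := hmem
    exact w.isPrime.ne_top (Ideal.eq_top_of_isUnit_mem _ h1 (IsUnit.mk0 _ hc))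
  rw [Scheme.Hom.smoothLocus_eq_top_iff, HasRingHomProperty.Spec_iff (P := @Smooth)] at htop
  exact RingHom.smooth_algebraMap.mp htop

end Gen
end Groth.Agent.Lib.Helper25.Bertini
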