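import Mathlib
import Groth.Prelude.Def_Coh
import Groth.Prelude.Def_Formal
import Groth.Prelude.Def_PicF2
import Groth.Agent.Lib.Helper29.ZeroSch2
import Groth.Agent.Lib.Helper29.Avoid
import Groth.Agent.Lib.Helper25.Bertini1
set_option autoImplicit false
universe u
open CategoryTheory CategoryTheory.Limits AlgebraicGeometry

/-! # Bertini: scheme level -/

namespace Groth.Agent.Lib.Helper25.Bertini
open Groth.Agent.Lib.Helper29.QCoh Groth.Agent.Lib.Helper29.ZeroSch

/-- The structure map of sections over an open of a scheme over `Spec A`. -/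
noncomputable def ρρ {A : Type u} [CommRing A] {X : Scheme.{u}} (f : X ⟶ Spec (CommRingCat.of A))
    (U : X.Opens) : A →+* Γ(X, U) :=
  (X.presheaf.map (homOfLE (le_top : U ≤ ⊤)).op).hom.comp (Coh.toGlobal f)

theorem fromSpec_comp_eq {A : Type u} [CommRing A] {X : Scheme.{u}}
    (f : X ⟶ Spec (CommRingCat.of A)) {U : X.Opens} (hU : IsAffineOpen U) :
    hU.fromSpec ≫ f = Spec.map (CommRingCat.ofHom (ρρ f U)) := by
  rw [← cancel_mono (Spec (CommRingCat.of A)).toSpecΓ]
  rw [Category.assoc, Scheme.toSpecΓ_naturality, hU.fromSpec_toSpecΓ_assoc, ← Spec.map_comp]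
  rw [← SpecMap_ΓSpecIso_hom, ← Spec.map_comp]
  congr 1
  ext x
  simp [ρρ, Coh.toGlobal]

section Mod
variable {k : Type u} [CommRing k] {X : Scheme.{u}} [X.Over (Spec (CommRingCat.of k))]

theorem smulMod_app (M : X.Modules) (c : k) (U : X.Opens) (m : Γ(M, U)) :
    (Formal.smulMod k M c).app U m = ρρ (X ↘ Spec (CommRingCat.of k)) U c • m := rfl

theorem sval_smulMod_comp {L : X.Modules} (c : k) (s : unitM X ⟶ L) (U : X.Opens) :
    sval (Formal.smulMod k (unitM X) c ≫ s) U =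
      ρρ (X ↘ Spec (CommRingCat.of k)) U c • sval s U := by
  change s.app U ((Formal.smulMod k (unitM X) c).app U (toUnit 1)) = _
  rw [smulMod_app, Scheme.Modules.Hom.app_smul]
  rfl

theorem sval_sum {N : X.Modules} {ι : Type*} (S : Finset ι) (t : ι → (unitM X ⟶ N)) (U : X.Opens) :
    sval (∑ i ∈ S, t i) U = ∑ i ∈ S, sval (t i) U := by
  classical
  induction S using Finset.induction_on with
  | empty => simp only [Finset.sum_empty]; exact sval_zero' U
  | insert i S hi ih => rw [Finset.sum_insert hi, Finset.sum_insert hi, sval_add, ih]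

theorem sval_lincomb {L : X.Modules} {n : ℕ} (s : Fin n → (unitM X ⟶ L)) (c : Fin n → k)
    {U : X.Opens} (e : Γ(L, U)) (a : Fin n → Γ(X, U)) (ha : ∀ i, sval (s i) U = a i • e) :
    sval (∑ i, Formal.smulMod k (unitM X) (c i) ≫ s i) U =
      (∑ i, ρρ (X ↘ Spec (CommRingCat.of k)) U (c i) * a i) • e := by
  rw [sval_sum, Finset.sum_smul]
  apply Finset.sum_congr rfl
  intro i _
  rw [sval_smulMod_comp, ha, smul_smul]

end Mod

section Chart
variable (k : Type u) [Field k] [CharZero k] {X : Scheme.{u}} [X.Over (Spec (CommRingCat.of k))]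
  [Smooth (X ↘ Spec (CommRingCat.of k))]

theorem span_range_eq_top {L : X.Modules} (hL : PicF.IsInvertible L) {n : ℕ}
    (s : Fin n → (unitM X ⟶ L)) (hgen : ⨆ i, PicF2.zeroScheme L (s i) = ⊤)
    {U : X.Opens} (hU : IsAffineOpen U) {e : Γ(L, U)} (he : IsTriv L U e)
    (a : Fin n → Γ(X, U)) (ha : ∀ i, sval (s i) U = a i • e) :
    Ideal.span (Set.range a) = ⊤ := by
  have h1 := congrArg (fun I : X.IdealSheafData => I.ideal ⟨U, hU⟩) hgen
  simp only [Scheme.IdealSheafData.ideal_iSup, Scheme.IdealSheafData.ideal_top, iSup_apply,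
    Pi.top_apply] at h1
  rw [← h1, ← Set.iUnion_singleton_eq_range, Ideal.span_iUnion]
  congr 1
  funext i
  exact (zeroScheme_ideal_of_isTriv hL (s i) hU he (a i) (ha i)).symm

theorem chart {L : X.Modules} (hL : PicF.IsInvertible L) {n : ℕ}
    (s : Fin n → (unitM X ⟶ L)) (hgen : ⨆ i, PicF2.zeroScheme L (s i) = ⊤)
    (V : X.affineOpens) {e : Γ(L, V.1)} (he : IsTriv L V.1 e) :
    ∃ p : MvPolynomial (Fin n) k, p ≠ 0 ∧ ∀ c : Fin n → k, MvPolynomial.eval c p ≠ 0 →
      Smooth ((PicF2.zeroScheme L (∑ i, Formal.smulMod k (unitM X) (c i) ≫ s i)).subschemeCover.f V ≫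
        (PicF2.zeroScheme L (∑ i, Formal.smulMod k (unitM X) (c i) ≫ s i)).subschemeι ≫
        (X ↘ Spec (CommRingCat.of k))) := by
  letI alg : Algebra k Γ(X, V.1) := (ρρ (X ↘ Spec (CommRingCat.of k)) V.1).toAlgebra
  haveI : Algebra.Smooth k Γ(X, V.1) := by
    have h1 : Smooth (V.2.fromSpec ≫ (X ↘ Spec (CommRingCat.of k))) := inferInstance
    rw [fromSpec_comp_eq, HasRingHomProperty.Spec_iff (P := @Smooth)] at h1
    exact h1
  choose a ha using fun i => he.exists_eq_smul (sval (s i) V.1)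
  have hspan := span_range_eq_top hL s hgen V.2 he a ha
  obtain ⟨p, hp0, hp⟩ := bertini_ring k a hspan
  refine ⟨p, hp0, fun c hc => ?_⟩
  have hsm := hp c hc
  set I := PicF2.zeroScheme L (∑ i, Formal.smulMod k (unitM X) (c i) ≫ s i) with hI
  have hideal : I.ideal V = Ideal.span {fc k a c} :=
    zeroScheme_ideal_of_isTriv hL _ V.2 he _ (sval_lincomb s c e a ha)
  have hsm' : ∀ J : Ideal Γ(X, V.1), J = Ideal.span {fc k a c} →
      Algebra.Smooth k (Γ(X, V.1) ⧸ J) := by
    rintro _ rfl; exact hsm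
  have hsm'' := hsm' _ hideal
  have heq : I.subschemeCover.f V ≫ I.subschemeι ≫ (X ↘ Spec (CommRingCat.of k)) =
      Spec.map (CommRingCat.ofHom (algebraMap k (Γ(X, V.1) ⧸ I.ideal V))) := by
    have e1 : I.subschemeCover.f V ≫ I.subschemeι = I.glueDataObjι V ≫ V.1.ι :=
      I.subschemeCover_map_subschemeι V
    have e2 := I.glueDataObjι_ι V
    rw [← Category.assoc]
    refine (congrArg (· ≫ (X ↘ Spec (CommRingCat.of k))) (e1.trans e2)).trans ?_
    refine (Category.assoc _ _ _).trans ?_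
    refine (congrArg (Spec.map (CommRingCat.ofHom (Ideal.Quotient.mk (I.ideal V))) ≫ ·)
      (fromSpec_comp_eq _ V.2)).trans ?_
    refine (Spec.map_comp _ _).symm.trans ?_
    rfl
  rw [heq]
  exact (HasRingHomProperty.Spec_iff (P := @Smooth)).mpr (RingHom.smooth_algebraMap.mpr hsm'')

theorem bertini [QuasiCompact (X ↘ Spec (CommRingCat.of k))]
    {L : X.Modules} (hL : PicF.IsInvertible L) {n : ℕ}
    (s : Fin n → (unitM X ⟶ L)) (hgen : ⨆ i, PicF2.zeroScheme L (s i) = ⊤) :
    ∃ p : MvPolynomial (Fin n) k, p ≠ 0 ∧ ∀ c : Fin n → k, MvPolynomial.eval c p ≠ 0 →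
      Smooth ((PicF2.zeroScheme L (∑ i, Formal.smulMod k (unitM X) (c i) ≫ s i)).subschemeι ≫
        (X ↘ Spec (CommRingCat.of k))) := by
  haveI : CompactSpace X :=
    QuasiCompact.compactSpace_of_compactSpace (X ↘ Spec (CommRingCat.of k))
  choose U e hU hxU _ he using fun x : X =>
    exists_affine_isTriv hL (W := ⊤) x (by trivial)
  obtain ⟨t, ht⟩ := isCompact_univ.elim_finite_subcover (fun x : X => (U x : Set X))
    (fun x => (U x).2) (fun x _ => Set.mem_iUnion.mpr ⟨x, hxU x⟩)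
  choose P hP0 hP using fun x : X => chart k hL s hgen ⟨U x, hU x⟩ (he x)
  refine ⟨∏ x ∈ t, P x, Finset.prod_ne_zero_iff.mpr (fun x _ => hP0 x), fun c hc => ?_⟩
  rw [map_prod, Finset.prod_ne_zero_iff] at hc
  set I := PicF2.zeroScheme L (∑ i, Formal.smulMod k (unitM X) (c i) ≫ s i) with hI
  let 𝒰 : I.subscheme.OpenCover := Scheme.Cover.mkOfCovers (t : Set X)
    (fun x => Spec (I.subschemeCover.X ⟨U x.1, hU x.1⟩))
    (fun x => I.subschemeCover.f ⟨U x.1, hU x.1⟩) (by
      intro z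
      obtain ⟨x, hx⟩ := Set.mem_iUnion.mp (ht (Set.mem_univ (I.subschemeι z)))
      obtain ⟨hxt, hzx⟩ := Set.mem_iUnion.mp hx
      have hz : z ∈ (I.subschemeCover.f ⟨U x, hU x⟩).opensRange := by
        rw [I.opensRange_subschemeCover_map]
        exact hzx
      obtain ⟨y, hy⟩ := hz
      exact ⟨⟨x, hxt⟩, y, hy⟩)
  refine IsZariskiLocalAtSource.of_openCover (P := @Smooth) 𝒰 (fun x => ?_)
  exact hP x.1 c (hc x.1 x.2)

end Chart

end Groth.Agent.Lib.Helper25.Bertini
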