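import Mathlib
import Groth.Prelude.Def_Coh
import Groth.Prelude.Def_Formal
import Groth.Prelude.Def_PicF2
import Groth.Prelude.Def_FlatMod2
import Groth.Agent.Lib.Helper29.ZeroSch2
import Groth.Agent.Lib.Helper29.Avoid
import Groth.Agent.Lib.Helper25.Bertini2
import Groth.Agent.Lib.Helper25.BertiniJets3
set_option autoImplicit false
universe u
open CategoryTheory CategoryTheory.Limits AlgebraicGeometry

namespace Groth.Agent.Lib.Helper25.BertiniJets
open Groth.Agent.Lib.Helper29.QCoh Groth.Agent.Lib.Helper29.ZeroSch Groth.Agent.Lib.Helper25.Bertini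

section Stalk
variable {X : Scheme.{u}} {L : X.Modules}

theorem stalk_exists_of_isTriv {U : X.Opens} {e : Γ(L, U)} (he : IsTriv L U e) (p : X) (hp : p ∈ U)
    (l : L.presheaf.stalk p) : ∃ y : X.presheaf.stalk p, l = y • L.presheaf.germ U p hp e := by
  obtain ⟨W, hWU, hpW, t, rfl⟩ := L.presheaf.exists_le_germ_eq l hp
  obtain ⟨r, hr⟩ := (he W hWU).2 t
  refine ⟨X.presheaf.germ W p hpW r, ?_⟩
  have hr' : r • res L hWU e = t := hr
  rw [← germ_res L hWU p hpW e, ← germ_smul, hr']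

theorem stalk_eq_zero_of_isTriv {U : X.Opens} {e : Γ(L, U)} (he : IsTriv L U e) (p : X) (hp : p ∈ U)
    (y : X.presheaf.stalk p) (h : y • L.presheaf.germ U p hp e = 0) : y = 0 := by
  obtain ⟨W, hWU, hpW, r, rfl⟩ := X.presheaf.exists_le_germ_eq y hp
  rw [← germ_res L hWU p hpW e, ← germ_smul] at h
  have h' : L.presheaf.germ W p hpW (r • res L hWU e) = L.presheaf.germ W p hpW 0 := by
    rw [h, map_zero]
  obtain ⟨W', hpW', iU, iV, e'⟩ := L.presheaf.germ_eq p hpW hpW _ _ h'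
  have e2 : res L (leOfHom iU) (r • res L hWU e) = 0 := by
    have e3 : res L (leOfHom iU) (r • res L hWU e) = res L (leOfHom iV) 0 := e'
    rw [e3, map_zero]
  rw [res_smul, res_res] at e2
  have h0 : X.presheaf.map (homOfLE (leOfHom iU)).op r = 0 := by
    apply (he W' ((leOfHom iU).trans hWU)).1
    change _ • _ = _ • _
    rw [e2, zero_smul]
  rw [← X.presheaf.germ_res_apply (homOfLE (leOfHom iU)) p hpW' r, h0, map_zero]

theorem mem_of_smul_germ_mem_smul_top {U : X.Opens} {e : Γ(L, U)} (he : IsTriv L U e) (p : X)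
    (hp : p ∈ U) (I : Ideal (X.presheaf.stalk p)) (y : X.presheaf.stalk p)
    (h : y • L.presheaf.germ U p hp e ∈
      I • (⊤ : Submodule (X.presheaf.stalk p) (L.presheaf.stalk p))) : y ∈ I := by
  have key : ∀ l ∈ I • (⊤ : Submodule (X.presheaf.stalk p) (L.presheaf.stalk p)),
      ∃ z ∈ I, l = z • L.presheaf.germ U p hp e := by
    intro l hl
    refine Submodule.smul_induction_on hl (fun r hr n _ => ?_) (fun a b ha hb => ?_)
    · obtain ⟨z, rfl⟩ := stalk_exists_of_isTriv he p hp n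
      exact ⟨r * z, I.mul_mem_right _ hr, by rw [mul_smul]⟩
    · obtain ⟨z₁, hz₁, rfl⟩ := ha
      obtain ⟨z₂, hz₂, rfl⟩ := hb
      exact ⟨z₁ + z₂, I.add_mem hz₁ hz₂, by rw [add_smul]⟩
  obtain ⟨z, hz, hyz⟩ := key _ h
  have : y - z = 0 := by
    apply stalk_eq_zero_of_isTriv he p hp
    rw [sub_smul, hyz, sub_self]
  rw [sub_eq_zero] at this
  rw [this]; exact hz

end Stalk

theorem mem_sq_of_algebraMap_mem_sq {A : Type*} [CommRing A] (𝔪 : Ideal A) [𝔪.IsMaximal]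
    (S : Type*) [CommRing S] [Algebra A S] [IsLocalization.AtPrime S 𝔪] [IsLocalRing S]
    (x : A) (hx : algebraMap A S x ∈ (IsLocalRing.maximalIdeal S) ^ 2) : x ∈ 𝔪 ^ 2 := by
  rw [← IsLocalization.AtPrime.map_eq_maximalIdeal 𝔪 S, ← Ideal.map_pow,
    IsLocalization.mem_map_algebraMap_iff 𝔪.primeCompl] at hx
  obtain ⟨⟨a, s⟩, h⟩ := hx
  rw [← map_mul, IsLocalization.eq_iff_exists 𝔪.primeCompl] at h
  obtain ⟨c, hc⟩ := h
  have h1 : ((c : A) * s) * x ∈ 𝔪 ^ 2 := by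
    have : ((c : A) * s) * x = c * a := by rw [← hc]; ring
    rw [this]; exact Ideal.mul_mem_left _ _ a.2
  rcases Ideal.IsMaximal.mul_mem_pow 𝔪 h1 with h | h
  · exact absurd h (c * s).2
  · exact h

theorem isClosed_singleton_fromSpec {X : Scheme.{u}} [JacobsonSpace X] {U : X.Opens}
    (hU : IsAffineOpen U) (y : PrimeSpectrum Γ(X, U)) (hy : y.asIdeal.IsMaximal) :
    IsClosed ({hU.fromSpec y} : Set X) := by
  apply isClosed_singleton_of_isLocallyClosed_singleton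
  rw [← Set.image_singleton]
  have hcl : IsClosed ({y} : Set (PrimeSpectrum Γ(X, U))) :=
    (PrimeSpectrum.isClosed_singleton_iff_isMaximal y).mpr hy
  exact hcl.isLocallyClosed.image hU.fromSpec.isOpenEmbedding.isInducing
    hU.fromSpec.isOpenEmbedding.isOpen_range.isLocallyClosed

section Chart
variable (k : Type u) [Field k] {X : Scheme.{u}} [X.Over (Spec (CommRingCat.of k))]
  [Smooth (X ↘ Spec (CommRingCat.of k))]

theorem jets_chart {L : X.Modules} {m : ℕ} (s : Fin m → (unitM X ⟶ L))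
    (hjet : ∀ p : X, IsClosed ({p} : Set X) → ∀ l : ↥(L.presheaf.stalk p), ∃ c : Fin m → k,
      (L.presheaf.germ ⊤ p trivial)
          (PicF2.secVal L (∑ i : Fin m, Formal.smulMod k (Coh.structureModule X) (c i) ≫ s i) ⊤) - l ∈
        (IsLocalRing.maximalIdeal ↥(X.presheaf.stalk p)) ^ 2 •
          (⊤ : Submodule ↥(X.presheaf.stalk p) ↥(L.presheaf.stalk p)))
    (V : X.affineOpens) {e : Γ(L, V.1)} (he : IsTriv L V.1 e)
    (a : Fin m → Γ(X, V.1)) (ha : ∀ i, sval (s i) V.1 = a i • e)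
    (𝔪 : Ideal Γ(X, V.1)) (h𝔪 : 𝔪.IsMaximal) (b : Γ(X, V.1)) :
    ∃ c : Fin m → k, ∑ i, ρρ (X ↘ Spec (CommRingCat.of k)) V.1 (c i) * a i - b ∈ 𝔪 ^ 2 := by
  haveI : JacobsonSpace X := LocallyOfFiniteType.jacobsonSpace (X ↘ Spec (CommRingCat.of k))
  haveI := h𝔪
  let y : PrimeSpectrum Γ(X, V.1) := ⟨𝔪, h𝔪.isPrime⟩
  have hpV : V.2.fromSpec y ∈ V.1 := by
    have := Set.mem_range_self (f := V.2.fromSpec) y
    rwa [V.2.range_fromSpec] at this
  have hcl := isClosed_singleton_fromSpec V.2 y h𝔪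
  obtain ⟨c, hc⟩ := hjet (V.2.fromSpec y) hcl (L.presheaf.germ V.1 (V.2.fromSpec y) hpV (b • e))
  refine ⟨c, ?_⟩
  have h1 : L.presheaf.germ ⊤ (V.2.fromSpec y) trivial
      (PicF2.secVal L (∑ i : Fin m, Formal.smulMod k (Coh.structureModule X) (c i) ≫ s i) ⊤) =
      L.presheaf.germ V.1 (V.2.fromSpec y) hpV
        ((∑ i, ρρ (X ↘ Spec (CommRingCat.of k)) V.1 (c i) * a i) • e) := by
    rw [← sval_lincomb s c e a ha,
      ← res_sval (∑ i : Fin m, Formal.smulMod k (unitM X) (c i) ≫ s i) (le_top : V.1 ≤ ⊤), germ_res]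
  rw [h1, ← map_sub, ← sub_smul, germ_smul] at hc
  have h2 := mem_of_smul_germ_mem_smul_top he _ hpV _ _ hc
  letI : Algebra Γ(X, V.1) (X.presheaf.stalk (V.2.fromSpec y)) :=
    TopCat.Presheaf.algebra_section_stalk X.presheaf ⟨V.2.fromSpec y, hpV⟩
  haveI : IsLocalization.AtPrime (X.presheaf.stalk (V.2.fromSpec y)) 𝔪 :=
    V.2.isLocalization_stalk' y hpV
  exact mem_sq_of_algebraMap_mem_sq 𝔪 (X.presheaf.stalk (V.2.fromSpec y)) _ h2

theorem chart {L : X.Modules} (hL : PicF.IsInvertible L) {m : ℕ}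
    (s : Fin m → (unitM X ⟶ L)) (f : unitM X ⟶ L)
    (hjet : ∀ p : X, IsClosed ({p} : Set X) → ∀ l : ↥(L.presheaf.stalk p), ∃ c : Fin m → k,
      (L.presheaf.germ ⊤ p trivial)
          (PicF2.secVal L (∑ i : Fin m, Formal.smulMod k (Coh.structureModule X) (c i) ≫ s i) ⊤) - l ∈
        (IsLocalRing.maximalIdeal ↥(X.presheaf.stalk p)) ^ 2 •
          (⊤ : Submodule ↥(X.presheaf.stalk p) ↥(L.presheaf.stalk p)))
    (V : X.affineOpens) {e : Γ(L, V.1)} (he : IsTriv L V.1 e) :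
    ∃ q : MvPolynomial (Fin m) k, q ≠ 0 ∧ ∀ c : Fin m → k, MvPolynomial.eval c q ≠ 0 →
      Smooth ((PicF2.zeroScheme L (f + ∑ i, Formal.smulMod k (unitM X) (c i) ≫ s i)).subschemeCover.f V ≫
        (PicF2.zeroScheme L (f + ∑ i, Formal.smulMod k (unitM X) (c i) ≫ s i)).subschemeι ≫
        (X ↘ Spec (CommRingCat.of k))) := by
  letI alg : Algebra k Γ(X, V.1) := (ρρ (X ↘ Spec (CommRingCat.of k)) V.1).toAlgebra
  haveI : Algebra.Smooth k Γ(X, V.1) := by
    have h1 : Smooth (V.2.fromSpec ≫ (X ↘ Spec (CommRingCat.of k))) := inferInstance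
    rw [fromSpec_comp_eq, HasRingHomProperty.Spec_iff (P := @Smooth)] at h1
    exact h1
  choose a ha using fun i => he.exists_eq_smul (sval (s i) V.1)
  obtain ⟨f₀, hf₀⟩ := he.exists_eq_smul (sval f V.1)
  obtain ⟨q, hq0, hq⟩ := bertini_jets_ring (k := k) a f₀
    (fun 𝔪 h𝔪 b => jets_chart k s hjet V he a ha 𝔪 h𝔪 b)
  refine ⟨q, hq0, fun c hc => ?_⟩
  have hsm := hq c hc
  set I := PicF2.zeroScheme L (f + ∑ i, Formal.smulMod k (unitM X) (c i) ≫ s i) with hI
  have hideal : I.ideal V = Ideal.span {Fc k a f₀ c} :=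
    zeroScheme_ideal_of_isTriv hL _ V.2 he _ (by
      rw [sval_add, hf₀, sval_lincomb s c e a ha, ← add_smul]; rfl)
  have hsm' : ∀ J : Ideal Γ(X, V.1), J = Ideal.span {Fc k a f₀ c} →
      Algebra.Smooth k (Γ(X, V.1) ⧸ J) := by
    rintro _ rfl; exact hsm
  have hsm'' := hsm' _ hideal
  have heq : I.subschemeCover.f V ≫ I.subschemeι ≫ (X ↘ Spec (CommRingCat.of k)) =
      Spec.map (CommRingCat.ofHom (algebraMap k (Γ(X, V.1) ⧸ I.ideal V))) := by
    have e1 : I.subschemeCover.f V ≫ I.subschemeι = I.glueDataObjι V ≫ V.1.ι :=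
      I.subschemeCover_map_subschemeι V
    have e2 := I.glueDataObjι_ι V
    rw [← Category.assoc]
    refine (congrArg (· ≫ (X ↘ Spec (CommRingCat.of k))) (e1.trans e2)).trans ?_
    refine (Category.assoc _ _ _).trans ?_
    refine (congrArg (Spec.map (CommRingCat.ofHom (Ideal.Quotient.mk (I.ideal V))) ≫ ·)
      (fromSpec_comp_eq _ V.2)).trans ?_
    refine (Spec.map_comp _ _).symm.trans ?_
    rfl
  rw [heq]
  exact (HasRingHomProperty.Spec_iff (P := @Smooth)).mpr (RingHom.smooth_algebraMap.mpr hsm'')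

theorem bertini_jets [QuasiCompact (X ↘ Spec (CommRingCat.of k))]
    {L : X.Modules} (hL : PicF.IsInvertible L) {m : ℕ}
    (s : Fin m → (unitM X ⟶ L)) (f : unitM X ⟶ L)
    (hjet : ∀ p : X, IsClosed ({p} : Set X) → ∀ l : ↥(L.presheaf.stalk p), ∃ c : Fin m → k,
      (L.presheaf.germ ⊤ p trivial)
          (PicF2.secVal L (∑ i : Fin m, Formal.smulMod k (Coh.structureModule X) (c i) ≫ s i) ⊤) - l ∈
        (IsLocalRing.maximalIdeal ↥(X.presheaf.stalk p)) ^ 2 •
          (⊤ : Submodule ↥(X.presheaf.stalk p) ↥(L.presheaf.stalk p))) :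
    ∃ q : MvPolynomial (Fin m) k, q ≠ 0 ∧ ∀ c : Fin m → k, MvPolynomial.eval c q ≠ 0 →
      Smooth ((PicF2.zeroScheme L (f + ∑ i, Formal.smulMod k (unitM X) (c i) ≫ s i)).subschemeι ≫
        (X ↘ Spec (CommRingCat.of k))) := by
  haveI : CompactSpace X :=
    QuasiCompact.compactSpace_of_compactSpace (X ↘ Spec (CommRingCat.of k))
  choose U e hU hxU _ he using fun x : X =>
    exists_affine_isTriv hL (W := ⊤) x (by trivial)
  obtain ⟨t, ht⟩ := isCompact_univ.elim_finite_subcover (fun x : X => (U x : Set X))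
    (fun x => (U x).2) (fun x _ => Set.mem_iUnion.mpr ⟨x, hxU x⟩)
  choose P hP0 hP using fun x : X => chart k hL s f hjet ⟨U x, hU x⟩ (he x)
  refine ⟨∏ x ∈ t, P x, Finset.prod_ne_zero_iff.mpr (fun x _ => hP0 x), fun c hc => ?_⟩
  rw [map_prod, Finset.prod_ne_zero_iff] at hc
  set I := PicF2.zeroScheme L (f + ∑ i, Formal.smulMod k (unitM X) (c i) ≫ s i) with hI
  let 𝒰 : I.subscheme.OpenCover := Scheme.Cover.mkOfCovers (t : Set X)
    (fun x => Spec (I.subschemeCover.X ⟨U x.1, hU x.1⟩))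
    (fun x => I.subschemeCover.f ⟨U x.1, hU x.1⟩) (by
      intro z
      obtain ⟨x, hx⟩ := Set.mem_iUnion.mp (ht (Set.mem_univ (I.subschemeι z)))
      obtain ⟨hxt, hzx⟩ := Set.mem_iUnion.mp hx
      have hz : z ∈ (I.subschemeCover.f ⟨U x, hU x⟩).opensRange := by
        rw [I.opensRange_subschemeCover_map]
        exact hzx
      obtain ⟨y, hy⟩ := hz
      exact ⟨⟨x, hxt⟩, y, hy⟩)
  refine IsZariskiLocalAtSource.of_openCover (P := @Smooth) 𝒰 (fun x => ?_)
  exact hP x.1 c (hc x.1 x.2)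

end Chart

end Groth.Agent.Lib.Helper25.BertiniJets
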