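import Mathlib
import Groth.Agent.Lib.Helper4.SmoothTower

set_option autoImplicit false
universe u
open TensorProduct KaehlerDifferential IsLocalRing

namespace Groth.Agent.Lib.Helper25.CotangentKaehler

variable (R A : Type u) [CommRing R] [CommRing A] [Algebra R A] [IsLocalRing A]

theorem kerCotangentToTensor_injective
    (h : Function.Bijective (algebraMap R (ResidueField A))) :
    Function.Injective (kerCotangentToTensor R A (ResidueField A)) := by
  have hf : Function.Surjective (algebraMap A (ResidueField A)) := IsLocalRing.residue_surjective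
  let e : R ≃ₐ[R] ResidueField A := AlgEquiv.ofBijective (Algebra.ofId R (ResidueField A)) h
  let g : ResidueField A →ₐ[R] A ⧸ (RingHom.ker (algebraMap A (ResidueField A)) ^ 2) :=
    (Algebra.ofId R _).comp e.symm.toAlgHom
  have hg : (IsScalarTower.toAlgHom R A (ResidueField A)).kerSquareLift.comp g =
      AlgHom.id R (ResidueField A) := by
    apply AlgHom.ext
    intro c
    obtain ⟨r, rfl⟩ := e.surjective c
    change (IsScalarTower.toAlgHom R A (ResidueField A)).kerSquareLift
      (Algebra.ofId R _ (e.symm (e r))) = e r
    rw [AlgEquiv.symm_apply_apply, Algebra.ofId_apply, AlgHom.commutes]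
    rfl
  let l := (retractionKerCotangentToTensorEquivSection (R := R) hf).symm ⟨g, hg⟩
  exact Function.HasLeftInverse.injective ⟨l.1, LinearMap.congr_fun l.2⟩

theorem kerCotangentToTensor_surjective
    (h : Function.Surjective (algebraMap R (ResidueField A))) :
    Function.Surjective (kerCotangentToTensor R A (ResidueField A)) := by
  have hf : Function.Surjective (algebraMap A (ResidueField A)) := IsLocalRing.residue_surjective
  have hex := exact_kerCotangentToTensor_mapBaseChange R A (ResidueField A) hf
  have : Subsingleton (Ω[ResidueField A⁄R]) := KaehlerDifferential.subsingleton_of_surjective R _ h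
  intro z
  exact (hex z).mp (Subsingleton.elim _ _)

theorem tmul_D_eq_zero_iff (h : Function.Bijective (algebraMap R (ResidueField A))) (x : A)
    (hx : x ∈ maximalIdeal A) :
    (1 : ResidueField A) ⊗ₜ[A] D R A x = 0 ↔ x ∈ maximalIdeal A ^ 2 := by
  have hker : RingHom.ker (algebraMap A (ResidueField A)) = maximalIdeal A := IsLocalRing.ker_residue
  have hx' : x ∈ RingHom.ker (algebraMap A (ResidueField A)) := by rw [hker]; exact hx
  have h1 : kerCotangentToTensor R A (ResidueField A) (Ideal.toCotangent _ ⟨x, hx'⟩) =
      1 ⊗ₜ D R A x := kerCotangentToTensor_toCotangent R A (ResidueField A) ⟨x, hx'⟩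
  rw [← h1, ← hker, ← Ideal.toCotangent_eq_zero _ ⟨x, hx'⟩]
  exact (injective_iff_map_eq_zero' _).mp (kerCotangentToTensor_injective R A h) _

theorem exists_eq_tmul_D (h : Function.Surjective (algebraMap R (ResidueField A)))
    (z : ResidueField A ⊗[A] Ω[A⁄R]) :
    ∃ x ∈ maximalIdeal A, z = 1 ⊗ₜ D R A x := by
  have hker : RingHom.ker (algebraMap A (ResidueField A)) = maximalIdeal A := IsLocalRing.ker_residue
  obtain ⟨w, rfl⟩ := kerCotangentToTensor_surjective R A h z
  obtain ⟨⟨x, hx⟩, rfl⟩ := Ideal.toCotangent_surjective _ w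
  refine ⟨x, by rw [← hker]; exact hx, ?_⟩
  exact kerCotangentToTensor_toCotangent R A (ResidueField A) ⟨x, hx⟩


section tower

variable (T : Type u) [CommRing T] [Algebra R T] [Algebra A T] [IsScalarTower R A T]
  [IsLocalRing T] [IsLocalHom (algebraMap A T)]

theorem residueFieldMap_bijective (hA : Function.Bijective (algebraMap R (ResidueField A)))
    (hT : Function.Bijective (algebraMap R (ResidueField T))) :
    Function.Bijective (ResidueField.map (algebraMap A T)) := by
  have hcomp : (ResidueField.map (algebraMap A T)) ∘ (algebraMap R (ResidueField A)) =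
      algebraMap R (ResidueField T) := by
    funext r
    change ResidueField.map (algebraMap A T) (residue A (algebraMap R A r)) =
      residue T (algebraMap R T r)
    rw [ResidueField.map_residue, ← IsScalarTower.algebraMap_apply]
  rw [← Function.Bijective.of_comp_iff _ hA, hcomp]
  exact hT

/-- The comparison isomorphism `κ_A ⊗_A Ω_A ≃ κ_T ⊗_T (T ⊗_A Ω_A)`. -/
noncomputable def gam (hA : Function.Bijective (algebraMap R (ResidueField A)))
    (hT : Function.Bijective (algebraMap R (ResidueField T))) :
    ResidueField A ⊗[A] Ω[A⁄R] ≃ₗ[A] ResidueField T ⊗[T] (T ⊗[A] Ω[A⁄R]) :=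
  let φ : ResidueField A →ₗ[A] ResidueField T :=
    { toFun := ResidueField.map (algebraMap A T)
      map_add' := map_add _
      map_smul' := fun a c => by
        rw [Algebra.smul_def, map_mul, RingHom.id_apply, Algebra.smul_def]
        congr 1 }
  let e : ResidueField A ≃ₗ[A] ResidueField T :=
    LinearEquiv.ofBijective φ (residueFieldMap_bijective R A T hA hT)
  (TensorProduct.congr e (LinearEquiv.refl A _)) ≪≫ₗ
    ((AlgebraTensorModule.cancelBaseChange A T T (ResidueField T) Ω[A⁄R]).symm.restrictScalars A)

theorem gam_one_tmul (hA : Function.Bijective (algebraMap R (ResidueField A)))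
    (hT : Function.Bijective (algebraMap R (ResidueField T))) (ω : Ω[A⁄R]) :
    gam R A T hA hT (1 ⊗ₜ ω) = 1 ⊗ₜ (1 ⊗ₜ ω) := by
  change (AlgebraTensorModule.cancelBaseChange A T T (ResidueField T) Ω[A⁄R]).symm
    ((ResidueField.map (algebraMap A T) 1) ⊗ₜ ω) = _
  rw [map_one]
  rfl

theorem lTensor_gam (hA : Function.Bijective (algebraMap R (ResidueField A)))
    (hT : Function.Bijective (algebraMap R (ResidueField T))) (x : A) :
    (mapBaseChange R A T).lTensor (ResidueField T) (gam R A T hA hT (1 ⊗ₜ D R A x)) =
      1 ⊗ₜ D R T (algebraMap A T x) := by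
  rw [gam_one_tmul, LinearMap.lTensor_tmul, mapBaseChange_tmul, one_smul, map_D]

/-- The cotangent map is injective iff `κ ⊗ (T ⊗_A Ω_A → Ω_T)` is injective. -/
theorem cotangent_injective_iff (hA : Function.Bijective (algebraMap R (ResidueField A)))
    (hT : Function.Bijective (algebraMap R (ResidueField T))) :
    (∀ x ∈ maximalIdeal A, algebraMap A T x ∈ maximalIdeal T ^ 2 → x ∈ maximalIdeal A ^ 2) ↔
      Function.Injective ((mapBaseChange R A T).lTensor (ResidueField T)) := by
  have hloc : ∀ x ∈ maximalIdeal A, algebraMap A T x ∈ maximalIdeal T := by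
    intro x hx
    rw [mem_maximalIdeal, mem_nonunits_iff] at hx ⊢
    exact fun h => hx (isUnit_of_map_unit (algebraMap A T) x h)
  constructor
  · intro hcot
    rw [injective_iff_map_eq_zero]
    intro z hz
    obtain ⟨w, rfl⟩ := (gam R A T hA hT).surjective z
    obtain ⟨x, hx, rfl⟩ := exists_eq_tmul_D R A hA.2 w
    rw [lTensor_gam] at hz
    have h1 := (tmul_D_eq_zero_iff R T hT _ (hloc x hx)).mp hz
    have h2 := hcot x hx h1
    rw [(tmul_D_eq_zero_iff R A hA x hx).mpr h2, map_zero]
  · intro hinj x hx hφx
    have h1 := (tmul_D_eq_zero_iff R T hT _ (hloc x hx)).mpr hφx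
    rw [← lTensor_gam R A T hA hT] at h1
    have h2 := (injective_iff_map_eq_zero _).mp hinj _ h1
    have h3 : (1 : ResidueField A) ⊗ₜ[A] D R A x = 0 :=
      (gam R A T hA hT).injective (h2.trans (map_zero _).symm)
    exact (tmul_D_eq_zero_iff R A hA x hx).mp h3

/-- Local criterion: for local `R`-algebras with residue fields `R`, `T` formally smooth over
`R`, the local homomorphism `A → T` is formally smooth iff the cotangent map is injective. -/
theorem formallySmooth_iff_cotangent_injective [Algebra.FormallySmooth R T]
    [Module.Finite A Ω[A⁄R]] [Module.Finite T Ω[T⁄R]]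
    (hA : Function.Bijective (algebraMap R (ResidueField A)))
    (hT : Function.Bijective (algebraMap R (ResidueField T))) :
    Algebra.FormallySmooth A T ↔
      (∀ x ∈ maximalIdeal A, algebraMap A T x ∈ maximalIdeal T ^ 2 → x ∈ maximalIdeal A ^ 2) := by
  have : Module.Free T Ω[T⁄R] := Module.free_of_flat_of_isLocalRing
  rw [Groth.Agent.Lib.Helper4.formallySmooth_iff_split_mapBaseChange R A T,
    IsLocalRing.split_injective_iff_lTensor_residueField_injective,
    cotangent_injective_iff R A T hA hT]

end tower

end Groth.Agent.Lib.Helper25.CotangentKaehler
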