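import Mathlib
import Groth.Prelude.Def_FixPt
import Groth.Agent.Lib.Helper25.CotangentKaehler
import Groth.Agent.Lib.Helper25.GrpSmoothPt

set_option autoImplicit false
universe u
open CategoryTheory AlgebraicGeometry IsLocalRing

namespace Groth.Agent.Lib.Helper25.CotangentSmooth

open Groth.Agent.Lib.Helper25.GrpTangent

theorem stalkMapAt_rfl {X Y : Scheme.{u}} (f : X ⟶ Y) (x : X) :
    FixPt.stalkMapAt f x (f x) rfl = (f.stalkMap x).hom := by
  unfold FixPt.stalkMapAt
  have h : (Y.presheaf.stalkCongr (Inseparable.of_eq (rfl : f x = f x))).inv = 𝟙 _ :=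
    TopCat.Presheaf.stalkSpecializes_refl _ _
  rw [h, Category.id_comp]

theorem cotangentMapAt_injective_iff {X Y : Scheme.{u}} (f : X ⟶ Y) (x : X) :
    Function.Injective (FixPt.cotangentMapAt f x (f x) rfl) ↔
    ∀ a ∈ maximalIdeal (Y.presheaf.stalk (f x)),
      (f.stalkMap x).hom a ∈ maximalIdeal (X.presheaf.stalk x) ^ 2 →
        a ∈ maximalIdeal (Y.presheaf.stalk (f x)) ^ 2 := by
  rw [injective_iff_map_eq_zero]
  constructor
  · intro h a ha h2
    have h3 := h (Ideal.toCotangent _ ⟨a, ha⟩) ?_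
    · rwa [Ideal.toCotangent_eq_zero] at h3
    · unfold FixPt.cotangentMapAt
      rw [Ideal.mapCotangent_toCotangent, Ideal.toCotangent_eq_zero]
      change FixPt.stalkMapAt f x (f x) rfl a ∈ _
      rw [stalkMapAt_rfl]; exact h2
  · intro h z hz
    obtain ⟨⟨a, ha⟩, rfl⟩ := Ideal.toCotangent_surjective _ z
    unfold FixPt.cotangentMapAt at hz
    rw [Ideal.mapCotangent_toCotangent, Ideal.toCotangent_eq_zero] at hz
    rw [Ideal.toCotangent_eq_zero]
    apply h a ha
    have h4 : FixPt.stalkMapAt f x (f x) rfl a ∈ _ := hz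
    rwa [stalkMapAt_rfl] at h4

variable {k : Type u} [Field k] [IsAlgClosed k]

theorem residue_bijective {X : Scheme.{u}} (q : X ⟶ Spec (.of k)) [LocallyOfFiniteType q]
    (x : X) (hx : IsClosed ({x} : Set X)) :
    Function.Bijective ((q.stalkMap x ≫ X.residue x).hom) := by
  have h1 : τ (q x) ≫ q.stalkMap x ≫ X.residue x = (residueFieldIsoBase q x hx).inv := by
    apply Spec.map_injective
    rw [SpecMap_residueFieldIsoBase_inv, Spec.map_comp, Spec.map_comp, τ, ← Spec.fromSpecStalk_eq,
      Category.assoc, Scheme.SpecMap_stalkMap_fromSpecStalk]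
    rfl
  have h2 : Function.Bijective (τ (q x) ≫ q.stalkMap x ≫ X.residue x).hom := by
    rw [h1]
    exact (ConcreteCategory.isIso_iff_bijective _).mp inferInstance
  rw [CommRingCat.hom_comp, RingHom.coe_comp] at h2
  exact (Function.Bijective.of_comp_iff _ (bijective_τ (q x))).mp h2

theorem isClosed_image {X Y : Scheme.{u}} (f : X ⟶ Y) (qY : Y ⟶ Spec (.of k))
    [LocallyOfFiniteType qY] [LocallyOfFiniteType (f ≫ qY)] (x : X)
    (hx : IsClosed ({x} : Set X)) : IsClosed ({f x} : Set Y) := by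
  let p := pointOfClosedPoint (f ≫ qY) x hx
  have hp : (p ≫ f) ≫ qY = 𝟙 _ := by
    rw [Category.assoc]; exact pointOfClosedPoint_comp (f ≫ qY) x hx
  have h := (pointEquivClosedPoint qY ⟨p ≫ f, hp⟩).2
  have e : (pointEquivClosedPoint qY ⟨p ≫ f, hp⟩).1 = f x := by
    change (p ≫ f) _ = f x
    rw [Scheme.Hom.comp_apply, pointOfClosedPoint_apply]
  rw [e] at h
  exact h

/-- For a `k`-morphism `f : X ⟶ Y` (`k` algebraically closed, `X` smooth over `k`, `Y` locally of
finite type over `k`) and a closed point `x`, `f` is smooth at `x` iff the cotangent map at `x`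
is injective. -/
theorem mem_smoothLocus_iff_cotangentMapAt_injective {X Y : Scheme.{u}} (f : X ⟶ Y)
    (qY : Y ⟶ Spec (.of k)) [LocallyOfFiniteType qY] [LocallyOfFiniteType (f ≫ qY)]
    [Smooth (f ≫ qY)] [LocallyOfFinitePresentation f] (x : X) (hx : IsClosed ({x} : Set X)) :
    x ∈ f.smoothLocus ↔ Function.Injective (FixPt.cotangentMapAt f x (f x) rfl) := by
  have hfx : IsClosed ({f x} : Set Y) := isClosed_image f qY x hx
  let R₀ := (Spec (CommRingCat.of k)).presheaf.stalk (qY (f x))
  let A := Y.presheaf.stalk (f x)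
  let T := X.presheaf.stalk x
  letI algA : Algebra R₀ A := (qY.stalkMap (f x)).hom.toAlgebra
  letI algT : Algebra A T := (f.stalkMap x).hom.toAlgebra
  letI algRT : Algebra R₀ T := (qY.stalkMap (f x) ≫ f.stalkMap x).hom.toAlgebra
  haveI : IsScalarTower R₀ A T := IsScalarTower.of_algebraMap_eq' rfl
  haveI : IsLocalHom (algebraMap A T) := inferInstanceAs (IsLocalHom (f.stalkMap x).hom)
  haveI : Algebra.FormallySmooth R₀ T := by
    have h1 : x ∈ (f ≫ qY).smoothLocus := by
      rw [Scheme.Hom.smoothLocus_eq_top]; trivial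
    rw [Scheme.Hom.mem_smoothLocus, Scheme.Hom.stalkMap_comp] at h1
    exact h1
  haveI : Algebra.EssFiniteType R₀ A := LocallyOfFiniteType.stalkMap qY (f x)
  haveI : Algebra.EssFiniteType R₀ T := by
    have h1 := LocallyOfFiniteType.stalkMap (f ≫ qY) x
    rw [Scheme.Hom.stalkMap_comp] at h1
    exact h1
  have hA : Function.Bijective (algebraMap R₀ (ResidueField A)) :=
    residue_bijective qY (f x) hfx
  have hT : Function.Bijective (algebraMap R₀ (ResidueField T)) := by
    have h1 := residue_bijective (f ≫ qY) x hx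
    rw [Scheme.Hom.stalkMap_comp] at h1
    exact h1
  rw [Scheme.Hom.mem_smoothLocus, cotangentMapAt_injective_iff]
  exact Groth.Agent.Lib.Helper25.CotangentKaehler.formallySmooth_iff_cotangent_injective R₀ A T hA hT

end Groth.Agent.Lib.Helper25.CotangentSmooth
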