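import Mathlib
import Groth.Agent.Lib.Helper29.ToProj4
import Groth.Agent.Lib.Helper29.MeroCore4
import Groth.Agent.Lib.Helper29.PA1

set_option autoImplicit false
universe u
open CategoryTheory CategoryTheory.Limits AlgebraicGeometry TopologicalSpace Opposite IsLocalRing

namespace Groth.Agent.Lib.Helper25.SepPts

open Groth.Agent.Lib.Helper29.QCoh Groth.Agent.Lib.Helper29.QCoh.MeroK

section free1
variable {R L : Type*} [CommRing R] [AddCommGroup L] [Module R L]

/-- In a module free of rank one on `e`, `r • e ∈ J • ⊤ ↔ r ∈ J`. -/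
theorem smul_mem_smul_top_iff (e : L) (hspan : Submodule.span R {e} = ⊤)
    (hfree : ∀ r : R, r • e = 0 → r = 0) (J : Ideal R) (r : R) :
    r • e ∈ J • (⊤ : Submodule R L) ↔ r ∈ J := by
  constructor
  · intro h
    have key : ∀ v ∈ J • (⊤ : Submodule R L), ∃ j ∈ J, v = j • e := by
      intro v hv
      refine Submodule.smul_induction_on hv ?_ ?_
      · intro j hj m _
        have hm : m ∈ Submodule.span R {e} := by rw [hspan]; trivial
        obtain ⟨c, rfl⟩ := Submodule.mem_span_singleton.mp hm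
        exact ⟨j * c, J.mul_mem_right c hj, by rw [mul_smul]⟩
      · rintro a b ⟨j, hj, rfl⟩ ⟨j', hj', rfl⟩
        exact ⟨j + j', J.add_mem hj hj', by rw [add_smul]⟩
    obtain ⟨j, hj, hrj⟩ := key _ h
    have : (r - j) • e = 0 := by rw [sub_smul, hrj, sub_self]
    have h2 := hfree _ this
    rw [sub_eq_zero] at h2
    rw [h2]; exact hj
  · intro h
    exact Submodule.smul_mem_smul h trivial

/-- Submodules of a module free of rank one on `e` correspond to ideals. -/
theorem smul_top_le_span_sup_iff (e : L) (hspan : Submodule.span R {e} = ⊤)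
    (hfree : ∀ r : R, r • e = 0 → r = 0) (A : Set R) (J J' : Ideal R) :
    J • (⊤ : Submodule R L) ≤ Submodule.span R {v | ∃ a ∈ A, v = a • e} ⊔ J' • ⊤ ↔
      J ≤ Ideal.span A ⊔ J' := by
  have h1 : Submodule.span R {v : L | ∃ a ∈ A, v = a • e} = Ideal.span A • (⊤ : Submodule R L) := by
    rw [← hspan, Submodule.span_smul_span]
    congr 1
    ext v
    constructor
    · rintro ⟨a, ha, rfl⟩; exact ⟨a, ha, e, rfl, rfl⟩
    · rintro ⟨a, ha, b, hb, rfl⟩
      rw [Set.mem_singleton_iff] at hb
      subst hb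
      exact ⟨a, ha, rfl⟩
  rw [h1, ← Submodule.sup_smul]
  constructor
  · intro h r hr
    have h2 : r • e ∈ J • (⊤ : Submodule R L) := Submodule.smul_mem_smul hr trivial
    exact (smul_mem_smul_top_iff e hspan hfree _ r).mp (h h2)
  · intro h
    exact Submodule.smul_mono_left h

end free1

section coord
variable {X Y : Scheme.{u}} (f : X ⟶ Y) (M : Y.Modules)

/-- Local coordinates for the stalks of an invertible module and of its pullback: generators
`e` of `M_{f P}` and `e'` of `(f^*M)_P`, and a coefficient function `α` on global sections. -/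
theorem exists_coord (hM : PicF.IsInvertible M) (P : X) :
    ∃ (e : M.presheaf.stalk (f P))
      (e' : ((Scheme.Modules.pullback f).obj M).presheaf.stalk P)
      (α : Γ(M, ⊤) → Y.presheaf.stalk (f P)),
      Submodule.span (Y.presheaf.stalk (f P)) {e} = ⊤ ∧
      (∀ r : Y.presheaf.stalk (f P), r • e = 0 → r = 0) ∧
      Submodule.span (X.presheaf.stalk P) {e'} = ⊤ ∧
      (∀ r : X.presheaf.stalk P, r • e' = 0 → r = 0) ∧
      (∀ s : Γ(M, ⊤), M.presheaf.germ ⊤ (f P) trivial s = α s • e) ∧
      (∀ s : Γ(M, ⊤), ((Scheme.Modules.pullback f).obj M).presheaf.germ ⊤ P trivial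
        (pullSect f M ⊤ s) = (f.stalkMap P).hom (α s) • e') := by
  obtain ⟨V, ε, hyV, hε⟩ := exists_isTriv hM (f P)
  have hε' := hε.pullSect f
  have hPV : P ∈ f ⁻¹ᵁ V := hyV
  choose a ha using fun s : Γ(M, ⊤) => hε.exists_eq_smul (res M (le_top : V ≤ ⊤) s)
  refine ⟨M.presheaf.germ V (f P) hyV ε,
    ((Scheme.Modules.pullback f).obj M).presheaf.germ (f ⁻¹ᵁ V) P hPV (pullSect f M V ε),
    fun s => Y.presheaf.germ V (f P) hyV (a s),
    hε.span_germ_eq_top (f P) hyV, isTriv_germ_smul_eq_zero hε (f P) hyV,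
    hε'.span_germ_eq_top P hPV, isTriv_germ_smul_eq_zero hε' P hPV, ?_, ?_⟩
  · intro s
    rw [← germ_res M (le_top : V ≤ ⊤) (f P) hyV s, ha s, germ_smul]
  · intro s
    have h1 := germ_res ((Scheme.Modules.pullback f).obj M)
      (f.preimage_mono (le_top : V ≤ ⊤)) P hPV (pullSect f M ⊤ s)
    have h2 := pullSect_res f M (le_top : V ≤ ⊤) s
    rw [← h2, ha s, pullSect_smul, germ_smul, ← Scheme.Hom.germ_stalkMap_apply] at h1
    exact h1.symm

theorem map_mem_maximalIdeal_iff {A B : Type*} [CommRing A] [CommRing B] [IsLocalRing A]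
    [IsLocalRing B] (φ : A →+* B) [IsLocalHom φ] (a : A) :
    φ a ∈ maximalIdeal B ↔ a ∈ maximalIdeal A := by
  rw [mem_maximalIdeal, mem_maximalIdeal, mem_nonunits_iff, mem_nonunits_iff]
  exact not_congr ⟨fun h => isUnit_of_map_unit φ a h, fun h => h.map φ⟩

/-- Dictionary between germs of (pulled back) global sections of an invertible module and
elements of the local rings. -/
theorem exists_dict (hM : PicF.IsInvertible M) (P : X) {ι : Type*} (S : ι → Γ(M, ⊤)) :
    ∃ α : ι → Y.presheaf.stalk (f P),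
      (∀ c, M.presheaf.germ ⊤ (f P) trivial (S c) ∈
          maximalIdeal (Y.presheaf.stalk (f P)) •
            (⊤ : Submodule (Y.presheaf.stalk (f P)) (M.presheaf.stalk (f P))) ↔
        α c ∈ maximalIdeal (Y.presheaf.stalk (f P))) ∧
      (∀ c, ((Scheme.Modules.pullback f).obj M).presheaf.germ ⊤ P trivial
            (pullSect f M ⊤ (S c)) ∈
          maximalIdeal (X.presheaf.stalk P) •
            (⊤ : Submodule (X.presheaf.stalk P)
              (((Scheme.Modules.pullback f).obj M).presheaf.stalk P)) ↔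
        α c ∈ maximalIdeal (Y.presheaf.stalk (f P))) ∧
      ((maximalIdeal (Y.presheaf.stalk (f P)) •
            (⊤ : Submodule (Y.presheaf.stalk (f P)) (M.presheaf.stalk (f P))) ≤
          Submodule.span (Y.presheaf.stalk (f P))
            {v | ∃ c, v = M.presheaf.germ ⊤ (f P) trivial (S c) ∧
              v ∈ maximalIdeal (Y.presheaf.stalk (f P)) •
                (⊤ : Submodule (Y.presheaf.stalk (f P)) (M.presheaf.stalk (f P)))} ⊔
            maximalIdeal (Y.presheaf.stalk (f P)) ^ 2 • ⊤) ↔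
        maximalIdeal (Y.presheaf.stalk (f P)) ≤
          Ideal.span {a | ∃ c, a = α c ∧ a ∈ maximalIdeal (Y.presheaf.stalk (f P))} ⊔
            maximalIdeal (Y.presheaf.stalk (f P)) ^ 2) ∧
      ((maximalIdeal (X.presheaf.stalk P) •
            (⊤ : Submodule (X.presheaf.stalk P)
              (((Scheme.Modules.pullback f).obj M).presheaf.stalk P)) ≤
          Submodule.span (X.presheaf.stalk P)
            {v | ∃ c, v = ((Scheme.Modules.pullback f).obj M).presheaf.germ ⊤ P trivial
                (pullSect f M ⊤ (S c)) ∧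
              v ∈ maximalIdeal (X.presheaf.stalk P) •
                (⊤ : Submodule (X.presheaf.stalk P)
                  (((Scheme.Modules.pullback f).obj M).presheaf.stalk P))} ⊔
            maximalIdeal (X.presheaf.stalk P) ^ 2 • ⊤) ↔
        maximalIdeal (X.presheaf.stalk P) ≤
          Ideal.map (f.stalkMap P).hom
            (Ideal.span {a | ∃ c, a = α c ∧ a ∈ maximalIdeal (Y.presheaf.stalk (f P))}) ⊔
            maximalIdeal (X.presheaf.stalk P) ^ 2) := by
  obtain ⟨e, e', α₀, hspan, hfree, hspan', hfree', hg, hg'⟩ := exists_coord f M hM P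
  have hloc : ∀ a, (f.stalkMap P).hom a ∈ maximalIdeal (X.presheaf.stalk P) ↔
      a ∈ maximalIdeal (Y.presheaf.stalk (f P)) :=
    fun a => map_mem_maximalIdeal_iff (f.stalkMap P).hom a
  have h1 : ∀ c, M.presheaf.germ ⊤ (f P) trivial (S c) ∈
        maximalIdeal (Y.presheaf.stalk (f P)) •
          (⊤ : Submodule (Y.presheaf.stalk (f P)) (M.presheaf.stalk (f P))) ↔
      α₀ (S c) ∈ maximalIdeal (Y.presheaf.stalk (f P)) := by
    intro c
    rw [hg (S c)]
    exact smul_mem_smul_top_iff e hspan hfree _ _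
  have h2 : ∀ c, ((Scheme.Modules.pullback f).obj M).presheaf.germ ⊤ P trivial
          (pullSect f M ⊤ (S c)) ∈
        maximalIdeal (X.presheaf.stalk P) •
          (⊤ : Submodule (X.presheaf.stalk P)
            (((Scheme.Modules.pullback f).obj M).presheaf.stalk P)) ↔
      α₀ (S c) ∈ maximalIdeal (Y.presheaf.stalk (f P)) := by
    intro c
    rw [hg' (S c)]
    exact (smul_mem_smul_top_iff e' hspan' hfree' _ _).trans (hloc _)
  refine ⟨fun c => α₀ (S c), h1, h2, ?_, ?_⟩
  · have hset : {v | ∃ c, v = M.presheaf.germ ⊤ (f P) trivial (S c) ∧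
          v ∈ maximalIdeal (Y.presheaf.stalk (f P)) •
            (⊤ : Submodule (Y.presheaf.stalk (f P)) (M.presheaf.stalk (f P)))} =
        {v | ∃ a ∈ {a | ∃ c, a = α₀ (S c) ∧ a ∈ maximalIdeal (Y.presheaf.stalk (f P))},
          v = a • e} := by
      ext v
      constructor
      · rintro ⟨c, rfl, hv⟩
        exact ⟨α₀ (S c), ⟨c, rfl, (h1 c).mp hv⟩, hg (S c)⟩
      · rintro ⟨a, ⟨c, rfl, ha⟩, rfl⟩
        refine ⟨c, (hg (S c)).symm, ?_⟩
        rw [← hg (S c)]
        exact (h1 c).mpr ha
    rw [hset]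
    exact smul_top_le_span_sup_iff e hspan hfree _ _ _
  · have hset : {v | ∃ c, v = ((Scheme.Modules.pullback f).obj M).presheaf.germ ⊤ P trivial
            (pullSect f M ⊤ (S c)) ∧
          v ∈ maximalIdeal (X.presheaf.stalk P) •
            (⊤ : Submodule (X.presheaf.stalk P)
              (((Scheme.Modules.pullback f).obj M).presheaf.stalk P))} =
        {v | ∃ a ∈ (f.stalkMap P).hom ''
            {a | ∃ c, a = α₀ (S c) ∧ a ∈ maximalIdeal (Y.presheaf.stalk (f P))},
          v = a • e'} := by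
      ext v
      constructor
      · rintro ⟨c, rfl, hv⟩
        exact ⟨_, ⟨α₀ (S c), ⟨c, rfl, (h2 c).mp hv⟩, rfl⟩, hg' (S c)⟩
      · rintro ⟨_, ⟨a, ⟨c, rfl, ha⟩, rfl⟩, rfl⟩
        refine ⟨c, (hg' (S c)).symm, ?_⟩
        rw [← hg' (S c)]
        exact (h2 c).mpr ha
    rw [hset, Ideal.map_span]
    exact smul_top_le_span_sup_iff e' hspan' hfree' _ _ _

end coord

end Groth.Agent.Lib.Helper25.SepPts
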