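import Mathlib
import Groth.Agent.Lib.Helper25.CotangentSmooth
import Groth.Agent.Lib.Helper13.SchemeLocal

set_option autoImplicit false
universe u
open CategoryTheory CategoryTheory.Limits AlgebraicGeometry IsLocalRing

namespace Groth.Agent.Lib.Helper25.UnramMono

open Groth.Agent.Lib.Helper25.CotangentSmooth

/-- Ring-level: a local homomorphism of local rings, essentially of finite type, with Noetherian
target, bijective residue field map and surjective cotangent map, is formally unramified. -/
theorem formallyUnramified_of_cotangent_surjective {R S : Type u} [CommRing R] [CommRing S]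
    [IsLocalRing R] [IsLocalRing S] [Algebra R S] [IsLocalHom (algebraMap R S)]
    [IsNoetherianRing S] [Algebra.EssFiniteType R S]
    (hres : Function.Surjective (ResidueField.map (algebraMap R S)))
    (hT : (maximalIdeal R).map (algebraMap R S) ⊔ maximalIdeal S ^ 2 = maximalIdeal S) :
    Algebra.FormallyUnramified R S := by
  haveI : Algebra.IsSeparable (ResidueField R) (ResidueField S) := by
    refine ⟨fun x => ?_⟩
    obtain ⟨a, rfl⟩ := hres x
    exact isSeparable_algebraMap a
  apply Algebra.FormallyUnramified.of_map_maximalIdeal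
  apply le_antisymm
  · exact ((local_hom_TFAE (algebraMap R S)).out 0 2 rfl rfl).mp ‹_›
  · have hfg : (maximalIdeal S).FG := (isNoetherianRing_iff_ideal_fg S).mp inferInstance _
    refine Submodule.le_of_le_smul_of_le_jacobson_bot hfg (maximalIdeal_le_jacobson ⊥) ?_
    rw [smul_eq_mul, ← pow_two, hT]

variable {k : Type u} [Field k] [IsAlgClosed k]

/-- At a closed point with surjective cotangent map, the stalk map is formally unramified. -/
theorem formallyUnramified_stalkMap_of_cotangent {X Y : Scheme.{u}} (f : X ⟶ Y)
    (q : Y ⟶ Spec (CommRingCat.of k)) [LocallyOfFiniteType q] [LocallyOfFiniteType (f ≫ q)]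
    (x : X) (hx : IsClosed ({x} : Set X))
    (hT : Ideal.map (f.stalkMap x).hom (maximalIdeal (Y.presheaf.stalk (f x))) ⊔
        maximalIdeal (X.presheaf.stalk x) ^ 2 = maximalIdeal (X.presheaf.stalk x)) :
    (f.stalkMap x).hom.FormallyUnramified := by
  have hfx : IsClosed ({f x} : Set Y) := isClosed_image f q x hx
  haveI : LocallyOfFiniteType f := locallyOfFiniteType_of_comp f q
  haveI : IsLocallyNoetherian X := LocallyOfFiniteType.isLocallyNoetherian (f ≫ q)
  let R₀ := (Spec (CommRingCat.of k)).presheaf.stalk (q (f x))
  let A := Y.presheaf.stalk (f x)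
  let T := X.presheaf.stalk x
  letI algA : Algebra R₀ A := (q.stalkMap (f x)).hom.toAlgebra
  letI algT : Algebra A T := (f.stalkMap x).hom.toAlgebra
  letI algRT : Algebra R₀ T := (q.stalkMap (f x) ≫ f.stalkMap x).hom.toAlgebra
  haveI : IsScalarTower R₀ A T := IsScalarTower.of_algebraMap_eq' rfl
  haveI : IsLocalHom (algebraMap A T) := inferInstanceAs (IsLocalHom (f.stalkMap x).hom)
  haveI : Algebra.EssFiniteType A T := LocallyOfFiniteType.stalkMap f x
  have hA : Function.Bijective (algebraMap R₀ (ResidueField A)) :=
    residue_bijective q (f x) hfx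
  have hT' : Function.Bijective (algebraMap R₀ (ResidueField T)) := by
    have h1 := residue_bijective (f ≫ q) x hx
    rw [Scheme.Hom.stalkMap_comp] at h1
    exact h1
  have hres := Groth.Agent.Lib.Helper25.CotangentKaehler.residueFieldMap_bijective R₀ A T hA hT'
  haveI : IsNoetherianRing T := inferInstanceAs (IsNoetherianRing (X.presheaf.stalk x))
  exact formallyUnramified_of_cotangent_surjective (R := A) (S := T) hres.2 hT

/-- A morphism of schemes locally of finite type over an algebraically closed field whose cotangent
maps at all closed points are surjective is formally unramified. -/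
theorem formallyUnramified_of_cotangent {X Y : Scheme.{u}} (f : X ⟶ Y)
    (q : Y ⟶ Spec (CommRingCat.of k)) [LocallyOfFiniteType q] [LocallyOfFiniteType (f ≫ q)]
    (hT : ∀ x : X, IsClosed ({x} : Set X) →
      Ideal.map (f.stalkMap x).hom (maximalIdeal (Y.presheaf.stalk (f x))) ⊔
        maximalIdeal (X.presheaf.stalk x) ^ 2 = maximalIdeal (X.presheaf.stalk x)) :
    FormallyUnramified f := by
  haveI : LocallyOfFiniteType f := locallyOfFiniteType_of_comp f q
  haveI : JacobsonSpace ↥X := LocallyOfFiniteType.jacobsonSpace (f ≫ q)
  have hopen : IsOpen {x : X | (f.stalkMap x).hom.FormallyUnramified} := by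
    rw [isOpen_iff_forall_mem_open]
    intro x hx
    obtain ⟨W, hxW, hW⟩ :=
      Groth.Agent.Lib.Helper13.exists_open_forall_formallyUnramified_stalkMap f x hx
    exact ⟨W, fun z hz => hW z hz, W.2, hxW⟩
  have hall : ∀ x : X, (f.stalkMap x).hom.FormallyUnramified := by
    by_contra hne
    push Not at hne
    have H : ({x : X | (f.stalkMap x).hom.FormallyUnramified}ᶜ).Nonempty := hne
    obtain ⟨g, hg, hgc⟩ := nonempty_inter_closedPoints H hopen.isClosed_compl.isLocallyClosed
    exact hg (formallyUnramified_stalkMap_of_cotangent f q g hgc (hT g hgc))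
  exact HasRingHomProperty.of_stalkMap RingHom.FormallyUnramified.ofLocalizationPrime hall

/-- The diagonal of a `k`-morphism injective on closed points hits every closed point. -/
theorem diagonal_surjective_of_injOn {X Y : Scheme.{u}} (f : X ⟶ Y)
    (q : Y ⟶ Spec (CommRingCat.of k)) [LocallyOfFiniteType q] [LocallyOfFiniteType (f ≫ q)]
    (hinj : Set.InjOn f.base {x : X | IsClosed ({x} : Set X)})
    [IsOpenImmersion (pullback.diagonal f)] : Surjective (pullback.diagonal f) := by
  haveI : LocallyOfFiniteType f := locallyOfFiniteType_of_comp f q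
  let qP : pullback f f ⟶ Spec (CommRingCat.of k) := pullback.fst f f ≫ f ≫ q
  haveI : LocallyOfFiniteType qP := inferInstance
  haveI : JacobsonSpace ↥(pullback f f) := LocallyOfFiniteType.jacobsonSpace qP
  rw [surjective_iff, ← Set.range_eq_univ, ← not_ne_iff, ← Set.nonempty_compl]
  intro H
  have hopen : IsOpen (Set.range (pullback.diagonal f)) :=
    (pullback.diagonal f).isOpenEmbedding.isOpen_range
  obtain ⟨z, hz, hzc⟩ := nonempty_inter_closedPoints H hopen.isClosed_compl.isLocallyClosed
  apply hz
  let σ := pointOfClosedPoint qP z hzc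
  have hσ : σ ≫ qP = 𝟙 _ := pointOfClosedPoint_comp qP z hzc
  have hσz : σ (IsLocalRing.closedPoint k) = z := pointOfClosedPoint_apply qP z hzc _
  let a := σ ≫ pullback.fst f f
  let b := σ ≫ pullback.snd f f
  have ha : a ≫ f ≫ q = 𝟙 _ := by rw [Category.assoc]; exact hσ
  have hb : b ≫ f ≫ q = 𝟙 _ := by
    rw [Category.assoc, ← pullback.condition_assoc]; exact hσ
  have hac := (pointEquivClosedPoint (f ≫ q) ⟨a, ha⟩).2
  have hbc := (pointEquivClosedPoint (f ≫ q) ⟨b, hb⟩).2
  have hfab : f (a (IsLocalRing.closedPoint k)) = f (b (IsLocalRing.closedPoint k)) := by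
    rw [← Scheme.Hom.comp_apply, ← Scheme.Hom.comp_apply, Category.assoc, Category.assoc,
      pullback.condition]
  have hab : a (IsLocalRing.closedPoint k) = b (IsLocalRing.closedPoint k) := hinj hac hbc hfab
  have hab' : a = b := ext_of_apply_closedPoint_eq (f ≫ q) ha hb hab
  have hσ' : σ = a ≫ pullback.diagonal f := by
    apply pullback.hom_ext
    · rw [Category.assoc, pullback.diagonal_fst, Category.comp_id]
    · rw [Category.assoc, pullback.diagonal_snd, Category.comp_id, hab']
  refine ⟨a (IsLocalRing.closedPoint k), ?_⟩
  rw [← Scheme.Hom.comp_apply, ← hσ', hσz]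

/-- **Closed immersion criterion** (Hartshorne II.7.3-type): a proper `k`-morphism of schemes of
finite type over an algebraically closed field which is injective on closed points and has
surjective cotangent maps at closed points is a closed immersion. -/
theorem isClosedImmersion_of_injOn_of_cotangent {X Y : Scheme.{u}} (f : X ⟶ Y)
    (q : Y ⟶ Spec (CommRingCat.of k)) [LocallyOfFiniteType q] [LocallyOfFiniteType (f ≫ q)]
    [IsProper f]
    (hinj : Set.InjOn f.base {x : X | IsClosed ({x} : Set X)})
    (hT : ∀ x : X, IsClosed ({x} : Set X) →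
      Ideal.map (f.stalkMap x).hom (maximalIdeal (Y.presheaf.stalk (f x))) ⊔
        maximalIdeal (X.presheaf.stalk x) ^ 2 = maximalIdeal (X.presheaf.stalk x)) :
    IsClosedImmersion f := by
  haveI : LocallyOfFiniteType f := locallyOfFiniteType_of_comp f q
  haveI : FormallyUnramified f := formallyUnramified_of_cotangent f q hT
  haveI : IsOpenImmersion (pullback.diagonal f) := inferInstance
  haveI : Surjective (pullback.diagonal f) := diagonal_surjective_of_injOn f q hinj
  haveI : IsIso (pullback.diagonal f) :=
    (isIso_iff_isOpenImmersion_and_surjective _).mpr ⟨inferInstance, inferInstance⟩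
  haveI : Mono f := (pullback.isIso_diagonal_iff f).mp inferInstance
  exact (IsClosedImmersion.iff_isProper_and_mono ..).mpr ⟨inferInstance, inferInstance⟩

end Groth.Agent.Lib.Helper25.UnramMono
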