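import Mathlib
import Groth.Agent.Lib.Helper25.SepPts1
import Groth.Agent.Lib.Helper25.UnramMono

set_option autoImplicit false
universe u
open CategoryTheory CategoryTheory.Limits AlgebraicGeometry TopologicalSpace Opposite IsLocalRing

namespace Groth.Agent.Lib.Helper25.SepPts

open Groth.Agent.Lib.Helper29.QCoh

/-- The global section `s` of `M` vanishes at `y` (its germ lies in `m_y M_y`). -/
def Van {Y : Scheme.{u}} (M : Y.Modules) (y : Y) (s : Γ(M, ⊤)) : Prop :=
  M.presheaf.germ ⊤ y trivial s ∈ maximalIdeal (Y.presheaf.stalk y) •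
    (⊤ : Submodule (Y.presheaf.stalk y) (M.presheaf.stalk y))

/-- The sections `S c` vanishing at `y` generate `m_y M_y` modulo `m_y² M_y`. -/
def SepTan {Y : Scheme.{u}} (M : Y.Modules) (y : Y) {ι : Type*} (S : ι → Γ(M, ⊤)) : Prop :=
  maximalIdeal (Y.presheaf.stalk y) •
      (⊤ : Submodule (Y.presheaf.stalk y) (M.presheaf.stalk y)) ≤
    Submodule.span (Y.presheaf.stalk y)
      {v | ∃ c, v = M.presheaf.germ ⊤ y trivial (S c) ∧
        v ∈ maximalIdeal (Y.presheaf.stalk y) •
          (⊤ : Submodule (Y.presheaf.stalk y) (M.presheaf.stalk y))} ⊔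
      maximalIdeal (Y.presheaf.stalk y) ^ 2 • ⊤

variable {X Y : Scheme.{u}} (f : X ⟶ Y) (M : Y.Modules)

theorem van_pullSect_iff (hM : PicF.IsInvertible M) (P : X) (s : Γ(M, ⊤)) :
    Van ((Scheme.Modules.pullback f).obj M) P (pullSect f M ⊤ s) ↔ Van M (f P) s := by
  obtain ⟨α, h1, h2, -, -⟩ := exists_dict f M hM P (fun _ : Unit => s)
  exact (h2 ()).trans (h1 ()).symm

theorem sepTan_pullSect_imp (hM : PicF.IsInvertible M) (P : X) {ι : Type*} (S : ι → Γ(M, ⊤))
    (h : SepTan ((Scheme.Modules.pullback f).obj M) P (fun c => pullSect f M ⊤ (S c))) :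
    Ideal.map (f.stalkMap P).hom (maximalIdeal (Y.presheaf.stalk (f P))) ⊔
      maximalIdeal (X.presheaf.stalk P) ^ 2 = maximalIdeal (X.presheaf.stalk P) := by
  obtain ⟨α, -, -, -, h4⟩ := exists_dict f M hM P S
  have h5 := h4.mp h
  apply le_antisymm
  · refine sup_le ?_ (Ideal.pow_le_self two_ne_zero)
    exact ((local_hom_TFAE (f.stalkMap P).hom).out 0 2 rfl rfl).mp inferInstance
  · refine h5.trans (sup_le_sup_right (Ideal.map_mono ?_) _)
    rw [Ideal.span_le]
    rintro _ ⟨c, rfl, ha⟩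
    exact ha

theorem sepTan_pullSect_of_surjective (hM : PicF.IsInvertible M) (P : X) {ι : Type*}
    (S : ι → Γ(M, ⊤)) (hsurj : Function.Surjective (f.stalkMap P).hom)
    (h : SepTan M (f P) S) :
    SepTan ((Scheme.Modules.pullback f).obj M) P (fun c => pullSect f M ⊤ (S c)) := by
  obtain ⟨α, -, -, h3, h4⟩ := exists_dict f M hM P S
  apply h4.mpr
  have h5 := h3.mp h
  have hmax : maximalIdeal (X.presheaf.stalk P) =
      Ideal.map (f.stalkMap P).hom (maximalIdeal (Y.presheaf.stalk (f P))) := by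
    apply le_antisymm
    · intro r hr
      obtain ⟨b, rfl⟩ := hsurj r
      exact Ideal.mem_map_of_mem _ ((map_mem_maximalIdeal_iff (f.stalkMap P).hom b).mp hr)
    · exact ((local_hom_TFAE (f.stalkMap P).hom).out 0 2 rfl rfl).mp inferInstance
  calc maximalIdeal (X.presheaf.stalk P)
      = Ideal.map (f.stalkMap P).hom (maximalIdeal (Y.presheaf.stalk (f P))) := hmax
    _ ≤ Ideal.map (f.stalkMap P).hom (Ideal.span {a | ∃ c, a = α c ∧
          a ∈ maximalIdeal (Y.presheaf.stalk (f P))} ⊔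
          maximalIdeal (Y.presheaf.stalk (f P)) ^ 2) := Ideal.map_mono h5
    _ = Ideal.map (f.stalkMap P).hom (Ideal.span {a | ∃ c, a = α c ∧
          a ∈ maximalIdeal (Y.presheaf.stalk (f P))}) ⊔
          (Ideal.map (f.stalkMap P).hom (maximalIdeal (Y.presheaf.stalk (f P)))) ^ 2 := by
        rw [Ideal.map_sup, Ideal.map_pow]
    _ = _ := by rw [← hmax]

variable {k : Type u} [Field k] [IsAlgClosed k]

/-- **Closed immersion criterion via sections**: `f : X ⟶ Y` proper over an algebraically closed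
field, `M` invertible on `Y` with a family `S` of global sections separating closed points and
tangent vectors of `Y`. Then `f` is a closed immersion iff the pulled back sections separate
closed points and tangent vectors of `X`. -/
theorem isClosedImmersion_iff_sep (pY : Y ⟶ Spec (CommRingCat.of k)) [LocallyOfFiniteType pY]
    [LocallyOfFiniteType (f ≫ pY)] [IsProper f] (hM : PicF.IsInvertible M) {ι : Type*}
    (S : ι → Γ(M, ⊤))
    (PS1 : ∀ y y' : Y, IsClosed ({y} : Set Y) → IsClosed ({y'} : Set Y) → y ≠ y' →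
      ∃ c, Van M y (S c) ∧ ¬ Van M y' (S c))
    (PS2 : ∀ y : Y, IsClosed ({y} : Set Y) → SepTan M y S) :
    IsClosedImmersion f ↔
      ((∀ P Q : X, IsClosed ({P} : Set X) → IsClosed ({Q} : Set X) → P ≠ Q →
          ∃ c, Van ((Scheme.Modules.pullback f).obj M) P (pullSect f M ⊤ (S c)) ∧
            ¬ Van ((Scheme.Modules.pullback f).obj M) Q (pullSect f M ⊤ (S c))) ∧
        ∀ P : X, IsClosed ({P} : Set X) →
          SepTan ((Scheme.Modules.pullback f).obj M) P (fun c => pullSect f M ⊤ (S c))) := by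
  constructor
  · intro hci
    refine ⟨fun P Q hP hQ hPQ => ?_, fun P hP => ?_⟩
    · have hfP := Groth.Agent.Lib.Helper25.CotangentSmooth.isClosed_image f pY P hP
      have hfQ := Groth.Agent.Lib.Helper25.CotangentSmooth.isClosed_image f pY Q hQ
      have hne : f P ≠ f Q := fun h => hPQ (f.isClosedEmbedding.injective h)
      obtain ⟨c, hc1, hc2⟩ := PS1 (f P) (f Q) hfP hfQ hne
      exact ⟨c, (van_pullSect_iff f M hM P (S c)).mpr hc1,
        fun h => hc2 ((van_pullSect_iff f M hM Q (S c)).mp h)⟩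
    · have hfP := Groth.Agent.Lib.Helper25.CotangentSmooth.isClosed_image f pY P hP
      exact sepTan_pullSect_of_surjective f M hM P S (f.stalkMap_surjective P) (PS2 (f P) hfP)
  · rintro ⟨h1, h2⟩
    refine Groth.Agent.Lib.Helper25.UnramMono.isClosedImmersion_of_injOn_of_cotangent f pY ?_ ?_
    · intro P hP Q hQ hPQ
      by_contra hne
      obtain ⟨c, hc1, hc2⟩ := h1 P Q hP hQ hne
      apply hc2
      rw [van_pullSect_iff f M hM Q (S c), ← hPQ, ← van_pullSect_iff f M hM P (S c)]
      exact hc1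
    · intro P hP
      exact sepTan_pullSect_imp f M hM P S (h2 P hP)

/-- Symmetric variant of `isClosedImmersion_iff_sep`. -/
theorem isClosedImmersion_iff_sep' (pY : Y ⟶ Spec (CommRingCat.of k)) [LocallyOfFiniteType pY]
    [LocallyOfFiniteType (f ≫ pY)] [IsProper f] (hM : PicF.IsInvertible M) {ι : Type*}
    (S : ι → Γ(M, ⊤))
    (PS1 : ∀ y y' : Y, IsClosed ({y} : Set Y) → IsClosed ({y'} : Set Y) → y ≠ y' →
      ∃ c, Van M y (S c) ∧ ¬ Van M y' (S c))
    (PS2 : ∀ y : Y, IsClosed ({y} : Set Y) → SepTan M y S) :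
    IsClosedImmersion f ↔
      ((∀ P Q : X, IsClosed ({P} : Set X) → IsClosed ({Q} : Set X) → P ≠ Q →
          ∃ c, (Van ((Scheme.Modules.pullback f).obj M) P (pullSect f M ⊤ (S c)) ∧
              ¬ Van ((Scheme.Modules.pullback f).obj M) Q (pullSect f M ⊤ (S c))) ∨
            (Van ((Scheme.Modules.pullback f).obj M) Q (pullSect f M ⊤ (S c)) ∧
              ¬ Van ((Scheme.Modules.pullback f).obj M) P (pullSect f M ⊤ (S c)))) ∧
        ∀ P : X, IsClosed ({P} : Set X) →
          SepTan ((Scheme.Modules.pullback f).obj M) P (fun c => pullSect f M ⊤ (S c))) := by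
  constructor
  · intro hci
    obtain ⟨h1, h2⟩ := (isClosedImmersion_iff_sep f M pY hM S PS1 PS2).mp hci
    refine ⟨fun P Q hP hQ hPQ => ?_, h2⟩
    obtain ⟨c, hc⟩ := h1 P Q hP hQ hPQ
    exact ⟨c, Or.inl hc⟩
  · rintro ⟨h1, h2⟩
    refine Groth.Agent.Lib.Helper25.UnramMono.isClosedImmersion_of_injOn_of_cotangent f pY ?_ ?_
    · intro P hP Q hQ hPQ
      by_contra hne
      have key : ∀ c, Van ((Scheme.Modules.pullback f).obj M) P (pullSect f M ⊤ (S c)) ↔
          Van ((Scheme.Modules.pullback f).obj M) Q (pullSect f M ⊤ (S c)) := by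
        intro c
        rw [van_pullSect_iff f M hM Q (S c), ← hPQ, ← van_pullSect_iff f M hM P (S c)]
      obtain ⟨c, hc | hc⟩ := h1 P Q hP hQ hne
      · exact hc.2 ((key c).mp hc.1)
      · exact hc.2 ((key c).mpr hc.1)
    · intro P hP
      exact sepTan_pullSect_imp f M hM P S (h2 P hP)

end Groth.Agent.Lib.Helper25.SepPts
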