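import Mathlib
import Groth.Agent.Lib.Helper25.SepPts2
import Groth.Agent.Lib.Helper25.CotangentSmooth
import Groth.Agent.Lib.Helper29.VA7
import Groth.Agent.Lib.Helper29.TwistPn3

set_option autoImplicit false
universe u
open CategoryTheory CategoryTheory.Limits AlgebraicGeometry TopologicalSpace Opposite IsLocalRing

namespace Groth.Agent.Lib.Helper25.SepPts

open Groth.Agent.Lib.Helper29.QCoh Groth.Agent.Lib.Helper29.QCoh.MeroK

section dict
variable {Y : Scheme.{u}} (M : Y.Modules)

/-- Dictionary on a trivialising open: vanishing and tangent-separation of global sections of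
`M` at `y` in terms of their coefficient functions. -/
theorem dict_of_isTriv {V : Y.Opens} {ε : Γ(M, V)} (hε : IsTriv M V ε) (y : Y) (hy : y ∈ V)
    {ι : Type*} (S : ι → Γ(M, ⊤)) (a : ι → Γ(Y, V))
    (ha : ∀ c, res M (le_top : V ≤ ⊤) (S c) = a c • ε) :
    (∀ c, Van M y (S c) ↔
      Y.presheaf.germ V y hy (a c) ∈ maximalIdeal (Y.presheaf.stalk y)) ∧
    (SepTan M y S ↔ maximalIdeal (Y.presheaf.stalk y) ≤
      Ideal.span {b | ∃ c, b = Y.presheaf.germ V y hy (a c) ∧
        b ∈ maximalIdeal (Y.presheaf.stalk y)} ⊔ maximalIdeal (Y.presheaf.stalk y) ^ 2) := by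
  set e := M.presheaf.germ V y hy ε with he
  have hspan : Submodule.span (Y.presheaf.stalk y) {e} = ⊤ := hε.span_germ_eq_top y hy
  have hfree : ∀ r : Y.presheaf.stalk y, r • e = 0 → r = 0 := isTriv_germ_smul_eq_zero hε y hy
  have hg : ∀ c, M.presheaf.germ ⊤ y trivial (S c) = Y.presheaf.germ V y hy (a c) • e := by
    intro c
    rw [← germ_res M (le_top : V ≤ ⊤) y hy (S c), ha c, germ_smul]
  have h1 : ∀ c, Van M y (S c) ↔
      Y.presheaf.germ V y hy (a c) ∈ maximalIdeal (Y.presheaf.stalk y) := by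
    intro c
    unfold Van
    rw [hg c]
    exact smul_mem_smul_top_iff e hspan hfree _ _
  refine ⟨h1, ?_⟩
  unfold SepTan
  have hset : {v | ∃ c, v = M.presheaf.germ ⊤ y trivial (S c) ∧
        v ∈ maximalIdeal (Y.presheaf.stalk y) •
          (⊤ : Submodule (Y.presheaf.stalk y) (M.presheaf.stalk y))} =
      {v | ∃ b ∈ {b | ∃ c, b = Y.presheaf.germ V y hy (a c) ∧
        b ∈ maximalIdeal (Y.presheaf.stalk y)}, v = b • e} := by
    ext v
    constructor
    · rintro ⟨c, rfl, hv⟩
      exact ⟨_, ⟨c, rfl, (h1 c).mp hv⟩, hg c⟩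
    · rintro ⟨b, ⟨c, rfl, hb⟩, rfl⟩
      refine ⟨c, (hg c).symm, ?_⟩
      rw [← hg c]
      exact (h1 c).mpr hb
  rw [hset]
  exact smul_top_le_span_sup_iff e hspan hfree _ _ _

/-- A global section of an invertible module vanishes at `y` iff `y` is not in its locus of
generation. -/
theorem van_iff_not_mem_genLocus (hM : PicF.IsInvertible M) (y : Y) (t : Γ(M, ⊤)) :
    Van M y t ↔ y ∉ CohB1.genLocus M (homOfSection M t) := by
  obtain ⟨V, ε, hyV, hε⟩ := exists_isTriv hM y
  obtain ⟨a, ha⟩ := hε.exists_eq_smul (res M (le_top : V ≤ ⊤) t)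
  have h1 := (dict_of_isTriv M hε y hyV (fun _ : Unit => t) (fun _ => a) (fun _ => ha)).1 ()
  have h2 := mem_genLocus_iff_of_isTriv (homOfSection M t) hε a
    (by rw [sval_homOfSection]; exact ha) y hyV
  rw [h1, h2, Scheme.mem_basicOpen _ _ _ hyV, mem_maximalIdeal, mem_nonunits_iff]

end dict

section closedpt
variable {k : Type u} [Field k] [IsAlgClosed k]

open Groth.Agent.Lib.Helper25.GrpTangent in
/-- At a closed point of a scheme locally of finite type over an algebraically closed field,
every germ is congruent to a constant modulo the maximal ideal. -/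
theorem exists_sub_mem_maximalIdeal {X : Scheme.{u}} (q : X ⟶ Spec (CommRingCat.of k))
    [LocallyOfFiniteType q] (x : X) (hx : IsClosed ({x} : Set X)) (g : X.presheaf.stalk x) :
    ∃ μ : k, g - X.presheaf.germ ⊤ x trivial (ProjUP.toGlobal q μ) ∈
      maximalIdeal (X.presheaf.stalk x) := by
  obtain ⟨t, ht⟩ := (Groth.Agent.Lib.Helper25.CotangentSmooth.residue_bijective q x hx).2
    ((X.residue x).hom g)
  obtain ⟨μ, rfl⟩ := (bijective_τ (q x)).2 t
  refine ⟨μ, ?_⟩
  have h1 : X.presheaf.germ ⊤ x trivial (ProjUP.toGlobal q μ) =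
      (q.stalkMap x).hom ((τ (q x)).hom μ) := by
    have := Scheme.Hom.germ_stalkMap_apply q ⊤ x trivial
      ((Scheme.ΓSpecIso (CommRingCat.of k)).inv.hom μ)
    exact this.symm
  rw [h1, ← residue_eq_zero_iff, map_sub, sub_eq_zero]
  exact ht.symm

end closedpt

section alg
open MvPolynomial

/-- A proper ideal of a quotient of a polynomial ring over a field containing all `X_i - μ_i`
is generated by them. -/
theorem ideal_eq_span_of_generators {k R ι : Type*} [Field k] [CommRing R]
    (π : MvPolynomial ι k →+* R) (hπ : Function.Surjective π) (p : Ideal R) (hp : p ≠ ⊤)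
    (μ : ι → k) (hμ : ∀ i, π (X i) - π (C (μ i)) ∈ p) :
    p = Ideal.span (Set.range fun i => π (X i) - π (C (μ i))) := by
  set I := Ideal.span (Set.range fun i => π (X i) - π (C (μ i))) with hI
  have hIp : I ≤ p := by
    rw [hI, Ideal.span_le]
    rintro _ ⟨i, rfl⟩
    exact hμ i
  have key : ∀ P : MvPolynomial ι k, ∃ ν : k, π P - π (C ν) ∈ I := by
    intro P
    induction P using MvPolynomial.induction_on with
    | C a => exact ⟨a, by rw [sub_self]; exact I.zero_mem⟩
    | add P Q hP hQ =>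
      obtain ⟨ν, hν⟩ := hP
      obtain ⟨ν', hν'⟩ := hQ
      refine ⟨ν + ν', ?_⟩
      have : π (P + Q) - π (C (ν + ν')) = (π P - π (C ν)) + (π Q - π (C ν')) := by
        rw [map_add, map_add, map_add]; ring
      rw [this]
      exact I.add_mem hν hν'
    | mul_X P i hP =>
      obtain ⟨ν, hν⟩ := hP
      refine ⟨ν * μ i, ?_⟩
      have : π (P * X i) - π (C (ν * μ i)) =
          (π P - π (C ν)) * π (X i) + π (C ν) * (π (X i) - π (C (μ i))) := by
        rw [map_mul, map_mul, map_mul]; ring
      rw [this]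
      exact I.add_mem (I.mul_mem_right _ hν)
        (I.mul_mem_left _ (Ideal.subset_span ⟨i, rfl⟩))
  apply le_antisymm _ hIp
  intro r hr
  obtain ⟨P, rfl⟩ := hπ r
  obtain ⟨ν, hν⟩ := key P
  have h1 : π (C ν) ∈ p := by
    have := p.sub_mem hr (hIp hν)
    rwa [sub_sub_cancel] at this
  have h2 : ν = 0 := by
    by_contra hne
    apply hp
    rw [Ideal.eq_top_iff_one]
    have : π (C ν⁻¹) * π (C ν) = 1 := by
      rw [← map_mul, ← map_mul, inv_mul_cancel₀ hne, map_one, map_one]
    rw [← this]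
    exact p.mul_mem_left _ h1
  rw [h2, map_zero, map_zero, sub_zero] at hν
  exact hν

end alg

end Groth.Agent.Lib.Helper25.SepPts
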