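import Mathlib
import Groth.Agent.Lib.Helper25.SepPts3
import Groth.Agent.Lib.Helper29.VA7
import Groth.Agent.Lib.Helper29.TwistPn3

set_option autoImplicit false
universe u
open CategoryTheory CategoryTheory.Limits AlgebraicGeometry TopologicalSpace Opposite IsLocalRing

namespace Groth.Agent.Lib.Helper25.SepPts

open Groth.Agent.Lib.Helper29.QCoh Groth.Agent.Lib.Helper29.QCoh.MeroK

variable (k : Type u) [Field k] (n : ℕ)

/-- The linear form `∑ c_i T_i` as a global section of `O(1)`. -/
noncomputable def linForm (c : Fin (n + 1) → k) : Γ(Twist.twistProjSpace n k 1, ⊤) :=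
  ∑ i, ProjUP.toGlobal (CohB1.ProjSpace.toSpec n k) (c i) • ProjUP.coord n k i

section chart
open HomogeneousLocalization MvPolynomial

/-- The standard chart `D_+(X_j)`. -/
noncomputable abbrev chartU (j : Fin (n + 1)) : (Proj (CohB1.polyGrading n k)).Opens :=
  Proj.basicOpen (CohB1.polyGrading n k) (X j)

/-- Constants as global functions. -/
noncomputable def toGlobal' : k →+* Γ(Proj (CohB1.polyGrading n k), ⊤) :=
  ProjUP.toGlobal (CohB1.ProjSpace.toSpec n k)

/-- Constants on the chart. -/
noncomputable def cc (j : Fin (n + 1)) :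
    k →+* Γ(Proj (CohB1.polyGrading n k), chartU k n j) :=
  ((Proj (CohB1.polyGrading n k)).presheaf.map
    (homOfLE (le_top : chartU k n j ≤ ⊤)).op).hom.comp (toGlobal' k n)

/-- The affine coordinate `X_i / X_j` on the chart. -/
noncomputable def xx (j i : Fin (n + 1)) : Γ(Proj (CohB1.polyGrading n k), chartU k n j) :=
  (Proj.awayToSection (CohB1.polyGrading n k) (X j)).hom (xFrac n k j i)

/-- The coefficient of the linear form `∑ c_i T_i` with respect to `T_j` on the chart. -/
noncomputable def aa (j : Fin (n + 1)) (c : Fin (n + 1) → k) :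
    Γ(Proj (CohB1.polyGrading n k), chartU k n j) :=
  ∑ i, cc k n j (c i) * xx k n j i

theorem res_linForm (j : Fin (n + 1)) (c : Fin (n + 1) → k) :
    res (Twist.twist (CohB1.polyGrading n k) 1) (le_top : chartU k n j ≤ ⊤) (linForm k n c) =
      aa k n j c • oneSecOn (CohB1.polyGrading n k) (Xi n k j) (chartU k n j) := by
  unfold linForm aa
  change res (Twist.twist (CohB1.polyGrading n k) 1) (le_top : chartU k n j ≤ ⊤)
    (∑ i, toGlobal' k n (c i) • oneSecOn (CohB1.polyGrading n k) (Xi n k i) ⊤) = _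
  rw [map_sum, Finset.sum_smul]
  refine Finset.sum_congr rfl fun i _ => ?_
  have h1 := res_smul (Twist.twist (CohB1.polyGrading n k) 1) (le_top : chartU k n j ≤ ⊤)
    (toGlobal' k n (c i))
    (oneSecOn (CohB1.polyGrading n k) (Xi n k i) ⊤)
  refine h1.trans ?_
  rw [res_oneSecOn, oneSecOn_eq_smul (CohB1.polyGrading n k) (Xi n k i) (Xi n k j), mul_smul]
  rfl

theorem xx_self (j : Fin (n + 1)) : xx k n j j = 1 := by
  unfold xx xFrac
  have : Away.mk (CohB1.polyGrading n k) (isHomogeneous_X k j) 1 (X j)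
      (by rw [one_smul]; exact isHomogeneous_X k j) = 1 := by
    apply HomogeneousLocalization.val_injective
    rw [Away.val_mk, HomogeneousLocalization.val_one]
    have h : ∀ (s : Submonoid.powers (X j : MvPolynomial (Fin (n + 1)) k)),
        (s : MvPolynomial (Fin (n + 1)) k) = X j → Localization.mk (X j) s = 1 := by
      rintro ⟨s, hs⟩ rfl
      exact Localization.mk_self (M := MvPolynomial (Fin (n + 1)) k) ⟨X j, hs⟩
    exact h _ (pow_one (X j))
  rw [this, map_one]

/-- The surjection from the polynomial ring onto the coordinate ring of the chart. -/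
noncomputable def chartHom' (j : Fin (n + 1)) :
    MvPolynomial (Fin (n + 1)) k →+* Γ(Proj (CohB1.polyGrading n k), chartU k n j) :=
  (Proj.awayToSection (CohB1.polyGrading n k) (X j)).hom.comp (dehom n k j)

theorem chartHom'_C (j : Fin (n + 1)) (μ : k) : chartHom' k n j (C μ) = cc k n j μ := by
  unfold chartHom' cc
  rw [RingHom.comp_apply, RingHom.comp_apply]
  have : dehom n k j (C μ) = cFrac n k j μ := by
    unfold dehom cFrac
    rw [coe_eval₂Hom, eval₂_C]
    rfl
  rw [this, awayToSection_cFrac]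
  rfl

theorem chartHom'_X (j i : Fin (n + 1)) : chartHom' k n j (X i) = xx k n j i := by
  unfold chartHom' xx
  rw [RingHom.comp_apply]
  congr 1
  unfold dehom
  rw [coe_eval₂Hom, eval₂_X]

theorem chartHom'_surjective (j : Fin (n + 1)) : Function.Surjective (chartHom' k n j) := by
  unfold chartHom'
  rw [RingHom.coe_comp]
  apply Function.Surjective.comp
  · have := (ConcreteCategory.isIso_iff_bijective (Proj.awayToSection (CohB1.polyGrading n k)
      (X j))).mp (by
        rw [← Proj.basicOpenIsoAway_hom (CohB1.polyGrading n k) (X j) (isHomogeneous_X k j) one_pos]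
        infer_instance)
    exact this.2
  · intro z
    obtain ⟨m, a, ha, rfl⟩ := Away.mk_surjective (CohB1.polyGrading n k) (isHomogeneous_X k j) z
    exact ⟨a, dehom_eq_mk n k j m a ha⟩

theorem aa_single (j i : Fin (n + 1)) (μ : k) :
    aa k n j (Pi.single i μ) = cc k n j μ * xx k n j i := by
  unfold aa
  rw [Finset.sum_eq_single i]
  · rw [Pi.single_eq_same]
  · intro l _ hl
    rw [Pi.single_eq_of_ne hl, map_zero, zero_mul]
  · intro h; exact absurd (Finset.mem_univ i) h

theorem aa_sub (j : Fin (n + 1)) (c c' : Fin (n + 1) → k) :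
    aa k n j (c - c') = aa k n j c - aa k n j c' := by
  unfold aa
  rw [← Finset.sum_sub_distrib]
  refine Finset.sum_congr rfl fun i _ => ?_
  rw [Pi.sub_apply, map_sub, sub_mul]

theorem linForm_single_one (j : Fin (n + 1)) :
    linForm k n (Pi.single j 1) = oneSecOn (CohB1.polyGrading n k) (Xi n k j) ⊤ := by
  unfold linForm
  change (∑ i, toGlobal' k n ((Pi.single j 1 : Fin (n + 1) → k) i) •
    oneSecOn (CohB1.polyGrading n k) (Xi n k i) ⊤) = _
  rw [Finset.sum_eq_single j]
  · rw [Pi.single_eq_same, map_one, one_smul]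
  · intro l _ hl
    rw [Pi.single_eq_of_ne hl, map_zero, zero_smul]
  · intro h; exact absurd (Finset.mem_univ j) h

theorem isAffineOpen_chartU (j : Fin (n + 1)) : IsAffineOpen (chartU k n j) :=
  Proj.isAffineOpen_basicOpen (CohB1.polyGrading n k) (X j) (isHomogeneous_X k j) one_pos

/-- The prime ideal of a point of a chart with coordinates `μ` is generated by the
`x_i - μ_i`. -/
theorem prime_eq_span (j : Fin (n + 1)) (y : Proj (CohB1.polyGrading n k))
    (hyU : y ∈ chartU k n j) (μ : Fin (n + 1) → k)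
    (hμ : ∀ i, (Proj (CohB1.polyGrading n k)).presheaf.germ (chartU k n j) y hyU
      (xx k n j i - cc k n j (μ i)) ∈
        maximalIdeal ((Proj (CohB1.polyGrading n k)).presheaf.stalk y)) :
    ((isAffineOpen_chartU k n j).primeIdealOf ⟨y, hyU⟩).asIdeal =
      Ideal.span (Set.range fun i => xx k n j i - cc k n j (μ i)) := by
  letI : Algebra Γ(Proj (CohB1.polyGrading n k), chartU k n j)
      ((Proj (CohB1.polyGrading n k)).presheaf.stalk y) :=
    TopCat.Presheaf.algebra_section_stalk (Proj (CohB1.polyGrading n k)).presheaf ⟨y, hyU⟩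
  haveI hloc := (isAffineOpen_chartU k n j).isLocalization_stalk ⟨y, hyU⟩
  have hp : ∀ r, r ∈ ((isAffineOpen_chartU k n j).primeIdealOf ⟨y, hyU⟩).asIdeal ↔
      (Proj (CohB1.polyGrading n k)).presheaf.germ (chartU k n j) y hyU r ∈
        maximalIdeal ((Proj (CohB1.polyGrading n k)).presheaf.stalk y) := fun r =>
    (IsLocalization.AtPrime.to_map_mem_maximal_iff
      ((Proj (CohB1.polyGrading n k)).presheaf.stalk y)
      ((isAffineOpen_chartU k n j).primeIdealOf ⟨y, hyU⟩).asIdeal r).symm
  have h1 := ideal_eq_span_of_generators (chartHom' k n j) (chartHom'_surjective k n j)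
    ((isAffineOpen_chartU k n j).primeIdealOf ⟨y, hyU⟩).asIdeal
    ((isAffineOpen_chartU k n j).primeIdealOf ⟨y, hyU⟩).isPrime.ne_top μ (by
      intro i
      rw [chartHom'_X, chartHom'_C, hp]
      exact hμ i)
  simp only [chartHom'_X, chartHom'_C] at h1
  exact h1

theorem maximalIdeal_eq_span (j : Fin (n + 1)) (y : Proj (CohB1.polyGrading n k))
    (hyU : y ∈ chartU k n j) (μ : Fin (n + 1) → k)
    (hμ : ∀ i, (Proj (CohB1.polyGrading n k)).presheaf.germ (chartU k n j) y hyU
      (xx k n j i - cc k n j (μ i)) ∈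
        maximalIdeal ((Proj (CohB1.polyGrading n k)).presheaf.stalk y)) :
    maximalIdeal ((Proj (CohB1.polyGrading n k)).presheaf.stalk y) =
      Ideal.span (Set.range fun i =>
        ((Proj (CohB1.polyGrading n k)).presheaf.germ (chartU k n j) y hyU).hom
          (xx k n j i - cc k n j (μ i))) := by
  letI : Algebra Γ(Proj (CohB1.polyGrading n k), chartU k n j)
      ((Proj (CohB1.polyGrading n k)).presheaf.stalk y) :=
    TopCat.Presheaf.algebra_section_stalk (Proj (CohB1.polyGrading n k)).presheaf ⟨y, hyU⟩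
  haveI hloc := (isAffineOpen_chartU k n j).isLocalization_stalk ⟨y, hyU⟩
  have h2 := IsLocalization.AtPrime.map_eq_maximalIdeal
    ((isAffineOpen_chartU k n j).primeIdealOf ⟨y, hyU⟩).asIdeal
    ((Proj (CohB1.polyGrading n k)).presheaf.stalk y)
  rw [← h2, prime_eq_span k n j y hyU μ hμ, Ideal.map_span, ← Set.range_comp]
  rfl

end chart

section pts
variable [IsAlgClosed k]
open MvPolynomial

/-- Coordinates of a closed point in a chart. -/
theorem exists_coords (j : Fin (n + 1)) (y : Proj (CohB1.polyGrading n k))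
    (hyU : y ∈ chartU k n j) (hy : IsClosed ({y} : Set (Proj (CohB1.polyGrading n k)))) :
    ∃ μ : Fin (n + 1) → k, ∀ i,
      (Proj (CohB1.polyGrading n k)).presheaf.germ (chartU k n j) y hyU
        (xx k n j i - cc k n j (μ i)) ∈
          maximalIdeal ((Proj (CohB1.polyGrading n k)).presheaf.stalk y) := by
  haveI : LocallyOfFiniteType (CohB1.ProjSpace.toSpec n k) := inferInstance
  choose μ hμ using fun i => exists_sub_mem_maximalIdeal (CohB1.ProjSpace.toSpec n k) y hy
    ((Proj (CohB1.polyGrading n k)).presheaf.germ (chartU k n j) y hyU (xx k n j i))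
  refine ⟨μ, fun i => ?_⟩
  rw [map_sub]
  have h1 : (Proj (CohB1.polyGrading n k)).presheaf.germ (chartU k n j) y hyU
      (cc k n j (μ i)) = (Proj (CohB1.polyGrading n k)).presheaf.germ ⊤ y trivial
        (toGlobal' k n (μ i)) :=
    TopCat.Presheaf.germ_res_apply _ (homOfLE (le_top : chartU k n j ≤ ⊤)) y hyU _
  rw [h1]
  exact hμ i

omit [IsAlgClosed k] in
theorem aa_diff (j i : Fin (n + 1)) (ν : k) :
    aa k n j (Pi.single i 1 - Pi.single j ν) = xx k n j i - cc k n j ν := by
  rw [aa_sub, aa_single, aa_single, xx_self, map_one, one_mul, mul_one]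

theorem PS2_projSpace (y : CohB1.ProjSpace n k)
    (hy : IsClosed ({y} : Set (CohB1.ProjSpace n k))) :
    SepTan (Twist.twistProjSpace n k 1) y (linForm k n) := by
  obtain ⟨j, hj⟩ := exists_mem_basicOpen_X n k y
  have hε := isTriv_oneSecOn (CohB1.polyGrading n k) (Xi n k j) (chartU k n j) le_rfl
  have hd := dict_of_isTriv (Twist.twist (CohB1.polyGrading n k) 1) hε y hj (linForm k n)
    (aa k n j) (res_linForm k n j)
  apply hd.2.mpr
  obtain ⟨μ, hμ⟩ := exists_coords k n j y hj hy
  refine le_sup_of_le_left ?_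
  have h1 := maximalIdeal_eq_span k n j y hj μ hμ
  refine h1.le.trans ?_
  rw [Ideal.span_le]
  rintro _ ⟨i, rfl⟩
  apply Ideal.subset_span
  refine ⟨Pi.single i 1 - Pi.single j (μ i), ?_, hμ i⟩
  rw [aa_diff]

theorem PS1_projSpace (y y' : CohB1.ProjSpace n k)
    (hy : IsClosed ({y} : Set (CohB1.ProjSpace n k)))
    (hy' : IsClosed ({y'} : Set (CohB1.ProjSpace n k))) (hne : y ≠ y') :
    ∃ c, Van (Twist.twistProjSpace n k 1) y (linForm k n c) ∧
      ¬ Van (Twist.twistProjSpace n k 1) y' (linForm k n c) := by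
  obtain ⟨j, hj⟩ := exists_mem_basicOpen_X n k y
  have hε := isTriv_oneSecOn (CohB1.polyGrading n k) (Xi n k j) (chartU k n j) le_rfl
  have hd := (dict_of_isTriv (Twist.twist (CohB1.polyGrading n k) 1) hε y hj (linForm k n)
    (aa k n j) (res_linForm k n j)).1
  obtain ⟨μ, hμ⟩ := exists_coords k n j y hj hy
  have hvan : ∀ i, Van (Twist.twistProjSpace n k 1) y
      (linForm k n (Pi.single i 1 - Pi.single j (μ i))) := by
    intro i
    apply (hd _).mpr
    rw [aa_diff]
    exact hμ i
  by_cases hj' : y' ∈ chartU k n j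
  · have hd' := (dict_of_isTriv (Twist.twist (CohB1.polyGrading n k) 1) hε y' hj' (linForm k n)
      (aa k n j) (res_linForm k n j)).1
    by_contra hcon
    push Not at hcon
    have hμ' : ∀ i, (Proj (CohB1.polyGrading n k)).presheaf.germ (chartU k n j) y' hj'
        (xx k n j i - cc k n j (μ i)) ∈
          maximalIdeal ((Proj (CohB1.polyGrading n k)).presheaf.stalk y') := by
      intro i
      have := (hd' _).mp (hcon _ (hvan i))
      rwa [aa_diff] at this
    have e1 := prime_eq_span k n j y hj μ hμ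
    have e2 := prime_eq_span k n j y' hj' μ hμ'
    have e3 : (isAffineOpen_chartU k n j).primeIdealOf ⟨y, hj⟩ =
        (isAffineOpen_chartU k n j).primeIdealOf ⟨y', hj'⟩ :=
      PrimeSpectrum.ext (e1.trans e2.symm)
    apply hne
    have f1 := (isAffineOpen_chartU k n j).fromSpec_primeIdealOf ⟨y, hj⟩
    have f2 := (isAffineOpen_chartU k n j).fromSpec_primeIdealOf ⟨y', hj'⟩
    rw [e3] at f1
    exact f1.symm.trans f2
  · obtain ⟨l, hl⟩ := exists_mem_basicOpen_X n k y'
    refine ⟨_, hvan l, ?_⟩
    have hεl := isTriv_oneSecOn (CohB1.polyGrading n k) (Xi n k l) (chartU k n l) le_rfl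
    have hdl := (dict_of_isTriv (Twist.twist (CohB1.polyGrading n k) 1) hεl y' hl (linForm k n)
      (aa k n l) (res_linForm k n l)).1
    intro hv
    have h := (hdl _).mp hv
    rw [aa_sub, aa_single, aa_single, xx_self, map_one, one_mul] at h
    have h2 : (Proj (CohB1.polyGrading n k)).presheaf.germ (chartU k n l) y' hl
        (xx k n l j) ∈ maximalIdeal ((Proj (CohB1.polyGrading n k)).presheaf.stalk y') := by
      have h3 : Van (Twist.twist (CohB1.polyGrading n k) 1) y' (linForm k n (Pi.single j 1)) := by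
        rw [linForm_single_one,
          van_iff_not_mem_genLocus _ (isInvertible_twist_projSpace n k 1), genLocus_oneSecOn]
        exact hj'
      have := (hdl _).mp h3
      rwa [aa_single, map_one, one_mul] at this
    apply (Ideal.ne_top_iff_one _).mp
      (maximalIdeal.isMaximal ((Proj (CohB1.polyGrading n k)).presheaf.stalk y')).ne_top
    have h4 := Ideal.add_mem _ h (Ideal.mul_mem_left _
      ((Proj (CohB1.polyGrading n k)).presheaf.germ (chartU k n l) y' hl (cc k n l (μ l))) h2)
    rw [map_sub, map_mul, map_one, sub_add_cancel] at h4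
    exact h4

end pts

variable {k n}

theorem pullSect_linForm {X : Scheme.{u}} (pX : X ⟶ Spec (CommRingCat.of k))
    (f : X ⟶ CohB1.ProjSpace n k) (hf : f ≫ CohB1.ProjSpace.toSpec n k = pX)
    (c : Fin (n + 1) → k) :
    pullSect f (Twist.twistProjSpace n k 1) ⊤ (linForm k n c) =
      ∑ i, ProjUP.toGlobal pX (c i) •
        ProjUP.pullSec f (Twist.twistProjSpace n k 1) (ProjUP.coord n k i) := by
  unfold linForm
  rw [map_sum]
  refine Finset.sum_congr rfl fun i _ => ?_
  rw [pullSect_smul]
  subst hf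
  rfl


section main
variable (k) [IsAlgClosed k]

theorem isClosedImmersion_iff_projSpace
    (X : Scheme.{u}) (pX : X ⟶ Spec (CommRingCat.of k))
    (hproj : ∃ (N : ℕ) (ι : X ⟶ CohB1.ProjSpace N k),
      IsClosedImmersion ι ∧ ι ≫ CohB1.ProjSpace.toSpec N k = pX)
    (n : ℕ) (f : X ⟶ CohB1.ProjSpace n k) (hf : f ≫ CohB1.ProjSpace.toSpec n k = pX) :
    IsClosedImmersion f ↔
      ((∀ P Q : ↥X, IsClosed ({P} : Set ↥X) → IsClosed ({Q} : Set ↥X) → P ≠ Q →
          ∃ c : Fin (n + 1) → k,
            (((Scheme.Modules.pullback f).obj (Twist.twistProjSpace n k 1)).presheaf.germ ⊤ P trivial).hom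
                (∑ i, ProjUP.toGlobal pX (c i) •
                  ProjUP.pullSec f (Twist.twistProjSpace n k 1) (ProjUP.coord n k i)) ∈
              (IsLocalRing.maximalIdeal ↑(X.presheaf.stalk P) •
                (⊤ : Submodule ↑(X.presheaf.stalk P) ↑(((Scheme.Modules.pullback f).obj (Twist.twistProjSpace n k 1)).presheaf.stalk P))) ∧
            (((Scheme.Modules.pullback f).obj (Twist.twistProjSpace n k 1)).presheaf.germ ⊤ Q trivial).hom
                (∑ i, ProjUP.toGlobal pX (c i) •
                  ProjUP.pullSec f (Twist.twistProjSpace n k 1) (ProjUP.coord n k i)) ∉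
              (IsLocalRing.maximalIdeal ↑(X.presheaf.stalk Q) •
                (⊤ : Submodule ↑(X.presheaf.stalk Q) ↑(((Scheme.Modules.pullback f).obj (Twist.twistProjSpace n k 1)).presheaf.stalk Q)))) ∧
        ∀ P : ↥X, IsClosed ({P} : Set ↥X) →
          (IsLocalRing.maximalIdeal ↑(X.presheaf.stalk P) •
                (⊤ : Submodule ↑(X.presheaf.stalk P) ↑(((Scheme.Modules.pullback f).obj (Twist.twistProjSpace n k 1)).presheaf.stalk P))) ≤
            Submodule.span ↑(X.presheaf.stalk P)
                {v | ∃ c : Fin (n + 1) → k,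
                  v = (((Scheme.Modules.pullback f).obj (Twist.twistProjSpace n k 1)).presheaf.germ ⊤ P trivial).hom
                (∑ i, ProjUP.toGlobal pX (c i) •
                  ProjUP.pullSec f (Twist.twistProjSpace n k 1) (ProjUP.coord n k i)) ∧
                  v ∈ (IsLocalRing.maximalIdeal ↑(X.presheaf.stalk P) •
                (⊤ : Submodule ↑(X.presheaf.stalk P) ↑(((Scheme.Modules.pullback f).obj (Twist.twistProjSpace n k 1)).presheaf.stalk P)))} ⊔
              (IsLocalRing.maximalIdeal ↑(X.presheaf.stalk P) ^ 2 •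
                (⊤ : Submodule ↑(X.presheaf.stalk P) ↑(((Scheme.Modules.pullback f).obj (Twist.twistProjSpace n k 1)).presheaf.stalk P)))) := by
  obtain ⟨N, ι, hι, hιp⟩ := hproj
  haveI : IsProper pX := by
    rw [← hιp]; infer_instance
  haveI : IsProper (f ≫ CohB1.ProjSpace.toSpec n k) := by rw [hf]; infer_instance
  haveI : IsProper f := IsProper.of_comp f (CohB1.ProjSpace.toSpec n k)
  haveI : LocallyOfFiniteType (f ≫ CohB1.ProjSpace.toSpec n k) := inferInstance
  have hM : PicF.IsInvertible (Twist.twistProjSpace n k 1) := isInvertible_twist_projSpace n k 1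
  have key := isClosedImmersion_iff_sep f (Twist.twistProjSpace n k 1)
    (CohB1.ProjSpace.toSpec n k) hM (linForm k n) (PS1_projSpace k n) (PS2_projSpace k n)
  simp only [pullSect_linForm pX f hf] at key
  exact key

end main

theorem isClosedImmersion_iff_projSpace' (k : Type u) [Field k]
    [IsAlgClosed k] (X : Scheme.{u}) (pX : X ⟶ Spec (CommRingCat.of k))
    (hproj : ∃ (N : ℕ) (ι : X ⟶ CohB1.ProjSpace N k), IsClosedImmersion ι ∧ ι ≫ CohB1.ProjSpace.toSpec N k = pX)
    (n : ℕ) (f : X ⟶ CohB1.ProjSpace n k) (hf : f ≫ CohB1.ProjSpace.toSpec n k = pX) :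
    IsClosedImmersion f ↔
      ((∀ P Q : ↥X, IsClosed ({P} : Set ↥X) → IsClosed ({Q} : Set ↥X) → P ≠ Q →
          ∃ c : Fin (n + 1) → k,
            ((((Scheme.Modules.pullback f).obj (Twist.twistProjSpace n k 1)).presheaf.germ ⊤ P trivial).hom (∑ j, ProjUP.toGlobal pX (c j) • ProjUP.pullSec f (Twist.twistProjSpace n k 1) (ProjUP.coord n k j)) ∈ (IsLocalRing.maximalIdeal ↑(X.presheaf.stalk P) • (⊤ : Submodule ↑(X.presheaf.stalk P) ↑(((Scheme.Modules.pullback f).obj (Twist.twistProjSpace n k 1)).presheaf.stalk P))) ∧ (((Scheme.Modules.pullback f).obj (Twist.twistProjSpace n k 1)).presheaf.germ ⊤ Q trivial).hom (∑ j, ProjUP.toGlobal pX (c j) • ProjUP.pullSec f (Twist.twistProjSpace n k 1) (ProjUP.coord n k j)) ∉ (IsLocalRing.maximalIdeal ↑(X.presheaf.stalk Q) • (⊤ : Submodule ↑(X.presheaf.stalk Q) ↑(((Scheme.Modules.pullback f).obj (Twist.twistProjSpace n k 1)).presheaf.stalk Q)))) ∨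
            ((((Scheme.Modules.pullback f).obj (Twist.twistProjSpace n k 1)).presheaf.germ ⊤ Q trivial).hom (∑ j, ProjUP.toGlobal pX (c j) • ProjUP.pullSec f (Twist.twistProjSpace n k 1) (ProjUP.coord n k j)) ∈ (IsLocalRing.maximalIdeal ↑(X.presheaf.stalk Q) • (⊤ : Submodule ↑(X.presheaf.stalk Q) ↑(((Scheme.Modules.pullback f).obj (Twist.twistProjSpace n k 1)).presheaf.stalk Q))) ∧ (((Scheme.Modules.pullback f).obj (Twist.twistProjSpace n k 1)).presheaf.germ ⊤ P trivial).hom (∑ j, ProjUP.toGlobal pX (c j) • ProjUP.pullSec f (Twist.twistProjSpace n k 1) (ProjUP.coord n k j)) ∉ (IsLocalRing.maximalIdeal ↑(X.presheaf.stalk P) • (⊤ : Submodule ↑(X.presheaf.stalk P) ↑(((Scheme.Modules.pullback f).obj (Twist.twistProjSpace n k 1)).presheaf.stalk P))))) ∧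
        ∀ P : ↥X, IsClosed ({P} : Set ↥X) →
          (IsLocalRing.maximalIdeal ↑(X.presheaf.stalk P) • (⊤ : Submodule ↑(X.presheaf.stalk P) ↑(((Scheme.Modules.pullback f).obj (Twist.twistProjSpace n k 1)).presheaf.stalk P))) ≤
            Submodule.span ↑(X.presheaf.stalk P)
                {v | ∃ c : Fin (n + 1) → k, v = (((Scheme.Modules.pullback f).obj (Twist.twistProjSpace n k 1)).presheaf.germ ⊤ P trivial).hom (∑ j, ProjUP.toGlobal pX (c j) • ProjUP.pullSec f (Twist.twistProjSpace n k 1) (ProjUP.coord n k j)) ∧ v ∈ (IsLocalRing.maximalIdeal ↑(X.presheaf.stalk P) • (⊤ : Submodule ↑(X.presheaf.stalk P) ↑(((Scheme.Modules.pullback f).obj (Twist.twistProjSpace n k 1)).presheaf.stalk P)))} ⊔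
              (IsLocalRing.maximalIdeal ↑(X.presheaf.stalk P) ^ 2 • (⊤ : Submodule ↑(X.presheaf.stalk P) ↑(((Scheme.Modules.pullback f).obj (Twist.twistProjSpace n k 1)).presheaf.stalk P)))) := by
  obtain ⟨N, ι, hι, hιp⟩ := hproj
  haveI : IsProper pX := by
    rw [← hιp]; infer_instance
  haveI : IsProper (f ≫ CohB1.ProjSpace.toSpec n k) := by rw [hf]; infer_instance
  haveI : IsProper f := IsProper.of_comp f (CohB1.ProjSpace.toSpec n k)
  haveI : LocallyOfFiniteType (f ≫ CohB1.ProjSpace.toSpec n k) := inferInstance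
  have hM : PicF.IsInvertible (Twist.twistProjSpace n k 1) := isInvertible_twist_projSpace n k 1
  have key := isClosedImmersion_iff_sep' f (Twist.twistProjSpace n k 1)
    (CohB1.ProjSpace.toSpec n k) hM (linForm k n) (PS1_projSpace k n) (PS2_projSpace k n)
  simp only [pullSect_linForm pX f hf] at key
  exact key

end Groth.Agent.Lib.Helper25.SepPts
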