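import Mathlib
import Groth.Agent.Lib.Helper25.SepPts4
set_option autoImplicit false
universe u
open CategoryTheory CategoryTheory.Limits AlgebraicGeometry TopologicalSpace Opposite IsLocalRing

namespace Groth.Agent.Lib.Helper25.BertiniPn

open Groth.Agent.Lib.Helper29.QCoh Groth.Agent.Lib.Helper25.SepPts
open HomogeneousLocalization MvPolynomial

variable (k : Type u) [Field k] (n : ℕ)

/-- On the chart `D_+(X_j)`, the germ of `h / X_j` corresponds to the fraction `h / X_j` in the
homogeneous localization. -/
theorem stalkIso'_symm_mk_eq_germ (j : Fin (n + 1)) (h : ↥(CohB1.polyGrading n k 1))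
    (y : Proj (CohB1.polyGrading n k))
    (hj : (X j : MvPolynomial (Fin (n + 1)) k) ∉ y.asHomogeneousIdeal) :
    (Proj.stalkIso' (CohB1.polyGrading n k) y).symm
      (HomogeneousLocalization.mk ⟨1, h, ⟨X j, isHomogeneous_X k j⟩, hj⟩) =
    (Proj (CohB1.polyGrading n k)).presheaf.germ (chartU k n j) y hj
      (chartHom' k n j (h : MvPolynomial (Fin (n + 1)) k)) := by
  have h1 := ProjectiveSpectrum.Proj.awayToSection_germ (CohB1.polyGrading n k) (X j) y hj
  have h2 := congrArg (fun φ => φ.hom (dehom n k j (h : MvPolynomial (Fin (n + 1)) k))) h1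
  simp only [CommRingCat.hom_comp, RingHom.comp_apply, CommRingCat.hom_ofHom] at h2
  unfold chartHom'
  rw [RingHom.comp_apply]
  refine Eq.trans ?_ h2.symm
  change _ = (Proj.stalkIso' (CohB1.polyGrading n k) y).symm _
  congr 1
  rw [dehom_eq_mk n k j 1 (h : MvPolynomial (Fin (n + 1)) k) (by rw [one_smul]; exact h.2)]
  apply HomogeneousLocalization.val_injective
  rw [HomogeneousLocalization.val_mk]
  simp only [Away.mk, map_mk, HomogeneousLocalization.val_mk, pow_one]
  rfl

end Groth.Agent.Lib.Helper25.BertiniPn
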