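import Mathlib
import Groth.Agent.Lib.Helper25.FibreDimRank4
import Groth.Agent.Lib.Helper25.RegularSepSmooth
import Groth.Agent.Lib.Helper25.NhdStalk
import Groth.Agent.Lib.Helper14.AlgSpResidual
import Groth.Agent.S4991

set_option autoImplicit false
universe u
open TensorProduct KaehlerDifferential CategoryTheory CategoryTheory.Limits AlgebraicGeometry

namespace Groth.Agent.Lib.Helper25.NonsingOmega

open Groth.Agent.Lib.Helper25.FibreDimRank

/-- Jacobian criterion over a ring that is a field. -/
theorem isSmoothAt_of_finrank_le' (R A : Type u) [CommRing R] (hR : IsField R) [CommRing A]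
    [Algebra R A] [Algebra.FiniteType R A] (q : Ideal A) [q.IsPrime]
    (h : ((Module.finrank q.ResidueField (q.ResidueField ⊗[A] Ω[A⁄R]) : ℕ) : WithBot ℕ∞) ≤
        FlatMor.localDim (PrimeSpectrum A) ⟨q, inferInstance⟩) :
    Algebra.IsSmoothAt R q := by
  letI := hR.toField
  exact Groth.Agent.Lib.Helper25.SmoothLocalDim.isSmoothAt_of_finrank_le R A q h

/-- Over an algebraically closed field every reduced algebra is geometrically reduced. -/
theorem isGeometricallyReduced_of_isAlgClosed (k L : Type u) [Field k] [IsAlgClosed k] [CommRing L]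
    [IsReduced L] [Algebra k L] : Algebra.IsGeometricallyReduced k L := by
  rw [Algebra.isGeometricallyReduced_field_iff]
  have hbij : Function.Bijective (algebraMap k (AlgebraicClosure k)) :=
    IsAlgClosed.algebraMap_bijective_of_isIntegral
  let e : k ≃ₐ[k] AlgebraicClosure k :=
    AlgEquiv.ofBijective (Algebra.ofId k _) hbij
  let e' : AlgebraicClosure k ⊗[k] L ≃ₐ[k] L :=
    (Algebra.TensorProduct.congr e.symm AlgEquiv.refl).trans (Algebra.TensorProduct.lid k L)
  exact isReduced_of_injective e'.toRingEquiv.toRingHom e'.injective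

section

variable (k : Type u) [Field k] (X : Scheme.{u}) [X.Over (Spec (CommRingCat.of k))]
  [LocallyOfFiniteType (X ↘ (Spec (CommRingCat.of k)))] [IrreducibleSpace X]

include k in
/-- On an irreducible scheme locally of finite type over a field, all local dimensions are the
dimension. -/
theorem localDim_eq_of_irreducible (n : ℕ) (hn : topologicalKrullDim X = (n : WithBot ℕ∞)) (x : X) :
    FlatMor.localDim X x = (n : WithBot ℕ∞) := by
  obtain ⟨s, hs⟩ := Groth.Agent.Lib.Helper21.ChartPt.exists_nat_trdeg_genericPoint k X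
  have h1 := Groth.Agent.Lib.Helper21.ChartPt.topologicalKrullDim_eq_of_irreducible k X s hs
  have h2 := Groth.Agent.Lib.Helper21.ChartPt.topologicalKrullDim_opens_eq_of_irreducible k X s hs
  rw [← hn, h1]
  unfold FlatMor.localDim
  apply le_antisymm
  · refine (iInf_le _ ⟨⊤, trivial⟩).trans ?_
    exact (h2 ⊤ ⟨x, trivial⟩).le
  · refine le_iInf fun U => ?_
    exact (h2 U.1 ⟨x, U.2⟩).ge

open Groth.Agent.Lib.Helper29.QCoh Groth.Agent.Lib.Helper25.GrpTangent in
/-- If the sheaf of differentials of an irreducible scheme of dimension `n`, locally of finite type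
over a field, is locally free of rank `n`, then all local rings are regular. -/
theorem regular_of_isFinLocFreeOfRank (n : ℕ) (hn : topologicalKrullDim X = (n : WithBot ℕ∞))
    (Ω' : X.Modules) (d : OmegaSh.Der (X ↘ (Spec (CommRingCat.of k))) Ω') (hd : OmegaSh.IsUniversal d)
    (hfree : FlatMod.IsFinLocFreeOfRank n Ω') (x : X) :
    IsRegularLocalRing (X.presheaf.stalk x) := by
  let f : X ⟶ Spec (CommRingCat.of k) := X ↘ (Spec (CommRingCat.of k))
  haveI := Groth.Agent.Helper19.OmegaD.isQuasicoherent_of_universal f d hd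
  rw [isFinLocFreeOfRank_iff_isFreeAlong] at hfree
  obtain ⟨U', hxU', hfreeU'⟩ := hfree x
  obtain ⟨_, ⟨U, hU, rfl⟩, hxU, hUU'⟩ :=
    X.isBasis_affineOpens.exists_subset_of_mem_open hxU' U'.2
  have hV : IsAffineOpen (⊤ : (Spec (CommRingCat.of k)).Opens) := isAffineOpen_top _
  have e : U ≤ f ⁻¹ᵁ ⊤ := le_top
  have hR : IsField Γ(Spec (CommRingCat.of k), ⊤) :=
    MulEquiv.isField (Field.toIsField k)
      (Scheme.ΓSpecIso (CommRingCat.of k)).commRingCatIsoToRingEquiv.toMulEquiv
  letI := Groth.Agent.Helper19.OmegaLocal.algΓ f e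
  obtain ⟨L⟩ := Groth.Agent.Helper19.OmegaD.nonempty_linearEquiv_sections_of_universal f d hd
    hU hV e
  obtain ⟨L'⟩ := nonempty_linearEquiv_of_isFreeAlong_fromSpec Ω' hU n
    (hfreeU'.of_range_subset _ (by
      rw [hU.range_fromSpec, Scheme.Opens.range_ι]
      exact hUU'))
  let E : Ω[Γ(X, U)⁄Γ(Spec (CommRingCat.of k), ⊤)] ≃ₗ[Γ(X, U)] (Fin n →₀ Γ(X, U)) :=
    L.symm ≪≫ₗ L'
  haveI : Module.Free Γ(X, U) (Ω[Γ(X, U)⁄Γ(Spec (CommRingCat.of k), ⊤)]) :=
    Module.Free.of_equiv E.symm
  haveI : Nontrivial Γ(X, U) := nontrivial_sections_of_mem hxU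
  have hrk : Module.finrank Γ(X, U) (Ω[Γ(X, U)⁄Γ(Spec (CommRingCat.of k), ⊤)]) = n := by
    rw [E.finrank_eq]
    simp
  haveI : Algebra.FiniteType Γ(Spec (CommRingCat.of k), ⊤) Γ(X, U) := f.finiteType_appLE hV hU e
  let q := hU.primeIdealOf ⟨x, hxU⟩
  haveI := q.2
  have hloc : FlatMor.localDim (PrimeSpectrum Γ(X, U)) ⟨q.asIdeal, inferInstance⟩ =
      (n : WithBot ℕ∞) := by
    have h1 := Groth.Agent.Lib.Helper6.EtaleSq.localDim_eq_of_etale hU.fromSpec q
    rw [hU.fromSpec_primeIdealOf, localDim_eq_of_irreducible k X n hn x] at h1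
    exact h1
  have hsm : Algebra.IsSmoothAt Γ(Spec (CommRingCat.of k), ⊤) q.asIdeal := by
    refine isSmoothAt_of_finrank_le' _ _ hR q.asIdeal ?_
    rw [hloc, Module.finrank_baseChange, hrk]
  have hst : (f.stalkMap x).hom.FormallySmooth :=
    (formallySmooth_stalkMap_iff ⊤ hV U hU e hxU).mpr hsm
  have hnhd := (Groth.Agent.Lib.Helper25.NhdStalk.exists_smooth_nhd_iff f x).mpr hst
  rw [Groth.Agent.S4991.result f x hnhd]
  refine Groth.Agent.Lib.Helper14.AS.isRegularLocalRing_of_isField ?_
  exact MulEquiv.isField (Field.toIsField k)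
    (RingEquiv.ofBijective (τ (f x)).hom (bijective_τ (f x))).symm.toMulEquiv

open Groth.Agent.Lib.Helper29.QCoh Groth.Agent.Lib.Helper25.GrpTangent in
/-- If all local rings of an irreducible scheme of dimension `n`, locally of finite type
over an algebraically closed field, are regular, then the sheaf of differentials is locally free
of rank `n`. -/
theorem isFinLocFreeOfRank_of_regular [IsAlgClosed k] (n : ℕ)
    (hn : topologicalKrullDim X = (n : WithBot ℕ∞))
    (Ω' : X.Modules) (d : OmegaSh.Der (X ↘ (Spec (CommRingCat.of k))) Ω') (hd : OmegaSh.IsUniversal d)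
    (hreg : ∀ x : X, IsRegularLocalRing (X.presheaf.stalk x)) :
    FlatMod.IsFinLocFreeOfRank n Ω' := by
  let f : X ⟶ Spec (CommRingCat.of k) := X ↘ (Spec (CommRingCat.of k))
  have hsmloc : ∀ x : X, x ∈ f.smoothLocus := by
    intro x
    letI : Algebra k (X.presheaf.stalk x) := (τ (f x) ≫ f.stalkMap x).hom.toAlgebra
    haveI := hreg x
    haveI : Algebra.IsGeometricallyReduced k (IsLocalRing.ResidueField (X.presheaf.stalk x)) :=
      isGeometricallyReduced_of_isAlgClosed k _
    exact Groth.Agent.Lib.Helper25.RegularSepSmooth.mem_smoothLocus_of_regular f x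
      (RingHom.algebraMap_toAlgebra _)
  haveI : Smooth f := by
    rw [← Scheme.Hom.smoothLocus_eq_top_iff]
    ext x
    simp only [hsmloc x, TopologicalSpace.Opens.coe_top, Set.mem_univ, SetLike.mem_coe]
  haveI : IsReduced X := by
    haveI : ∀ x : X, _root_.IsReduced (X.presheaf.stalk x) := fun x => by
      haveI := hreg x
      haveI := Groth.Agent.Lib.Helper21.isDomain_of_isRegularLocalRing (X.presheaf.stalk x)
      infer_instance
    exact isReduced_of_isReduced_stalk X
  haveI : IsIntegral X := isIntegral_of_irreducibleSpace_of_isReduced X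
  haveI : SmoothOfRelativeDimension n f :=
    Groth.Agent.Lib.Helper25.SmoothRelDimRank.smoothOfRelativeDimension_of_isIntegral f n hn
  intro x
  obtain ⟨U, m, hxU, hiso, hm⟩ := exists_free_of_universal f Ω' d hd x
  rw [fibreDimAt_eq_of_smoothOfRelativeDimension n f x] at hm
  have hnm : n = m := by exact_mod_cast hm
  subst hnm
  exact ⟨U, hxU, hiso⟩

end

end Groth.Agent.Lib.Helper25.NonsingOmega
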