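import Mathlib
import Groth.Agent.Lib.Helper25.SepPts4
import Groth.Agent.Lib.Helper25.NonsingOmega
import Groth.Agent.Lib.Helper25.Bertini2
set_option autoImplicit false
universe u
open CategoryTheory CategoryTheory.Limits AlgebraicGeometry TopologicalSpace Opposite IsLocalRing

namespace Groth.Agent.Lib.Helper25.BertiniPn

open Groth.Agent.Lib.Helper29.QCoh Groth.Agent.Lib.Helper25.SepPts
open HomogeneousLocalization MvPolynomial

/-- Over an algebraically closed field, a scheme locally of finite type all of whose local rings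
are regular is smooth. -/
theorem smooth_of_regular (k : Type u) [Field k] [IsAlgClosed k] {X : Scheme.{u}}
    (f : X ⟶ Spec (CommRingCat.of k)) [LocallyOfFiniteType f]
    (hreg : ∀ x : X, IsRegularLocalRing (X.presheaf.stalk x)) : Smooth f := by
  have hsmloc : ∀ x : X, x ∈ f.smoothLocus := by
    intro x
    letI : Algebra k (X.presheaf.stalk x) :=
      (Groth.Agent.Lib.Helper25.GrpTangent.τ (f x) ≫ f.stalkMap x).hom.toAlgebra
    haveI := hreg x
    haveI : Algebra.IsGeometricallyReduced k (IsLocalRing.ResidueField (X.presheaf.stalk x)) :=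
      Groth.Agent.Lib.Helper25.NonsingOmega.isGeometricallyReduced_of_isAlgClosed k _
    exact Groth.Agent.Lib.Helper25.RegularSepSmooth.mem_smoothLocus_of_regular f x
      (RingHom.algebraMap_toAlgebra _)
  rw [← Scheme.Hom.smoothLocus_eq_top_iff]
  ext x
  simp only [hsmloc x, TopologicalSpace.Opens.coe_top, Set.mem_univ, SetLike.mem_coe]

variable (k : Type u) [Field k] (n : ℕ) {Z : Scheme.{u}} (ι : Z ⟶ Proj (CohB1.polyGrading n k))

/-- The chart of `X` over `D_+(X_j)`. -/
noncomputable abbrev VV (j : Fin (n + 1)) : Z.Opens := ι ⁻¹ᵁ chartU k n j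

theorem isAffineOpen_chartU (j : Fin (n + 1)) : IsAffineOpen (chartU k n j) :=
  Proj.isAffineOpen_basicOpen (CohB1.polyGrading n k) (X j) (isHomogeneous_X k j) one_pos

theorem isAffineOpen_VV [IsClosedImmersion ι] (j : Fin (n + 1)) : IsAffineOpen (VV k n ι j) := by
  haveI : IsAffineHom ι := (isClosedImmersion_iff_isAffineHom.mp ‹_›).1
  exact (isAffineOpen_chartU k n j).preimage ι

/-- The presentation of the coordinate ring of the chart. -/
noncomputable def ψψ (j : Fin (n + 1)) : MvPolynomial (Fin (n + 1)) k →+* Γ(Z, VV k n ι j) :=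
  (ι.app (chartU k n j)).hom.comp (chartHom' k n j)

theorem ψψ_surjective [IsClosedImmersion ι] (j : Fin (n + 1)) :
    Function.Surjective (ψψ k n ι j) := by
  unfold ψψ
  rw [RingHom.coe_comp]
  exact (ι.app_surjective _ (isAffineOpen_chartU k n j)).comp (chartHom'_surjective k n j)

theorem ψψ_X_self (j : Fin (n + 1)) : ψψ k n ι j (X j) = 1 := by
  unfold ψψ
  rw [RingHom.comp_apply, chartHom'_X, xx_self, map_one]

open Groth.Agent.Lib.Helper25.Bertini in
theorem ψψ_C (j : Fin (n + 1)) (μ : k) :
    ψψ k n ι j (C μ) = ρρ (ι ≫ CohB1.ProjSpace.toSpec n k) (VV k n ι j) μ := by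
  unfold ψψ ρρ
  rw [RingHom.comp_apply, chartHom'_C]
  unfold cc toGlobal' ProjUP.toGlobal Coh.toGlobal
  simp only [RingHom.comp_apply]
  rw [Scheme.Hom.comp_appTop]
  simp only [CommRingCat.hom_comp, RingHom.comp_apply]
  have := ι.naturality (homOfLE (le_top : chartU k n j ≤ ⊤)).op
  exact congrArg (fun φ => φ.hom ((CohB1.ProjSpace.toSpec n k).appTop.hom
    ((Scheme.ΓSpecIso (CommRingCat.of k)).inv.hom μ))) this

end Groth.Agent.Lib.Helper25.BertiniPn
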