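import Mathlib
import Groth.Agent.Lib.Helper25.BertiniJets3
set_option autoImplicit false
universe u
open CategoryTheory CategoryTheory.Limits AlgebraicGeometry TensorProduct

namespace Groth.Agent.Lib.Helper25.BertiniJets

section Core
open MvPolynomial
variable {k : Type u} [Field k] {A : Type u} [CommRing A] [Algebra k A] {m : ℕ}
  (a : Fin m → A) (f₀ : A)

theorem exists_derivation_of_mem_JU {N : ℕ} (Dt : Fin N → Derivation k A A)
    (q : MvPolynomial (Fin m) k) (hq : MvPolynomial.map (algebraMap k A) q ∈ JU a f₀ Dt)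
    (c : Fin m → k) (hc : MvPolynomial.eval c q ≠ 0) :
    ∃ D : Derivation k A A, D (Fc k a f₀ c) - 1 ∈ Ideal.span {Fc k a f₀ c} := by
  have h1 : algebraMap k A (MvPolynomial.eval c q) ∈
      Ideal.span (insert (Fc k a f₀ c) (Set.range fun t => Dt t (Fc k a f₀ c))) := by
    rw [← evc_map]
    have := Ideal.mem_map_of_mem (evc k c) hq
    rw [JU, Ideal.map_span] at this
    convert this using 2
    rw [Set.image_insert_eq, evc_FU, ← Set.range_comp]
    congr 1
    ext x
    simp only [Set.mem_range, Function.comp_apply, evc_GU]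
  have h2 : (1 : A) ∈
      Ideal.span (insert (Fc k a f₀ c) (Set.range fun t => Dt t (Fc k a f₀ c))) := by
    have hu : IsUnit (algebraMap k A (MvPolynomial.eval c q)) := (IsUnit.mk0 _ hc).map _
    exact (Ideal.eq_top_of_isUnit_mem _ h1 hu) ▸ Submodule.mem_top
  obtain ⟨r, z, hz, h3⟩ := Ideal.mem_span_insert.mp h2
  obtain ⟨rt, hrt⟩ := Ideal.mem_span_range_iff_exists_fun.mp hz
  refine ⟨∑ t, rt t • Dt t, ?_⟩
  have : (∑ t, rt t • Dt t : Derivation k A A) (Fc k a f₀ c) = z := by
    rw [← hrt]
    have : ∀ (S : Finset (Fin N)) (x : A),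
        (∑ t ∈ S, rt t • Dt t : Derivation k A A) x = ∑ t ∈ S, rt t * Dt t x := by
      intro S x
      classical
      induction S using Finset.induction_on with
      | empty => simp
      | insert t S ht ih => rw [Finset.sum_insert ht, Finset.sum_insert ht, Derivation.add_apply, ih]; rfl
    exact this _ _
  rw [this, h3]
  rw [Ideal.mem_span_singleton']
  exact ⟨-r, by ring⟩

end Core

section Affine
variable {k : Type u} [Field k] {A : Type u} [CommRing A] [Algebra k A] {n : ℕ}

/-- The affine linear form with coefficient vector `c`. -/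
noncomputable def ell (x : Fin n → A) (c : Fin (n + 1) → k) : A :=
  algebraMap k A (c 0) + ∑ i : Fin n, algebraMap k A (c i.succ) * x i

theorem D_aeval_mem_span {B : Type u} [CommRing B] [Algebra k B] (y : Fin n → B)
    (p : MvPolynomial (Fin n) k) :
    KaehlerDifferential.D k B (MvPolynomial.aeval y p) ∈
      Submodule.span B (Set.range fun i => KaehlerDifferential.D k B (y i)) := by
  induction p using MvPolynomial.induction_on with
  | C c =>
    rw [MvPolynomial.aeval_C, Derivation.map_algebraMap]
    exact Submodule.zero_mem _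
  | add p q hp hq => rw [map_add, map_add]; exact Submodule.add_mem _ hp hq
  | mul_X p i hp =>
    rw [map_mul, MvPolynomial.aeval_X, Derivation.leibniz]
    exact Submodule.add_mem _ (Submodule.smul_mem _ _ (Submodule.subset_span ⟨i, rfl⟩))
      (Submodule.smul_mem _ _ hp)

theorem span_D_eq_top_of_isLocalization (x : Fin n → A)
    (hx : Function.Surjective (MvPolynomial.aeval x : MvPolynomial (Fin n) k →ₐ[k] A))
    (f : A) (B : Type u) [CommRing B] [Algebra A B] [Algebra k B] [IsScalarTower k A B]
    [IsLocalization.Away f B] :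
    Submodule.span B (Set.range fun i => KaehlerDifferential.D k B (algebraMap A B (x i))) = ⊤ := by
  rw [eq_top_iff, ← KaehlerDifferential.span_range_map_derivation_of_isLocalization k A B
    (Submonoid.powers f), Submodule.span_le]
  rintro _ ⟨y, rfl⟩
  obtain ⟨p, rfl⟩ := hx y
  simp only [Function.comp_apply, KaehlerDifferential.map_D]
  have h1 : algebraMap A B (MvPolynomial.aeval x p) =
      MvPolynomial.aeval (fun i => algebraMap A B (x i)) p := by
    have : (IsScalarTower.toAlgHom k A B).comp (MvPolynomial.aeval x) =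
        MvPolynomial.aeval (fun i => algebraMap A B (x i)) := by
      apply MvPolynomial.algHom_ext
      intro i
      simp
    exact congrArg (fun φ : MvPolynomial (Fin n) k →ₐ[k] B => φ p) this
  rw [h1]
  exact D_aeval_mem_span _ p

theorem exists_poly_derivation (x : Fin n → A)
    (hx : Function.Surjective (MvPolynomial.aeval x : MvPolynomial (Fin n) k →ₐ[k] A))
    (f : A) (B : Type u) [CommRing B] [Algebra A B] [Algebra k B] [IsScalarTower k A B]
    [IsLocalization.Away f B] [Algebra.Smooth k B] :
    ∃ g : MvPolynomial (Fin (n + 1)) k, g ≠ 0 ∧ ∀ c : Fin (n + 1) → k,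
      MvPolynomial.eval c g ≠ 0 →
      ∃ D : Derivation k B B, D (algebraMap A B (ell x c)) - 1 ∈
        Ideal.span {algebraMap A B (ell x c)} := by
  let a : Fin (n + 1) → B := Fin.cons 1 (fun i => algebraMap A B (x i))
  have hΨ : Submodule.span B
      (Set.range fun i => ((a i, KaehlerDifferential.D k B (a i)) : B × Ω[B⁄k])) = ⊤ := by
    set T := Submodule.span B
      (Set.range fun i => ((a i, KaehlerDifferential.D k B (a i)) : B × Ω[B⁄k])) with hT
    have h2 : ((1, 0) : B × Ω[B⁄k]) ∈ T := by
      have : ((a 0, KaehlerDifferential.D k B (a 0)) : B × Ω[B⁄k]) ∈ T :=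
        Submodule.subset_span ⟨0, rfl⟩
      simpa [a] using this
    have h3 : ∀ i : Fin n,
        ((0, KaehlerDifferential.D k B (algebraMap A B (x i))) : B × Ω[B⁄k]) ∈ T := by
      intro i
      have h4 : ((a i.succ, KaehlerDifferential.D k B (a i.succ)) : B × Ω[B⁄k]) ∈ T :=
        Submodule.subset_span ⟨i.succ, rfl⟩
      have e : ((0, KaehlerDifferential.D k B (algebraMap A B (x i))) : B × Ω[B⁄k]) =
          (a i.succ, KaehlerDifferential.D k B (a i.succ)) -
            (algebraMap A B (x i)) • ((1, 0) : B × Ω[B⁄k]) := by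
        apply Prod.ext <;> simp [a, Algebra.smul_def]
      rw [e]
      exact Submodule.sub_mem _ h4 (Submodule.smul_mem _ _ h2)
    rw [eq_top_iff]
    rintro ⟨b, ω⟩ -
    have e : ((b, ω) : B × Ω[B⁄k]) = b • ((1, 0) : B × Ω[B⁄k]) + (0, ω) := by
      apply Prod.ext <;> simp
    rw [e]
    refine Submodule.add_mem _ (Submodule.smul_mem _ _ h2) ?_
    have hω : ω ∈ Submodule.span B
        (Set.range fun i => KaehlerDifferential.D k B (algebraMap A B (x i))) := by
      rw [span_D_eq_top_of_isLocalization x hx f B]; trivial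
    have : Submodule.map (LinearMap.inr B B Ω[B⁄k])
        (Submodule.span B (Set.range fun i => KaehlerDifferential.D k B (algebraMap A B (x i)))) ≤
        T := by
      rw [Submodule.map_span, Submodule.span_le]
      rintro _ ⟨_, ⟨i, rfl⟩, rfl⟩
      exact h3 i
    exact this ⟨ω, hω, rfl⟩
  haveI : Module.Finite B Ω[B⁄k] := inferInstance
  haveI : Module.Projective B Ω[B⁄k] := inferInstance
  obtain ⟨N, fΩ, gΩ, -, -, hfg⟩ := Module.Finite.exists_comp_eq_id_of_projective B Ω[B⁄k]
  obtain ⟨q, hq0, hq⟩ := exists_ne_zero_map_mem_JU a 0 hΨ fΩ gΩ hfg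
  refine ⟨q, hq0, fun c hc => ?_⟩
  obtain ⟨D, hD⟩ := exists_derivation_of_mem_JU a 0 _ q hq c hc
  have hFc : Fc k a 0 c = algebraMap A B (ell x c) := by
    simp only [Fc, ell, zero_add, Fin.sum_univ_succ, a, Fin.cons_zero, Fin.cons_succ, mul_one,
      map_add, map_sum, map_mul, ← IsScalarTower.algebraMap_apply]
  rw [hFc] at hD
  exact ⟨D, hD⟩

end Affine

end Groth.Agent.Lib.Helper25.BertiniJets
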