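import Mathlib
import Groth.Agent.Lib.Helper25.BertiniJets5
import Groth.Agent.Lib.Helper12.RegularQuot
set_option autoImplicit false
universe u
open CategoryTheory CategoryTheory.Limits AlgebraicGeometry TensorProduct

namespace Groth.Agent.Lib.Helper25.BertiniPn

open Groth.Agent.Lib.Helper25.BertiniJets

/-- Ring-level Bertini for a smooth algebra generated by sections `y i`, one of which is `1`. -/
theorem exists_poly_derivation' {k A : Type u} [Field k] [CommRing A] [Algebra k A]
    [Algebra.Smooth k A] {m : ℕ} (y : Fin m → A) (j₀ : Fin m) (hy1 : y j₀ = 1)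
    (hy : Function.Surjective (MvPolynomial.aeval y : MvPolynomial (Fin m) k →ₐ[k] A)) :
    ∃ g : MvPolynomial (Fin m) k, g ≠ 0 ∧ ∀ c : Fin m → k, MvPolynomial.eval c g ≠ 0 →
      ∃ D : Derivation k A A, D (∑ i, algebraMap k A (c i) * y i) - 1 ∈
        Ideal.span {∑ i, algebraMap k A (c i) * y i} := by
  have hΩ : Submodule.span A (Set.range fun i => KaehlerDifferential.D k A (y i)) = ⊤ := by
    rw [eq_top_iff, ← KaehlerDifferential.span_range_derivation k A, Submodule.span_le]
    rintro _ ⟨b, rfl⟩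
    obtain ⟨p, rfl⟩ := hy b
    exact D_aeval_mem_span y p
  have hΨ : Submodule.span A
      (Set.range fun i => ((y i, KaehlerDifferential.D k A (y i)) : A × Ω[A⁄k])) = ⊤ := by
    set T := Submodule.span A
      (Set.range fun i => ((y i, KaehlerDifferential.D k A (y i)) : A × Ω[A⁄k])) with hT
    have h2 : ((1, 0) : A × Ω[A⁄k]) ∈ T := by
      have : ((y j₀, KaehlerDifferential.D k A (y j₀)) : A × Ω[A⁄k]) ∈ T :=
        Submodule.subset_span ⟨j₀, rfl⟩
      rwa [hy1, Derivation.map_one_eq_zero] at this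
    have h3 : ∀ i, ((0, KaehlerDifferential.D k A (y i)) : A × Ω[A⁄k]) ∈ T := by
      intro i
      have h4 : ((y i, KaehlerDifferential.D k A (y i)) : A × Ω[A⁄k]) ∈ T :=
        Submodule.subset_span ⟨i, rfl⟩
      have e : ((0, KaehlerDifferential.D k A (y i)) : A × Ω[A⁄k]) =
          (y i, KaehlerDifferential.D k A (y i)) - (y i) • ((1, 0) : A × Ω[A⁄k]) := by
        apply Prod.ext <;> simp
      rw [e]
      exact Submodule.sub_mem _ h4 (Submodule.smul_mem _ _ h2)
    rw [eq_top_iff]
    rintro ⟨b, ω⟩ -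
    have e : ((b, ω) : A × Ω[A⁄k]) = b • ((1, 0) : A × Ω[A⁄k]) + (0, ω) := by
      apply Prod.ext <;> simp
    rw [e]
    refine Submodule.add_mem _ (Submodule.smul_mem _ _ h2) ?_
    have hω : ω ∈ Submodule.span A (Set.range fun i => KaehlerDifferential.D k A (y i)) := by
      rw [hΩ]; trivial
    have : Submodule.map (LinearMap.inr A A Ω[A⁄k])
        (Submodule.span A (Set.range fun i => KaehlerDifferential.D k A (y i))) ≤ T := by
      rw [Submodule.map_span, Submodule.span_le]
      rintro _ ⟨_, ⟨i, rfl⟩, rfl⟩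
      exact h3 i
    exact this ⟨ω, hω, rfl⟩
  haveI : Module.Finite A Ω[A⁄k] := inferInstance
  haveI : Module.Projective A Ω[A⁄k] := inferInstance
  obtain ⟨N, fΩ, gΩ, -, -, hfg⟩ := Module.Finite.exists_comp_eq_id_of_projective A Ω[A⁄k]
  obtain ⟨q, hq0, hq⟩ := exists_ne_zero_map_mem_JU y 0 hΨ fΩ gΩ hfg
  refine ⟨q, hq0, fun c hc => ?_⟩
  obtain ⟨D, hD⟩ := exists_derivation_of_mem_JU y 0 _ q hq c hc
  have hFc : Fc k y 0 c = ∑ i, algebraMap k A (c i) * y i := by
    simp only [Fc, zero_add]
  rw [hFc] at hD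
  exact ⟨D, hD⟩

theorem not_mem_sq_of_derivation {k R : Type*} [CommRing k] [CommRing R] [Algebra k R]
    (D : Derivation k R R) (ℓ : R) (hD : D ℓ - 1 ∈ Ideal.span {ℓ}) (𝔪 : Ideal R)
    (h𝔪 : 𝔪 ≠ ⊤) (hℓ : ℓ ∈ 𝔪) : ℓ ∉ 𝔪 ^ 2 := by
  intro h2
  have h3 : D ℓ ∈ 𝔪 := by
    rw [pow_two] at h2
    refine Submodule.mul_induction_on h2 (fun a ha b hb => ?_) (fun a b ha hb => ?_)
    · rw [Derivation.leibniz]
      exact 𝔪.add_mem (𝔪.mul_mem_right _ ha) (𝔪.mul_mem_right _ hb)
    · rw [map_add]; exact 𝔪.add_mem ha hb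
  have h4 : D ℓ - 1 ∈ 𝔪 := ((Ideal.span_singleton_le_iff_mem (I := 𝔪)).mpr hℓ) hD
  have h5 : (1 : R) ∈ 𝔪 := by
    have := 𝔪.sub_mem h3 h4
    simpa using this
  exact h𝔪 ((Ideal.eq_top_iff_one 𝔪).mpr h5)

/-- A nonzero polynomial whose nonvanishing avoids a proper subspace. -/
theorem exists_linear_poly {k : Type*} [Field k] {m : ℕ} (W : Submodule k (Fin m → k))
    (hW : W ≠ ⊤) :
    ∃ lam : MvPolynomial (Fin m) k, lam ≠ 0 ∧ ∀ a : Fin m → k, MvPolynomial.eval a lam ≠ 0 →
      a ∉ W := by
  obtain ⟨φ, hφ0, hφW⟩ := Submodule.exists_le_ker_of_lt_top W (lt_top_iff_ne_top.mpr hW)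
  refine ⟨∑ i, MvPolynomial.C (φ (Pi.single i 1)) * MvPolynomial.X i, ?_, ?_⟩
  · intro h0
    apply hφ0
    apply LinearMap.ext
    intro a
    have h1 := congrArg (MvPolynomial.eval a) h0
    simp only [map_sum, map_mul, MvPolynomial.eval_C, MvPolynomial.eval_X, map_zero] at h1
    have h2 : a = ∑ i, a i • (Pi.single i 1 : Fin m → k) := by
      ext j
      simp [Finset.sum_apply, Pi.single_apply]
    rw [h2, map_sum]
    simp only [map_smul, smul_eq_mul, LinearMap.zero_apply]
    rw [← h1]
    exact Finset.sum_congr rfl fun i _ => mul_comm _ _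
  · intro a ha haW
    apply ha
    have h1 : φ a = 0 := LinearMap.mem_ker.mp (hφW haW)
    simp only [map_sum, map_mul, MvPolynomial.eval_C, MvPolynomial.eval_X]
    have h2 : a = ∑ i, a i • (Pi.single i 1 : Fin m → k) := by
      ext j
      simp [Finset.sum_apply, Pi.single_apply]
    rw [h2, map_sum] at h1
    simp only [map_smul, smul_eq_mul] at h1
    rw [← h1]
    exact Finset.sum_congr rfl fun i _ => mul_comm _ _

theorem eq_sum_of_isHomogeneous_one {k : Type*} [CommRing k] {m : ℕ}
    (h : MvPolynomial (Fin m) k) (hh : h.IsHomogeneous 1) :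
    h = ∑ i, MvPolynomial.C (MvPolynomial.coeff (Finsupp.single i 1) h) * MvPolynomial.X i := by
  classical
  ext d
  rw [MvPolynomial.coeff_sum]
  simp only [MvPolynomial.coeff_C_mul, MvPolynomial.coeff_X]
  by_cases hd : ∃ i, Finsupp.single i 1 = d
  · obtain ⟨i, rfl⟩ := hd
    rw [Finset.sum_eq_single i]
    · simp
    · intro j _ hji
      have : Finsupp.single j 1 ≠ Finsupp.single i 1 := by
        intro heq
        apply hji
        have := Finsupp.single_left_injective (one_ne_zero) heq
        exact this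
      simp [this]
    · intro hi; exact absurd (Finset.mem_univ i) hi
  · push Not at hd
    have h0 : MvPolynomial.coeff d h = 0 := by
      by_contra hne
      have hdeg := hh hne
      -- degree of d is 1 so d is a single
      have : ∃ i, Finsupp.single i 1 = d := by
        rw [Finsupp.weight_apply] at hdeg
        simp only [Pi.one_apply, smul_eq_mul, mul_one] at hdeg
        have hsum : d.sum (fun _ e => e) = 1 := hdeg
        rw [Finsupp.sum] at hsum
        obtain ⟨i, hi, hi1⟩ : ∃ i ∈ d.support, d i = 1 ∧ ∀ j ∈ d.support, j ≠ i → d j = 0 := by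
          have hpos : ∃ i ∈ d.support, 0 < d i := by
            by_contra hcon
            push Not at hcon
            have : ∑ i ∈ d.support, d i = 0 :=
              Finset.sum_eq_zero fun i hi => Nat.le_zero.mp (hcon i hi)
            omega
          obtain ⟨i, hi, hipos⟩ := hpos
          refine ⟨i, hi, ?_⟩
          have hsplit := Finset.add_sum_erase d.support (fun i => d i) hi
          have hrest : ∀ j ∈ d.support.erase i, 0 ≤ d j := fun j _ => Nat.zero_le _
          have hle : d i ≤ 1 := by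
            rw [← hsum, ← hsplit]; exact Nat.le_add_right _ _
          have hdi : d i = 1 := by omega
          refine ⟨hdi, fun j hj hji => ?_⟩
          have hrest0 : ∑ j ∈ d.support.erase i, d j = 0 := by omega
          exact (Finset.sum_eq_zero_iff.mp hrest0) j (Finset.mem_erase.mpr ⟨hji, hj⟩)
        refine ⟨i, ?_⟩
        ext j
        by_cases hji : j = i
        · subst hji; simp [hi1.1]
        · rw [Finsupp.single_apply, if_neg (Ne.symm hji)]
          by_cases hj : j ∈ d.support
          · exact (hi1.2 j hj hji).symm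
          · exact (Finsupp.notMem_support_iff.mp hj).symm
      obtain ⟨i, hi⟩ := this
      exact hd i hi
    rw [h0]
    symm
    apply Finset.sum_eq_zero
    intro i _
    simp [hd i]

end Groth.Agent.Lib.Helper25.BertiniPn
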