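import Mathlib
import Groth.Agent.Lib.Helper25.BertiniPn1
import Groth.Agent.Lib.Helper25.BertiniPn2
import Groth.Agent.Lib.Helper25.BertiniPn3
import Groth.Agent.Lib.Helper25.BertiniJets4
import Groth.Agent.Lib.Helper29.VA7
set_option autoImplicit false
universe u
open CategoryTheory CategoryTheory.Limits AlgebraicGeometry TopologicalSpace Opposite IsLocalRing

namespace Groth.Agent.Lib.Helper25.BertiniPn

open Groth.Agent.Lib.Helper29.QCoh Groth.Agent.Lib.Helper25.SepPts
open Groth.Agent.Lib.Helper25.Bertini Groth.Agent.Lib.Helper25.BertiniJets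
open HomogeneousLocalization MvPolynomial

theorem isRegularLocalRing_quotient_germ {Z : Scheme.{u}} {V : Z.Opens} (hV : IsAffineOpen V)
    (x : Z) (hxV : x ∈ V) (hx : IsClosed ({x} : Set Z))
    [IsRegularLocalRing (Z.presheaf.stalk x)] {k : Type*} [CommRing k] [Algebra k Γ(Z, V)]
    (D : Derivation k Γ(Z, V) Γ(Z, V)) (ℓ : Γ(Z, V)) (hD : D ℓ - 1 ∈ Ideal.span {ℓ})
    (hℓ : Z.presheaf.germ V x hxV ℓ ∈ maximalIdeal (Z.presheaf.stalk x)) :
    IsRegularLocalRing (Z.presheaf.stalk x ⧸ Ideal.span {Z.presheaf.germ V x hxV ℓ}) := by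
  haveI hmax := hV.primeIdealOf_isMaximal_of_isClosed ⟨x, hxV⟩ hx
  letI : Algebra Γ(Z, V) (Z.presheaf.stalk x) :=
    TopCat.Presheaf.algebra_section_stalk Z.presheaf ⟨x, hxV⟩
  haveI := hV.isLocalization_stalk ⟨x, hxV⟩
  have hℓ𝔪 : ℓ ∈ (hV.primeIdealOf ⟨x, hxV⟩).asIdeal :=
    (IsLocalization.AtPrime.to_map_mem_maximal_iff (Z.presheaf.stalk x)
      (hV.primeIdealOf ⟨x, hxV⟩).asIdeal ℓ).mp hℓ
  have h2 : ℓ ∉ (hV.primeIdealOf ⟨x, hxV⟩).asIdeal ^ 2 :=
    not_mem_sq_of_derivation D ℓ hD _ hmax.ne_top hℓ𝔪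
  apply Groth.Agent.Lib.Helper12.isRegularLocalRing_quotient_singleton hℓ
  intro h3
  exact h2 (mem_sq_of_algebraMap_mem_sq (hV.primeIdealOf ⟨x, hxV⟩).asIdeal
    (Z.presheaf.stalk x) ℓ h3)

variable (k : Type u) [Field k] (n : ℕ) {Z : Scheme.{u}} (ι : Z ⟶ Proj (CohB1.polyGrading n k))

theorem chart_regular [IsClosedImmersion ι] [Smooth (ι ≫ CohB1.ProjSpace.toSpec n k)]
    (j : Fin (n + 1)) :
    ∃ g : MvPolynomial (Fin (n + 1)) k, g ≠ 0 ∧ ∀ c : Fin (n + 1) → k,
      MvPolynomial.eval c g ≠ 0 →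
      ∀ (x : Z) (hxV : x ∈ VV k n ι j), IsClosed ({x} : Set Z) →
        IsRegularLocalRing (Z.presheaf.stalk x) →
        Z.presheaf.germ (VV k n ι j) x hxV (ψψ k n ι j (∑ i, C (c i) * X i)) ∈
          maximalIdeal (Z.presheaf.stalk x) →
        IsRegularLocalRing (Z.presheaf.stalk x ⧸
          Ideal.span {Z.presheaf.germ (VV k n ι j) x hxV (ψψ k n ι j (∑ i, C (c i) * X i))}) := by
  letI alg : Algebra k Γ(Z, VV k n ι j) :=
    (ρρ (ι ≫ CohB1.ProjSpace.toSpec n k) (VV k n ι j)).toAlgebra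
  haveI : Algebra.Smooth k Γ(Z, VV k n ι j) := by
    have h1 : Smooth ((isAffineOpen_VV k n ι j).fromSpec ≫ (ι ≫ CohB1.ProjSpace.toSpec n k)) :=
      inferInstance
    rw [fromSpec_comp_eq, HasRingHomProperty.Spec_iff (P := @Smooth)] at h1
    exact h1
  let y : Fin (n + 1) → Γ(Z, VV k n ι j) := fun i => ψψ k n ι j (X i)
  have hae : ∀ p : MvPolynomial (Fin (n + 1)) k, MvPolynomial.aeval y p = ψψ k n ι j p := by
    intro p
    induction p using MvPolynomial.induction_on with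
    | C μ => rw [aeval_C, ψψ_C]; rfl
    | add p q hp hq => rw [map_add, map_add, hp, hq]
    | mul_X p i hp => rw [map_mul, map_mul, hp, aeval_X]
  have hy : Function.Surjective
      (MvPolynomial.aeval y : MvPolynomial (Fin (n + 1)) k →ₐ[k] Γ(Z, VV k n ι j)) := by
    intro b
    obtain ⟨p, rfl⟩ := ψψ_surjective k n ι j b
    exact ⟨p, hae p⟩
  obtain ⟨g, hg0, hg⟩ := exists_poly_derivation' y j (ψψ_X_self k n ι j) hy
  refine ⟨g, hg0, fun c hc x hxV hx hregx hℓ => ?_⟩
  obtain ⟨D, hD⟩ := hg c hc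
  have hℓeq : ψψ k n ι j (∑ i, C (c i) * X i) =
      ∑ i, algebraMap k Γ(Z, VV k n ι j) (c i) * y i := by
    rw [map_sum]
    refine Finset.sum_congr rfl fun i _ => ?_
    rw [map_mul, ψψ_C]
    rfl
  rw [← hℓeq] at hD
  haveI := hregx
  exact isRegularLocalRing_quotient_germ (isAffineOpen_VV k n ι j) x hxV hx D _ hD hℓ


theorem stalkIso'_symm_mk_mem_maximalIdeal (j : Fin (n + 1)) (h : ↥(CohB1.polyGrading n k 1))
    (y : Proj (CohB1.polyGrading n k))
    (hj : (X j : MvPolynomial (Fin (n + 1)) k) ∉ y.asHomogeneousIdeal)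
    (hh : (h : MvPolynomial (Fin (n + 1)) k) ∈ y.asHomogeneousIdeal) :
    (Proj.stalkIso' (CohB1.polyGrading n k) y).symm
      (HomogeneousLocalization.mk ⟨1, h, ⟨X j, isHomogeneous_X k j⟩, hj⟩) ∈
      maximalIdeal ((Proj (CohB1.polyGrading n k)).presheaf.stalk y) := by
  by_contra hcon
  have hu := (IsLocalRing.notMem_maximalIdeal
    (R := (Proj (CohB1.polyGrading n k)).presheaf.stalk y)).mp hcon
  have hu' : IsUnit ((Proj.stalkIso' (CohB1.polyGrading n k) y)
      ((Proj.stalkIso' (CohB1.polyGrading n k) y).symm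
        (HomogeneousLocalization.mk ⟨1, h, ⟨X j, isHomogeneous_X k j⟩, hj⟩))) :=
    hu.map (Proj.stalkIso' (CohB1.polyGrading n k) y).toRingHom
  rw [RingEquiv.apply_symm_apply] at hu'
  rw [← HomogeneousLocalization.isUnit_iff_isUnit_val, HomogeneousLocalization.val_mk,
    Localization.mk_eq_mk', IsLocalization.AtPrime.isUnit_mk'_iff] at hu'
  exact hu' hh


theorem bertini_pn [IsAlgClosed k] [IsIntegral Z] [IsClosedImmersion ι]
    (hreg : ∀ x : Z, IsRegularLocalRing (Z.presheaf.stalk x)) :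
    ∃ g : MvPolynomial (Fin (n + 1)) k, g ≠ 0 ∧
      ∀ h : ↥(CohB1.polyGrading n k 1),
        MvPolynomial.eval (fun i => MvPolynomial.coeff (Finsupp.single i 1)
          (h : MvPolynomial (Fin (n + 1)) k)) g ≠ 0 →
          (∃ x : Z, (h : MvPolynomial (Fin (n + 1)) k) ∉ (ι.base x).asHomogeneousIdeal) ∧
          ∀ x : Z, IsClosed ({x} : Set Z) →
            (h : MvPolynomial (Fin (n + 1)) k) ∈ (ι.base x).asHomogeneousIdeal →
            ∀ (j : Fin (n + 1))
              (hj : (MvPolynomial.X j : MvPolynomial (Fin (n + 1)) k) ∉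
                (ι.base x).asHomogeneousIdeal),
              IsRegularLocalRing (Z.presheaf.stalk x ⧸ Ideal.span
                {(ι.stalkMap x).hom ((Proj.stalkIso' (CohB1.polyGrading n k) (ι.base x)).symm
                  (HomogeneousLocalization.mk
                    ⟨1, h, ⟨MvPolynomial.X j, MvPolynomial.isHomogeneous_X k j⟩, hj⟩))}) := by
  haveI h0 : LocallyOfFiniteType (CohB1.ProjSpace.toSpec n k) := inferInstance
  haveI h1 : LocallyOfFiniteType ι := inferInstance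
  haveI : LocallyOfFiniteType (ι ≫ CohB1.ProjSpace.toSpec n k) :=
    MorphismProperty.comp_mem (W := @LocallyOfFiniteType) ι _ h1 h0
  haveI : Smooth (ι ≫ CohB1.ProjSpace.toSpec n k) := smooth_of_regular k _ hreg
  choose G hG0 hG using fun j => chart_regular k n ι j
  -- the hyperplanes not containing a chosen point
  obtain ⟨x₀⟩ : Nonempty Z := inferInstance
  let L : (Fin (n + 1) → k) →ₗ[k] MvPolynomial (Fin (n + 1)) k :=
    ∑ i, (LinearMap.proj i).smulRight (X i : MvPolynomial (Fin (n + 1)) k)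
  have hL : ∀ a, L a = ∑ i, C (a i) * X i := by
    intro a
    simp only [L, LinearMap.sum_apply, LinearMap.smulRight_apply, LinearMap.proj_apply,
      MvPolynomial.smul_eq_C_mul]
  let W : Submodule k (Fin (n + 1) → k) :=
    Submodule.comap L ((ι.base x₀).asHomogeneousIdeal.toIdeal.restrictScalars k)
  have hW : W ≠ ⊤ := by
    intro hW
    obtain ⟨j₀, hj₀⟩ := exists_mem_basicOpen_X n k (ι.base x₀)
    apply hj₀
    have h1 : (Pi.single j₀ 1 : Fin (n + 1) → k) ∈ W := by rw [hW]; trivial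
    have h2 : L (Pi.single j₀ 1) ∈ (ι.base x₀).asHomogeneousIdeal.toIdeal := h1
    rw [hL, Finset.sum_eq_single j₀] at h2
    · simpa using h2
    · intro i _ hi
      rw [Pi.single_eq_of_ne hi, map_zero, zero_mul]
    · intro hj; exact absurd (Finset.mem_univ j₀) hj
  obtain ⟨lam, hlam0, hlam⟩ := exists_linear_poly W hW
  refine ⟨lam * ∏ j, G j, mul_ne_zero hlam0 (Finset.prod_ne_zero_iff.mpr fun j _ => hG0 j),
    fun h hh => ?_⟩
  rw [map_mul, map_prod] at hh
  have hh1 := left_ne_zero_of_mul hh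
  have hh2 := Finset.prod_ne_zero_iff.mp (right_ne_zero_of_mul hh)
  set a : Fin (n + 1) → k := fun i => MvPolynomial.coeff (Finsupp.single i 1)
    (h : MvPolynomial (Fin (n + 1)) k) with ha
  have hhom : (h : MvPolynomial (Fin (n + 1)) k).IsHomogeneous 1 :=
    (MvPolynomial.mem_homogeneousSubmodule 1 _).mp h.2
  have hsum : (h : MvPolynomial (Fin (n + 1)) k) = ∑ i, C (a i) * X i :=
    eq_sum_of_isHomogeneous_one _ hhom
  refine ⟨⟨x₀, fun hmem => hlam a hh1 ?_⟩, fun x hx hxh j hj => ?_⟩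
  · change L a ∈ (ι.base x₀).asHomogeneousIdeal.toIdeal
    rw [hL, ← hsum]
    exact hmem
  · have hxV : x ∈ VV k n ι j := hj
    have key : (ι.stalkMap x).hom ((Proj.stalkIso' (CohB1.polyGrading n k) (ι.base x)).symm
        (HomogeneousLocalization.mk
          ⟨1, h, ⟨MvPolynomial.X j, MvPolynomial.isHomogeneous_X k j⟩, hj⟩)) =
        Z.presheaf.germ (VV k n ι j) x hxV (ψψ k n ι j (∑ i, C (a i) * X i)) := by
      rw [stalkIso'_symm_mk_eq_germ k n j h (ι.base x) hj]
      rw [← hsum]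
      exact Scheme.Hom.germ_stalkMap_apply ι (chartU k n j) x hj _
    have hmem : Z.presheaf.germ (VV k n ι j) x hxV (ψψ k n ι j (∑ i, C (a i) * X i)) ∈
        maximalIdeal (Z.presheaf.stalk x) := by
      rw [← key]
      exact (map_mem_maximalIdeal_iff (ι.stalkMap x).hom _).mpr
        (stalkIso'_symm_mk_mem_maximalIdeal k n j h (ι.base x) hj hxh)
    rw [key]
    exact hG j a (hh2 j (Finset.mem_univ j)) x hxV hx (hreg x) hmem

end Groth.Agent.Lib.Helper25.BertiniPn
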