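import Mathlib
import Groth.Agent.Lib.Helper25.BertiniPn4
import Groth.Agent.Lib.Helper25.BertiniJets7
import Groth.Agent.Lib.Helper1.IdealSheafComap
set_option autoImplicit false
universe u
open CategoryTheory CategoryTheory.Limits AlgebraicGeometry TopologicalSpace Opposite IsLocalRing

namespace Groth.Agent.Lib.Helper25.BertiniPn

open Groth.Agent.Lib.Helper29.QCoh Groth.Agent.Lib.Helper25.SepPts
open Groth.Agent.Lib.Helper25.Bertini Groth.Agent.Lib.Helper25.BertiniJets
open HomogeneousLocalization MvPolynomial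

variable (k : Type u) [Field k] (n : ℕ)

theorem isUnit_stalkIso'_symm_mk_iff (j : Fin (n + 1)) (h : ↥(CohB1.polyGrading n k 1))
    (y : Proj (CohB1.polyGrading n k))
    (hj : (X j : MvPolynomial (Fin (n + 1)) k) ∉ y.asHomogeneousIdeal) :
    IsUnit ((Proj.stalkIso' (CohB1.polyGrading n k) y).symm
      (HomogeneousLocalization.mk ⟨1, h, ⟨X j, isHomogeneous_X k j⟩, hj⟩)) ↔
      (h : MvPolynomial (Fin (n + 1)) k) ∉ y.asHomogeneousIdeal := by
  constructor
  · intro hu
    have hu' : IsUnit ((Proj.stalkIso' (CohB1.polyGrading n k) y)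
        ((Proj.stalkIso' (CohB1.polyGrading n k) y).symm
          (HomogeneousLocalization.mk ⟨1, h, ⟨X j, isHomogeneous_X k j⟩, hj⟩))) :=
      hu.map (Proj.stalkIso' (CohB1.polyGrading n k) y).toRingHom
    rw [RingEquiv.apply_symm_apply] at hu'
    rw [← HomogeneousLocalization.isUnit_iff_isUnit_val, HomogeneousLocalization.val_mk,
      Localization.mk_eq_mk', IsLocalization.AtPrime.isUnit_mk'_iff] at hu'
    exact hu'
  · intro hh
    have hu' : IsUnit (HomogeneousLocalization.mk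
        (𝒜 := CohB1.polyGrading n k) (x := y.asHomogeneousIdeal.toIdeal.primeCompl)
        ⟨1, h, ⟨X j, isHomogeneous_X k j⟩, hj⟩) := by
      rw [← HomogeneousLocalization.isUnit_iff_isUnit_val, HomogeneousLocalization.val_mk,
        Localization.mk_eq_mk', IsLocalization.AtPrime.isUnit_mk'_iff]
      exact hh
    exact hu'.map (Proj.stalkIso' (CohB1.polyGrading n k) y).symm.toRingHom

theorem aa_eq_chartHom' (j : Fin (n + 1)) (c : Fin (n + 1) → k) :
    aa k n j c = chartHom' k n j (∑ i, C (c i) * X i) := by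
  unfold aa
  rw [map_sum]
  refine Finset.sum_congr rfl fun i _ => ?_
  rw [map_mul, chartHom'_C, chartHom'_X]

/-- The section of `O(1)` attached to a linear form. -/
noncomputable def linSec (c : Fin (n + 1) → k) :
    unitM (Proj (CohB1.polyGrading n k)) ⟶ Twist.twist (CohB1.polyGrading n k) 1 :=
  homOfSection (Twist.twist (CohB1.polyGrading n k) 1) (linForm k n c)

theorem zeroScheme_ideal_chartU (c : Fin (n + 1) → k) (j : Fin (n + 1)) :
    (PicF2.zeroScheme _ (linSec k n c)).ideal ⟨chartU k n j, isAffineOpen_chartU k n j⟩ =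
      Ideal.span {aa k n j c} := by
  refine Groth.Agent.Lib.Helper29.ZeroSch.zeroScheme_ideal_of_isTriv
    (isInvertible_twist_projSpace n k 1) (linSec k n c) (isAffineOpen_chartU k n j)
    (isTriv_oneSecOn (CohB1.polyGrading n k) (Xi n k j) (chartU k n j) le_rfl) (aa k n j c) ?_
  unfold linSec
  rw [sval_homOfSection]
  exact res_linForm k n j c

theorem linForm_isHomogeneous (c : Fin (n + 1) → k) :
    (∑ i, C (c i) * X i : MvPolynomial (Fin (n + 1)) k) ∈ CohB1.polyGrading n k 1 := by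
  refine Submodule.sum_mem _ fun i _ => ?_
  have h1 : (C (c i) * X i : MvPolynomial (Fin (n + 1)) k) = c i • X i := by
    rw [MvPolynomial.smul_eq_C_mul]
  rw [h1]
  exact Submodule.smul_mem _ _ (isHomogeneous_X k i)

theorem not_mem_support_zeroScheme (c : Fin (n + 1) → k) (y : Proj (CohB1.polyGrading n k))
    (hy : (∑ i, C (c i) * X i : MvPolynomial (Fin (n + 1)) k) ∉ y.asHomogeneousIdeal) :
    y ∉ (PicF2.zeroScheme _ (linSec k n c)).support := by
  obtain ⟨j, hj⟩ := exists_mem_basicOpen_X n k y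
  have hjU : y ∈ chartU k n j := hj
  intro hsupp
  rw [Scheme.IdealSheafData.mem_support_iff_of_mem
    (U := ⟨chartU k n j, isAffineOpen_chartU k n j⟩) hjU, zeroScheme_ideal_chartU,
    Scheme.mem_zeroLocus_iff] at hsupp
  apply hsupp (aa k n j c) (Ideal.subset_span rfl)
  rw [Scheme.mem_basicOpen _ _ _ hjU, aa_eq_chartHom']
  have h1 := stalkIso'_symm_mk_eq_germ k n j ⟨_, linForm_isHomogeneous k n c⟩ y hj
  rw [← h1]
  exact (isUnit_stalkIso'_symm_mk_iff k n j ⟨_, linForm_isHomogeneous k n c⟩ y hj).mpr hy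

variable {Z : Scheme.{u}} (ι : Z ⟶ Proj (CohB1.polyGrading n k))

theorem chart_smooth [IsClosedImmersion ι] [Smooth (ι ≫ CohB1.ProjSpace.toSpec n k)]
    (j : Fin (n + 1)) :
    ∃ g : MvPolynomial (Fin (n + 1)) k, g ≠ 0 ∧ ∀ c : Fin (n + 1) → k,
      MvPolynomial.eval c g ≠ 0 →
      ∀ K : Z.IdealSheafData,
        K.ideal ⟨VV k n ι j, isAffineOpen_VV k n ι j⟩ =
          Ideal.span {ψψ k n ι j (∑ i, C (c i) * X i)} →
        Smooth (K.subschemeCover.f ⟨VV k n ι j, isAffineOpen_VV k n ι j⟩ ≫ K.subschemeι ≫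
          ι ≫ CohB1.ProjSpace.toSpec n k) := by
  letI alg : Algebra k Γ(Z, VV k n ι j) :=
    (ρρ (ι ≫ CohB1.ProjSpace.toSpec n k) (VV k n ι j)).toAlgebra
  haveI : Algebra.Smooth k Γ(Z, VV k n ι j) := by
    have h1 : Smooth ((isAffineOpen_VV k n ι j).fromSpec ≫ (ι ≫ CohB1.ProjSpace.toSpec n k)) :=
      inferInstance
    rw [fromSpec_comp_eq, HasRingHomProperty.Spec_iff (P := @Smooth)] at h1
    exact h1
  let y : Fin (n + 1) → Γ(Z, VV k n ι j) := fun i => ψψ k n ι j (X i)
  have hae : ∀ p : MvPolynomial (Fin (n + 1)) k, MvPolynomial.aeval y p = ψψ k n ι j p := by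
    intro p
    induction p using MvPolynomial.induction_on with
    | C μ => rw [aeval_C, ψψ_C]; rfl
    | add p q hp hq => rw [map_add, map_add, hp, hq]
    | mul_X p i hp => rw [map_mul, map_mul, hp, aeval_X]
  have hy : Function.Surjective
      (MvPolynomial.aeval y : MvPolynomial (Fin (n + 1)) k →ₐ[k] Γ(Z, VV k n ι j)) := by
    intro b
    obtain ⟨p, rfl⟩ := ψψ_surjective k n ι j b
    exact ⟨p, hae p⟩
  obtain ⟨g, hg0, hg⟩ := exists_poly_derivation' y j (ψψ_X_self k n ι j) hy
  refine ⟨g, hg0, fun c hc K hK => ?_⟩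
  obtain ⟨D, hD⟩ := hg c hc
  have hℓeq : ψψ k n ι j (∑ i, C (c i) * X i) =
      ∑ i, algebraMap k Γ(Z, VV k n ι j) (c i) * y i := by
    rw [map_sum]
    refine Finset.sum_congr rfl fun i _ => ?_
    rw [map_mul, ψψ_C]
    rfl
  rw [← hℓeq] at hD
  have hsm : Algebra.Smooth k (Γ(Z, VV k n ι j) ⧸
      K.ideal ⟨VV k n ι j, isAffineOpen_VV k n ι j⟩) :=
    smooth_quotient_of_derivation _ D hD _ hK
  have heq : K.subschemeCover.f ⟨VV k n ι j, isAffineOpen_VV k n ι j⟩ ≫ K.subschemeι ≫
      (ι ≫ CohB1.ProjSpace.toSpec n k) =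
      Spec.map (CommRingCat.ofHom (algebraMap k (Γ(Z, VV k n ι j) ⧸
        K.ideal ⟨VV k n ι j, isAffineOpen_VV k n ι j⟩))) := by
    have e1 : K.subschemeCover.f ⟨VV k n ι j, isAffineOpen_VV k n ι j⟩ ≫ K.subschemeι =
        K.glueDataObjι ⟨VV k n ι j, isAffineOpen_VV k n ι j⟩ ≫ (VV k n ι j).ι :=
      K.subschemeCover_map_subschemeι _
    have e2 := K.glueDataObjι_ι ⟨VV k n ι j, isAffineOpen_VV k n ι j⟩
    rw [← Category.assoc]
    refine (congrArg (· ≫ (ι ≫ CohB1.ProjSpace.toSpec n k)) (e1.trans e2)).trans ?_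
    refine (Category.assoc _ _ _).trans ?_
    refine (congrArg (Spec.map (CommRingCat.ofHom (Ideal.Quotient.mk
      (K.ideal ⟨VV k n ι j, isAffineOpen_VV k n ι j⟩))) ≫ ·)
      (fromSpec_comp_eq _ (isAffineOpen_VV k n ι j))).trans ?_
    refine (Spec.map_comp _ _).symm.trans ?_
    rfl
  rw [heq]
  exact (HasRingHomProperty.Spec_iff (P := @Smooth)).mpr (RingHom.smooth_algebraMap.mpr hsm)

theorem exists_smooth_hyperplane [Infinite k] [IsIntegral Z] [IsClosedImmersion ι]
    [Smooth (ι ≫ CohB1.ProjSpace.toSpec n k)] :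
    ∃ c : Fin (n + 1) → k,
      (∃ x : Z, ι.base x ∉ (PicF2.zeroScheme _ (linSec k n c)).support) ∧
      Smooth (pullback.fst ι (PicF2.zeroScheme _ (linSec k n c)).subschemeι ≫ ι ≫
        CohB1.ProjSpace.toSpec n k) := by
  choose G hG0 hG using fun j => chart_smooth k n ι j
  obtain ⟨x₀⟩ : Nonempty Z := inferInstance
  let L : (Fin (n + 1) → k) →ₗ[k] MvPolynomial (Fin (n + 1)) k :=
    ∑ i, (LinearMap.proj i).smulRight (X i : MvPolynomial (Fin (n + 1)) k)
  have hL : ∀ a, L a = ∑ i, C (a i) * X i := by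
    intro a
    simp only [L, LinearMap.sum_apply, LinearMap.smulRight_apply, LinearMap.proj_apply,
      MvPolynomial.smul_eq_C_mul]
  let W : Submodule k (Fin (n + 1) → k) :=
    Submodule.comap L ((ι.base x₀).asHomogeneousIdeal.toIdeal.restrictScalars k)
  have hW : W ≠ ⊤ := by
    intro hW
    obtain ⟨j₀, hj₀⟩ := exists_mem_basicOpen_X n k (ι.base x₀)
    apply hj₀
    have h1 : (Pi.single j₀ 1 : Fin (n + 1) → k) ∈ W := by rw [hW]; trivial
    have h2 : L (Pi.single j₀ 1) ∈ (ι.base x₀).asHomogeneousIdeal.toIdeal := h1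
    rw [hL, Finset.sum_eq_single j₀] at h2
    · simpa using h2
    · intro i _ hi
      rw [Pi.single_eq_of_ne hi, map_zero, zero_mul]
    · intro hj; exact absurd (Finset.mem_univ j₀) hj
  obtain ⟨lam, hlam0, hlam⟩ := exists_linear_poly W hW
  obtain ⟨c, hc⟩ : ∃ c : Fin (n + 1) → k, MvPolynomial.eval c (lam * ∏ j, G j) ≠ 0 := by
    by_contra hcon
    push Not at hcon
    exact (mul_ne_zero hlam0 (Finset.prod_ne_zero_iff.mpr fun j _ => hG0 j))
      (MvPolynomial.funext fun x => by rw [hcon x, map_zero])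
  rw [map_mul, map_prod] at hc
  have hc1 := left_ne_zero_of_mul hc
  have hc2 := Finset.prod_ne_zero_iff.mp (right_ne_zero_of_mul hc)
  refine ⟨c, ⟨x₀, not_mem_support_zeroScheme k n c _ ?_⟩, ?_⟩
  · intro hmem
    refine hlam c hc1 ?_
    change L c ∈ (ι.base x₀).asHomogeneousIdeal.toIdeal
    rw [hL]
    exact hmem
  · have hKj : ∀ j, ((PicF2.zeroScheme _ (linSec k n c)).comap ι).ideal
        ⟨VV k n ι j, isAffineOpen_VV k n ι j⟩ =
        Ideal.span {ψψ k n ι j (∑ i, C (c i) * X i)} := by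
      intro j
      rw [Groth.Agent.Lib.Helper1.ideal_comap (PicF2.zeroScheme _ (linSec k n c)) ι
        ⟨VV k n ι j, isAffineOpen_VV k n ι j⟩
        ⟨chartU k n j, isAffineOpen_chartU k n j⟩ le_rfl]
      rw [zeroScheme_ideal_chartU, Ideal.map_span, Set.image_singleton, aa_eq_chartHom']
      have h1 : ι.appLE (chartU k n j) (VV k n ι j) le_rfl = ι.app (chartU k n j) :=
        (Scheme.Hom.app_eq_appLE (f := ι) (U := chartU k n j)).symm
      have h2 : (ι.appLE (chartU k n j) (VV k n ι j) le_rfl).hom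
          (chartHom' k n j (∑ i, C (c i) * X i)) = ψψ k n ι j (∑ i, C (c i) * X i) := by
        rw [h1]; rfl
      exact congrArg (fun t => Ideal.span {t}) h2
    have hsm : Smooth (((PicF2.zeroScheme _ (linSec k n c)).comap ι).subschemeι ≫ ι ≫
        CohB1.ProjSpace.toSpec n k) := by
      let 𝒰 : ((PicF2.zeroScheme _ (linSec k n c)).comap ι).subscheme.OpenCover :=
        Scheme.Cover.mkOfCovers (ULift.{u} (Fin (n + 1)))
        (fun j => Spec (((PicF2.zeroScheme _ (linSec k n c)).comap ι).subschemeCover.X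
          ⟨VV k n ι j.down, isAffineOpen_VV k n ι j.down⟩))
        (fun j => ((PicF2.zeroScheme _ (linSec k n c)).comap ι).subschemeCover.f
          ⟨VV k n ι j.down, isAffineOpen_VV k n ι j.down⟩) (by
          intro z
          obtain ⟨j, hj⟩ := exists_mem_basicOpen_X n k
            (ι.base (((PicF2.zeroScheme _ (linSec k n c)).comap ι).subschemeι.base z))
          have hz : z ∈ (((PicF2.zeroScheme _ (linSec k n c)).comap ι).subschemeCover.f
              ⟨VV k n ι j, isAffineOpen_VV k n ι j⟩).opensRange := by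
            rw [Scheme.IdealSheafData.opensRange_subschemeCover_map]
            exact hj
          obtain ⟨y, hy⟩ := hz
          exact ⟨⟨j⟩, y, hy⟩)
      refine IsZariskiLocalAtSource.of_openCover (P := @Smooth) 𝒰 (fun j => ?_)
      exact hG j.down c (hc2 j.down (Finset.mem_univ j.down)) _ (hKj j.down)
    have e : pullback.fst ι (PicF2.zeroScheme _ (linSec k n c)).subschemeι =
        ((PicF2.zeroScheme _ (linSec k n c)).comapIso ι).inv ≫
          ((PicF2.zeroScheme _ (linSec k n c)).comap ι).subschemeι :=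
      (Scheme.IdealSheafData.comapIso_inv_subschemeι _ ι).symm
    rw [e, Category.assoc]
    infer_instance

end Groth.Agent.Lib.Helper25.BertiniPn
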