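import Mathlib
import Groth.Agent.Lib.Helper25.BertiniPn5
import Groth.Agent.Lib.Helper25.SmoothRelDimRank
import Groth.Agent.Lib.Helper25.FibreDimRank
import Groth.Agent.Lib.Helper29.ProjIdealPull
import Groth.Prelude.Def_LefPen
set_option autoImplicit false
universe u
open CategoryTheory CategoryTheory.Limits AlgebraicGeometry TopologicalSpace Opposite IsLocalRing

namespace Groth.Agent.Lib.Helper25.BertiniPn

open Groth.Agent.Lib.Helper29.QCoh Groth.Agent.Lib.Helper25.SepPts
open Groth.Agent.Lib.Helper25.Bertini Groth.Agent.Lib.Helper25.BertiniJets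
open HomogeneousLocalization MvPolynomial

section HypIdeal
variable (k : Type u) [Field k] (r : ℕ)

/-- The coordinate functions, indexed in universe `u`. -/
noncomputable def fXu : ULift.{u} (Fin (r + 1)) → CohB1.polyGrading r k 1 :=
  fun i => Xi r k i.down

theorem dehom_eq_frac {d : ℕ} (H : LefPen.Form r k d) (j : Fin (r + 1)) :
    LefPen.dehom H j = frac (CohB1.polyGrading r k) (fXu k r) ⟨j⟩
      (Dp (CohB1.polyGrading r k) (fXu k r) ⟨j⟩) le_rfl H :=
  awayToSection_mk_eq_frac (CohB1.polyGrading r k) (fXu k r) ⟨j⟩ H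

/-- The standard chart as an affine open of `CohB1.ProjSpace`. -/
noncomputable abbrev chartA (j : Fin (r + 1)) : (CohB1.ProjSpace r k).affineOpens :=
  ⟨LefPen.chart r k j, (affDp (CohB1.polyGrading r k) (fXu k r) ⟨j⟩).2⟩

/-- The zero scheme of the section `H/1` of `O(d)`. -/
noncomputable def hypK {d : ℕ} (H : LefPen.Form r k d) :
    (CohB1.ProjSpace r k).IdealSheafData :=
  PicF2.zeroScheme (X := CohB1.ProjSpace r k) (Twist.twist (CohB1.polyGrading r k) (d : ℤ))
    (homOfSection (X := Proj (CohB1.polyGrading r k))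
      (Twist.twist (CohB1.polyGrading r k) (d : ℤ)) (gOf (CohB1.polyGrading r k) H))

theorem hypK_ideal_chart {d : ℕ} (H : LefPen.Form r k d) (j : Fin (r + 1)) :
    (hypK k r H).ideal (chartA k r j) = Ideal.span {LefPen.dehom H j} := by
  rw [dehom_eq_frac]
  refine Groth.Agent.Lib.Helper29.ZeroSch.zeroScheme_ideal_of_isTriv
    (X := Proj (CohB1.polyGrading r k))
    (isInvertible_twist_projSpace r k (d : ℤ)) _
    (affDp (CohB1.polyGrading r k) (fXu k r) ⟨j⟩).2
    (isTriv_eSec (d : ℤ) (fXu k r ⟨j⟩) d 0 (by simp)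
      (Dp (CohB1.polyGrading r k) (fXu k r) ⟨j⟩) le_rfl) _ ?_
  rw [sval_homOfSection]
  exact res_gOf_eq_frac_smul (CohB1.polyGrading r k) (fXu k r) ⟨j⟩ H

theorem iSup_chartA_eq_top :
    ⨆ j : Fin (r + 1), (chartA k r j).1 = ⊤ := by
  rw [eq_top_iff]
  intro x _
  obtain ⟨j, hj⟩ := exists_mem_basicOpen_X r k x
  exact TopologicalSpace.Opens.mem_iSup.mpr ⟨j, hj⟩

theorem isAffineOpen_inf_chart (U : (CohB1.ProjSpace r k).affineOpens) (i : Fin (r + 1)) :
    IsAffineOpen (U.1 ⊓ LefPen.chart r k i) :=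
  IsAffineOpen.inf (X := Proj (CohB1.polyGrading r k)) U.2 (chartA k r i).2

theorem hypK_le_hypIdeal {d : ℕ} (H : LefPen.Form r k d) : hypK k r H ≤ LefPen.hypIdeal H := by
  refine (Scheme.IdealSheafData.le_ofIdeals_iff (X := CohB1.ProjSpace r k)).mpr (fun U a ha => ?_)
  refine Ideal.mem_iInf.mpr (fun i => ?_)
  have hW := isAffineOpen_inf_chart k r U i
  have h1 := (hypK k r H).ideal_le_comap_ideal
    (U := ⟨U.1 ⊓ LefPen.chart r k i, hW⟩) (V := U)
    (show (⟨U.1 ⊓ LefPen.chart r k i, hW⟩ : (CohB1.ProjSpace r k).affineOpens) ≤ U from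
      (inf_le_left : U.1 ⊓ LefPen.chart r k i ≤ U.1)) ha
  have h2 := (hypK k r H).map_ideal (U := ⟨U.1 ⊓ LefPen.chart r k i, hW⟩)
    (V := chartA k r i)
    (show (⟨U.1 ⊓ LefPen.chart r k i, hW⟩ : (CohB1.ProjSpace r k).affineOpens) ≤ chartA k r i from
      (inf_le_right : U.1 ⊓ LefPen.chart r k i ≤ LefPen.chart r k i))
  rw [hypK_ideal_chart, Ideal.map_span, Set.image_singleton] at h2
  have h3 : ((CohB1.ProjSpace r k).presheaf.map
      (homOfLE (inf_le_left : U.1 ⊓ LefPen.chart r k i ≤ U.1)).op).hom a ∈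
      (hypK k r H).ideal ⟨U.1 ⊓ LefPen.chart r k i, hW⟩ := h1
  rw [← h2] at h3
  exact h3

theorem hypIdeal_le_hypK {d : ℕ} (H : LefPen.Form r k d) : LefPen.hypIdeal H ≤ hypK k r H := by
  refine Scheme.IdealSheafData.le_of_iSup_eq_top (X := CohB1.ProjSpace r k)
    (fun j : Fin (r + 1) => chartA k r j) (iSup_chartA_eq_top k r) (fun j => ?_)
  rw [hypK_ideal_chart]
  intro a ha
  have h1 : a ∈ LefPen.hypFamily H (chartA k r j) :=
    Scheme.IdealSheafData.ideal_ofIdeals_le _ _ ha
  have h2 : ((CohB1.ProjSpace r k).presheaf.map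
      (homOfLE (inf_le_left : (chartA k r j).1 ⊓ LefPen.chart r k j ≤ (chartA k r j).1)).op).hom a ∈
      Ideal.span {((CohB1.ProjSpace r k).presheaf.map
        (homOfLE (inf_le_right : (chartA k r j).1 ⊓ LefPen.chart r k j ≤
          LefPen.chart r k j)).op).hom (LefPen.dehom H j)} := (Ideal.mem_iInf.mp h1) j
  rw [Ideal.mem_span_singleton'] at h2
  obtain ⟨b, hb⟩ := h2
  have hle : LefPen.chart r k j ≤ (chartA k r j).1 ⊓ LefPen.chart r k j := le_inf le_rfl le_rfl
  have hinv : ∀ z : Γ(CohB1.ProjSpace r k, LefPen.chart r k j),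
      ((CohB1.ProjSpace r k).presheaf.map (homOfLE hle).op).hom
        (((CohB1.ProjSpace r k).presheaf.map (homOfLE (inf_le_right :
          (chartA k r j).1 ⊓ LefPen.chart r k j ≤ LefPen.chart r k j)).op).hom z) = z := by
    intro z
    rw [← CommRingCat.comp_apply, ← Functor.map_comp]
    have : (homOfLE (inf_le_right : (chartA k r j).1 ⊓ LefPen.chart r k j ≤
        LefPen.chart r k j)).op ≫ (homOfLE hle).op = 𝟙 _ := Subsingleton.elim _ _
    rw [this, CategoryTheory.Functor.map_id]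
    rfl
  have hb' := congrArg ((CohB1.ProjSpace r k).presheaf.map (homOfLE hle).op).hom hb
  rw [map_mul, hinv] at hb'
  have hinv2 : ((CohB1.ProjSpace r k).presheaf.map (homOfLE hle).op).hom
      (((CohB1.ProjSpace r k).presheaf.map (homOfLE (inf_le_left :
        (chartA k r j).1 ⊓ LefPen.chart r k j ≤ (chartA k r j).1)).op).hom a) = a := hinv a
  rw [hinv2] at hb'
  exact Ideal.mem_span_singleton'.mpr ⟨_, hb'⟩

theorem hypIdeal_eq {d : ℕ} (H : LefPen.Form r k d) : LefPen.hypIdeal H = hypK k r H :=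
  le_antisymm (hypIdeal_le_hypK k r H) (hypK_le_hypIdeal k r H)

theorem hypIdeal_ideal_chart {d : ℕ} (H : LefPen.Form r k d) (j : Fin (r + 1)) :
    (LefPen.hypIdeal H).ideal (chartA k r j) = Ideal.span {LefPen.dehom H j} := by
  rw [hypIdeal_eq, hypK_ideal_chart]

end HypIdeal

section RingLevel

open Groth.Agent.Lib.Helper25.FibreDimRank in
theorem locally_isStandardSmoothOfRelativeDimension_of_rankAtStalk {A C : Type u} [CommRing A]
    [CommRing C] [Algebra A C] [Algebra.Smooth A C] (m : ℕ)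
    (h : ∀ q : PrimeSpectrum C, Module.rankAtStalk (Ω[C⁄A]) q = m) :
    RingHom.Locally (RingHom.IsStandardSmoothOfRelativeDimension m) (algebraMap A C) := by
  refine ⟨{t : C | Algebra.IsStandardSmoothOfRelativeDimension m A (Localization.Away t)}, ?_, ?_⟩
  · by_contra hne
    obtain ⟨M, hM, hle⟩ := Ideal.exists_le_maximal _ hne
    obtain ⟨t, n, ht, hstd, hn⟩ :=
      exists_away_isStandardSmoothOfRelativeDimension (A := A) (B := C) ⟨M, hM.isPrime⟩
    rw [h] at hn
    subst hn
    exact ht (hle (Ideal.subset_span hstd))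
  · intro t ht
    rw [← IsScalarTower.algebraMap_eq A C (Localization.Away t),
      RingHom.isStandardSmoothOfRelativeDimension_algebraMap]
    exact ht

/-- Ring-level Bertini for a smooth algebra generated by sections `y i` whose `k`-span
contains `1`. -/
theorem exists_poly_derivation'' {k A : Type u} [Field k] [CommRing A] [Algebra k A]
    [Algebra.Smooth k A] {m : ℕ} (y : Fin m → A)
    (hy1 : (1 : A) ∈ Submodule.span k (Set.range y))
    (hy : Function.Surjective (MvPolynomial.aeval y : MvPolynomial (Fin m) k →ₐ[k] A)) :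
    ∃ g : MvPolynomial (Fin m) k, g ≠ 0 ∧ ∀ c : Fin m → k, MvPolynomial.eval c g ≠ 0 →
      ∃ D : Derivation k A A, D (∑ i, algebraMap k A (c i) * y i) - 1 ∈
        Ideal.span {∑ i, algebraMap k A (c i) * y i} := by
  have hΩ : Submodule.span A (Set.range fun i => KaehlerDifferential.D k A (y i)) = ⊤ := by
    rw [eq_top_iff, ← KaehlerDifferential.span_range_derivation k A, Submodule.span_le]
    rintro _ ⟨b, rfl⟩
    obtain ⟨p, rfl⟩ := hy b
    exact D_aeval_mem_span y p
  have hΨ : Submodule.span A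
      (Set.range fun i => ((y i, KaehlerDifferential.D k A (y i)) : A × Ω[A⁄k])) = ⊤ := by
    set T := Submodule.span A
      (Set.range fun i => ((y i, KaehlerDifferential.D k A (y i)) : A × Ω[A⁄k])) with hT
    have h2 : ((1, 0) : A × Ω[A⁄k]) ∈ T := by
      obtain ⟨a, ha⟩ := (Submodule.mem_span_range_iff_exists_fun k).mp hy1
      have e : ((1, 0) : A × Ω[A⁄k]) =
          ∑ t, algebraMap k A (a t) • ((y t, KaehlerDifferential.D k A (y t)) : A × Ω[A⁄k]) := by
        apply Prod.ext
        · rw [Prod.fst_sum]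
          simp only [Prod.smul_fst, smul_eq_mul]
          rw [← ha]
          refine Finset.sum_congr rfl fun t _ => ?_
          rw [Algebra.smul_def]
        · rw [Prod.snd_sum]
          simp only [Prod.smul_snd]
          have h0 : KaehlerDifferential.D k A (1 : A) = 0 := Derivation.map_one_eq_zero _
          rw [← ha, map_sum] at h0
          rw [← h0]
          refine Finset.sum_congr rfl fun t _ => ?_
          rw [Derivation.map_smul, algebraMap_smul]
      rw [e]
      exact Submodule.sum_mem _ fun t _ => Submodule.smul_mem _ _ (Submodule.subset_span ⟨t, rfl⟩)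
    have h3 : ∀ i, ((0, KaehlerDifferential.D k A (y i)) : A × Ω[A⁄k]) ∈ T := by
      intro i
      have h4 : ((y i, KaehlerDifferential.D k A (y i)) : A × Ω[A⁄k]) ∈ T :=
        Submodule.subset_span ⟨i, rfl⟩
      have e : ((0, KaehlerDifferential.D k A (y i)) : A × Ω[A⁄k]) =
          (y i, KaehlerDifferential.D k A (y i)) - (y i) • ((1, 0) : A × Ω[A⁄k]) := by
        apply Prod.ext <;> simp
      rw [e]
      exact Submodule.sub_mem _ h4 (Submodule.smul_mem _ _ h2)
    rw [eq_top_iff]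
    rintro ⟨b, ω⟩ -
    have e : ((b, ω) : A × Ω[A⁄k]) = b • ((1, 0) : A × Ω[A⁄k]) + (0, ω) := by
      apply Prod.ext <;> simp
    rw [e]
    refine Submodule.add_mem _ (Submodule.smul_mem _ _ h2) ?_
    have hω : ω ∈ Submodule.span A (Set.range fun i => KaehlerDifferential.D k A (y i)) := by
      rw [hΩ]; trivial
    have : Submodule.map (LinearMap.inr A A Ω[A⁄k])
        (Submodule.span A (Set.range fun i => KaehlerDifferential.D k A (y i))) ≤ T := by
      rw [Submodule.map_span, Submodule.span_le]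
      rintro _ ⟨_, ⟨i, rfl⟩, rfl⟩
      exact h3 i
    exact this ⟨ω, hω, rfl⟩
  haveI : Module.Finite A Ω[A⁄k] := inferInstance
  haveI : Module.Projective A Ω[A⁄k] := inferInstance
  obtain ⟨N, fΩ, gΩ, -, -, hfg⟩ := Module.Finite.exists_comp_eq_id_of_projective A Ω[A⁄k]
  obtain ⟨q, hq0, hq⟩ := exists_ne_zero_map_mem_JU y 0 hΨ fΩ gΩ hfg
  refine ⟨q, hq0, fun c hc => ?_⟩
  obtain ⟨D, hD⟩ := exists_derivation_of_mem_JU y 0 _ q hq c hc
  have hFc : Fc k y 0 c = ∑ i, algebraMap k A (c i) * y i := by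
    simp only [Fc, zero_add]
  rw [hFc] at hD
  exact ⟨D, hD⟩

end RingLevel

end Groth.Agent.Lib.Helper25.BertiniPn
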