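import Mathlib
import Groth.Agent.Lib.Helper25.BertiniPn6
set_option autoImplicit false
universe u
open CategoryTheory CategoryTheory.Limits AlgebraicGeometry TopologicalSpace Opposite IsLocalRing

namespace Groth.Agent.Lib.Helper25.BertiniPn

open Groth.Agent.Lib.Helper29.QCoh Groth.Agent.Lib.Helper25.SepPts
open Groth.Agent.Lib.Helper25.Bertini Groth.Agent.Lib.Helper25.BertiniJets
open HomogeneousLocalization MvPolynomial

variable (k : Type u) [Field k] (r : ℕ) {Z : Scheme.{u}} (ι : Z ⟶ Proj (CohB1.polyGrading r k))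

open Groth.Agent.Lib.Helper25.SmoothRelDimRank in
theorem chart_smooth_dim [IsClosedImmersion ι] (n : ℕ)
    [SmoothOfRelativeDimension n (ι ≫ CohB1.ProjSpace.toSpec r k)]
    (d : ℕ) (hd : 1 ≤ d) {m : ℕ} (b : Module.Basis (Fin m) k (LefPen.Form r k d))
    (j : Fin (r + 1)) :
    ∃ g : MvPolynomial (Fin m) k, g ≠ 0 ∧ ∀ H : LefPen.Form r k d,
      MvPolynomial.eval (fun t => b.repr H t) g ≠ 0 →
      ∀ K : Z.IdealSheafData,
        K.ideal ⟨VV k r ι j, isAffineOpen_VV k r ι j⟩ = Ideal.span {ψψ k r ι j H.1} →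
        SmoothOfRelativeDimension (n - 1)
          (K.subschemeCover.f ⟨VV k r ι j, isAffineOpen_VV k r ι j⟩ ≫ K.subschemeι ≫
            ι ≫ CohB1.ProjSpace.toSpec r k) := by
  haveI : Smooth (ι ≫ CohB1.ProjSpace.toSpec r k) :=
    SmoothOfRelativeDimension.smooth n (ι ≫ CohB1.ProjSpace.toSpec r k)
  letI alg : Algebra k Γ(Z, VV k r ι j) :=
    (ρρ (ι ≫ CohB1.ProjSpace.toSpec r k) (VV k r ι j)).toAlgebra
  haveI : Algebra.Smooth k Γ(Z, VV k r ι j) := by
    have h1 : Smooth ((isAffineOpen_VV k r ι j).fromSpec ≫ (ι ≫ CohB1.ProjSpace.toSpec r k)) :=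
      inferInstance
    rw [fromSpec_comp_eq, HasRingHomProperty.Spec_iff (P := @Smooth)] at h1
    exact h1
  have hloc : RingHom.Locally (RingHom.IsStandardSmoothOfRelativeDimension n)
      (algebraMap k Γ(Z, VV k r ι j)) := by
    have h1 : SmoothOfRelativeDimension n
        ((isAffineOpen_VV k r ι j).fromSpec ≫ (ι ≫ CohB1.ProjSpace.toSpec r k)) :=
      IsZariskiLocalAtSource.comp (P := @SmoothOfRelativeDimension n) inferInstance _
    rw [fromSpec_comp_eq, HasRingHomProperty.Spec_iff (P := @SmoothOfRelativeDimension n)] at h1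
    exact h1
  have hrankB : ∀ q : PrimeSpectrum Γ(Z, VV k r ι j),
      Module.rankAtStalk (Ω[Γ(Z, VV k r ι j)⁄k]) q = n :=
    rankAtStalk_of_locally_isStandardSmoothOfRelativeDimension n hloc
  let y : Fin m → Γ(Z, VV k r ι j) := fun t => ψψ k r ι j (b t).1
  have hsmul : ∀ (c : k) (p : MvPolynomial (Fin (r + 1)) k),
      ψψ k r ι j (c • p) = algebraMap k Γ(Z, VV k r ι j) c * ψψ k r ι j p := by
    intro c p
    rw [MvPolynomial.smul_eq_C_mul, map_mul, ψψ_C]
    rfl
  have hH : ∀ H : LefPen.Form r k d,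
      ψψ k r ι j H.1 = ∑ t, algebraMap k Γ(Z, VV k r ι j) (b.repr H t) * y t := by
    intro H
    conv_lhs => rw [← b.sum_repr H]
    rw [Submodule.coe_sum, map_sum]
    refine Finset.sum_congr rfl fun t _ => ?_
    rw [Submodule.coe_smul, hsmul]
  have hy1 : (1 : Γ(Z, VV k r ι j)) ∈ Submodule.span k (Set.range y) := by
    have hhom : (X j ^ d : MvPolynomial (Fin (r + 1)) k).IsHomogeneous d := by
      have := (isHomogeneous_X k j).pow d
      rwa [one_mul] at this
    have h1 : ψψ k r ι j (X j ^ d) = 1 := by rw [map_pow, ψψ_X_self, one_pow]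
    have h2 := hH ⟨X j ^ d, hhom⟩
    rw [← h1, h2]
    refine Submodule.sum_mem _ fun t _ => ?_
    rw [← Algebra.smul_def]
    exact Submodule.smul_mem _ _ (Submodule.subset_span ⟨t, rfl⟩)
  have hy : Function.Surjective
      (MvPolynomial.aeval y : MvPolynomial (Fin m) k →ₐ[k] Γ(Z, VV k r ι j)) := by
    have hXi : ∀ i, ψψ k r ι j (X i) ∈
        (MvPolynomial.aeval y : MvPolynomial (Fin m) k →ₐ[k] Γ(Z, VV k r ι j)).range := by
      intro i
      have hhom : (X i * X j ^ (d - 1) : MvPolynomial (Fin (r + 1)) k).IsHomogeneous d := by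
        have := (isHomogeneous_X k i).mul ((isHomogeneous_X k j).pow (d - 1))
        have e : 1 + 1 * (d - 1) = d := by omega
        rwa [e] at this
      have h1 : ψψ k r ι j (X i * X j ^ (d - 1)) = ψψ k r ι j (X i) := by
        rw [map_mul, map_pow, ψψ_X_self, one_pow, mul_one]
      have h2 := hH ⟨X i * X j ^ (d - 1), hhom⟩
      rw [← h1, h2]
      exact Subalgebra.sum_mem _ fun t _ => Subalgebra.mul_mem _
        (Subalgebra.algebraMap_mem _ _) ⟨X t, aeval_X y t⟩
    intro z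
    obtain ⟨p, rfl⟩ := ψψ_surjective k r ι j z
    change ψψ k r ι j p ∈
      (MvPolynomial.aeval y : MvPolynomial (Fin m) k →ₐ[k] Γ(Z, VV k r ι j)).range
    induction p using MvPolynomial.induction_on with
    | C μ => rw [ψψ_C]; exact Subalgebra.algebraMap_mem _ μ
    | add p q hp hq => rw [map_add]; exact Subalgebra.add_mem _ hp hq
    | mul_X p i hp => rw [map_mul]; exact Subalgebra.mul_mem _ hp (hXi i)
  obtain ⟨g, hg0, hg⟩ := exists_poly_derivation'' y hy1 hy
  refine ⟨g, hg0, fun H hHg K hK => ?_⟩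
  obtain ⟨D, hD⟩ := hg _ hHg
  rw [← hH H] at hD
  haveI hsm : Algebra.Smooth k (Γ(Z, VV k r ι j) ⧸
      K.ideal ⟨VV k r ι j, isAffineOpen_VV k r ι j⟩) :=
    smooth_quotient_of_derivation _ D hD _ hK
  have hrankC : ∀ q : PrimeSpectrum (Γ(Z, VV k r ι j) ⧸
      K.ideal ⟨VV k r ι j, isAffineOpen_VV k r ι j⟩),
      Module.rankAtStalk (Ω[(Γ(Z, VV k r ι j) ⧸
        K.ideal ⟨VV k r ι j, isAffineOpen_VV k r ι j⟩)⁄k]) q = n - 1 := by
    intro q
    have h1 := rankAtStalk_quotient_of_derivation (k := k) (B := Γ(Z, VV k r ι j))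
      (C := Γ(Z, VV k r ι j) ⧸ K.ideal ⟨VV k r ι j, isAffineOpen_VV k r ι j⟩)
      (ψψ k r ι j H.1) Ideal.Quotient.mk_surjective
      (by rw [Ideal.Quotient.algebraMap_eq, Ideal.mk_ker]; exact hK) D hD q
    rw [hrankB] at h1
    omega
  have hlocC := locally_isStandardSmoothOfRelativeDimension_of_rankAtStalk (A := k)
    (C := Γ(Z, VV k r ι j) ⧸ K.ideal ⟨VV k r ι j, isAffineOpen_VV k r ι j⟩) (n - 1) hrankC
  have heq : K.subschemeCover.f ⟨VV k r ι j, isAffineOpen_VV k r ι j⟩ ≫ K.subschemeι ≫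
      (ι ≫ CohB1.ProjSpace.toSpec r k) =
      Spec.map (CommRingCat.ofHom (algebraMap k (Γ(Z, VV k r ι j) ⧸
        K.ideal ⟨VV k r ι j, isAffineOpen_VV k r ι j⟩))) := by
    have e1 : K.subschemeCover.f ⟨VV k r ι j, isAffineOpen_VV k r ι j⟩ ≫ K.subschemeι =
        K.glueDataObjι ⟨VV k r ι j, isAffineOpen_VV k r ι j⟩ ≫ (VV k r ι j).ι :=
      K.subschemeCover_map_subschemeι _
    have e2 := K.glueDataObjι_ι ⟨VV k r ι j, isAffineOpen_VV k r ι j⟩
    rw [← Category.assoc]
    refine (congrArg (· ≫ (ι ≫ CohB1.ProjSpace.toSpec r k)) (e1.trans e2)).trans ?_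
    refine (Category.assoc _ _ _).trans ?_
    refine (congrArg (Spec.map (CommRingCat.ofHom (Ideal.Quotient.mk
      (K.ideal ⟨VV k r ι j, isAffineOpen_VV k r ι j⟩))) ≫ ·)
      (fromSpec_comp_eq _ (isAffineOpen_VV k r ι j))).trans ?_
    refine (Spec.map_comp _ _).symm.trans ?_
    rfl
  rw [heq]
  exact (HasRingHomProperty.Spec_iff (P := @SmoothOfRelativeDimension (n - 1))).mpr hlocC

theorem dehom_eq_chartHom' {d : ℕ} (H : LefPen.Form r k d) (j : Fin (r + 1)) :
    LefPen.dehom H j = chartHom' k r j H.1 := by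
  unfold LefPen.dehom chartHom'
  rw [RingHom.comp_apply, dehom_eq_mk r k j d H.1 (by rw [smul_eq_mul, mul_one]; exact H.2)]

theorem secIdeal_ideal_chart [IsClosedImmersion ι] {d : ℕ} (H : LefPen.Form r k d)
    (j : Fin (r + 1)) :
    (LefPen.secIdeal ι ({H} : Set (LefPen.Form r k d))).ideal
      ⟨VV k r ι j, isAffineOpen_VV k r ι j⟩ = Ideal.span {ψψ k r ι j H.1} := by
  unfold LefPen.secIdeal
  rw [iSup_singleton]
  rw [Groth.Agent.Lib.Helper1.ideal_comap (LefPen.hypIdeal H) ι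
    ⟨VV k r ι j, isAffineOpen_VV k r ι j⟩ (chartA k r j) le_rfl]
  rw [hypIdeal_ideal_chart, Ideal.map_span, Set.image_singleton, dehom_eq_chartHom']
  have h1 : ι.appLE (chartU k r j) (VV k r ι j) le_rfl = ι.app (chartU k r j) :=
    (Scheme.Hom.app_eq_appLE (f := ι) (U := chartU k r j)).symm
  have h2 : (ι.appLE (chartU k r j) (VV k r ι j) le_rfl).hom
      (chartHom' k r j H.1) = ψψ k r ι j H.1 := by
    rw [h1]; rfl
  exact congrArg (fun t => Ideal.span {t}) h2

theorem exists_poly_secToSpec [IsClosedImmersion ι] (n : ℕ)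
    [SmoothOfRelativeDimension n (ι ≫ CohB1.ProjSpace.toSpec r k)]
    (d : ℕ) (hd : 1 ≤ d) {m : ℕ} (b : Module.Basis (Fin m) k (LefPen.Form r k d)) :
    ∃ G : MvPolynomial (Fin m) k, G ≠ 0 ∧ ∀ H : LefPen.Form r k d,
      MvPolynomial.eval (fun t => b.repr H t) G ≠ 0 →
      SmoothOfRelativeDimension (n - 1)
        (LefPen.secToSpec ι ({H} : Set (LefPen.Form r k d))) := by
  choose g hg0 hg using fun j => chart_smooth_dim k r ι n d hd b j
  refine ⟨∏ j, g j, Finset.prod_ne_zero_iff.mpr fun j _ => hg0 j, fun H hH => ?_⟩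
  rw [map_prod] at hH
  have hH' := Finset.prod_ne_zero_iff.mp hH
  let 𝒰 : (LefPen.secIdeal ι ({H} : Set (LefPen.Form r k d))).subscheme.OpenCover :=
    Scheme.Cover.mkOfCovers (ULift.{u} (Fin (r + 1)))
    (fun j => Spec ((LefPen.secIdeal ι ({H} : Set (LefPen.Form r k d))).subschemeCover.X
      ⟨VV k r ι j.down, isAffineOpen_VV k r ι j.down⟩))
    (fun j => (LefPen.secIdeal ι ({H} : Set (LefPen.Form r k d))).subschemeCover.f
      ⟨VV k r ι j.down, isAffineOpen_VV k r ι j.down⟩) (by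
      intro z
      obtain ⟨j, hj⟩ := exists_mem_basicOpen_X r k
        (ι.base ((LefPen.secIdeal ι ({H} : Set (LefPen.Form r k d))).subschemeι.base z))
      have hz : z ∈ ((LefPen.secIdeal ι ({H} : Set (LefPen.Form r k d))).subschemeCover.f
          ⟨VV k r ι j, isAffineOpen_VV k r ι j⟩).opensRange := by
        rw [Scheme.IdealSheafData.opensRange_subschemeCover_map]
        exact hj
      obtain ⟨y, hy⟩ := hz
      exact ⟨⟨j⟩, y, hy⟩)
  refine IsZariskiLocalAtSource.of_openCover (P := @SmoothOfRelativeDimension (n - 1)) 𝒰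
    (fun j => ?_)
  exact hg j.down H (hH' j.down (Finset.mem_univ j.down)) _ (secIdeal_ideal_chart k r ι H j.down)

instance form_finite (d : ℕ) : Module.Finite k (LefPen.Form r k d) :=
  Module.Finite.iff_fg.mpr (MvPolynomial.homogeneousSubmodule_fg (σ := Fin (r + 1)) (R := k) d)

theorem isPolyFun_eval {V : Type u} [AddCommGroup V] [Module k V] {m : ℕ}
    (l : Fin m → Module.Dual k V) (G : MvPolynomial (Fin m) k) :
    LefPen.IsPolyFun k (fun v : V => MvPolynomial.eval (fun t => l t v) G) := by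
  unfold LefPen.IsPolyFun
  have h1 : (MvPolynomial.aeval (fun t => (l t : V → k)) G : V → k) ∈
      Algebra.adjoin k (Set.range (fun l : Module.Dual k V => (l : V → k))) := by
    have h2 : (MvPolynomial.aeval (fun t => (l t : V → k)) G : V → k) ∈
        Algebra.adjoin k (Set.range (fun t => (l t : V → k))) := by
      rw [Algebra.adjoin_range_eq_range_aeval]
      exact ⟨G, rfl⟩
    refine Algebra.adjoin_mono ?_ h2
    rintro _ ⟨t, rfl⟩
    exact ⟨l t, rfl⟩
  have h3 : (MvPolynomial.aeval (fun t => (l t : V → k)) G : V → k) =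
      fun v : V => MvPolynomial.eval (fun t => l t v) G := by
    funext v
    have h4 : (Pi.evalAlgHom k (fun _ : V => k) v).comp
        (MvPolynomial.aeval (fun t => (l t : V → k))) =
        MvPolynomial.aeval (fun t => l t v) := by
      apply MvPolynomial.algHom_ext
      intro t
      simp
    have h5 := congrArg (fun φ : MvPolynomial (Fin m) k →ₐ[k] k => φ G) h4
    simp only [AlgHom.comp_apply, Pi.evalAlgHom_apply] at h5
    rw [h5]
    exact RingHom.congr_fun (MvPolynomial.coe_aeval_eq_eval (fun t => l t v)) G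
  rw [← h3]
  exact h1

theorem isGeneric_transversal [Infinite k] [IsClosedImmersion ι] (n : ℕ) (hn : 1 ≤ n)
    [SmoothOfRelativeDimension n (ι ≫ CohB1.ProjSpace.toSpec r k)] (d : ℕ) (hd : 1 ≤ d) :
    LefPen.IsGeneric k {H : LefPen.Form r k d |
      LefPen.Transversal k n 1 (LefPen.secToSpec ι ({H} : Set (LefPen.Form r k d)))} := by
  let b := Module.finBasis k (LefPen.Form r k d)
  obtain ⟨G, hG0, hG⟩ := exists_poly_secToSpec k r ι n d hd b
  refine ⟨fun H => MvPolynomial.eval (fun t => b.repr H t) G,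
    isPolyFun_eval k (fun t => b.coord t) G, ?_, fun H hH => Or.inl ⟨hn, hG H hH⟩⟩
  obtain ⟨c, hc⟩ : ∃ c : Fin (Module.finrank k (LefPen.Form r k d)) → k,
      MvPolynomial.eval c G ≠ 0 := by
    by_contra hcon
    push Not at hcon
    exact hG0 (MvPolynomial.funext fun x => by rw [hcon x, map_zero])
  refine ⟨b.equivFun.symm c, ?_⟩
  have h1 : (fun t => b.repr (b.equivFun.symm c) t) = c := by
    funext t
    rw [← Module.Basis.equivFun_apply, LinearEquiv.apply_symm_apply]
  change MvPolynomial.eval (fun t => b.repr (b.equivFun.symm c) t) G ≠ 0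
  rw [h1]
  exact hc

end Groth.Agent.Lib.Helper25.BertiniPn
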