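import Mathlib
import Groth.Agent.Lib.Helper25.JacobianCrit4

set_option autoImplicit false
universe u v
open TensorProduct

namespace Groth.Agent.Lib.Helper25.ExtPowerAnn

open Groth.Agent.Lib.Helper25.JacobianCrit

variable {R : Type u} {M : Type v} [CommRing R] [AddCommGroup M] [Module R M]

/-- An alternating map in `n` variables on a module spanned by fewer than `n` elements vanishes on
families inside that span. -/
theorem alternating_eq_zero_of_mem_span {N : Type*} [AddCommGroup N] [Module R N] {n c : ℕ} (hcn : c < n)
    (Φ : M [⋀^Fin n]→ₗ[R] N) (e : Fin c → M) (x : Fin n → M)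
    (hx : ∀ i, x i ∈ Submodule.span R (Set.range e)) : Φ x = 0 := by
  classical
  have hx' : ∀ i, ∃ y : Fin c → R, Fintype.linearCombination R e y = x i := fun i => by
    have := hx i
    rw [← Fintype.range_linearCombination] at this
    exact this
  choose y hy using hx'
  have h0 : Φ.compLinearMap (Fintype.linearCombination R e) = 0 := by
    refine Module.Basis.ext_alternating (Pi.basisFun R (Fin c)) fun v hv => ?_
    exfalso
    have := Fintype.card_le_of_injective v hv
    simp at this
    omega
  have h1 : Φ x = Φ.compLinearMap (Fintype.linearCombination R e) y := by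
    rw [AlternatingMap.compLinearMap_apply]
    congr 1
    funext i
    exact (hy i).symm
  rw [h1, h0]
  rfl

variable [Module.Finite R M]

theorem annihilator_exteriorPower_le_iff (n : ℕ) (p : PrimeSpectrum R) :
    (⋀[R]^n M).annihilator ≤ p.asIdeal ↔
      n ≤ Module.finrank p.asIdeal.ResidueField (p.asIdeal.ResidueField ⊗[R] M) := by
  classical
  set κ := p.asIdeal.ResidueField with hκ
  have hspan : Submodule.span κ ((fun m : M => (1 : κ) ⊗ₜ[R] m) '' Set.univ) = ⊤ := by
    rw [eq_top_iff]
    rintro x -
    induction x using TensorProduct.induction_on with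
    | zero => exact zero_mem _
    | add x y hx hy => exact add_mem hx hy
    | tmul c m =>
      have : c ⊗ₜ[R] m = c • ((1 : κ) ⊗ₜ[R] m) := by
        rw [TensorProduct.smul_tmul', smul_eq_mul, mul_one]
      rw [this]
      exact Submodule.smul_mem _ _ (Submodule.subset_span ⟨m, trivial, rfl⟩)
  obtain ⟨c, e, -, hli, hsp⟩ := exists_fin_basis_of_span_image (K := κ)
    (fun m : M => (1 : κ) ⊗ₜ[R] m) Set.univ hspan
  have hc : Module.finrank κ (κ ⊗[R] M) = c := by
    rw [Module.finrank_eq_card_basis (Module.Basis.mk hli hsp.ge), Fintype.card_fin]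
  rw [hc]
  constructor
  · -- contrapositive: c < n ⇒ some element of the annihilator is outside p
    intro hJ
    by_contra hlt
    rw [not_le] at hlt
    set N : Submodule R M := Submodule.span R (Set.range e) with hN
    have hsub : Subsingleton (κ ⊗[R] (M ⧸ N)) := by
      have hzero : (N.mkQ.baseChange κ) = 0 := by
        apply LinearMap.ext_on_range (v := (fun m : M => (1 : κ) ⊗ₜ[R] m) ∘ e) hsp
        intro i
        simp only [Function.comp_apply, LinearMap.baseChange_tmul, Submodule.mkQ_apply,
          LinearMap.zero_apply]
        rw [(Submodule.Quotient.mk_eq_zero N).mpr (Submodule.subset_span ⟨i, rfl⟩),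
          TensorProduct.tmul_zero]
      have hsurj : Function.Surjective (N.mkQ.baseChange κ) := by
        rw [LinearMap.baseChange_eq_ltensor]
        exact LinearMap.lTensor_surjective κ N.mkQ_surjective
      refine ⟨fun a b => ?_⟩
      obtain ⟨a', rfl⟩ := hsurj a
      obtain ⟨b', rfl⟩ := hsurj b
      rw [hzero]
      rfl
    have hsupp : p ∉ Module.support R (M ⧸ N) := by
      rw [Module.mem_support_iff_nontrivial_residueField_tensorProduct]
      exact not_nontrivial _
    rw [Module.mem_support_iff_of_finite] at hsupp
    obtain ⟨f, hfann, hfp⟩ := SetLike.not_le_iff_exists.mp hsupp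
    have hfN : ∀ m : M, f • m ∈ N := fun m => by
      have := Module.mem_annihilator.mp hfann (Submodule.Quotient.mk m)
      rw [← Submodule.Quotient.mk_smul, Submodule.Quotient.mk_eq_zero] at this
      exact this
    have hfn : f ^ n ∈ (⋀[R]^n M).annihilator := by
      rw [Submodule.mem_annihilator]
      intro x hx
      rw [← exteriorPower.ιMulti_span_fixedDegree] at hx
      induction hx using Submodule.span_induction with
      | mem x hx =>
        obtain ⟨m, rfl⟩ := hx
        have h1 : f ^ n • ExteriorAlgebra.ιMulti R n m =
            ExteriorAlgebra.ιMulti R n (fun i => f • m i) := by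
          rw [AlternatingMap.map_smul_univ]
          simp
        rw [h1]
        exact alternating_eq_zero_of_mem_span hlt (ExteriorAlgebra.ιMulti R n) e _
          (fun i => hfN (m i))
      | zero => simp
      | add x y _ _ hx hy => rw [smul_add, hx, hy, add_zero]
      | smul a x _ hx => rw [smul_comm, hx, smul_zero]
    exact hfp ((inferInstance : p.asIdeal.IsPrime).mem_of_pow_mem n (hJ hfn))
  · intro hn j hj
    -- n independent vectors
    let m : Fin n → M := e ∘ Fin.castLE hn
    have hlim : LinearIndependent κ (fun i => (1 : κ) ⊗ₜ[R] m i) :=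
      hli.comp _ (Fin.castLE_injective hn)
    have hinj : LinearMap.ker (Fintype.linearCombination κ (fun i => (1 : κ) ⊗ₜ[R] m i)) = ⊥ := by
      rw [LinearMap.ker_eq_bot]
      exact hlim.fintypeLinearCombination_injective
    obtain ⟨φ, hφ⟩ := LinearMap.exists_leftInverse_of_injective _ hinj
    let g : M →ₗ[R] (Fin n → κ) := (φ.restrictScalars R) ∘ₗ (TensorProduct.mk R κ M 1)
    let D : (Fin n → κ) [⋀^Fin n]→ₗ[R] κ :=
      { (Matrix.detRowAlternating (R := κ) (n := Fin n)).toMultilinearMap.restrictScalars R with
        map_eq_zero_of_eq' := fun v i j h hij =>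
          (Matrix.detRowAlternating (R := κ) (n := Fin n)).map_eq_zero_of_eq v h hij }
    let Φ : M [⋀^Fin n]→ₗ[R] κ := D.compLinearMap g
    have hΦ : Φ m = 1 := by
      have h1 : ∀ i, g (m i) = Pi.single i (1 : κ) := fun i => by
        have := LinearMap.congr_fun hφ (Pi.single i (1 : κ))
        simp only [LinearMap.comp_apply, Fintype.linearCombination_apply_single, one_smul,
          LinearMap.id_apply] at this
        exact this
      change Matrix.det (fun i => g (m i)) = 1
      have : (fun i => g (m i)) = (1 : Matrix (Fin n) (Fin n) κ) := by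
        funext i k
        rw [h1 i, Matrix.one_apply, Pi.single_apply]
        simp [eq_comm]
      rw [this, Matrix.det_one]
    let Λ := exteriorPower.alternatingMapLinearEquiv Φ
    have h2 : Λ (exteriorPower.ιMulti R n m) = 1 := by
      rw [exteriorPower.alternatingMapLinearEquiv_apply_ιMulti, hΦ]
    have h3 : j • exteriorPower.ιMulti R n m = 0 := by
      apply Subtype.ext
      have := Submodule.mem_annihilator.mp hj (exteriorPower.ιMulti R n m : ExteriorAlgebra R M)
        (exteriorPower.ιMulti R n m).2
      exact this
    have h4 : j • (1 : κ) = 0 := by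
      rw [← h2, ← map_smul, h3, map_zero]
    rw [Algebra.smul_def, mul_one, Ideal.algebraMap_residueField_eq_zero] at h4
    exact h4

end Groth.Agent.Lib.Helper25.ExtPowerAnn
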