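import Mathlib
import Groth.Agent.Lib.Helper25.JacobianCrit3
import Groth.Agent.Lib.Helper25.RelGCIJacobian
import Groth.Agent.Lib.Helper25.ExtPowerAnn

set_option autoImplicit false
universe u v w
open TensorProduct KaehlerDifferential IsLocalRing

namespace Groth.Agent.Lib.Helper25.HypersurfaceSmooth

open Groth.Agent.Lib.Helper25.JacobianCrit

section Literal

variable (R : Type u) {B : Type v} [CommRing R] [CommRing B] [Algebra R B]

/-- Converse Jacobian criterion for one regular equation: if `B/(g)` is smooth at `q` then `dg ≠ 0` in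
the fibre of `Ω_{B/R}` at the preimage of `q`. -/
theorem one_tmul_D_ne_zero_of_isSmoothAt_quotient [Algebra.EssFiniteType R B] (g : B)
    (hg : IsSMulRegular B g)
    (q : Ideal (B ⧸ Ideal.span (Set.range fun _ : Fin 1 => g))) [q.IsPrime]
    (𝔓 : Ideal B) [𝔓.IsPrime]
    (h𝔓 : q.comap (Ideal.Quotient.mk (Ideal.span (Set.range fun _ : Fin 1 => g))) = 𝔓)
    [Algebra.IsSmoothAt R 𝔓] (h : Algebra.IsSmoothAt R q) :
    (1 : 𝔓.ResidueField) ⊗ₜ[B] D R B g ≠ 0 := by
  subst h𝔓
  rw [isSmoothAt_quotient_iff] at h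
  set 𝔓 := q.comap (Ideal.Quotient.mk (Ideal.span (Set.range fun _ : Fin 1 => g))) with h𝔓
  set P := Localization.AtPrime 𝔓 with hP
  obtain ⟨hfree, hfin⟩ := free_finite_kaehler_localization (R := R) 𝔓
  have : Algebra.FormallySmooth R P := ‹Algebra.IsSmoothAt R 𝔓›
  have hmap : (Ideal.span (Set.range fun _ : Fin 1 => g)).map (algebraMap B P) =
      Ideal.span {algebraMap B P g} := by
    rw [Ideal.map_span, Set.range_const, Set.image_singleton]
  rw [hmap] at h
  have hgmem : g ∈ 𝔓 := by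
    have h0 : Ideal.Quotient.mk (Ideal.span (Set.range fun _ : Fin 1 => g)) g = 0 :=
      Ideal.Quotient.eq_zero_iff_mem.mpr (Ideal.subset_span ⟨0, rfl⟩)
    rw [h𝔓, Ideal.mem_comap, h0]
    exact zero_mem _
  intro hd
  have hd' : (1 : ResidueField P) ⊗ₜ[P] D R P (algebraMap B P g) = 0 := by
    have := fibreEquiv_symm_one_tmul_D R 𝔓 g
    rw [hd, map_zero] at this
    exact this.symm
  have h0 := eq_zero_of_formallySmooth_quotient_span_singleton (R := R) (P := P)
    (algebraMap B P g) ((IsLocalization.AtPrime.to_map_mem_maximal_iff P 𝔓 g).mpr hgmem) hd'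
  obtain ⟨s, hs⟩ := (IsLocalization.map_eq_zero_iff 𝔓.primeCompl P g).mp h0
  have hs0 : (s : B) = 0 := by
    apply hg
    change g • (s : B) = g • 0
    rw [smul_zero, smul_eq_mul, mul_comm]
    exact hs
  exact s.2 (hs0 ▸ 𝔓.zero_mem)

end Literal

section Abstract

variable (A : Type u) {B : Type v} {R : Type w} [CommRing A] [CommRing B] [CommRing R]
  [Algebra A B] [Algebra B R] [Algebra A R] [IsScalarTower A B R]

/-- Jacobian criterion for a hypersurface `R = B/(g)`, `g` regular, in both directions. -/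
theorem isSmoothAt_iff_one_tmul_D_ne_zero [Algebra.EssFiniteType A B] (g : B)
    (hg : IsSMulRegular B g) (hsurj : Function.Surjective (algebraMap B R))
    (hker : RingHom.ker (algebraMap B R) = Ideal.span {g}) (p : Ideal R) [p.IsPrime]
    (𝔓 : Ideal B) [𝔓.IsPrime] (h𝔓 : p.comap (algebraMap B R) = 𝔓) [Algebra.IsSmoothAt A 𝔓] :
    Algebra.IsSmoothAt A p ↔ (1 : 𝔓.ResidueField) ⊗ₜ[B] D A B g ≠ 0 := by
  have hI : RingHom.ker (IsScalarTower.toAlgHom A B R) =
      Ideal.span (Set.range fun _ : Fin 1 => g) := by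
    rw [Set.range_const]
    exact hker
  let e : (B ⧸ Ideal.span (Set.range fun _ : Fin 1 => g)) ≃ₐ[A] R :=
    (Ideal.quotientEquivAlgOfEq A hI.symm).trans
      (Ideal.quotientKerAlgEquivOfSurjective (f := IsScalarTower.toAlgHom A B R) hsurj)
  have he : ∀ x : B, e (Ideal.Quotient.mk _ x) = algebraMap B R x := fun x => rfl
  let q' : Ideal (B ⧸ Ideal.span (Set.range fun _ : Fin 1 => g)) := p.comap e
  haveI : q'.IsPrime := Ideal.comap_isPrime _ _
  have hq' : q'.comap (Ideal.Quotient.mk (Ideal.span (Set.range fun _ : Fin 1 => g))) = 𝔓 := by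
    rw [← h𝔓]
    ext x
    simp only [Ideal.mem_comap, q']
    rw [← he x]
  have hiff : Algebra.IsSmoothAt A q' ↔ Algebra.IsSmoothAt A p :=
    Algebra.FormallySmooth.iff_of_equiv (Localization.localAlgEquiv q' p e rfl)
  rw [← hiff]
  constructor
  · intro h
    exact one_tmul_D_ne_zero_of_isSmoothAt_quotient A g hg q' 𝔓 hq' h
  · intro h
    refine isSmoothAt_quotient_of_linearIndependent' A (fun _ : Fin 1 => g) q' 𝔓 hq' ?_
    rw [linearIndependent_unique_iff]
    exact h

end Abstract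

section Transfer

variable {B : Type v} {R : Type w} [CommRing B] [CommRing R] [Algebra B R]
  {N : Type*} [AddCommGroup N] [Module B N]

/-- Vanishing in the fibre at a prime of `R` of a base-changed element can be tested in the fibre at the
contracted prime of `B`. -/
theorem one_tmul_one_tmul_eq_zero_iff (p : Ideal R) [p.IsPrime] (𝔓 : Ideal B) [𝔓.IsPrime]
    [p.LiesOver 𝔓] (x : N) :
    (1 : p.ResidueField) ⊗ₜ[R] ((1 : R) ⊗ₜ[B] x) = 0 ↔ (1 : 𝔓.ResidueField) ⊗ₜ[B] x = 0 := by
  letI := Localization.AtPrime.algebraOfLiesOver 𝔓 p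
  haveI : IsScalarTower B 𝔓.ResidueField p.ResidueField := by
    refine IsScalarTower.of_algebraMap_eq' ?_
    rw [IsScalarTower.algebraMap_eq B (Localization.AtPrime 𝔓) 𝔓.ResidueField,
      ← RingHom.comp_assoc, ← IsScalarTower.algebraMap_eq (Localization.AtPrime 𝔓),
      IsScalarTower.algebraMap_eq (Localization.AtPrime 𝔓) (Localization.AtPrime p) p.ResidueField,
      RingHom.comp_assoc, ← IsScalarTower.algebraMap_eq B (Localization.AtPrime 𝔓),
      ← IsScalarTower.algebraMap_eq B (Localization.AtPrime p)]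
  let e1 := AlgebraTensorModule.cancelBaseChange B R p.ResidueField p.ResidueField N
  let e2 := AlgebraTensorModule.cancelBaseChange B 𝔓.ResidueField p.ResidueField p.ResidueField N
  have h1 : e1 ((1 : p.ResidueField) ⊗ₜ[R] ((1 : R) ⊗ₜ[B] x)) = (1 : p.ResidueField) ⊗ₜ[B] x := by
    simp [e1]
  have h2 : e2 ((1 : p.ResidueField) ⊗ₜ[𝔓.ResidueField] ((1 : 𝔓.ResidueField) ⊗ₜ[B] x)) =
      (1 : p.ResidueField) ⊗ₜ[B] x := by
    simp [e2]
  have hinj := Module.Flat.tensorProduct_mk_injective 𝔓.ResidueField (𝔓.ResidueField ⊗[B] N)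
    p.ResidueField
  constructor
  · intro h
    have h3 : (1 : p.ResidueField) ⊗ₜ[B] x = 0 := by rw [← h1, h, map_zero]
    have h4 : (1 : p.ResidueField) ⊗ₜ[𝔓.ResidueField] ((1 : 𝔓.ResidueField) ⊗ₜ[B] x) = 0 := by
      apply e2.injective
      rw [h2, h3, map_zero]
    apply hinj
    rw [map_zero]
    exact h4
  · intro h
    apply e1.injective
    rw [h1, map_zero, ← h2, h, TensorProduct.tmul_zero, map_zero]

end Transfer

section Main

variable (A : Type u) {B : Type u} {R : Type u} [CommRing A] [CommRing B] [CommRing R]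
  [Algebra A B] [Algebra B R] [Algebra A R] [IsScalarTower A B R]

open Groth.Agent.Lib.Helper25.RelGCIJacobian in
/-- For a hypersurface `R = B/(g)` in a smooth `A`-algebra `B` whose differentials have rank `n`, the fibre of
`Ω_{R/A}` at a prime has dimension at least `n` iff `dg` vanishes in the fibre. -/
theorem le_finrank_fiber_kaehler_iff [Algebra.Smooth A B] (n : ℕ) (g : B)
    (hsurj : Function.Surjective (algebraMap B R))
    (hker : RingHom.ker (algebraMap B R) = Ideal.span {g}) (p : PrimeSpectrum R)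
    (hn : Module.rankAtStalk (Ω[B⁄A]) (p.comap (algebraMap B R)) = n) :
    n ≤ Module.finrank p.asIdeal.ResidueField (p.asIdeal.ResidueField ⊗[R] Ω[R⁄A]) ↔
      (1 : p.asIdeal.ResidueField) ⊗ₜ[R] ((1 : R) ⊗ₜ[B] D A B g) = 0 := by
  classical
  have hker' : RingHom.ker (algebraMap B R) = Ideal.span (Set.range fun _ : Fin 1 => g) := by
    rw [Set.range_const]; exact hker
  have h1 := finrank_baseChange_eq_add p.asIdeal.ResidueField
    (Fintype.linearCombination R fun _ : Fin 1 => (1 : R) ⊗ₜ[B] D A B g)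
    ((mapBaseChange A B R).restrictScalars R)
    (exact_linearCombination_mapBaseChange A hsurj (fun _ : Fin 1 => g) hker')
    (mapBaseChange_surjective A B R hsurj)
    (fun j : Fin 1 => (Pi.single j (1 : R) : Fin 1 → R))
    (by
      rw [← (Pi.basisFun R (Fin 1)).span_eq]
      congr 1
      ext x
      simp only [Set.mem_range, Pi.basisFun_apply])
  have h2 : Module.finrank p.asIdeal.ResidueField
      (p.asIdeal.ResidueField ⊗[R] (R ⊗[B] Ω[B⁄A])) = n := by
    rw [← hn, ← Module.rankAtStalk_baseChange, Module.rankAtStalk_eq]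
  have h3 : (fun i : Fin 1 => (1 : p.asIdeal.ResidueField) ⊗ₜ[R] (Fintype.linearCombination R
      fun _ : Fin 1 => (1 : R) ⊗ₜ[B] D A B g) (Pi.single i (1 : R))) =
      fun _ => (1 : p.asIdeal.ResidueField) ⊗ₜ[R] ((1 : R) ⊗ₜ[B] D A B g) := by
    funext i
    rw [Fintype.linearCombination_apply_single, one_smul]
  rw [h3, Set.range_const, h2] at h1
  by_cases hw : (1 : p.asIdeal.ResidueField) ⊗ₜ[R] ((1 : R) ⊗ₜ[B] D A B g) = 0
  · rw [hw] at h1
    have h0 : Module.finrank p.asIdeal.ResidueField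
        ↥(Submodule.span p.asIdeal.ResidueField
          {(0 : p.asIdeal.ResidueField ⊗[R] (R ⊗[B] Ω[B⁄A]))}) = 0 := by
      rw [Submodule.span_zero_singleton]
      exact finrank_bot _ _
    rw [h0, zero_add] at h1
    exact ⟨fun _ => hw, fun _ => h1.le⟩
  · rw [finrank_span_singleton hw] at h1
    exact ⟨fun h => absurd h (by omega), fun h => absurd h hw⟩

open Groth.Agent.Lib.Helper25.ExtPowerAnn in
/-- The annihilator of `⋀^n Ω_{R/A}` cuts out the non-smooth locus of a hypersurface `R = B/(g)` in a smooth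
algebra `B` of relative dimension `n`. -/
theorem annihilator_exteriorPower_kaehler_le_iff [Algebra.Smooth A B] (n : ℕ)
    (hn : ∀ p : PrimeSpectrum B, Module.rankAtStalk (Ω[B⁄A]) p = n)
    (g : B) (hg : IsSMulRegular B g) (hsurj : Function.Surjective (algebraMap B R))
    (hker : RingHom.ker (algebraMap B R) = Ideal.span {g}) (p : PrimeSpectrum R) :
    (⋀[R]^n (Ω[R⁄A])).annihilator ≤ p.asIdeal ↔ p ∉ Algebra.smoothLocus A R := by
  haveI : Algebra.FiniteType A R :=
    Algebra.FiniteType.of_surjective (IsScalarTower.toAlgHom A B R) hsurj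
  rw [annihilator_exteriorPower_le_iff n p,
    le_finrank_fiber_kaehler_iff A n g hsurj hker p (hn _)]
  let 𝔓 : Ideal B := p.asIdeal.comap (algebraMap B R)
  haveI : 𝔓.IsPrime := Ideal.comap_isPrime _ _
  haveI : p.asIdeal.LiesOver 𝔓 := ⟨rfl⟩
  haveI : Algebra.IsSmoothAt A 𝔓 := by
    have h : (⟨𝔓, inferInstance⟩ : PrimeSpectrum B) ∈ Algebra.smoothLocus A B := by
      rw [Algebra.smoothLocus_eq_univ]; trivial
    exact h
  rw [one_tmul_one_tmul_eq_zero_iff p.asIdeal 𝔓]
  have h2 := isSmoothAt_iff_one_tmul_D_ne_zero A g hg hsurj hker p.asIdeal 𝔓 rfl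
  change _ ↔ ¬ Algebra.IsSmoothAt A p.asIdeal
  rw [h2, not_not]

end Main

end Groth.Agent.Lib.Helper25.HypersurfaceSmooth
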