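import Mathlib
import Groth.Agent.Lib.Helper25.HypersurfaceSmooth

/-!
# Jacobian criterion for a hypersurface in affine space over a field, in both directions
-/

set_option autoImplicit false

universe u

open TensorProduct KaehlerDifferential MvPolynomial

namespace Groth.Agent.Lib.Helper25.ChartPoly

variable {k : Type u} [Field k] {σ : Type}

theorem one_tmul_D_ne_zero_iff (𝔓 : Ideal (MvPolynomial σ k)) [𝔓.IsPrime]
    (g : MvPolynomial σ k) :
    (1 : 𝔓.ResidueField) ⊗ₜ[MvPolynomial σ k] D k (MvPolynomial σ k) g ≠ 0 ↔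
      ∃ i, pderiv i g ∉ 𝔓 := by
  classical
  let b : Module.Basis σ 𝔓.ResidueField
      (𝔓.ResidueField ⊗[MvPolynomial σ k] Ω[MvPolynomial σ k⁄k]) :=
    (KaehlerDifferential.mvPolynomialBasis k σ).baseChange 𝔓.ResidueField
  have hrepr : ∀ i, b.repr ((1 : 𝔓.ResidueField) ⊗ₜ[MvPolynomial σ k] D k (MvPolynomial σ k) g) i =
      algebraMap (MvPolynomial σ k) 𝔓.ResidueField (pderiv i g) := by
    intro i
    simp only [b, Module.Basis.baseChange_repr_tmul,
      KaehlerDifferential.mvPolynomialBasis_repr_apply, Algebra.smul_def, mul_one]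
  rw [Ne, ← b.repr.map_eq_zero_iff, Finsupp.ext_iff, not_forall]
  refine exists_congr fun i => ?_
  rw [hrepr, Finsupp.zero_apply, Ideal.algebraMap_residueField_eq_zero]

theorem smooth_iff_of_hypersurface [Finite σ] (g : MvPolynomial σ k) (hg : g ≠ 0)
    {R : Type u} [CommRing R] [Algebra k R] [Algebra (MvPolynomial σ k) R]
    [IsScalarTower k (MvPolynomial σ k) R]
    (hsurj : Function.Surjective (algebraMap (MvPolynomial σ k) R))
    (hker : RingHom.ker (algebraMap (MvPolynomial σ k) R) = Ideal.span {g}) :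
    Algebra.Smooth k R ↔
      ∀ 𝔓 : Ideal (MvPolynomial σ k), 𝔓.IsPrime → g ∈ 𝔓 → ∃ i, pderiv i g ∉ 𝔓 := by
  haveI : Algebra.FinitePresentation k R := by
    have h1 : Algebra.FinitePresentation k
        (MvPolynomial σ k ⧸ RingHom.ker (IsScalarTower.toAlgHom k (MvPolynomial σ k) R)) :=
      Algebra.FinitePresentation.quotient (by
        have : RingHom.ker (IsScalarTower.toAlgHom k (MvPolynomial σ k) R) = Ideal.span {g} := hker
        rw [this]
        exact ⟨{g}, by simp⟩)
    exact Algebra.FinitePresentation.equiv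
      (Ideal.quotientKerAlgEquivOfSurjective
        (f := IsScalarTower.toAlgHom k (MvPolynomial σ k) R) hsurj)
  have hreg : IsSMulRegular (MvPolynomial σ k) g := by
    intro a b hab
    exact mul_left_cancel₀ hg hab
  have key : ∀ (p : Ideal R) [p.IsPrime], Algebra.IsSmoothAt k p ↔
      ∃ i, pderiv i g ∉ p.comap (algebraMap (MvPolynomial σ k) R) := by
    intro p _
    haveI : (p.comap (algebraMap (MvPolynomial σ k) R)).IsPrime := Ideal.comap_isPrime _ _
    rw [Groth.Agent.Lib.Helper25.HypersurfaceSmooth.isSmoothAt_iff_one_tmul_D_ne_zero k g hreg hsurj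
      hker p (p.comap (algebraMap (MvPolynomial σ k) R)) rfl, one_tmul_D_ne_zero_iff]
  constructor
  · intro hsm 𝔓 h𝔓 hg𝔓
    have hle : RingHom.ker (algebraMap (MvPolynomial σ k) R) ≤ 𝔓 := by
      rw [hker, Ideal.span_singleton_le_iff_mem]; exact hg𝔓
    let p : Ideal R := 𝔓.map (algebraMap (MvPolynomial σ k) R)
    have hp : p.comap (algebraMap (MvPolynomial σ k) R) = 𝔓 :=
      Ideal.comap_map_of_surjective' _ hsurj 𝔓 |>.trans (sup_eq_left.mpr hle)
    haveI : p.IsPrime := Ideal.map_isPrime_of_surjective hsurj hle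
    have h1 : Algebra.IsSmoothAt k p := inferInstance
    rw [key p, hp] at h1
    exact h1
  · intro h
    refine ⟨?_, inferInstance⟩
    rw [← Algebra.smoothLocus_eq_univ_iff]
    ext p
    simp only [Set.mem_univ, iff_true]
    change Algebra.IsSmoothAt k p.asIdeal
    rw [key p.asIdeal]
    refine h _ (Ideal.comap_isPrime _ _) ?_
    rw [Ideal.mem_comap]
    have : algebraMap (MvPolynomial σ k) R g = 0 := by
      rw [← RingHom.mem_ker, hker]; exact Ideal.mem_span_singleton_self g
    rw [this]; exact p.asIdeal.zero_mem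

end Groth.Agent.Lib.Helper25.ChartPoly
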