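import Mathlib
import Groth.Prelude
import Groth.Agent.Lib.Helper29.ToProj4
import Groth.Agent.Lib.Helper29.TwistPn

/-!
# The standard charts of projective space are affine spaces

`theta n R i : R[T_j, j ≠ i] → R[X_0..X_n]_(X_i)`, `T_j ↦ X_j / X_i`, is bijective.
-/

set_option autoImplicit false

universe u

open HomogeneousLocalization MvPolynomial AlgebraicGeometry

namespace Groth.Agent.Lib.Helper25.ChartPoly

open Groth.Agent.Lib.Helper29.QCoh

variable (n : ℕ) (R : Type u) [CommRing R] (i : Fin (n + 1))

/-- The inclusion of the polynomial ring in the variables `j ≠ i`. -/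
noncomputable def incl : MvPolynomial {j : Fin (n + 1) // j ≠ i} R →ₐ[R]
    MvPolynomial (Fin (n + 1)) R :=
  rename Subtype.val

/-- The substitution `X_i ↦ 1`. -/
noncomputable def sub1 : MvPolynomial (Fin (n + 1)) R →ₐ[R]
    MvPolynomial {j : Fin (n + 1) // j ≠ i} R :=
  aeval (fun l => if h : l = i then 1 else X ⟨l, h⟩)

theorem sub1_X_self : sub1 n R i (X i) = 1 := by
  unfold sub1
  rw [aeval_X, dif_pos rfl]

theorem sub1_X_ne (l : Fin (n + 1)) (h : l ≠ i) : sub1 n R i (X l) = X ⟨l, h⟩ := by
  unfold sub1
  rw [aeval_X, dif_neg h]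

theorem sub1_incl (p : MvPolynomial {j : Fin (n + 1) // j ≠ i} R) :
    sub1 n R i (incl n R i p) = p := by
  induction p using MvPolynomial.induction_on with
  | C a => simp [incl, sub1]
  | add p q hp hq => rw [map_add, map_add, hp, hq]
  | mul_X p j hp =>
    rw [map_mul, map_mul, hp]
    congr 1
    unfold incl
    rw [rename_X, sub1_X_ne n R i j.1 j.2]

/-- `sub1` as a ring homomorphism. -/
noncomputable def sub1R : MvPolynomial (Fin (n + 1)) R →+*
    MvPolynomial {j : Fin (n + 1) // j ≠ i} R :=
  (sub1 n R i).toRingHom

theorem sub1R_apply (p : MvPolynomial (Fin (n + 1)) R) : sub1R n R i p = sub1 n R i p := rfl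

/-- The chart map of the statement: `T_j ↦ X_j / X_i`. -/
noncomputable def theta : MvPolynomial {j : Fin (n + 1) // j ≠ i} R →+*
    Away (CohB1.polyGrading n R) (X i) :=
  eval₂Hom
    ((HomogeneousLocalization.fromZeroRingHom (CohB1.polyGrading n R)
      (Submonoid.powers (MvPolynomial.X i))).comp
      (algebraMap R (CohB1.polyGrading n R 0)))
    (fun j : {j : Fin (n + 1) // j ≠ i} =>
      (HomogeneousLocalization.mk ⟨1, ⟨MvPolynomial.X j.1, MvPolynomial.isHomogeneous_X R j.1⟩,
        ⟨MvPolynomial.X i, MvPolynomial.isHomogeneous_X R i⟩, ⟨1, pow_one _⟩⟩ :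
        HomogeneousLocalization.Away (CohB1.polyGrading n R) (MvPolynomial.X i)))

theorem theta_C (r : R) : theta n R i (C r) = cFrac n R i r := by
  unfold theta cFrac
  rw [coe_eval₂Hom, eval₂_C]
  rfl

theorem theta_X (j : {j : Fin (n + 1) // j ≠ i}) : theta n R i (X j) = xFrac n R i j.1 := by
  unfold theta xFrac
  rw [coe_eval₂Hom, eval₂_X]
  apply HomogeneousLocalization.val_injective
  rw [Away.val_mk, HomogeneousLocalization.val_mk]
  simp only [pow_one]

theorem xFrac_self : xFrac n R i i = 1 := by
  unfold xFrac
  apply HomogeneousLocalization.val_injective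
  rw [Away.val_mk, HomogeneousLocalization.val_one]
  simp only [pow_one]
  exact Localization.mk_self
    (⟨X i, Submonoid.mem_powers _⟩ : Submonoid.powers (X i : MvPolynomial (Fin (n + 1)) R))

theorem dehom_eq_theta_comp_sub1 :
    dehom n R i = (theta n R i).comp (sub1R n R i) := by
  apply MvPolynomial.ringHom_ext
  · intro r
    have h1 : dehom n R i (C r) = cFrac n R i r := by
      unfold dehom cFrac
      rw [coe_eval₂Hom, eval₂_C]
      rfl
    rw [h1, RingHom.comp_apply]
    have h2 : sub1R n R i (C r) = C r := by
      rw [sub1R_apply]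
      unfold sub1
      rw [aeval_C]; rfl
    rw [h2, theta_C]
  · intro l
    have h1 : dehom n R i (X l) = xFrac n R i l := by
      unfold dehom
      rw [coe_eval₂Hom, eval₂_X]
    rw [h1, RingHom.comp_apply]
    by_cases h : l = i
    · subst h
      have h2 : sub1R n R l (X l) = 1 := sub1_X_self n R l
      rw [h2, map_one, xFrac_self]
    · have h2 : sub1R n R i (X l) = X ⟨l, h⟩ := sub1_X_ne n R i l h
      rw [h2, theta_X]

theorem dehom_surjective : Function.Surjective (dehom n R i) := by
  intro z
  obtain ⟨m, a, ha, rfl⟩ := Away.mk_surjective (CohB1.polyGrading n R) (isHomogeneous_X R i) z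
  exact ⟨a, dehom_eq_mk n R i m a ha⟩

theorem theta_surjective : Function.Surjective (theta n R i) := by
  intro z
  obtain ⟨a, rfl⟩ := dehom_surjective n R i z
  refine ⟨sub1 n R i a, ?_⟩
  rw [dehom_eq_theta_comp_sub1]
  rfl

/-- The retraction of the localization onto the polynomial ring in the variables `j ≠ i`. -/
noncomputable def retr : Localization.Away (X i : MvPolynomial (Fin (n + 1)) R) →+*
    MvPolynomial {j : Fin (n + 1) // j ≠ i} R :=
  IsLocalization.Away.lift (X i : MvPolynomial (Fin (n + 1)) R)
    (g := sub1R n R i)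
    (by
      have : sub1R n R i (X i) = 1 := sub1_X_self n R i
      rw [this]; exact isUnit_one)

theorem retr_val_theta (p : MvPolynomial {j : Fin (n + 1) // j ≠ i} R) :
    retr n R i (theta n R i p).val = p := by
  have key : ((retr n R i).comp ((algebraMap (Away (CohB1.polyGrading n R) (X i))
      (Localization.Away (X i : MvPolynomial (Fin (n + 1)) R))).comp (theta n R i))) =
      RingHom.id _ := by
    apply MvPolynomial.ringHom_ext
    · intro r
      rw [RingHom.comp_apply, RingHom.comp_apply, theta_C, RingHom.id_apply]
      have h1 : algebraMap (Away (CohB1.polyGrading n R) (X i))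
          (Localization.Away (X i : MvPolynomial (Fin (n + 1)) R)) (cFrac n R i r) =
          algebraMap (MvPolynomial (Fin (n + 1)) R) _ (C r) := by
        unfold cFrac
        change (fromZeroRingHom (CohB1.polyGrading n R) _
          (algebraMap R (CohB1.polyGrading n R 0) r)).val = _
        rw [HomogeneousLocalization.fromZeroRingHom]
        rfl
      rw [h1]
      unfold retr
      rw [IsLocalization.Away.lift_eq]
      change sub1 n R i (C r) = C r
      unfold sub1
      rw [aeval_C]; rfl
    · intro j
      rw [RingHom.comp_apply, RingHom.comp_apply, theta_X, RingHom.id_apply]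
      have h1 : algebraMap (Away (CohB1.polyGrading n R) (X i))
          (Localization.Away (X i : MvPolynomial (Fin (n + 1)) R)) (xFrac n R i j.1) =
          Localization.mk (X j.1) ⟨X i, Submonoid.mem_powers _⟩ := by
        unfold xFrac
        change (Away.mk (CohB1.polyGrading n R) (isHomogeneous_X R i) 1 (X j.1) _).val = _
        rw [Away.val_mk]
        simp only [pow_one]
      rw [h1, Localization.mk_eq_mk']
      unfold retr
      rw [IsLocalization.Away.lift, IsLocalization.lift_mk'_spec]
      change sub1 n R i (X j.1) = sub1 n R i (X i) * X j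
      rw [sub1_X_self, one_mul, sub1_X_ne n R i j.1 j.2]
  exact congrArg (fun φ => φ p) key

theorem theta_injective : Function.Injective (theta n R i) := by
  intro p q h
  rw [← retr_val_theta n R i p, ← retr_val_theta n R i q, h]

theorem theta_bijective : Function.Bijective (theta n R i) :=
  ⟨theta_injective n R i, theta_surjective n R i⟩

end Groth.Agent.Lib.Helper25.ChartPoly
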