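import Mathlib
import Groth.Prelude
import Groth.Agent.Lib.Helper25.ChartPoly1
import Groth.Agent.Lib.Helper25.DerRegular

/-!
# More on the chart substitution `X_i ↦ 1`
-/

set_option autoImplicit false

universe u

open HomogeneousLocalization MvPolynomial AlgebraicGeometry

namespace Groth.Agent.Lib.Helper25.ChartPoly

open Groth.Agent.Lib.Helper29.QCoh

variable (n : ℕ) (R : Type u) [CommRing R] (i : Fin (n + 1))

/-- Chain rule for the substitution `X_i ↦ 1`. -/
theorem pderiv_sub1 (l : {j : Fin (n + 1) // j ≠ i}) (W : MvPolynomial (Fin (n + 1)) R) :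
    pderiv l (sub1 n R i W) = sub1 n R i (pderiv l.1 W) := by
  classical
  unfold sub1
  rw [Groth.Agent.Lib.Helper25.DerRegular.derivation_aeval (pderiv l)
    (fun m => if h : m = i then 1 else X ⟨m, h⟩) W]
  rw [Finset.sum_eq_single l.1]
  · rw [dif_neg l.2, pderiv_X, Pi.single_eq_same, mul_one]
  · intro m _ hm
    by_cases h : m = i
    · rw [dif_pos h, Derivation.map_one_eq_zero, mul_zero]
    · rw [dif_neg h, pderiv_X]
      have : (⟨m, h⟩ : {j : Fin (n + 1) // j ≠ i}) ≠ l := fun e => hm (congrArg Subtype.val e)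
      rw [Pi.single_eq_of_ne this, mul_zero]
  · intro h; exact absurd (Finset.mem_univ _) h

variable {n R}

/-- A nonzero form stays nonzero after the substitution `X_i ↦ 1`. -/
theorem sub1_ne_zero [IsDomain R] {d : ℕ} {W : MvPolynomial (Fin (n + 1)) R}
    (hW : W.IsHomogeneous d) (h0 : W ≠ 0) : sub1 n R i W ≠ 0 := by
  intro h
  have h1 : dehom n R i W = 0 := by
    rw [dehom_eq_theta_comp_sub1, RingHom.comp_apply, sub1R_apply, h, map_zero]
  rw [dehom_eq_mk n R i d W (by rw [smul_eq_mul, mul_one]; exact hW)] at h1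
  have h2 := congrArg HomogeneousLocalization.val h1
  rw [Away.val_mk, HomogeneousLocalization.val_zero, Localization.mk_eq_mk',
    IsLocalization.mk'_eq_zero_iff] at h2
  obtain ⟨c, hc⟩ := h2
  obtain ⟨m, hm⟩ := c.2
  rw [← hm] at hc
  rcases mul_eq_zero.mp hc with h3 | h3
  · exact (pow_ne_zero m (X_ne_zero i)) h3
  · exact h0 h3

end Groth.Agent.Lib.Helper25.ChartPoly
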