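import Mathlib
import Groth.Prelude
import Groth.Agent.Lib.Helper25.ChartPoly2
import Groth.Agent.Lib.Helper25.ChartPoly3
import Groth.Agent.Lib.Helper25.BertiniPn7

/-!
# The projective Jacobian criterion for hypersurfaces in `P^r_k`
-/

set_option autoImplicit false

universe u

open HomogeneousLocalization MvPolynomial AlgebraicGeometry CategoryTheory

namespace Groth.Agent.Lib.Helper25.ChartPoly

open Groth.Agent.Lib.Helper29.QCoh Groth.Agent.Lib.Helper25.BertiniPn
  Groth.Agent.Lib.Helper25.Bertini Groth.Agent.Lib.Helper25.SepPts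

variable (k : Type u) [Field k] (r : ℕ) (j : Fin (r + 1))

/-- The chart isomorphism `k[T_i, i ≠ j] ≅ Γ(P^r, D_+(X_j))`. -/
noncomputable def Theta : MvPolynomial {i : Fin (r + 1) // i ≠ j} k →+*
    Γ(Proj (CohB1.polyGrading r k), chartU k r j) :=
  (Proj.awayToSection (CohB1.polyGrading r k) (X j)).hom.comp (theta r k j)

theorem Theta_bijective : Function.Bijective (Theta k r j) := by
  unfold Theta
  rw [RingHom.coe_comp]
  refine Function.Bijective.comp ?_ (theta_bijective r k j)
  exact (ConcreteCategory.isIso_iff_bijective (Proj.awayToSection (CohB1.polyGrading r k)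
      (X j))).mp (by
        rw [← Proj.basicOpenIsoAway_hom (CohB1.polyGrading r k) (X j) (isHomogeneous_X k j) one_pos]
        infer_instance)

theorem Theta_sub1 {d : ℕ} (W : LefPen.Form r k d) :
    Theta k r j (sub1 r k j W.1) = LefPen.dehom W j := by
  unfold Theta LefPen.dehom
  rw [RingHom.comp_apply]
  congr 1
  have h1 : theta r k j (sub1 r k j W.1) = dehom r k j W.1 := by
    rw [dehom_eq_theta_comp_sub1]; rfl
  rw [h1, dehom_eq_mk r k j d W.1 (by rw [smul_eq_mul, mul_one]; exact W.2)]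

theorem Theta_C (μ : k) :
    Theta k r j (C μ) = ρρ (CohB1.ProjSpace.toSpec r k) (chartU k r j) μ := by
  unfold Theta
  rw [RingHom.comp_apply, theta_C, awayToSection_cFrac]
  rfl

/-- `Theta` with target the sections over the chart of `CohB1.ProjSpace`. -/
noncomputable def ThetaA : MvPolynomial {i : Fin (r + 1) // i ≠ j} k →+*
    Γ(CohB1.ProjSpace r k, (chartA k r j).1) :=
  Theta k r j

theorem ThetaA_bijective : Function.Bijective (ThetaA k r j) := Theta_bijective k r j

theorem ThetaA_sub1 {d : ℕ} (W : LefPen.Form r k d) :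
    ThetaA k r j (sub1 r k j W.1) = LefPen.dehom W j := Theta_sub1 k r j W

theorem ThetaA_C (μ : k) :
    ThetaA k r j (C μ) = ρρ (CohB1.ProjSpace.toSpec r k) (chartA k r j).1 μ := Theta_C k r j μ

theorem chart_smooth_iff {d : ℕ} (W : LefPen.Form r k d) (hW : W ≠ 0) (K : (CohB1.ProjSpace r k).IdealSheafData)
    (hK : K.ideal (chartA k r j) = Ideal.span {LefPen.dehom W j}) :
    Smooth (K.subschemeCover.f (chartA k r j) ≫ K.subschemeι ≫ CohB1.ProjSpace.toSpec r k) ↔
      ∀ 𝔓 : Ideal (MvPolynomial {i : Fin (r + 1) // i ≠ j} k), 𝔓.IsPrime →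
        sub1 r k j W.1 ∈ 𝔓 → ∃ i, pderiv i (sub1 r k j W.1) ∉ 𝔓 := by
  letI alg : Algebra k Γ(CohB1.ProjSpace r k, (chartA k r j).1) :=
    (ρρ (CohB1.ProjSpace.toSpec r k) (chartA k r j).1).toAlgebra
  have heq : K.subschemeCover.f (chartA k r j) ≫ K.subschemeι ≫ CohB1.ProjSpace.toSpec r k =
      Spec.map (CommRingCat.ofHom (algebraMap k (Γ(CohB1.ProjSpace r k, (chartA k r j).1) ⧸
        K.ideal (chartA k r j)))) := by
    have e1 : K.subschemeCover.f (chartA k r j) ≫ K.subschemeι =
        K.glueDataObjι (chartA k r j) ≫ (chartA k r j).1.ι :=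
      K.subschemeCover_map_subschemeι _
    have e2 := K.glueDataObjι_ι (chartA k r j)
    rw [← Category.assoc]
    refine (congrArg (· ≫ CohB1.ProjSpace.toSpec r k) (e1.trans e2)).trans ?_
    refine (Category.assoc _ _ _).trans ?_
    refine (congrArg (Spec.map (CommRingCat.ofHom (Ideal.Quotient.mk
      (K.ideal (chartA k r j)))) ≫ ·)
      (fromSpec_comp_eq _ (chartA k r j).2)).trans ?_
    refine (Spec.map_comp _ _).symm.trans ?_
    rfl
  rw [heq]
  refine ((HasRingHomProperty.Spec_iff (P := @Smooth)).trans RingHom.smooth_algebraMap).trans ?_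
  letI algB : Algebra (MvPolynomial {i : Fin (r + 1) // i ≠ j} k)
      (Γ(CohB1.ProjSpace r k, (chartA k r j).1) ⧸ K.ideal (chartA k r j)) :=
    ((Ideal.Quotient.mk (K.ideal (chartA k r j))).comp (ThetaA k r j)).toAlgebra
  haveI : IsScalarTower k (MvPolynomial {i : Fin (r + 1) // i ≠ j} k)
      (Γ(CohB1.ProjSpace r k, (chartA k r j).1) ⧸ K.ideal (chartA k r j)) := by
    refine IsScalarTower.of_algebraMap_eq fun μ => ?_
    change Ideal.Quotient.mk _ (ρρ (CohB1.ProjSpace.toSpec r k) (chartA k r j).1 μ) =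
      Ideal.Quotient.mk _ (ThetaA k r j (C μ))
    rw [ThetaA_C]
  refine smooth_iff_of_hypersurface (sub1 r k j W.1) (sub1_ne_zero j W.2 ?_) ?_ ?_
  · intro h
    exact hW (Subtype.ext h)
  · change Function.Surjective ((Ideal.Quotient.mk (K.ideal (chartA k r j))).comp (ThetaA k r j))
    rw [RingHom.coe_comp]
    exact Ideal.Quotient.mk_surjective.comp (ThetaA_bijective k r j).2
  · change RingHom.ker ((Ideal.Quotient.mk (K.ideal (chartA k r j))).comp (ThetaA k r j)) = _
    rw [← RingHom.comap_ker, Ideal.mk_ker, hK, ← ThetaA_sub1, ← Set.image_singleton,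
      ← Ideal.map_span]
    exact Ideal.comap_map_of_bijective _ (ThetaA_bijective k r j)

/-- **Projective Jacobian criterion** for a hypersurface `V_+(W) ⊆ P^r_k`, chart by chart. -/
theorem smooth_hypIdeal_iff {d : ℕ} (W : LefPen.Form r k d) (hW : W ≠ 0) :
    Smooth ((LefPen.hypIdeal W).subschemeι ≫ CohB1.ProjSpace.toSpec r k) ↔
      ∀ (j : Fin (r + 1)) (𝔓 : Ideal (MvPolynomial {i : Fin (r + 1) // i ≠ j} k)), 𝔓.IsPrime →
        sub1 r k j W.1 ∈ 𝔓 → ∃ i, pderiv i (sub1 r k j W.1) ∉ 𝔓 := by
  constructor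
  · intro h j
    haveI := h
    have h1 : Smooth ((LefPen.hypIdeal W).subschemeCover.f (chartA k r j) ≫
        (LefPen.hypIdeal W).subschemeι ≫ CohB1.ProjSpace.toSpec r k) := inferInstance
    exact (chart_smooth_iff k r j W hW _ (hypIdeal_ideal_chart k r W j)).mp h1
  · intro h
    let 𝒰 : (LefPen.hypIdeal W).subscheme.OpenCover :=
      Scheme.Cover.mkOfCovers (ULift.{u} (Fin (r + 1)))
      (fun j => Spec ((LefPen.hypIdeal W).subschemeCover.X (chartA k r j.down)))
      (fun j => (LefPen.hypIdeal W).subschemeCover.f (chartA k r j.down)) (by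
        intro z
        obtain ⟨j, hj⟩ := exists_mem_basicOpen_X r k ((LefPen.hypIdeal W).subschemeι.base z)
        have hz : z ∈ ((LefPen.hypIdeal W).subschemeCover.f (chartA k r j)).opensRange := by
          rw [Scheme.IdealSheafData.opensRange_subschemeCover_map]
          exact hj
        obtain ⟨y, hy⟩ := hz
        exact ⟨⟨j⟩, y, hy⟩)
    refine IsZariskiLocalAtSource.of_openCover (P := @Smooth) 𝒰 (fun j => ?_)
    exact (chart_smooth_iff k r j.down W hW _ (hypIdeal_ideal_chart k r W j.down)).mpr (h j.down)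

end Groth.Agent.Lib.Helper25.ChartPoly
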