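import Groth.Agent.Lib.Helper25.HypTwist1
import Groth.Agent.Lib.Helper25.ChartPoly4
import Groth.Agent.Lib.Helper29.Pic1
import Groth.Agent.Lib.Helper29.IntegInv

/-!
# The ideal module of a hypersurface in `P^r_k` is trivialised on the standard charts by the
dehomogenisations of the equation
-/

set_option autoImplicit false

universe u

open CategoryTheory CategoryTheory.Limits AlgebraicGeometry Opposite TopologicalSpace

namespace Groth.Agent.Lib.Helper25.HypTwist

open Groth.Agent.Lib.Helper29.QCoh Groth.Agent.Lib.Helper25.BertiniPn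
  Groth.Agent.Lib.Helper25.ChartPoly

variable (k : Type u) [Field k] (r : ℕ) {d : ℕ} (G : LefPen.Form r k d)

theorem dehom_mem (j : Fin (r + 1)) :
    LefPen.dehom G j ∈ (LefPen.hypIdeal G).ideal (chartA k r j) := by
  rw [hypIdeal_ideal_chart]
  exact Ideal.subset_span rfl

/-- The generator of the ideal module of the hypersurface on the chart `D_+(T_j)`. -/
noncomputable def mGen (j : Fin (r + 1)) :
    Γ(ClSub.idealMod (LefPen.hypIdeal G), (chartA k r j).1) :=
  (exists_ifun_eq (LefPen.hypIdeal G) (chartA k r j) _ (dehom_mem k r G j)).choose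

theorem ifun_mGen (j : Fin (r + 1)) :
    ifun (LefPen.hypIdeal G) (mGen k r G j) = LefPen.dehom G j :=
  (exists_ifun_eq (LefPen.hypIdeal G) (chartA k r j) _ (dehom_mem k r G j)).choose_spec

variable {k r G}

theorem dehom_ne_zero (hG : G ≠ 0) (j : Fin (r + 1)) : LefPen.dehom G j ≠ 0 := by
  rw [← ThetaA_sub1 k r j G]
  intro h
  have h1 : sub1 r k j G.1 = 0 := (ThetaA_bijective k r j).1 (h.trans (map_zero _).symm)
  exact sub1_ne_zero (i := j) G.2 (fun h0 => hG (Subtype.ext h0)) h1

instance : IsIntegral (CohB1.ProjSpace r k) :=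
  inferInstanceAs (IsIntegral (Proj (CohB1.polyGrading r k)))

theorem isTriv_mGen (hG : G ≠ 0) (j : Fin (r + 1)) :
    IsTriv (ClSub.idealMod (LefPen.hypIdeal G)) (chartA k r j).1 (mGen k r G j) := by
  apply isTriv_idealMod
  · intro W h
    rw [ifun_mGen]
    have h1 := (LefPen.hypIdeal G).map_ideal (U := W) (V := chartA k r j) h
    rw [← h1, hypIdeal_ideal_chart, Ideal.map_span, Set.image_singleton]
    exact le_rfl
  · intro W h a ha
    rw [ifun_mGen] at ha
    by_cases hW : (W : Set (CohB1.ProjSpace r k)).Nonempty
    · have : Nonempty W := hW.to_subtype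
      haveI : IsDomain Γ(CohB1.ProjSpace r k, W) := inferInstance
      rcases mul_eq_zero.mp ha with h0 | h0
      · exact h0
      · exfalso
        apply dehom_ne_zero hG j
        exact rres_injective_of_isIntegral h hW (h0.trans (map_zero _).symm)
    · have hW' : W = ⊥ := by
        ext x
        simp only [Opens.coe_bot, Set.mem_empty_iff_false, iff_false]
        exact fun hx => hW ⟨x, hx⟩
      subst hW'
      exact Subsingleton.elim _ _

end Groth.Agent.Lib.Helper25.HypTwist
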