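import Groth.Agent.Lib.Helper28.StalkTensor8
import Groth.Prelude.Def_CohB1

/-!
# Support of a tensor product (helper25)

`Supp (F ⊗ G) ⊆ Supp F`, from helper28's `(F ⊗ G)_x ≅ F_x ⊗ G_x`.
-/

set_option autoImplicit false

universe u

open CategoryTheory CategoryTheory.Limits AlgebraicGeometry Opposite MonoidalCategory

namespace Groth.Agent.Lib.Helper25.SuppTensor

variable {X : Scheme.{u}}

/-- the stalk of `F ⊗ G` at `x` vanishes when the stalk of `F` does. -/
theorem subsingleton_stalk_tensorMod (F G : X.Modules) (x : X)
    (h : Subsingleton (F.presheaf.stalk x)) :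
    Subsingleton ((CohB1.tensorMod F G).presheaf.stalk x) := by
  have e := Groth.Agent.Lib.Helper28.StalkTensor.stalkTensorIso x F G
  haveI : Subsingleton ((DerSch.stalkFunctor X x).obj F) := h
  haveI : Subsingleton ((DerSch.stalkFunctor X x).obj F ⊗ (DerSch.stalkFunctor X x).obj G :
      ModuleCat (X.presheaf.stalk x)) :=
    (inferInstance : Subsingleton (TensorProduct (X.presheaf.stalk x)
      ((DerSch.stalkFunctor X x).obj F) ((DerSch.stalkFunctor X x).obj G)))
  exact e.toLinearEquiv.toEquiv.subsingleton

/-- `Supp (F ⊗ G) ⊆ Supp F`. -/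
theorem support_tensorMod_subset (F G : X.Modules) :
    CohB1.support (CohB1.tensorMod F G) ⊆ CohB1.support F := by
  intro x hx hF
  exact hx (subsingleton_stalk_tensorMod F G x hF)

/-- the dimension of the support does not increase under tensoring. -/
theorem topologicalKrullDim_support_tensorMod_le (F G : X.Modules) :
    topologicalKrullDim (CohB1.support (CohB1.tensorMod F G)) ≤
      topologicalKrullDim (CohB1.support F) := by
  have hsub := support_tensorMod_subset F G
  have hind : Topology.IsInducing (Set.inclusion hsub) :=
    (Topology.IsEmbedding.inclusion hsub).isInducing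
  exact hind.topologicalKrullDim_le

end Groth.Agent.Lib.Helper25.SuppTensor
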