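import Groth.Agent.Lib.Helper25.Matlis
import Mathlib.RingTheory.Flat.Basic
import Mathlib.RingTheory.TensorProduct.Basic

/-!
# Injective modules and flat base change
-/

set_option autoImplicit false

universe u v

namespace Groth.Agent.Lib.Helper25

open InjHull TensorProduct

section RestrictFlat

variable {R S : Type u} [CommRing R] [CommRing S] [Algebra R S] [Module.Flat R S]
  {E : Type u} [AddCommGroup E] [Module S E] [Module R E] [IsScalarTower R S E]

/-- an injective module over a flat algebra is injective over the base -/
theorem injective_restrictScalars_of_flat [Module.Injective S E] : Module.Injective R E := by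
  apply Module.Baer.injective
  intro I g
  let j : S ⊗[R] I →ₗ[S] S := LinearMap.liftBaseChange S ((Algebra.linearMap R S) ∘ₗ I.subtype)
  have hjR : j.restrictScalars R =
      (TensorProduct.rid R S).toLinearMap ∘ₗ (LinearMap.lTensor S I.subtype) := by
    apply TensorProduct.ext'
    intro s i
    change s • algebraMap R S (i : R) = (i : R) • s
    rw [smul_eq_mul, Algebra.smul_def, mul_comm]
  have hj : Function.Injective j := by
    have h1 : Function.Injective (j.restrictScalars R) := by
      rw [hjR]
      exact (TensorProduct.rid R S).injective.comp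
        (Module.Flat.lTensor_preserves_injective_linearMap _ I.subtype_injective)
    exact h1
  obtain ⟨Ψ, hΨ⟩ := Module.Injective.extension_property S E (S ⊗[R] I) S j hj
    (LinearMap.liftBaseChange S g)
  refine ⟨(Ψ.restrictScalars R) ∘ₗ (Algebra.linearMap R S), fun x hx => ?_⟩
  have h1 := LinearMap.congr_fun hΨ ((1 : S) ⊗ₜ[R] (⟨x, hx⟩ : I))
  rw [LinearMap.comp_apply, LinearMap.liftBaseChange_tmul, LinearMap.liftBaseChange_tmul,
    one_smul, one_smul] at h1
  exact h1

end RestrictFlat

section Recognize

variable {A : Type u} [CommRing A] [IsLocalRing A] {E : Type u} [AddCommGroup E] [Module A E]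

open IsLocalRing

/-- an injective power torsion module with simple socle is a hull of the residue field -/
theorem exists_hull_of_socle_simple (hinj : Module.Injective A E)
    (hpt : LocCoh.IsPowerTorsion (maximalIdeal A) E)
    (hs : IsSimpleModule A (LocCoh.torsionBy (maximalIdeal A) E)) :
    ∃ f : ResidueField A →ₗ[A] E, IsInjectiveHull f := by
  obtain ⟨e⟩ := nonempty_equiv_residueField_of_isSimpleModule (R := A)
    (LocCoh.torsionBy (maximalIdeal A) E)
  refine ⟨(LocCoh.torsionBy (maximalIdeal A) E).subtype ∘ₗ e.symm.toLinearMap, ?_, hinj⟩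
  exact essInj_comp (isEssentialInj_of_bijective e.symm.bijective)
    (essIn_top_iff.1 (essIn_socle_of_isPowerTorsion hpt))

end Recognize

section LocalFlat

open IsLocalRing

variable {R S : Type u} [CommRing R] [CommRing S] [IsLocalRing R] [IsLocalRing S]
  [IsNoetherianRing S] [Algebra R S] [IsLocalHom (algebraMap R S)]
  [Module.Flat R S]
  {E : Type u} [AddCommGroup E] [Module S E] [Module R E] [IsScalarTower R S E]

theorem exists_hull_restrictScalars
    (hm : (maximalIdeal R).map (algebraMap R S) = maximalIdeal S)
    (hk : Function.Bijective (ResidueField.map (algebraMap R S)))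
    (f : ResidueField S →ₗ[S] E) (hf : IsInjectiveHull f) :
    ∃ g : ResidueField R →ₗ[R] E, IsInjectiveHull g := by
  have hEinj := hf.isInjective
  have hptS := isPowerTorsion_of_isInjectiveHull f hf
  have hmap : ∀ (n : ℕ) (a : R), a ∈ maximalIdeal R ^ n →
      algebraMap R S a ∈ maximalIdeal S ^ n := by
    intro n a ha
    rw [← hm, ← Ideal.map_pow]
    exact Ideal.mem_map_of_mem _ ha
  apply exists_hull_of_socle_simple
  · exact injective_restrictScalars_of_flat (S := S)
  · intro e
    obtain ⟨n, hn⟩ := hptS e
    refine ⟨n, fun a ha => ?_⟩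
    rw [← algebraMap_smul S a e]
    exact hn _ (hmap n a ha)
  · -- the socle over `R` is the socle over `S`
    have hsoc : ∀ x : E, x ∈ LocCoh.torsionBy (maximalIdeal R) E → x ∈ LinearMap.range f := by
      intro x hx
      rw [← torsionBy_maximalIdeal_eq_range f hf.toIsEssentialInj,
        Submodule.mem_torsionBySet_iff]
      rintro ⟨b, hb⟩
      change b • x = 0
      have hle : maximalIdeal S ≤ (Submodule.span S {x}).annihilator := by
        rw [← hm, Ideal.map, Ideal.span_le]
        rintro _ ⟨a, ha, rfl⟩
        rw [SetLike.mem_coe, Submodule.mem_annihilator_span_singleton, algebraMap_smul]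
        exact (Submodule.mem_torsionBySet_iff _ _).1 hx ⟨a, ha⟩
      exact (Submodule.mem_annihilator_span_singleton _ _).1 (hle hb)
    rw [isSimpleModule_iff_toSpanSingleton_surjective]
    constructor
    · have h1 : f 1 ∈ LocCoh.torsionBy (maximalIdeal R) E := by
        rw [Submodule.mem_torsionBySet_iff]
        rintro ⟨a, ha⟩
        change a • f 1 = 0
        rw [← algebraMap_smul S a (f 1), ← map_smul]
        have : algebraMap R S a ∈ maximalIdeal S := by
          have := hmap 1 a (by rwa [pow_one])
          rwa [pow_one] at this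
        rw [smul_residueField_eq_zero this, map_zero]
      refine ⟨⟨⟨f 1, h1⟩, 0, ?_⟩⟩
      intro h
      have : f 1 = 0 := congrArg Subtype.val h
      have : (1 : ResidueField S) = 0 := hf.injective (by rw [this, map_zero])
      exact one_ne_zero this
    · rintro ⟨x, hx⟩ hx0 ⟨y, hy⟩
      obtain ⟨k₁, rfl⟩ := hsoc x hx
      obtain ⟨k₂, rfl⟩ := hsoc y hy
      have hk₁ : k₁ ≠ 0 := by
        rintro rfl
        exact hx0 (Subtype.ext (map_zero f))
      obtain ⟨c, hc⟩ := hk.2 (k₂ * k₁⁻¹)
      obtain ⟨r, rfl⟩ := residue_surjective c
      refine ⟨r, Subtype.ext ?_⟩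
      change r • f k₁ = f k₂
      rw [← algebraMap_smul S r (f k₁), ← map_smul]
      congr 1
      rw [Algebra.smul_def, ResidueField.algebraMap_eq]
      have : residue S (algebraMap R S r) = ResidueField.map (algebraMap R S) (residue R r) := rfl
      rw [this, hc, mul_assoc, inv_mul_cancel₀ hk₁, mul_one]

end LocalFlat

end Groth.Agent.Lib.Helper25
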