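import Groth.Agent.Lib.Helper25.InjHull
import Mathlib.Algebra.Module.Torsion.Basic

/-!
# The hull over a quotient ring is the torsion part of the hull
-/

set_option autoImplicit false

universe u v

namespace Groth.Agent.Lib.Helper25

open InjHull

section InjQuot

variable {R : Type u} [CommRing R] (b : Ideal R)

theorem mk_surj : Function.Surjective (algebraMap R (R ⧸ b)) := Ideal.Quotient.mk_surjective

/-- the `b`-torsion of an injective module is injective over `R/b` -/
theorem injective_torsionBy (E : Type u) [AddCommGroup E] [Module R E] [Module.Injective R E] :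
    Module.Injective (R ⧸ b) ↥(LocCoh.torsionBy b E) := by
  apply Module.Baer.injective
  intro J φ
  let incl : J →ₗ[R] (R ⧸ b) := J.subtype.restrictScalars R
  have hincl : Function.Injective incl := J.subtype_injective
  let φ' : J →ₗ[R] E := (LocCoh.torsionBy b E).subtype ∘ₗ φ.restrictScalars R
  obtain ⟨ψ', hψ'⟩ := Module.Injective.extension_property R E J (R ⧸ b) incl hincl φ'
  have hmem : ∀ y : R ⧸ b, ψ' y ∈ LocCoh.torsionBy b E := by
    intro y
    rw [Submodule.mem_torsionBySet_iff]
    rintro ⟨a, ha⟩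
    change a • ψ' y = 0
    rw [← map_smul, Algebra.smul_def]
    have : algebraMap R (R ⧸ b) a = 0 := Ideal.Quotient.eq_zero_iff_mem.2 ha
    rw [this, zero_mul, map_zero]
  let ψ'' : (R ⧸ b) →ₗ[R] ↥(LocCoh.torsionBy b E) := ψ'.codRestrict _ hmem
  refine ⟨ψ''.extendScalarsOfSurjective (mk_surj b), fun x hx => ?_⟩
  apply Subtype.ext
  change ψ' x = φ' ⟨x, hx⟩
  rw [← hψ']
  rfl

/-- the `b`-torsion of the hull of an `R/b`-module is its hull over `R/b` -/
theorem exists_hull_torsionBy {M : Type u} [AddCommGroup M] [Module R M] [Module (R ⧸ b) M]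
    [IsScalarTower R (R ⧸ b) M] {E : Type u} [AddCommGroup E] [Module R E] (f : M →ₗ[R] E)
    (hf : IsInjectiveHull f) :
    ∃ g : M →ₗ[R ⧸ b] ↥(LocCoh.torsionBy b E), IsInjectiveHull g ∧
      ∀ x : M, ((g x : LocCoh.torsionBy b E) : E) = f x := by
  have := hf.isInjective
  have hmem : ∀ m : M, f m ∈ LocCoh.torsionBy b E := by
    intro m
    rw [Submodule.mem_torsionBySet_iff]
    rintro ⟨a, ha⟩
    change a • f m = 0
    rw [← map_smul, ← algebraMap_smul (R ⧸ b) a m]
    have : algebraMap R (R ⧸ b) a = 0 := Ideal.Quotient.eq_zero_iff_mem.2 ha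
    rw [this, zero_smul, map_zero]
  let g₀ : M →ₗ[R] ↥(LocCoh.torsionBy b E) := f.codRestrict _ hmem
  refine ⟨g₀.extendScalarsOfSurjective (mk_surj b), ⟨?_, injective_torsionBy b E⟩, fun x => rfl⟩
  rw [isEssentialInj_iff]
  refine ⟨fun x y hxy => hf.injective (congrArg Subtype.val hxy), fun x hx => ?_⟩
  have hx' : (x : E) ≠ 0 := fun h => hx (Subtype.ext h)
  obtain ⟨r, hr0, m, hm⟩ := ((isEssentialInj_iff f).1 hf.toIsEssentialInj).2 _ hx'
  refine ⟨Ideal.Quotient.mk b r, ?_, m, ?_⟩
  · rw [Submodule.torsionBySet.mk_smul]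
    intro h
    exact hr0 (congrArg Subtype.val h)
  · rw [Submodule.torsionBySet.mk_smul]
    apply Subtype.ext
    exact hm

end InjQuot

end Groth.Agent.Lib.Helper25
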