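import Groth.Agent.Lib.Helper25.InjNoeth
import Mathlib.RingTheory.Ideal.AssociatedPrime.Basic
import Mathlib.RingTheory.LocalRing.ResidueField.Ideal
import Mathlib.Order.CompactlyGenerated.Basic
import Mathlib.LinearAlgebra.DFinsupp

/-!
# Indecomposable injective modules
-/

set_option autoImplicit false

universe u v

namespace Groth.Agent.Lib.Helper25

open InjHull

section Indec

variable {R : Type u} [CommRing R] {E : Type v} [AddCommGroup E] [Module R E]

/-- transport of injectivity along a linear equivalence -/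
theorem injective_of_linearEquiv {E' : Type v} [AddCommGroup E'] [Module R E'] (e : E ≃ₗ[R] E')
    (h : Module.Injective R E) : Module.Injective R E' where
  out X Y _ _ _ _ f hf g := by
    obtain ⟨l, hl⟩ := h.out f hf (e.symm.toLinearMap ∘ₗ g)
    refine ⟨e.toLinearMap ∘ₗ l, fun x => ?_⟩
    simp [hl]

/-- in an indecomposable injective module every nonzero submodule is essential -/
theorem essIn_top_of_indecomposable (hE : IsIndecomposable R E) [Module.Injective R E]
    (N : Submodule R E) (hN : N ≠ ⊥) : EssIn N ⊤ := by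
  obtain ⟨Eh, hess, ⟨C, hC⟩, -⟩ := exists_hull_submodule N
  rcases hE.2 Eh C hC with h | h
  · exact absurd (le_bot_iff.1 (h ▸ hess.1)) hN
  · have htop : Eh = ⊤ := by
      have := hC.sup_eq_top
      rwa [h, sup_bot_eq] at this
    rwa [htop] at hess

/-- an indecomposable injective module is uniform -/
theorem inf_ne_bot_of_indecomposable (hE : IsIndecomposable R E) [Module.Injective R E]
    (N N' : Submodule R E) (hN : N ≠ ⊥) (hN' : N' ≠ ⊥) : N ⊓ N' ≠ ⊥ := by
  have hess := essIn_top_of_indecomposable hE N hN
  obtain ⟨x, hx, hx0⟩ := (Submodule.ne_bot_iff _).1 hN'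
  obtain ⟨r, hr0, hr⟩ := hess.2 x trivial hx0
  exact (Submodule.ne_bot_iff _).2 ⟨r • x, ⟨hr, N'.smul_mem r hx⟩, hr0⟩

/-- the zero divisors on a uniform nonzero module form a prime ideal -/
theorem exists_prime_zeroDivisors [Nontrivial E]
    (huni : ∀ N N' : Submodule R E, N ≠ ⊥ → N' ≠ ⊥ → N ⊓ N' ≠ ⊥) :
    ∃ p : Ideal R, p.IsPrime ∧ (p : Set R) = {r : R | ∃ x : E, x ≠ 0 ∧ r • x = 0} := by
  obtain ⟨x₀, hx₀⟩ := exists_ne (0 : E)
  let p : Ideal R :=
    { carrier := {r : R | ∃ x : E, x ≠ 0 ∧ r • x = 0}
      add_mem' := by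
        rintro r s ⟨x, hx0, hx⟩ ⟨y, hy0, hy⟩
        have h1 : Submodule.span R {x} ≠ ⊥ := by
          rw [Ne, Submodule.span_singleton_eq_bot]; exact hx0
        have h2 : Submodule.span R {y} ≠ ⊥ := by
          rw [Ne, Submodule.span_singleton_eq_bot]; exact hy0
        obtain ⟨z, ⟨hz1, hz2⟩, hz0⟩ := (Submodule.ne_bot_iff _).1 (huni _ _ h1 h2)
        obtain ⟨a, rfl⟩ := Submodule.mem_span_singleton.1 hz1
        obtain ⟨b, hb⟩ := Submodule.mem_span_singleton.1 hz2
        refine ⟨a • x, hz0, ?_⟩
        rw [add_smul, smul_comm, hx, smul_zero, zero_add, ← hb, smul_comm, hy, smul_zero]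
      zero_mem' := ⟨x₀, hx₀, zero_smul _ _⟩
      smul_mem' := by
        rintro c r ⟨x, hx0, hx⟩
        exact ⟨x, hx0, by rw [smul_eq_mul, mul_smul, hx, smul_zero]⟩ }
  refine ⟨p, ⟨?_, ?_⟩, rfl⟩
  · intro htop
    have h1 : (1 : R) ∈ p := htop ▸ Submodule.mem_top
    obtain ⟨x, hx0, hx⟩ := h1
    exact hx0 (by rwa [one_smul] at hx)
  · rintro r s ⟨x, hx0, hx⟩
    by_cases hsx : s • x = 0
    · exact Or.inr ⟨x, hx0, hsx⟩
    · exact Or.inl ⟨s • x, hsx, by rw [← mul_smul]; exact hx⟩

end Indec


section HullPrime

variable {R : Type u} [CommRing R] {E : Type u} [AddCommGroup E] [Module R E]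

/-- the `R`-linear map `R/p → κ(p)` -/
noncomputable def quotToResidueField (p : Ideal R) [p.IsPrime] : (R ⧸ p) →ₗ[R] p.ResidueField :=
  (Algebra.linearMap (R ⧸ p) p.ResidueField).restrictScalars R

theorem quotToResidueField_apply (p : Ideal R) [p.IsPrime] (x : R ⧸ p) :
    quotToResidueField p x = algebraMap (R ⧸ p) p.ResidueField x := rfl

/-- `R/p → κ(p)` is an essential injection of `R`-modules -/
theorem essInj_quotToResidueField (p : Ideal R) [p.IsPrime] :
    IsEssentialInj (quotToResidueField p) := by
  rw [isEssentialInj_iff]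
  refine ⟨p.injective_algebraMap_quotient_residueField, fun x hx => ?_⟩
  obtain ⟨⟨a, ⟨s, hs⟩⟩, h⟩ := IsLocalization.surj (nonZeroDivisors (R ⧸ p)) x
  obtain ⟨s', rfl⟩ := Ideal.Quotient.mk_surjective s
  have hs0 : algebraMap (R ⧸ p) p.ResidueField (Ideal.Quotient.mk p s') ≠ 0 := by
    intro h0
    exact nonZeroDivisors.ne_zero hs (p.injective_algebraMap_quotient_residueField
      (by rw [h0, map_zero]))
  have hsx : s' • x = algebraMap (R ⧸ p) p.ResidueField a := by
    rw [← h, Algebra.smul_def, mul_comm]
    rfl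
  refine ⟨s', ?_, a, ?_⟩
  · rw [hsx, ← h]
    exact mul_ne_zero hx hs0
  · rw [hsx]; rfl

/-- an injective hull of `R/p` is indecomposable -/
theorem isIndecomposable_of_hull_quotient_prime (p : Ideal R) [p.IsPrime] (f : (R ⧸ p) →ₗ[R] E)
    (hf : IsEssentialInj f) : IsIndecomposable R E := by
  refine ⟨?_, fun A B hAB => ?_⟩
  · exact hf.injective.nontrivial
  · by_contra hcon
    push Not at hcon
    obtain ⟨hA, hB⟩ := hcon
    obtain ⟨a, ⟨haA, a', rfl⟩, ha0⟩ := (Submodule.ne_bot_iff _).1 (hf.essential A hA)
    obtain ⟨b, ⟨hbB, b', rfl⟩, hb0⟩ := (Submodule.ne_bot_iff _).1 (hf.essential B hB)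
    obtain ⟨a'', rfl⟩ := Ideal.Quotient.mk_surjective a'
    obtain ⟨b'', rfl⟩ := Ideal.Quotient.mk_surjective b'
    have h1 : f (Ideal.Quotient.mk p (a'' * b'')) ∈ A := by
      have : Ideal.Quotient.mk p (a'' * b'') = b'' • Ideal.Quotient.mk p a'' := by
        rw [mul_comm]; rfl
      rw [this, map_smul]
      exact A.smul_mem _ haA
    have h2 : f (Ideal.Quotient.mk p (a'' * b'')) ∈ B := by
      have : Ideal.Quotient.mk p (a'' * b'') = a'' • Ideal.Quotient.mk p b'' := rfl
      rw [this, map_smul]
      exact B.smul_mem _ hbB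
    have h3 : f (Ideal.Quotient.mk p (a'' * b'')) = 0 :=
      (Submodule.disjoint_def.1 hAB.disjoint) _ h1 h2
    have h4 : Ideal.Quotient.mk p (a'' * b'') = 0 := hf.injective (by rw [h3, map_zero])
    rw [Ideal.Quotient.eq_zero_iff_mem] at h4
    rcases Ideal.IsPrime.mem_or_mem inferInstance h4 with h | h
    · exact ha0 (by rw [Ideal.Quotient.eq_zero_iff_mem.2 h, map_zero])
    · exact hb0 (by rw [Ideal.Quotient.eq_zero_iff_mem.2 h, map_zero])

/-- an injective hull of `R/p` is an injective hull of `κ(p)` -/
theorem exists_hull_residueField (p : Ideal R) [p.IsPrime] (f : (R ⧸ p) →ₗ[R] E)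
    (hf : IsInjectiveHull f) : ∃ g : p.ResidueField →ₗ[R] E, IsInjectiveHull g := by
  have := hf.isInjective
  obtain ⟨g, hg⟩ := Module.Injective.out (quotToResidueField p)
    (essInj_quotToResidueField p).injective f
  have hcomp : g ∘ₗ quotToResidueField p = f := LinearMap.ext hg
  have hginj : Function.Injective g :=
    essInj_injective_of_comp (essInj_quotToResidueField p) g (by rw [hcomp]; exact hf.injective)
  refine ⟨g, ⟨?_, hf.isInjective⟩⟩
  exact essInj_of_comp_left (f := quotToResidueField p) (by rw [hcomp]; exact hf.toIsEssentialInj)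
    hginj

/-- over a Noetherian ring an indecomposable injective is a hull of some `R/p` -/
theorem exists_hull_quotient_of_indecomposable [IsNoetherianRing R]
    (hE : IsIndecomposable R E) (hinj : Module.Injective R E) :
    ∃ (p : Ideal R) (_ : p.IsPrime) (f : (R ⧸ p) →ₗ[R] E), IsInjectiveHull f := by
  have := hE.1
  obtain ⟨p, hp⟩ := associatedPrimes.nonempty R E
  obtain ⟨hprime, x, hx⟩ := isAssociatedPrime_iff.1 hp
  have hker : p ≤ LinearMap.ker (LinearMap.toSpanSingleton R E x) := by
    intro r hr
    rw [hx, Submodule.mem_colon_singleton, Submodule.mem_bot] at hr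
    simpa using hr
  let f : (R ⧸ p) →ₗ[R] E := Submodule.liftQ p (LinearMap.toSpanSingleton R E x) hker
  have hf_inj : Function.Injective f := by
    rw [← LinearMap.ker_eq_bot]
    apply Submodule.ker_liftQ_eq_bot'
    refine le_antisymm hker ?_
    intro r hr
    rw [hx, Submodule.mem_colon_singleton, Submodule.mem_bot]
    simpa using hr
  have hne : LinearMap.range f ≠ ⊥ := by
    intro h
    have h1 : f 1 ∈ LinearMap.range f := ⟨1, rfl⟩
    rw [h, Submodule.mem_bot] at h1
    have : (1 : R ⧸ p) = 0 := hf_inj (by rw [h1, map_zero])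
    have hp1 : (1 : R) ∈ p := by
      rw [← Ideal.Quotient.eq_zero_iff_mem]; exact this
    exact hprime.ne_top ((Ideal.eq_top_iff_one p).2 hp1)
  have hess := essIn_top_of_indecomposable hE _ hne
  refine ⟨p, hprime, f, ⟨?_, hinj⟩⟩
  rw [isEssentialInj_iff]
  exact ⟨hf_inj, fun y hy => hess.2 y trivial hy⟩

end HullPrime


section Decomposition

theorem sSupIndep_insert {α : Type*} [CompleteLattice α] [IsModularLattice α] {s : Set α} {a : α}
    (hs : sSupIndep s) (ha : Disjoint a (sSup s)) : sSupIndep (insert a s) := by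
  intro x hx
  rcases eq_or_ne x a with rfl | hxa
  · refine ha.mono_right (sSup_le_sSup ?_)
    intro y hy
    rcases hy.1 with rfl | h
    · exact absurd rfl hy.2
    · exact h
  · have hxs : x ∈ s := hx.resolve_left hxa
    have h : insert a s \ {x} = insert a (s \ {x}) := by
      rw [Set.insert_diff_of_notMem]
      rw [Set.mem_singleton_iff]
      exact hxa.symm
    rw [h, sSup_insert, sup_comm]
    refine (hs hxs).disjoint_sup_right_of_disjoint_sup_left ?_
    have : x ⊔ sSup (s \ {x}) = sSup s := by
      rw [← sSup_insert, Set.insert_diff_singleton, Set.insert_eq_of_mem hxs]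
    rw [this]
    exact ha.symm

variable {R : Type u} [CommRing R] [IsNoetherianRing R]

/-- a nonzero injective module over a Noetherian ring contains an indecomposable injective
submodule -/
theorem exists_indecomposable_injective_submodule {C : Type u} [AddCommGroup C] [Module R C]
    [Nontrivial C] [Module.Injective R C] :
    ∃ N : Submodule R C, IsIndecomposable R N ∧ Module.Injective R N := by
  obtain ⟨p, hp⟩ := associatedPrimes.nonempty R C
  obtain ⟨hprime, x, hx⟩ := isAssociatedPrime_iff.1 hp
  have hker : p = LinearMap.ker (LinearMap.toSpanSingleton R C x) := by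
    ext r
    rw [hx, Submodule.mem_colon_singleton, Submodule.mem_bot, LinearMap.mem_ker,
      LinearMap.toSpanSingleton_apply]
  let f : (R ⧸ p) →ₗ[R] C := Submodule.liftQ p (LinearMap.toSpanSingleton R C x) hker.le
  have hf_inj : Function.Injective f := by
    rw [← LinearMap.ker_eq_bot]
    exact Submodule.ker_liftQ_eq_bot' _ _ hker
  obtain ⟨N, g, hg, -, -⟩ := exists_isInjectiveHull_in f hf_inj
  exact ⟨N, isIndecomposable_of_hull_quotient_prime p g hg.toIsEssentialInj, hg.isInjective⟩

omit [IsNoetherianRing R] in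
theorem isIndecomposable_of_linearEquiv {M M' : Type*} [AddCommGroup M] [Module R M]
    [AddCommGroup M'] [Module R M'] (e : M ≃ₗ[R] M') (h : IsIndecomposable R M) :
    IsIndecomposable R M' := by
  refine ⟨?_, fun A B hAB => ?_⟩
  · have := h.1
    exact e.injective.nontrivial
  · have h2 : IsCompl (A.comap e.toLinearMap) (B.comap e.toLinearMap) := by
      constructor
      · rw [Submodule.disjoint_def]
        intro x hxA hxB
        have := (Submodule.disjoint_def.1 hAB.disjoint) (e x) hxA hxB
        exact e.injective (by rw [this, map_zero])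
      · rw [codisjoint_iff, eq_top_iff]
        intro x _
        have hx : e x ∈ A ⊔ B := by rw [hAB.sup_eq_top]; trivial
        obtain ⟨a, ha, b, hb, hab⟩ := Submodule.mem_sup.1 hx
        rw [Submodule.mem_sup]
        refine ⟨e.symm a, by simpa using ha, e.symm b, by simpa using hb, ?_⟩
        rw [← map_add, hab, e.symm_apply_apply]
    rcases h.2 _ _ h2 with h3 | h3
    · left
      rw [eq_bot_iff]
      intro y hy
      have : e.symm y ∈ A.comap e.toLinearMap := by simpa using hy
      rw [h3, Submodule.mem_bot] at this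
      rw [Submodule.mem_bot]
      simpa using congrArg e this
    · right
      rw [eq_bot_iff]
      intro y hy
      have : e.symm y ∈ B.comap e.toLinearMap := by simpa using hy
      rw [h3, Submodule.mem_bot] at this
      rw [Submodule.mem_bot]
      simpa using congrArg e this

/-- **Matlis**: over a Noetherian ring every injective module is an internal direct sum of
indecomposable injective submodules (set-indexed form, any decidability instance) -/
theorem exists_isInternal_indecomposable_aux (I : Type u) [AddCommGroup I] [Module R I]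
    (hI : Module.Injective R I) :
    ∃ S : Set (Submodule R I),
      (∀ inst : DecidableEq S, @DirectSum.IsInternal S I (Submodule R I) inst _ _ _
        (Subtype.val : S → Submodule R I)) ∧
      ∀ i : S, IsIndecomposable R ↥(i : Submodule R I) ∧
        Module.Injective R ↥(i : Submodule R I) := by
  obtain ⟨S, hS⟩ := zorn_subset
    {S : Set (Submodule R I) | (∀ N ∈ S, IsIndecomposable R N ∧ Module.Injective R N) ∧
      sSupIndep S}
    (fun c hc hchain => ⟨⋃₀ c,
      ⟨fun N ⟨s, hs, hN⟩ => (hc hs).1 N hN,
        iSupIndep_sUnion_of_directed hchain.directedOn fun s hs => (hc hs).2⟩,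
      fun s hs => Set.subset_sUnion_of_mem hs⟩)
  obtain ⟨⟨hgood, hindep⟩, hmax⟩ := hS
  have hind : iSupIndep (Subtype.val : S → Submodule R I) := (sSupIndep_iff S).1 hindep
  refine ⟨S, ?_, fun i => hgood i.1 i.2⟩
  intro inst
  rw [DirectSum.isInternal_submodule_iff_iSupIndep_and_iSup_eq_top]
  refine ⟨hind, ?_⟩
  -- the sum is injective, hence a direct summand
  have hinj_sum : Module.Injective R (DirectSum S fun N : S => ↥(N : Submodule R I)) :=
    injective_directSum _ fun N => (hgood N.1 N.2).2
  have hφ : Function.Injective (DirectSum.coeLinearMap (Subtype.val : S → Submodule R I)) :=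
    hind.dfinsupp_lsum_injective
  obtain ⟨C, hC⟩ := exists_isCompl_range_of_injective _ hφ
  rw [DirectSum.range_coeLinearMap] at hC
  by_contra hne
  have hCne : C ≠ ⊥ := by
    intro h
    apply hne
    have := hC.sup_eq_top
    rwa [h, sup_bot_eq] at this
  have : Module.Injective R C := injective_of_isCompl hC.symm
  have : Nontrivial C := Submodule.nontrivial_iff_ne_bot.2 hCne
  obtain ⟨N, hN1, hN2⟩ := exists_indecomposable_injective_submodule (R := R) (C := C)
  let N' : Submodule R I := N.map C.subtype
  let e : N ≃ₗ[R] N' := Submodule.equivMapOfInjective C.subtype C.subtype_injective N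
  have hN'good : IsIndecomposable R N' ∧ Module.Injective R N' :=
    ⟨isIndecomposable_of_linearEquiv e hN1, injective_of_linearEquiv e hN2⟩
  have hN'C : N' ≤ C := by
    rintro _ ⟨y, -, rfl⟩
    exact y.2
  have hN'ne : N' ≠ ⊥ := by
    have := hN'good.1.1
    exact Submodule.nontrivial_iff_ne_bot.1 this
  have hdisj : Disjoint N' (sSup S) := by
    rw [sSup_eq_iSup']
    exact (hC.disjoint.mono_right hN'C).symm
  have hmem : insert N' S ∈ {S : Set (Submodule R I) |
      (∀ N ∈ S, IsIndecomposable R N ∧ Module.Injective R N) ∧ sSupIndep S} := by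
    refine ⟨fun M hM => ?_, sSupIndep_insert hindep hdisj⟩
    rcases hM with rfl | hM
    · exact hN'good
    · exact hgood M hM
  have hsub := hmax hmem (Set.subset_insert N' S)
  have hN'S : N' ∈ S := hsub (Set.mem_insert N' S)
  have hle : N' ≤ sSup S := le_sSup hN'S
  exact hN'ne (le_bot_iff.1 (hdisj le_rfl hle))

end Decomposition

end Groth.Agent.Lib.Helper25
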