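import Groth.Agent.Lib.Helper25.InjHull
import Mathlib.RingTheory.LocalProperties.Injective
import Mathlib.RingTheory.Localization.Module
import Mathlib.Algebra.Module.LocalizedModule.Submodule
import Mathlib.Algebra.Module.Torsion.Basic

/-!
# Essential extensions and injective hulls localize (Noetherian base)
-/

set_option autoImplicit false

universe u v

namespace Groth.Agent.Lib.Helper25

open InjHull

section Loc

variable {R : Type u} [CommRing R] [IsNoetherianRing R] (S : Submonoid R)
  {M : Type v} [AddCommGroup M] [Module R M]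

/-- elementwise form: an essential submodule stays essential after localizing (Noetherian base) -/
theorem essential_localized (N : Submodule R M)
    (hN : ∀ x : M, x ≠ 0 → ∃ r : R, r • x ≠ 0 ∧ r • x ∈ N)
    (z : LocalizedModule S M) (hz : z ≠ 0) :
    ∃ r : Localization S, r • z ≠ 0 ∧ r • z ∈ Submodule.localized S N := by
  induction z using LocalizedModule.induction_on with
  | h x s =>
  let A : Set (Ideal R) := {I | ∃ t : S, I = Ideal.torsionOf R M ((t : R) • x)}
  have hA : A.Nonempty := ⟨_, 1, rfl⟩
  obtain ⟨I, ⟨t₀, rfl⟩, hmax⟩ :=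
    set_has_maximal_iff_noetherian.2 (inferInstance : IsNoetherian R R) A hA
  have hmk0 : ∀ (y : M) (t : S), LocalizedModule.mk y t = 0 ↔ ∃ u : S, (u : R) • y = 0 := by
    intro y t
    rw [IsLocalizedModule.mk_eq_mk', IsLocalizedModule.mk'_eq_zero']
    rfl
  have hx'ne : ∀ u : S, (u : R) • ((t₀ : R) • x) ≠ 0 := by
    intro u hu
    apply hz
    rw [hmk0]
    exact ⟨u * t₀, by rwa [Submonoid.coe_mul, mul_smul]⟩
  have hann : ∀ (u : S) (r : R), r • ((u : R) • ((t₀ : R) • x)) = 0 → r • ((t₀ : R) • x) = 0 := by
    intro u r hr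
    have hle : Ideal.torsionOf R M ((t₀ : R) • x) ≤
        Ideal.torsionOf R M ((u : R) • ((t₀ : R) • x)) := by
      intro a ha
      rw [Ideal.mem_torsionOf_iff] at ha ⊢
      rw [smul_comm, ha, smul_zero]
    have hmem : Ideal.torsionOf R M ((u : R) • ((t₀ : R) • x)) ∈ A :=
      ⟨u * t₀, by rw [Submonoid.coe_mul, mul_smul]⟩
    have hnlt := hmax _ hmem
    have heq : Ideal.torsionOf R M ((t₀ : R) • x) =
        Ideal.torsionOf R M ((u : R) • ((t₀ : R) • x)) := by
      by_contra hne
      exact hnlt (lt_of_le_of_ne hle hne)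
    have hmem' : r ∈ Ideal.torsionOf R M ((u : R) • ((t₀ : R) • x)) :=
      (Ideal.mem_torsionOf_iff _ _).2 hr
    rw [← heq] at hmem'
    exact (Ideal.mem_torsionOf_iff _ _).1 hmem'
  have hx'0 : (t₀ : R) • x ≠ 0 := by
    have := hx'ne 1
    simpa using this
  obtain ⟨r, hr0, hrN⟩ := hN _ hx'0
  have hkey : algebraMap R (Localization S) (r * t₀ * s) • LocalizedModule.mk x s =
      LocalizedModule.mk (r • ((t₀ : R) • x)) 1 := by
    rw [algebraMap_smul, LocalizedModule.smul'_mk, ← LocalizedModule.mk_cancel s]
    congr 1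
    rw [Submonoid.smul_def, smul_smul, smul_smul]
    congr 1
    ring
  refine ⟨algebraMap R (Localization S) (r * t₀ * s), ?_, ?_⟩
  · rw [hkey, Ne, hmk0]
    rintro ⟨u, hu⟩
    apply hr0
    apply hann u
    rw [smul_comm]
    exact hu
  · rw [hkey]
    exact ⟨_, hrN, 1, (IsLocalizedModule.mk_eq_mk' _ _).symm⟩

/-- the localization of an essential injection is an essential injection (Noetherian base) -/
theorem essInj_localizedModule_map {M E : Type v} [AddCommGroup M] [Module R M]
    [AddCommGroup E] [Module R E] {f : M →ₗ[R] E} (hf : IsEssentialInj f) :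
    IsEssentialInj (LocalizedModule.map S f) := by
  rw [isEssentialInj_iff]
  refine ⟨LocalizedModule.map_injective S f hf.injective, fun z hz => ?_⟩
  obtain ⟨r, hr0, y, ⟨m, rfl⟩, t, hyt⟩ := essential_localized S (LinearMap.range f)
    ((isEssentialInj_iff f).1 hf).2 z hz
  refine ⟨r, hr0, LocalizedModule.mk m t, ?_⟩
  rw [LocalizedModule.map_mk, ← hyt, IsLocalizedModule.mk_eq_mk']

/-- the localization of an injective hull is an injective hull (Noetherian base) -/
theorem isInjectiveHull_localizedModule_map {M E : Type u} [AddCommGroup M] [Module R M]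
    [AddCommGroup E] [Module R E] {f : M →ₗ[R] E} (hf : IsInjectiveHull f) :
    IsInjectiveHull (LocalizedModule.map S f) := by
  have := hf.isInjective
  exact ⟨essInj_localizedModule_map S hf.toIsEssentialInj,
    Module.injective_of_isLocalizedModule S (LocalizedModule.mkLinearMap S E)⟩

end Loc

end Groth.Agent.Lib.Helper25
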