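import Groth.Agent.Lib.Helper25.MatlisDual
import Mathlib.RingTheory.LocalRing.Length
import Mathlib.RingTheory.TensorProduct.Quotient
import Mathlib.LinearAlgebra.TensorProduct.Pi

/-!
# Flat local base change of the hull of the residue field
-/

set_option autoImplicit false

universe u v

namespace Groth.Agent.Lib.Helper25

open InjHull IsLocalRing TensorProduct

section TorsionBaseChange

variable {A : Type u} [CommRing A] {B : Type u} [CommRing B] [Algebra A B]
  {E : Type u} [AddCommGroup E] [Module A E]

theorem mem_torsionBy_map_iff (J : Ideal A) (t : B ⊗[A] E) :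
    t ∈ LocCoh.torsionBy (J.map (algebraMap A B)) (B ⊗[A] E) ↔ ∀ a ∈ J, a • t = 0 := by
  rw [Submodule.mem_torsionBySet_iff]
  constructor
  · intro h a ha
    rw [← algebraMap_smul B a t]
    exact h ⟨algebraMap A B a, Ideal.mem_map_of_mem _ ha⟩
  · rintro h ⟨c, hc⟩
    change c • t = 0
    have hle : J.map (algebraMap A B) ≤ (Submodule.span B {t}).annihilator := by
      rw [Ideal.map, Ideal.span_le]
      rintro _ ⟨a, ha, rfl⟩
      rw [SetLike.mem_coe, Submodule.mem_annihilator_span_singleton, algebraMap_smul]
      exact h a ha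
    exact (Submodule.mem_annihilator_span_singleton _ _).1 (hle hc)

theorem piRight_lTensor_pi {k : ℕ} (x : Fin k → A) (t : B ⊗[A] E) (i : Fin k) :
    TensorProduct.piRight A B B (fun _ : Fin k => E)
      ((LinearMap.pi fun i => x i • (LinearMap.id : E →ₗ[A] E)).lTensor B t) i = x i • t := by
  induction t using TensorProduct.induction_on with
  | zero => simp
  | tmul b e =>
    rw [LinearMap.lTensor_tmul, TensorProduct.piRight_apply, TensorProduct.piRightHom_tmul]
    change b ⊗ₜ[A] (x i • e) = x i • (b ⊗ₜ[A] e)
    rw [TensorProduct.tmul_smul]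
  | add t t' ht ht' =>
    rw [map_add, map_add, Pi.add_apply, ht, ht', smul_add]

variable [Module.Flat A B]

/-- torsion commutes with flat base change -/
theorem range_lTensor_torsionBy (J : Ideal A) (hJ : J.FG) :
    LinearMap.range (AlgebraTensorModule.lTensor B B (LocCoh.torsionBy J E).subtype) =
      LocCoh.torsionBy (J.map (algebraMap A B)) (B ⊗[A] E) := by
  apply le_antisymm
  · rintro _ ⟨t, rfl⟩
    induction t using TensorProduct.induction_on with
    | zero => rw [map_zero]; exact Submodule.zero_mem _
    | tmul b e =>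
      rw [AlgebraTensorModule.lTensor_tmul, mem_torsionBy_map_iff]
      intro a ha
      rw [← TensorProduct.tmul_smul]
      have : a • ((LocCoh.torsionBy J E).subtype e) = 0 :=
        (Submodule.mem_torsionBySet_iff _ _).1 e.2 ⟨a, ha⟩
      rw [this, tmul_zero]
    | add t t' ht ht' => rw [map_add]; exact Submodule.add_mem _ ht ht'
  · intro t ht
    rw [mem_torsionBy_map_iff] at ht
    obtain ⟨k, x, hx⟩ := Submodule.fg_iff_exists_fin_generating_family.1 hJ
    let f : E →ₗ[A] (Fin k → E) := LinearMap.pi fun i => x i • (LinearMap.id : E →ₗ[A] E)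
    have hexact : Function.Exact (LocCoh.torsionBy J E).subtype f := by
      rw [LinearMap.exact_iff]
      ext e
      rw [Submodule.range_subtype, LinearMap.mem_ker, Submodule.mem_torsionBySet_iff]
      constructor
      · intro h
        have hle : J ≤ (Submodule.span A {e}).annihilator := by
          rw [← hx, Submodule.span_le]
          rintro _ ⟨i, rfl⟩
          rw [SetLike.mem_coe, Submodule.mem_annihilator_span_singleton]
          exact congrFun h i
        rintro ⟨a, ha⟩
        exact (Submodule.mem_annihilator_span_singleton _ _).1 (hle ha)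
      · intro h
        funext i
        exact h ⟨x i, by rw [← hx]; exact Submodule.subset_span ⟨i, rfl⟩⟩
    have hex2 := Module.Flat.lTensor_exact B hexact
    have hker : (f.lTensor B) t = 0 := by
      apply (TensorProduct.piRight A B B (fun _ : Fin k => E)).injective
      rw [map_zero]
      funext i
      rw [piRight_lTensor_pi]
      exact ht _ (by rw [← hx]; exact Submodule.subset_span ⟨i, rfl⟩)
    obtain ⟨s, hs⟩ := (hex2 t).1 hker
    exact ⟨s, hs⟩

theorem lTensor_torsionBy_injective (J : Ideal A) :
    Function.Injective (AlgebraTensorModule.lTensor B B (LocCoh.torsionBy J E).subtype) :=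
  Module.Flat.lTensor_preserves_injective_linearMap _ (Submodule.subtype_injective _)

end TorsionBaseChange

section Main

variable {A : Type u} [CommRing A] [IsLocalRing A] [IsNoetherianRing A]
  {B : Type u} [CommRing B] [IsLocalRing B] [IsNoetherianRing B] [Algebra A B]
  [IsLocalHom (algebraMap A B)] [Module.Flat A B]
  {E : Type u} [AddCommGroup E] [Module A E]

omit [IsNoetherianRing A] [IsNoetherianRing B] [IsLocalHom (algebraMap A B)] [Module.Flat A B] in
theorem isPowerTorsion_tensor
    (hm : (maximalIdeal A).map (algebraMap A B) = maximalIdeal B)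
    (hE : LocCoh.IsPowerTorsion (maximalIdeal A) E) :
    LocCoh.IsPowerTorsion (maximalIdeal B) (B ⊗[A] E) := by
  have hmem : ∀ (n : ℕ) (t : B ⊗[A] E), (∀ a ∈ maximalIdeal A ^ n, a • t = 0) →
      ∀ c ∈ maximalIdeal B ^ n, c • t = 0 := by
    intro n t h c hc
    have := (mem_torsionBy_map_iff (maximalIdeal A ^ n) t).2 h
    rw [Ideal.map_pow, hm, Submodule.mem_torsionBySet_iff] at this
    exact this ⟨c, hc⟩
  intro t
  induction t using TensorProduct.induction_on with
  | zero => exact ⟨0, fun a _ => smul_zero a⟩
  | tmul b e =>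
    obtain ⟨n, hn⟩ := hE e
    refine ⟨n, hmem n _ fun a ha => ?_⟩
    rw [← TensorProduct.tmul_smul, hn a ha, tmul_zero]
  | add t t' ht ht' =>
    obtain ⟨n, hn⟩ := ht
    obtain ⟨n', hn'⟩ := ht'
    refine ⟨max n n', fun c hc => ?_⟩
    rw [smul_add, hn c (Ideal.pow_le_pow_right (le_max_left _ _) hc),
      hn' c (Ideal.pow_le_pow_right (le_max_right _ _) hc), add_zero]

variable (f : ResidueField A →ₗ[A] E) (hf : IsInjectiveHull f)

omit [IsNoetherianRing B] in
include hf in
theorem length_torsionBy_tensor
    (hm : (maximalIdeal A).map (algebraMap A B) = maximalIdeal B) (n : ℕ) :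
    Module.length B (LocCoh.torsionBy (maximalIdeal B ^ n) (B ⊗[A] E)) =
      Module.length B (B ⧸ maximalIdeal B ^ n) := by
  have hone : Module.length B (B ⧸ (maximalIdeal A).map (algebraMap A B)) = 1 := by
    rw [hm]
    have : IsSimpleModule B (B ⧸ maximalIdeal B) := by
      rw [isSimpleModule_iff_quot_maximal]
      exact ⟨maximalIdeal B, inferInstance, ⟨LinearEquiv.refl B _⟩⟩
    exact Module.length_eq_one B _
  have hpow : maximalIdeal B ^ n = (maximalIdeal A ^ n).map (algebraMap A B) := by
    rw [Ideal.map_pow, hm]
  rw [hpow, ← range_lTensor_torsionBy _ (IsNoetherian.noetherian _),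
    ← (LinearEquiv.ofInjective _ (lTensor_torsionBy_injective (B := B) (E := E)
      (maximalIdeal A ^ n))).length_eq,
    IsLocalRing.length_baseChange, hone, mul_one,
    (Algebra.TensorProduct.quotIdealMapEquivTensorQuot B
      (maximalIdeal A ^ n)).toLinearEquiv.length_eq,
    IsLocalRing.length_baseChange, hone, mul_one,
    ← (homQuotEquivTorsion (maximalIdeal A ^ n) E).length_eq,
    length_hom_eq_length f hf (isFiniteLength_quotient_pow n)]

include hf in
/-- flat local base change with `m_A B = m_B` preserves the hull of the residue field -/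
theorem exists_hull_tensor (hm : (maximalIdeal A).map (algebraMap A B) = maximalIdeal B) :
    ∃ g : ResidueField B →ₗ[B] (B ⊗[A] E), IsInjectiveHull g := by
  have hpt := isPowerTorsion_tensor (B := B) hm (isPowerTorsion_of_isInjectiveHull f hf)
  have hlen := length_torsionBy_tensor (B := B) f hf hm
  refine exists_hull_of_lengths hpt ?_ (fun n => maximalIdeal B ^ n) (fun n => ⟨n, le_rfl⟩)
    (fun N => ⟨N, le_rfl⟩) (fun n => ?_)
  · have h1 := hlen 1
    rw [pow_one] at h1
    have hone : Module.length B (B ⧸ maximalIdeal B) = 1 := by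
      have : IsSimpleModule B (B ⧸ maximalIdeal B) := by
        rw [isSimpleModule_iff_quot_maximal]
        exact ⟨maximalIdeal B, inferInstance, ⟨LinearEquiv.refl B _⟩⟩
      exact Module.length_eq_one B _
    rw [hone, Module.length_eq_one_iff] at h1
    obtain ⟨e⟩ := nonempty_equiv_residueField_of_isSimpleModule (R := B)
      (LocCoh.torsionBy (maximalIdeal B) (B ⊗[A] E))
    exact ⟨(homResidueEquivSocle (B ⊗[A] E)).trans e⟩
  · have h2 : Module.length B ((B ⧸ maximalIdeal B ^ n) →ₗ[B] B ⊗[A] E) =
        Module.length B (LocCoh.torsionBy (maximalIdeal B ^ n) (B ⊗[A] E)) :=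
      LinearEquiv.length_eq (homQuotEquivTorsion (maximalIdeal B ^ n) (B ⊗[A] E))
    exact ((hlen n).symm.trans h2.symm)

end Main

end Groth.Agent.Lib.Helper25
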