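import Groth.Agent.Lib.Helper25.HypCoh2
import Groth.Agent.Lib.Helper10.RigidAA8
import Groth.Agent.Lib.Helper29.VA7
import Groth.Agent.Lib.Helper29.Twist6

/-!
# Connectedness of closed subschemes and `H¹` of the ideal sheaf
-/

set_option autoImplicit false

universe u

open CategoryTheory CategoryTheory.Limits AlgebraicGeometry Opposite TopologicalSpace

namespace Groth.Agent.Lib.Helper25.HypTwist

open Groth.Agent.Lib.Helper29.QCoh

variable {X : Scheme.{u}} (D : X.IdealSheafData)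

theorem appTop_surjective_of_subsingleton
    (h1 : Subsingleton (Coh.HH X (ClSub.idealMod D) 1)) :
    Function.Surjective D.subschemeι.appTop.hom := by
  haveI : Subsingleton (Coh.HH X (idealSeq D).X₁ 1) := h1
  exact app_top_surjective_of_subsingleton_HH_one (idealSeq D) (shortExact_idealSeq D)

theorem nontrivial_of_nonempty (Y : Scheme.{u}) [Nonempty Y] : Nontrivial Γ(Y, ⊤) := by
  by_contra hn
  rw [not_nontrivial_iff_subsingleton] at hn
  obtain ⟨x₀⟩ : Nonempty Y := inferInstance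
  have hx : x₀ ∈ Y.basicOpen (1 : Γ(Y, ⊤)) := by
    rw [Y.basicOpen_of_isUnit isUnit_one]; trivial
  rw [Subsingleton.elim (1 : Γ(Y, ⊤)) 0, Scheme.basicOpen_zero] at hx
  exact hx

variable {k : Type u} [Field k]

/-- If `O(X) = k` and `H¹(X, I_D) = 0` then a nonempty closed subscheme `D` is connected. -/
theorem connectedSpace_subscheme_of_subsingleton (f : X ⟶ Spec (CommRingCat.of k))
    (hX : Function.Bijective ((Scheme.ΓSpecIso (CommRingCat.of k)).inv ≫ f.appTop).hom)
    [Nonempty D.subscheme] (h1 : Subsingleton (Coh.HH X (ClSub.idealMod D) 1)) :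
    ConnectedSpace D.subscheme := by
  have hs := appTop_surjective_of_subsingleton D h1
  refine Groth.Agent.Lib.Helper10.RigidAA.connectedSpace_of_bijective (Over.mk (D.subschemeι ≫ f)) ?_
  change Function.Bijective
    ((Scheme.ΓSpecIso (CommRingCat.of k)).inv ≫ (D.subschemeι ≫ f).appTop).hom
  haveI := nontrivial_of_nonempty D.subscheme
  refine ⟨RingHom.injective _, ?_⟩
  have h2 : ((Scheme.ΓSpecIso (CommRingCat.of k)).inv ≫ (D.subschemeι ≫ f).appTop).hom =
      D.subschemeι.appTop.hom.comp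
        ((Scheme.ΓSpecIso (CommRingCat.of k)).inv ≫ f.appTop).hom := by
    rw [Scheme.Hom.comp_appTop]
    rfl
  rw [h2, RingHom.coe_comp]
  exact hs.comp hX.2

end Groth.Agent.Lib.Helper25.HypTwist

namespace Groth.Agent.Lib.Helper25.HypTwist

open Groth.Agent.Lib.Helper29.QCoh Groth.Agent.Lib.Lead.LinLES Abelian

/-- For a short exact sequence `0 → A → B → C → 0` of modules with `Γ(B) → Γ(C)` surjective and
`H¹(B) = 0`, also `H¹(A) = 0`. -/
theorem subsingleton_HH_one_X₁ {X : Scheme.{u}} (S : ShortComplex X.Modules) (hS : S.ShortExact)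
    (hsurj : Function.Surjective (S.g.val.app (op (⊤ : X.Opens))).hom)
    (h2 : Subsingleton (Coh.HH X S.X₂ 1)) : Subsingleton (Coh.HH X S.X₁ 1) := by
  refine subsingleton_of_forall_eq 0 fun x₁ => ?_
  have h0 : (Ext.comp x₁ (Ext.mk₀ (abMap S.f)) (add_zero 1) : Coh.HH X S.X₂ 1) = 0 :=
    Subsingleton.elim _ _
  obtain ⟨x₃, hx₃⟩ := Ext.covariant_sequence_exact₁ _ (abS_shortExact S hS) x₁ h0
    (zero_add 1)
  have hT : IsTerminal (⊤ : X.Opens) := isTerminalTop
  obtain ⟨b, hb⟩ := hsurj (Sheaf.H.equiv₀ (Coh.toAb S.X₃) hT x₃)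
  let x₂ : Sheaf.H (Coh.toAb S.X₂) 0 := (Sheaf.H.equiv₀ (Coh.toAb S.X₂) hT).symm b
  have h3 : Sheaf.H.map (abMap S.g) 0 x₂ = x₃ := by
    apply (Sheaf.H.equiv₀ (Coh.toAb S.X₃) hT).injective
    rw [← Sheaf.H.equiv₀_naturality (F := Coh.toAb S.X₂) (G := Coh.toAb S.X₃) hT (abMap S.g) x₂,
      ← hb]
    simp only [x₂, AddEquiv.apply_symm_apply]
    rfl
  have h4 : (show Ext _ (Coh.toAb S.X₃) 0 from x₃) =
      Ext.comp x₂ (Ext.mk₀ (abMap S.g)) (add_zero 0) := h3.symm
  have hx₃' : Ext.comp (show Ext _ (Coh.toAb S.X₃) 0 from x₃) (eC S hS) (zero_add 1) = x₁ := hx₃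
  rw [← hx₃', h4, Ext.comp_assoc_of_second_deg_zero, comp_eC, Ext.comp_zero]

/-- If `H¹(X, O_X) = 0` and `Γ(X, O_X) → Γ(D, O_D)` is surjective then `H¹(X, I_D) = 0`. -/
theorem subsingleton_HH_one_idealMod {X : Scheme.{u}} (D : X.IdealSheafData)
    (hsurj : Function.Surjective D.subschemeι.appTop.hom)
    (h2 : Subsingleton (Coh.HH X (Coh.structureModule X) 1)) :
    Subsingleton (Coh.HH X (ClSub.idealMod D) 1) :=
  subsingleton_HH_one_X₁ (idealSeq D) (shortExact_idealSeq D) hsurj h2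

end Groth.Agent.Lib.Helper25.HypTwist
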