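import Groth.Prelude.Def_Wider
import Mathlib.RingTheory.AdicCompletion.Algebra

/-!
# The adic completion acts on power torsion modules
-/

set_option autoImplicit false

universe u v

namespace Groth.Agent.Lib.Helper25

section HatAction

variable {R : Type u} [CommRing R] (I : Ideal R) {E : Type v} [AddCommGroup E] [Module R E]

/-- the comparison between the levels of an element of the completion -/
theorem evalₐ_eq_of_le {n N : ℕ} (hnN : n ≤ N) (x : AdicCompletion I R) (r r' : R)
    (hr : Ideal.Quotient.mk (I ^ N) r = AdicCompletion.evalₐ I N x)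
    (hr' : Ideal.Quotient.mk (I ^ n) r' = AdicCompletion.evalₐ I n x) : r' - r ∈ I ^ n := by
  obtain ⟨a, rfl⟩ := AdicCompletion.mk_surjective I R x
  rw [AdicCompletion.evalₐ_mk, Ideal.Quotient.eq] at hr hr'
  have h1 : a.val n - a.val N ∈ I ^ n := by
    have := a.2 hnN
    rw [SModEq.sub_mem] at this
    simpa using this
  have h2 : r - a.val N ∈ I ^ n := Ideal.pow_le_pow_right hnN hr
  have : r' - r = (r' - a.val n) + (a.val n - a.val N) - (r - a.val N) := by ring
  rw [this]
  exact (I ^ n).sub_mem ((I ^ n).add_mem hr' h1) h2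

open Classical in
/-- the action of an element of the completion on an element of a power torsion module -/
noncomputable def hatSMul (hE : LocCoh.IsPowerTorsion I E) (x : AdicCompletion I R) (e : E) : E :=
  (Classical.choose (Ideal.Quotient.mk_surjective
    (AdicCompletion.evalₐ I (Nat.find (hE e)) x))) • e

theorem hatSMul_eq (hE : LocCoh.IsPowerTorsion I E) (x : AdicCompletion I R) (e : E) (N : ℕ)
    (r : R) (hN : ∀ a ∈ I ^ N, a • e = 0)
    (hr : Ideal.Quotient.mk (I ^ N) r = AdicCompletion.evalₐ I N x) :
    hatSMul I hE x e = r • e := by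
  classical
  unfold hatSMul
  have hn := Nat.find_spec (hE e)
  have hnN : Nat.find (hE e) ≤ N := Nat.find_min' (hE e) hN
  have hr' := Classical.choose_spec (Ideal.Quotient.mk_surjective
    (AdicCompletion.evalₐ I (Nat.find (hE e)) x))
  have hmem := evalₐ_eq_of_le I hnN x r _ hr hr'
  have := hn _ hmem
  rw [sub_smul, sub_eq_zero] at this
  exact this

/-- a common level for finitely many elements -/
theorem exists_level₂ (hE : LocCoh.IsPowerTorsion I E) (e e' : E) :
    ∃ N, (∀ a ∈ I ^ N, a • e = 0) ∧ (∀ a ∈ I ^ N, a • e' = 0) := by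
  obtain ⟨n, hn⟩ := hE e
  obtain ⟨n', hn'⟩ := hE e'
  exact ⟨max n n', fun a ha => hn a (Ideal.pow_le_pow_right (le_max_left _ _) ha),
    fun a ha => hn' a (Ideal.pow_le_pow_right (le_max_right _ _) ha)⟩

/-- the action of the completion as an algebra map into the endomorphism ring -/
noncomputable def hatEnd (hE : LocCoh.IsPowerTorsion I E) :
    AdicCompletion I R →ₐ[R] Module.End R E where
  toFun x :=
    { toFun := hatSMul I hE x
      map_add' := by
        intro e e'
        obtain ⟨N, hN, hN'⟩ := exists_level₂ I hE e e'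
        obtain ⟨r, hr⟩ := Ideal.Quotient.mk_surjective (AdicCompletion.evalₐ I N x)
        rw [hatSMul_eq I hE x e N r hN hr, hatSMul_eq I hE x e' N r hN' hr,
          hatSMul_eq I hE x (e + e') N r (fun a ha => by rw [smul_add, hN a ha, hN' a ha, add_zero])
            hr, smul_add]
      map_smul' := by
        intro c e
        obtain ⟨N, hN⟩ := hE e
        obtain ⟨r, hr⟩ := Ideal.Quotient.mk_surjective (AdicCompletion.evalₐ I N x)
        rw [hatSMul_eq I hE x e N r hN hr,
          hatSMul_eq I hE x (c • e) N r (fun a ha => by rw [smul_comm, hN a ha, smul_zero]) hr,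
          RingHom.id_apply, smul_comm] }
  map_one' := by
    apply LinearMap.ext
    intro e
    obtain ⟨N, hN⟩ := hE e
    change hatSMul I hE 1 e = e
    rw [hatSMul_eq I hE 1 e N 1 hN (by rw [map_one, map_one]), one_smul]
  map_mul' := by
    intro x y
    apply LinearMap.ext
    intro e
    obtain ⟨N, hN⟩ := hE e
    obtain ⟨r, hr⟩ := Ideal.Quotient.mk_surjective (AdicCompletion.evalₐ I N x)
    obtain ⟨s, hs⟩ := Ideal.Quotient.mk_surjective (AdicCompletion.evalₐ I N y)
    change hatSMul I hE (x * y) e = hatSMul I hE x (hatSMul I hE y e)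
    rw [hatSMul_eq I hE y e N s hN hs,
      hatSMul_eq I hE x (s • e) N r (fun a ha => by rw [smul_comm, hN a ha, smul_zero]) hr,
      hatSMul_eq I hE (x * y) e N (r * s) hN (by rw [map_mul, map_mul, hr, hs]), mul_smul]
  map_zero' := by
    apply LinearMap.ext
    intro e
    obtain ⟨N, hN⟩ := hE e
    change hatSMul I hE 0 e = 0
    rw [hatSMul_eq I hE 0 e N 0 hN (by rw [map_zero, map_zero]), zero_smul]
  map_add' := by
    intro x y
    apply LinearMap.ext
    intro e
    obtain ⟨N, hN⟩ := hE e
    obtain ⟨r, hr⟩ := Ideal.Quotient.mk_surjective (AdicCompletion.evalₐ I N x)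
    obtain ⟨s, hs⟩ := Ideal.Quotient.mk_surjective (AdicCompletion.evalₐ I N y)
    change hatSMul I hE (x + y) e = hatSMul I hE x e + hatSMul I hE y e
    rw [hatSMul_eq I hE y e N s hN hs, hatSMul_eq I hE x e N r hN hr,
      hatSMul_eq I hE (x + y) e N (r + s) hN (by rw [map_add, map_add, hr, hs]), add_smul]
  commutes' := by
    intro c
    apply LinearMap.ext
    intro e
    obtain ⟨N, hN⟩ := hE e
    change hatSMul I hE (algebraMap R _ c) e = c • e
    rw [hatSMul_eq I hE _ e N c hN (by rw [AlgHom.commutes]; rfl)]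

theorem hatEnd_apply (hE : LocCoh.IsPowerTorsion I E) (x : AdicCompletion I R) (e : E) (N : ℕ)
    (r : R) (hN : ∀ a ∈ I ^ N, a • e = 0)
    (hr : Ideal.Quotient.mk (I ^ N) r = AdicCompletion.evalₐ I N x) :
    hatEnd I hE x e = r • e :=
  hatSMul_eq I hE x e N r hN hr

end HatAction

end Groth.Agent.Lib.Helper25
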