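import Groth.Agent.Lib.Helper25.Matlis
import Groth.Agent.Lib.Helper25.HatAction
import Mathlib.RingTheory.HopkinsLevitzki
import Mathlib.RingTheory.Ideal.KrullsHeightTheorem

/-!
# Matlis duality: endomorphisms of the hull of the residue field
-/

set_option autoImplicit false

universe u v

namespace Groth.Agent.Lib.Helper25

open InjHull IsLocalRing

section FiniteLength

variable {R : Type u} [CommRing R] [IsLocalRing R] [IsNoetherianRing R]

theorem isFiniteLength_quotient_pow (n : ℕ) : IsFiniteLength R (R ⧸ maximalIdeal R ^ n) := by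
  rcases Nat.eq_zero_or_pos n with rfl | hn
  · have : Subsingleton (R ⧸ maximalIdeal R ^ 0) := by
      rw [pow_zero, Ideal.one_eq_top]
      exact Ideal.Quotient.subsingleton_iff.2 rfl
    exact IsFiniteLength.of_subsingleton
  · have hmin : maximalIdeal R ∈ (maximalIdeal R ^ n).minimalPrimes := by
      refine ⟨⟨inferInstance, Ideal.pow_le_self hn.ne'⟩, fun q hq _ => ?_⟩
      have := hq.1
      exact Ideal.IsPrime.le_of_pow_le hq.2
    have hart := IsLocalRing.quotient_artinian_of_mem_minimalPrimes_of_isLocalRing _ hmin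
    rw [isFiniteLength_iff_isNoetherian_isArtinian]
    refine ⟨inferInstance, ?_⟩
    let e : (R ⧸ maximalIdeal R ^ n) →ₛₗ[Ideal.Quotient.mk (maximalIdeal R ^ n)]
        (R ⧸ maximalIdeal R ^ n) := ⟨.id _, fun _ _ => rfl⟩
    exact (e.isArtinian_iff_of_bijective Function.bijective_id).2 hart

theorem isFiniteLength_quotient_of_pow_le {J : Ideal R} {n : ℕ} (h : maximalIdeal R ^ n ≤ J) :
    IsFiniteLength R (R ⧸ J) := by
  obtain ⟨_, _⟩ := isFiniteLength_iff_isNoetherian_isArtinian.1
    (isFiniteLength_quotient_pow (R := R) n)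
  rw [isFiniteLength_iff_isNoetherian_isArtinian]
  refine ⟨inferInstance, ?_⟩
  have hle : maximalIdeal R ^ n ≤ LinearMap.ker (Submodule.mkQ J) := by
    rw [Submodule.ker_mkQ]; exact h
  refine isArtinian_of_surjective _ (Submodule.liftQ (maximalIdeal R ^ n) (Submodule.mkQ J) hle) ?_
  intro y
  obtain ⟨r, rfl⟩ := Submodule.mkQ_surjective J y
  exact ⟨Submodule.Quotient.mk r, rfl⟩

end FiniteLength

section TorsionHom

variable {R : Type u} [CommRing R] {E : Type v} [AddCommGroup E] [Module R E]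

/-- the map `R/J → E` sending `1` to a `J`-torsion element -/
noncomputable def quotToTorsion (J : Ideal R) (e : E) (he : e ∈ LocCoh.torsionBy J E) :
    (R ⧸ J) →ₗ[R] E :=
  Submodule.liftQ J (LinearMap.toSpanSingleton R E e) (by
    intro a ha
    rw [LinearMap.mem_ker, LinearMap.toSpanSingleton_apply]
    exact (Submodule.mem_torsionBySet_iff _ _).1 he ⟨a, ha⟩)

theorem quotToTorsion_mk (J : Ideal R) (e : E) (he : e ∈ LocCoh.torsionBy J E) (r : R) :
    quotToTorsion J e he (Ideal.Quotient.mk J r) = r • e := rfl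

theorem hom_quot_apply_mk (J : Ideal R) (α : (R ⧸ J) →ₗ[R] E) (r : R) :
    α (Ideal.Quotient.mk J r) = r • α 1 := by
  rw [← map_smul]
  congr 1
  rw [Algebra.smul_def, mul_one]
  rfl

theorem hom_quot_one_mem (J : Ideal R) (α : (R ⧸ J) →ₗ[R] E) :
    α 1 ∈ LocCoh.torsionBy J E := by
  rw [Submodule.mem_torsionBySet_iff]
  rintro ⟨a, ha⟩
  change a • α 1 = 0
  rw [← hom_quot_apply_mk, Ideal.Quotient.eq_zero_iff_mem.2 ha, map_zero]

theorem mem_torsionBy_pow_iff (I : Ideal R) (n : ℕ) (e : E) :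
    e ∈ LocCoh.torsionBy (I ^ n) E ↔ ∀ a ∈ I ^ n, a • e = 0 := by
  rw [Submodule.mem_torsionBySet_iff]
  exact ⟨fun h a ha => h ⟨a, ha⟩, fun h a => h a.1 a.2⟩

end TorsionHom

section MatlisEnd

variable {R : Type u} [CommRing R] [IsLocalRing R] {E : Type u} [AddCommGroup E] [Module R E]
  (f : ResidueField R →ₗ[R] E) (hf : IsInjectiveHull f)

include hf in
/-- faithfulness of `E[J]` over `R/J` -/
theorem mem_of_forall_torsionBy_smul_eq_zero (J : Ideal R) (r : R)
    (h : ∀ e ∈ LocCoh.torsionBy J E, r • e = 0) : r ∈ J := by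
  by_contra hr
  have hne : (Ideal.Quotient.mk J r) ≠ 0 := fun h0 => hr (Ideal.Quotient.eq_zero_iff_mem.1 h0)
  obtain ⟨ψ, hψ⟩ := exists_hom_ne_zero f hf hne
  apply hψ
  rw [hom_quot_apply_mk]
  exact h _ (hom_quot_one_mem J ψ)

include hf in
/-- linear maps `E[J] → E` are multiplications when `R/J` has finite length -/
theorem exists_smul_eq_of_torsionBy_hom (J : Ideal R) (hJ : IsFiniteLength R (R ⧸ J))
    (ψ : LocCoh.torsionBy J E →ₗ[R] E) :
    ∃ r : R, ∀ e (he : e ∈ LocCoh.torsionBy J E), ψ ⟨e, he⟩ = r • e := by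
  let θ : ((R ⧸ J) →ₗ[R] E) →ₗ[R] E :=
    ψ ∘ₗ ((LinearMap.applyₗ (1 : R ⧸ J)).codRestrict (LocCoh.torsionBy J E)
      (fun α => hom_quot_one_mem J α))
  obtain ⟨c, hc⟩ := (applyₗ_bijective_of_isFiniteLength f hf (R ⧸ J) hJ).2 θ
  obtain ⟨r, rfl⟩ := Ideal.Quotient.mk_surjective c
  refine ⟨r, fun e he => ?_⟩
  have h1 := LinearMap.congr_fun hc (quotToTorsion J e he)
  have h2 : θ (quotToTorsion J e he) = ψ ⟨e, he⟩ := by
    change ψ _ = ψ _
    congr 1
    apply Subtype.ext
    change quotToTorsion J e he (Ideal.Quotient.mk J 1) = e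
    rw [quotToTorsion_mk, one_smul]
  rw [← h2, ← h1]
  exact quotToTorsion_mk J e he r

variable [IsNoetherianRing R]

/-- **Matlis**: the completion is the endomorphism ring of the hull of the residue field -/
theorem hatEnd_bijective :
    Function.Bijective (hatEnd (maximalIdeal R) (isPowerTorsion_of_isInjectiveHull f hf)) := by
  have hE := isPowerTorsion_of_isInjectiveHull f hf
  constructor
  · rw [injective_iff_map_eq_zero]
    intro x hx
    apply AdicCompletion.ext_evalₐ
    intro n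
    obtain ⟨r, hr⟩ := Ideal.Quotient.mk_surjective (AdicCompletion.evalₐ (maximalIdeal R) n x)
    rw [map_zero, ← hr, Ideal.Quotient.eq_zero_iff_mem]
    apply mem_of_forall_torsionBy_smul_eq_zero f hf
    intro e he
    rw [← hatEnd_apply (maximalIdeal R) hE x e n r ((mem_torsionBy_pow_iff _ _ _).1 he) hr, hx]
    rfl
  · intro φ
    have hex : ∀ n : ℕ, ∃ r : R, ∀ e (_ : e ∈ LocCoh.torsionBy (maximalIdeal R ^ n) E),
        φ e = r • e := by
      intro n
      obtain ⟨r, hr⟩ := exists_smul_eq_of_torsionBy_hom f hf (maximalIdeal R ^ n)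
        (isFiniteLength_quotient_pow n) (φ ∘ₗ (LocCoh.torsionBy (maximalIdeal R ^ n) E).subtype)
      exact ⟨r, fun e he => hr e he⟩
    choose r hr using hex
    have hcauchy : ∀ n, r n ≡ r (n + 1)
        [SMOD (maximalIdeal R ^ n • ⊤ : Submodule R R)] := by
      intro n
      rw [SModEq.sub_mem]
      have : r n - r (n + 1) ∈ maximalIdeal R ^ n := by
        apply mem_of_forall_torsionBy_smul_eq_zero f hf
        intro e he
        have he' : e ∈ LocCoh.torsionBy (maximalIdeal R ^ (n + 1)) E := by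
          rw [mem_torsionBy_pow_iff] at he ⊢
          exact fun a ha => he a (Ideal.pow_le_pow_right (Nat.le_succ n) ha)
        rw [sub_smul, ← hr n e he, ← hr (n + 1) e he', sub_self]
      simpa using this
    refine ⟨AdicCompletion.mk _ _ (AdicCompletion.AdicCauchySequence.mk _ _ r hcauchy), ?_⟩
    apply LinearMap.ext
    intro e
    obtain ⟨N, hN⟩ := hE e
    rw [hatEnd_apply (maximalIdeal R) hE _ e N (r N) hN (by rw [AdicCompletion.evalₐ_mk]; rfl)]
    exact (hr N e ((mem_torsionBy_pow_iff _ _ _).2 hN)).symm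

end MatlisEnd

end Groth.Agent.Lib.Helper25
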