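import Mathlib
import Groth.Agent.Lib.Helper25.GenFibreRed

set_option autoImplicit false
universe u
open CategoryTheory CategoryTheory.Limits AlgebraicGeometry TopologicalSpace

namespace Groth.Agent.Lib.Helper25.GenSmooth

open Groth.Agent.Lib.Helper25.DomSepOmega Groth.Agent.Lib.Helper25.GenFibreRed

/-- If the residue field extension at the generic point of an integral scheme `X` over the
(generic) point `f ξ` of the integral scheme `Y` is formally smooth, then `ξ` is in the smooth locus
of `f`. -/
theorem genericPoint_mem_smoothLocus_of_formallySmooth {X Y : Scheme.{u}} [IsIntegral X]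
    [IsIntegral Y] (f : X ⟶ Y) [LocallyOfFinitePresentation f] (hdom : DenseRange f.base)
    (hfs : (f.residueFieldMap (genericPoint X)).hom.FormallySmooth) :
    genericPoint X ∈ f.smoothLocus := by
  rw [Scheme.Hom.mem_smoothLocus]
  have hY := residue_bijective_of_isGenericPoint _ (isGenericPoint_map_genericPoint f hdom)
  have hX := residue_bijective_of_isGenericPoint _ (genericPoint_spec X)
  have h1 : ((X.residue (genericPoint X)).hom.comp (f.stalkMap (genericPoint X)).hom).FormallySmooth := by
    have e := congrArg CommRingCat.Hom.hom (Scheme.residue_residueFieldMap f (genericPoint X))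
    rw [CommRingCat.hom_comp, CommRingCat.hom_comp] at e
    rw [← e]
    exact RingHom.FormallySmooth.comp (RingHom.FormallySmooth.of_bijective hY) hfs
  let e := RingEquiv.ofBijective (X.residue (genericPoint X)).hom hX
  have h2 : (f.stalkMap (genericPoint X)).hom =
      (e.symm : X.residueField (genericPoint X) →+* X.presheaf.stalk (genericPoint X)).comp
        ((X.residue (genericPoint X)).hom.comp (f.stalkMap (genericPoint X)).hom) := by
    ext a
    simp only [RingHom.comp_apply, RingHom.coe_coe]
    exact (e.symm_apply_apply _).symm
  rw [h2]
  exact RingHom.FormallySmooth.comp h1 (RingHom.FormallySmooth.of_bijective e.symm.bijective)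

theorem dense_of_genericPoint_mem {X : Scheme.{u}} [IsIntegral X] (U : X.Opens)
    (h : genericPoint X ∈ U) : Dense (U : Set X) := by
  rw [dense_iff_closure_eq]
  apply Set.eq_univ_of_univ_subset
  have := (genericPoint_spec X).def
  rw [← this]
  exact closure_mono (Set.singleton_subset_iff.mpr h)

/-- generic smoothness: dominant lfp morphism of integral schemes with geometrically reduced
generic fibre has dense smooth locus. -/
theorem dense_smoothLocus {X Y : Scheme.{u}} [IsIntegral X] [IsIntegral Y]
    (f : X ⟶ Y) [LocallyOfFinitePresentation f] (hdom : DenseRange f.base)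
    (hsep : GeometricallyReduced
      (pullback.snd f (Y.fromSpecResidueField (f.base (genericPoint X))))) :
    Dense (f.smoothLocus : Set X) :=
  dense_of_genericPoint_mem _ (genericPoint_mem_smoothLocus_of_formallySmooth f hdom
    (formallySmooth_residueFieldMap_genericPoint f hdom hsep))

end Groth.Agent.Lib.Helper25.GenSmooth
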