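import Mathlib
import Groth.Prelude.Def_AlgGrp
import Groth.Prelude.Def_ChGrp
import Groth.Agent.Lib.Helper25.GenSmooth

set_option autoImplicit false
universe u
open CategoryTheory CategoryTheory.Limits MonoidalCategory CartesianMonoidalCategory MonObj GrpObj AlgebraicGeometry

namespace Groth.Agent.Lib.Helper25.OrbitSmooth

variable {S : Scheme.{u}} {G X : Over S} [GrpObj G] (a : AlgGrp.Action G X)

/-- Left multiplication by a point, as a morphism. -/
noncomputable def mulL (σ : 𝟙_ (Over S) ⟶ G) : G ⟶ G := (toUnit G ≫ σ) * 𝟙 G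

theorem mulL_comp (σ τ : 𝟙_ (Over S) ⟶ G) : mulL σ ≫ mulL τ = mulL (τ * σ) := by
  unfold mulL
  rw [MonObj.comp_mul, Category.comp_id, ← Category.assoc, toUnit_unique (_ ≫ toUnit G) (toUnit G),
    ← _root_.mul_assoc, ← MonObj.comp_mul]

theorem mulL_one : mulL (1 : 𝟙_ (Over S) ⟶ G) = 𝟙 G := by
  unfold mulL
  rw [MonObj.comp_one, _root_.one_mul]

/-- Left multiplication by a point, as an isomorphism. -/
noncomputable def mulLIso (σ : 𝟙_ (Over S) ⟶ G) : G ≅ G where
  hom := mulL σ
  inv := mulL σ⁻¹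
  hom_inv_id := by rw [mulL_comp, _root_.inv_mul_cancel, mulL_one]
  inv_hom_id := by rw [mulL_comp, _root_.mul_inv_cancel, mulL_one]

theorem point_mulL (σ τ : 𝟙_ (Over S) ⟶ G) : τ ≫ mulL σ = σ * τ := by
  unfold mulL
  rw [MonObj.comp_mul, Category.comp_id, ← Category.assoc, toUnit_unique (τ ≫ toUnit G) (𝟙 _),
    Category.id_comp]

/-- The action of a point on `X`. -/
noncomputable def actL (σ : 𝟙_ (Over S) ⟶ G) : X ⟶ X := lift (toUnit X ≫ σ) (𝟙 X) ≫ a.act

theorem actL_comp (σ τ : 𝟙_ (Over S) ⟶ G) : actL a σ ≫ actL a τ = actL a (τ * σ) := by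
  have h1 : actL a σ ≫ lift (toUnit X ≫ τ) (𝟙 X) = lift (toUnit X ≫ τ) (actL a σ) := by
    rw [comp_lift, Category.comp_id, ← Category.assoc,
      toUnit_unique (actL a σ ≫ toUnit X) (toUnit X)]
  have h2 : actL a σ ≫ actL a τ = (actL a σ ≫ lift (toUnit X ≫ τ) (𝟙 X)) ≫ a.act := by
    rw [Category.assoc]; rfl
  rw [h2, h1]
  unfold actL
  rw [← AlgGrp.Action.lift_mul_act, ← MonObj.comp_mul]

theorem actL_one : actL a (1 : 𝟙_ (Over S) ⟶ G) = 𝟙 X := by
  unfold actL
  rw [MonObj.comp_one, AlgGrp.Action.lift_one_act]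

noncomputable def actLIso (σ : 𝟙_ (Over S) ⟶ G) : X ≅ X where
  hom := actL a σ
  inv := actL a σ⁻¹
  hom_inv_id := by rw [actL_comp, _root_.inv_mul_cancel, actL_one]
  inv_hom_id := by rw [actL_comp, _root_.mul_inv_cancel, actL_one]

theorem mulL_orbitMap (σ : 𝟙_ (Over S) ⟶ G) (x : 𝟙_ (Over S) ⟶ X) :
    mulL σ ≫ a.orbitMap x = a.orbitMap x ≫ actL a σ := by
  rw [AlgGrp.Action.comp_orbitMap]
  unfold mulL actL
  rw [AlgGrp.Action.lift_mul_act, comp_lift_assoc, Category.comp_id, ← Category.assoc,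
    toUnit_unique (_ ≫ toUnit X) (toUnit G)]
  rfl


/-- Post-composition with an isomorphism does not change the smooth locus. -/
theorem mem_smoothLocus_comp_iso {P Q Q' : Scheme.{u}} (g : P ⟶ Q) (e : Q ⟶ Q') [IsIso e]
    [LocallyOfFinitePresentation g] [LocallyOfFinitePresentation (g ≫ e)] (p : P) :
    p ∈ (g ≫ e).smoothLocus ↔ p ∈ g.smoothLocus := by
  refine Iff.trans ?_
    (RingHom.FormallySmooth.respectsIso.cancel_left_isIso (e.stalkMap (g p)) (g.stalkMap p))
  rw [← CommRingCat.hom_comp, ← Scheme.Hom.stalkMap_comp]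
  rfl

theorem mem_smoothLocus_congr {P Q : Scheme.{u}} {q q' : P ⟶ Q} (h : q = q')
    [LocallyOfFinitePresentation q] [LocallyOfFinitePresentation q'] {p : P}
    (hp : p ∈ q.smoothLocus) : p ∈ q'.smoothLocus := by
  subst h; exact hp

open Groth.Agent.Lib.Helper25.GenSmooth in
/-- In characteristic zero over an algebraically closed field, the orbit maps of a homogeneous
space under an integral group scheme locally of finite type are smooth. -/
theorem smooth_orbitMap (k : Type u) [Field k] [IsAlgClosed k] [CharZero k]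
    (G X : Over (Spec (CommRingCat.of k))) [GrpObj G] (a : AlgGrp.Action G X)
    [IsIntegral G.left] [LocallyOfFiniteType G.hom]
    [IsIntegral X.left] [LocallyOfFiniteType X.hom]
    (htrans : ∀ x x' : 𝟙_ (Over (Spec (CommRingCat.of k))) ⟶ X,
      ∃ σ : 𝟙_ (Over (Spec (CommRingCat.of k))) ⟶ G, lift σ x ≫ a.act = x')
    (x : 𝟙_ (Over (Spec (CommRingCat.of k))) ⟶ X) :
    Smooth (a.orbitMap x).left := by
  have hw : (a.orbitMap x).left ≫ X.hom = G.hom := Over.w (a.orbitMap x)
  haveI : LocallyOfFiniteType ((a.orbitMap x).left ≫ X.hom) := by rw [hw]; infer_instance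
  haveI : LocallyOfFiniteType (a.orbitMap x).left :=
    locallyOfFiniteType_of_comp (a.orbitMap x).left X.hom
  haveI : IsLocallyNoetherian X.left := LocallyOfFiniteType.isLocallyNoetherian X.hom
  haveI : LocallyOfFinitePresentation (a.orbitMap x).left :=
    LocallyOfFinitePresentation.iff_locallyOfFiniteType.mpr inferInstance
  haveI := LocallyOfFiniteType.jacobsonSpace X.hom
  haveI := LocallyOfFiniteType.jacobsonSpace G.hom
  -- dominance
  have hdr : DenseRange (a.orbitMap x).left.base := by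
    have hsub : closedPoints X.left ⊆ Set.range (a.orbitMap x).left.base := by
      intro y hy
      let x' : 𝟙_ (Over (Spec (CommRingCat.of k))) ⟶ X :=
        Over.homMk _ ((pointEquivClosedPoint X.hom).symm ⟨y, hy⟩).2
      obtain ⟨σ, hσ⟩ := htrans x x'
      have h1 : σ ≫ a.orbitMap x = x' := by
        rw [AlgGrp.Action.comp_orbitMap, toUnit_unique (toUnit _) (𝟙 _), Category.id_comp, hσ]
      have h2 : x'.left (IsLocalRing.closedPoint k) = y := by
        simp [x', pointEquivClosedPoint]
      refine ⟨σ.left (IsLocalRing.closedPoint k), ?_⟩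
      rw [← h2, ← h1]
      rfl
    intro y
    have : y ∈ closure (closedPoints X.left) := by rw [closure_closedPoints]; trivial
    exact closure_mono hsub this
  -- the generic point lies in the smooth locus
  haveI key : CharZero (X.left.residueField ((a.orbitMap x).left (genericPoint G.left))) := by
    let φ : k →+* X.left.residueField ((a.orbitMap x).left (genericPoint G.left)) :=
      ((Scheme.ΓSpecIso (.of k)).inv ≫ X.hom.appTop ≫ X.left.presheaf.germ ⊤ _ trivial ≫
        X.left.residue _).hom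
    exact charZero_of_injective_ringHom (f := φ) (RingHom.injective _)
  have hfs : ((a.orbitMap x).left.residueFieldMap (genericPoint G.left)).hom.FormallySmooth := by
    have hess : ((a.orbitMap x).left.residueFieldMap (genericPoint G.left)).hom.EssFiniteType :=
      RingHom.EssFiniteType.residueFieldMap
        (LocallyOfFiniteType.stalkMap (a.orbitMap x).left (genericPoint G.left))
    algebraize [((a.orbitMap x).left.residueFieldMap (genericPoint G.left)).hom]
    exact Algebra.FormallySmooth.of_perfectField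
  have hξ := genericPoint_mem_smoothLocus_of_formallySmooth (a.orbitMap x).left hdr hfs
  -- homogeneity
  rw [← Scheme.Hom.smoothLocus_eq_top_iff, ← TopologicalSpace.Opens.coe_eq_univ,
    ← not_ne_iff, ← Set.nonempty_compl]
  intro H
  obtain ⟨g, hg, hgc⟩ := nonempty_inter_closedPoints H
    (a.orbitMap x).left.smoothLocus.2.isClosed_compl.isLocallyClosed
  obtain ⟨h, hh, hhc⟩ := nonempty_inter_closedPoints
    (⟨genericPoint G.left, hξ⟩ : ((a.orbitMap x).left.smoothLocus : Set G.left).Nonempty)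
    (a.orbitMap x).left.smoothLocus.2.isLocallyClosed
  let g' : 𝟙_ (Over (Spec (CommRingCat.of k))) ⟶ G :=
    Over.homMk _ ((pointEquivClosedPoint G.hom).symm ⟨g, hgc⟩).2
  let h' : 𝟙_ (Over (Spec (CommRingCat.of k))) ⟶ G :=
    Over.homMk _ ((pointEquivClosedPoint G.hom).symm ⟨h, hhc⟩).2
  have hα : g' ≫ mulL (h' * g'⁻¹) = h' := by
    rw [point_mulL, _root_.mul_assoc, _root_.inv_mul_cancel, _root_.mul_one]
  have hα' : (mulL (h' * g'⁻¹)).left g = h := by
    simpa [g', h', pointEquivClosedPoint] using congr(($hα).left (IsLocalRing.closedPoint k))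
  have heq : (mulL (h' * g'⁻¹)).left ≫ (a.orbitMap x).left =
      (a.orbitMap x).left ≫ (actL a (h' * g'⁻¹)).left := by
    rw [← Over.comp_left, ← Over.comp_left, mulL_orbitMap]
  haveI : IsIso (mulL (h' * g'⁻¹)).left :=
    (Over.forget _).map_isIso (mulLIso (h' * g'⁻¹)).hom
  haveI : IsIso (actL a (h' * g'⁻¹)).left :=
    (Over.forget _).map_isIso (actLIso a (h' * g'⁻¹)).hom
  rw [← hα'] at hh
  have hh' : g ∈ (mulL (h' * g'⁻¹)).left ⁻¹ᵁ (a.orbitMap x).left.smoothLocus := hh
  rw [Scheme.Hom.preimage_smoothLocus_eq] at hh'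
  exact hg ((mem_smoothLocus_comp_iso _ (actL a (h' * g'⁻¹)).left g).mp
    (mem_smoothLocus_congr heq hh'))

end Groth.Agent.Lib.Helper25.OrbitSmooth
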