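import Groth.Agent.Lib.Helper25.HartogsLocal

universe u

open CategoryTheory CategoryTheory.Limits AlgebraicGeometry TopologicalSpace Opposite

namespace Groth.Agent.Lib.Helper25.Hartogs

open Groth.Agent.Lib.Helper25.SchDense

variable {X : Scheme.{u}}

/-- The depth `≥ 2` hypothesis along the complement of `U`, in elementary form. -/
def Depth2 (U : X.Opens) : Prop :=
  ∀ z : X, z ∉ U → ∃ a ∈ IsLocalRing.maximalIdeal (X.presheaf.stalk z),
    ∃ b ∈ IsLocalRing.maximalIdeal (X.presheaf.stalk z), Reg2 a b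

theorem Depth2.depth1 {U : X.Opens} (h : Depth2 U) :
    ∀ z : X, z ∉ U → ∃ a ∈ IsLocalRing.maximalIdeal (X.presheaf.stalk z),
      IsSMulRegular (X.presheaf.stalk z) a := fun z hz => by
  obtain ⟨a, ha, b, -, hab⟩ := h z hz
  exact ⟨a, ha, hab.1⟩

theorem res_injective {U : X.Opens} (hU : Depth2 U) {V : X.Opens} (hV : IsAffineOpen V)
    {W : X.Opens} (hWV : W ≤ V) (hW : ∀ z, z ∈ V → z ∈ U → z ∈ W) :
    Function.Injective (res hWV) := by
  rw [injective_iff_map_eq_zero]
  intro t ht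
  refine eq_zero_of_germ_eq_zero U hU.depth1 hV t ?_
  intro z hzV hzU
  have := X.presheaf.germ_res_apply (homOfLE hWV) z (hW z hzV hzU) t
  rw [← this]
  exact (congrArg _ ht).trans (map_zero _)

/-- **Hartogs-type extension**: if the complement of `U` has depth `≥ 2`, then for an affine open
`V` with `V ∩ U` compact, the restriction `Γ(V) → Γ(V ∩ U)` is bijective. -/
theorem res_bijective {U : X.Opens} (hU : Depth2 U) {V : X.Opens} (hV : IsAffineOpen V)
    {W : X.Opens} (hWV : W ≤ V) (hW : ∀ z, z ∈ V → z ∈ U → z ∈ W)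
    (hWc : IsCompact (W : Set X)) : Function.Bijective (res hWV) := by
  have hinj := res_injective hU hV hWV hW
  refine ⟨hinj, ?_⟩
  intro σ
  -- the ideal of denominators
  let D : Ideal Γ(X, V) :=
    { carrier := {a | ∃ r, res hWV r = res hWV a * σ}
      add_mem' := by
        rintro a b ⟨r, hr⟩ ⟨r', hr'⟩
        exact ⟨r + r', by rw [map_add, map_add, hr, hr', add_mul]⟩
      zero_mem' := ⟨0, by rw [map_zero, zero_mul]⟩
      smul_mem' := by
        rintro c a ⟨r, hr⟩
        exact ⟨c * r, by rw [smul_eq_mul, map_mul, map_mul, hr, mul_assoc]⟩ }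
  have hDmem : ∀ a, a ∈ D ↔ ∃ r, res hWV r = res hWV a * σ := fun a => Iff.rfl
  by_cases hD : D = ⊤
  · have : (1 : Γ(X, V)) ∈ D := hD ▸ Submodule.mem_top
    obtain ⟨r, hr⟩ := (hDmem 1).1 this
    exact ⟨r, by rw [hr, map_one, one_mul]⟩
  exfalso
  obtain ⟨⟨p, hp⟩⟩ := Ideal.nonempty_minimalPrimes hD
  have hpp : p.IsPrime := hp.1.1
  set y : PrimeSpectrum Γ(X, V) := ⟨p, hpp⟩ with hy
  have hzV : hV.fromSpec y ∈ V := by
    have h2 : hV.fromSpec y ∈ Set.range hV.fromSpec := ⟨y, rfl⟩
    rw [hV.range_fromSpec] at h2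
    exact h2
  by_cases hzU : hV.fromSpec y ∈ U
  · -- the point lies in `W`: a basic open neighbourhood inside `W`
    have hzW : hV.fromSpec y ∈ W := hW _ hzV hzU
    obtain ⟨g, hgW, hzg⟩ := hV.exists_basicOpen_le ⟨_, hzW⟩ hzV
    have hgp : g ∉ p := by
      have : y ∈ hV.fromSpec ⁻¹ᵁ X.basicOpen g := hzg
      rw [hV.fromSpec_preimage_basicOpen] at this
      exact this
    have loc := hV.isLocalization_basicOpen g
    obtain ⟨⟨r, ⟨_, n, rfl⟩⟩, hr⟩ := IsLocalization.surj (Submonoid.powers g) (res hgW σ)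
    simp only at hr
    set τ : Γ(X, W) := res hWV (g ^ n) * σ - res hWV r with hτ
    have hτ0 : τ |_ X.basicOpen (res hWV g) = 0 := by
      have hle : X.basicOpen (res hWV g) ≤ X.basicOpen g := by
        rw [Scheme.basicOpen_res]; exact inf_le_right
      have h1 : res hgW τ = 0 := by
        rw [hτ, map_sub, map_mul, res_res, res_res, mul_comm]
        exact sub_eq_zero.2 hr
      have h2 : res (X.basicOpen_le (res hWV g)) τ = res hle (res hgW τ) := (res_res _ _ _).symm
      change res (X.basicOpen_le (res hWV g)) τ = 0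
      rw [h2, h1, map_zero]
    obtain ⟨m, hm⟩ := exists_pow_mul_eq_zero_of_res_basicOpen_eq_zero_of_isCompact X hWc τ
      (res hWV g) hτ0
    have hmem : g ^ (m + n) ∈ D := by
      refine ⟨g ^ m * r, ?_⟩
      rw [hτ, mul_sub, sub_eq_zero] at hm
      rw [map_mul, map_pow, ← hm, pow_add, map_mul, map_pow, map_pow, mul_assoc]
    exact hgp (hpp.mem_of_pow_mem _ (hp.1.2 hmem))
  · -- the point lies outside `U`: use the regular sequence
    let _ := TopCat.Presheaf.algebra_section_stalk X.presheaf ⟨hV.fromSpec y, hzV⟩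
    have hloc : IsLocalization.AtPrime (X.presheaf.stalk (hV.fromSpec y)) p :=
      hV.isLocalization_stalk' y hzV
    obtain ⟨a, ha, b, hb, hab⟩ := hU _ hzU
    rw [← IsLocalization.AtPrime.map_eq_maximalIdeal p] at ha hb
    obtain ⟨α, hα, β, hβ, hreg⟩ := exists_reg2_of_mem_minimalPrimes D p hp ha hb hab
    obtain ⟨r₁, hr₁⟩ := (hDmem α).1 hα
    obtain ⟨r₂, hr₂⟩ := (hDmem β).1 hβ
    have h12 : β * r₁ = α * r₂ := by
      apply hinj
      rw [map_mul, map_mul, hr₁, hr₂]; ring
    obtain ⟨e, he⟩ := hreg.2 (algebraMap _ _ r₁) (algebraMap _ _ r₂) (by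
      rw [← map_mul, ← map_mul, h12])
    obtain ⟨⟨c, v⟩, hcv⟩ := IsLocalization.surj p.primeCompl e
    simp only at hcv
    have h3 : algebraMap Γ(X, V) (X.presheaf.stalk (hV.fromSpec y)) (v.1 * r₁) =
        algebraMap Γ(X, V) (X.presheaf.stalk (hV.fromSpec y)) (α * c) := by
      rw [map_mul, map_mul, he, ← hcv]; ring
    rw [IsLocalization.eq_iff_exists p.primeCompl] at h3
    obtain ⟨w, hw⟩ := h3
    set τ : Γ(X, W) := res hWV (w.1 * v.1) * σ - res hWV (w.1 * c) with hτ
    have hατ : res hWV α * τ = 0 := by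
      have : res hWV α * τ = res hWV (w.1 * (v.1 * r₁)) - res hWV (w.1 * (α * c)) := by
        rw [hτ, mul_sub, ← mul_assoc, ← map_mul, ← map_mul]
        have e1 : α * (w.1 * v.1) = (w.1 * v.1) * α := by ring
        rw [e1, map_mul, mul_assoc, ← hr₁, ← map_mul]
        congr 2 <;> ring
      rw [this, hw, sub_self]
    obtain ⟨w', hw'p, hw'⟩ := exists_notMem_mul_eq_zero hV hWV hWc p
      (X.presheaf.stalk (hV.fromSpec y)) α hreg.1 τ hατ
    have hmem : w' * (w.1 * v.1) ∈ D := by
      refine ⟨w' * (w.1 * c), ?_⟩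
      rw [hτ, mul_sub, sub_eq_zero] at hw'
      rw [map_mul, map_mul (res hWV) w', ← hw', mul_assoc]
    have := hp.1.2 hmem
    rcases hpp.mem_or_mem this with h | h
    · exact hw'p h
    · rcases hpp.mem_or_mem h with h | h
      · exact w.2 h
      · exact v.2 h

end Groth.Agent.Lib.Helper25.Hartogs
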