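import Mathlib
import Groth.Agent.Lib.Helper25.RedDVR

open AlgebraicGeometry CategoryTheory Limits TensorProduct IsLocalRing

namespace Groth.Agent.Lib.Helper25.ConnDVR

universe u

/-- The closed fibre of an algebra over a local ring, as a quotient. -/
theorem isReduced_quotient_map_maximalIdeal {R A : Type*} [CommRing R] [IsLocalRing R]
    [CommRing A] [Algebra R A] [IsReduced ((maximalIdeal R).Fiber A)] :
    IsReduced (A ⧸ (maximalIdeal R).map (algebraMap R A)) := by
  let e : (maximalIdeal R).Fiber A ≃ₐ[R] A ⧸ (maximalIdeal R).map (algebraMap R A) :=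
    (Algebra.TensorProduct.congr (.symm <| .ofBijective _
      (Ideal.bijective_algebraMap_quotient_residueField (maximalIdeal R))) .refl).trans <|
    (Algebra.TensorProduct.comm _ _ _).trans
    ((Algebra.TensorProduct.quotIdealMapEquivTensorQuot A (maximalIdeal R)).symm.restrictScalars _)
  exact isReduced_of_injective e.symm.toRingEquiv e.symm.injective

/-- Idempotents of `A[1/π]` come from `A` when `π` is regular and `(π)` is radical. -/
theorem exists_algebraMap_eq_of_isIdempotentElem {A : Type*} [CommRing A] (π : A)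
    (hπ : π ∈ nonZeroDivisors A) (hrad : (Ideal.span {π}).IsRadical)
    (e' : Localization.Away π) (he' : IsIdempotentElem e') :
    ∃ e : A, IsIdempotentElem e ∧ algebraMap A (Localization.Away π) e = e' := by
  have hinj : Function.Injective (algebraMap A (Localization.Away π)) :=
    IsLocalization.injective _ (Submonoid.powers_le.mpr hπ)
  obtain ⟨a, ⟨_, n, rfl⟩, rfl⟩ := IsLocalization.exists_mk'_eq (Submonoid.powers π) e'
  induction n generalizing a with
  | zero =>
    refine ⟨a, ?_, ?_⟩
    · apply hinj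
      have : IsLocalization.mk' (Localization.Away π) a
          (⟨π ^ 0, 0, rfl⟩ : Submonoid.powers π) = algebraMap A _ a := by
        rw [IsLocalization.mk'_eq_iff_eq_mul]; simp
      rw [this] at he'
      rw [map_mul]; exact he'
    · rw [eq_comm, IsLocalization.mk'_eq_iff_eq_mul]; simp
  | succ n ih =>
    have h1 : a * a = π ^ (n + 1) * a := by
      apply hinj
      have h2 := he'
      unfold IsIdempotentElem at h2
      rw [← IsLocalization.mk'_mul, IsLocalization.mk'_eq_iff_eq] at h2
      have h3 : algebraMap A (Localization.Away π) (π ^ (n + 1) * (a * a)) =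
          algebraMap A (Localization.Away π) (π ^ (n + 1) * π ^ (n + 1) * a) := h2
      have h4 := hinj h3
      have h5 : π ^ (n + 1) * (a * a) = π ^ (n + 1) * (π ^ (n + 1) * a) := by
        rw [h4]; ring
      rw [(mul_cancel_left_mem_nonZeroDivisors (pow_mem hπ (n + 1))).mp h5]
    have h2 : a ∈ Ideal.span {π} := by
      apply hrad
      refine ⟨2, ?_⟩
      rw [pow_two, h1, pow_succ, mul_assoc]
      exact Ideal.mul_mem_left _ _ (Ideal.mul_mem_right _ _ (Ideal.mem_span_singleton_self π))
    obtain ⟨b, rfl⟩ := Ideal.mem_span_singleton.mp h2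
    have h3 : IsLocalization.mk' (Localization.Away π) (π * b)
        (⟨π ^ (n + 1), n + 1, rfl⟩ : Submonoid.powers π) =
        IsLocalization.mk' (Localization.Away π) b (⟨π ^ n, n, rfl⟩ : Submonoid.powers π) := by
      rw [IsLocalization.mk'_eq_iff_eq]
      congr 1
      change π ^ n * (π * b) = π ^ (n + 1) * b
      ring
    rw [h3] at he' ⊢
    exact ih b he'

/-- A clopen partition of `D(π)` extends to a clopen partition of `Spec A`. -/
theorem exists_idempotent_separating {A : Type*} [CommRing A] (π : A)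
    (hπ : π ∈ nonZeroDivisors A) (hrad : (Ideal.span {π}).IsRadical)
    (V₁ V₂ : Set (PrimeSpectrum A)) (h₁ : IsOpen V₁) (h₂ : IsOpen V₂)
    (hU : V₁ ∪ V₂ = PrimeSpectrum.basicOpen π) (hD : Disjoint V₁ V₂) :
    ∃ e : A, IsIdempotentElem e ∧ Disjoint (PrimeSpectrum.basicOpen e : Set _) V₂ ∧
      Disjoint (PrimeSpectrum.basicOpen (1 - e) : Set _) V₁ := by
  set ι := PrimeSpectrum.comap (algebraMap A (Localization.Away π)) with hι
  have hrange : Set.range ι = PrimeSpectrum.basicOpen π :=
    PrimeSpectrum.localization_away_comap_range _ π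
  have hcont : Continuous ι := PrimeSpectrum.continuous_comap _
  have hcompl : (ι ⁻¹' V₁)ᶜ = ι ⁻¹' V₂ := by
    ext q
    have hq : ι q ∈ V₁ ∪ V₂ := by rw [hU, ← hrange]; exact ⟨q, rfl⟩
    simp only [Set.mem_compl_iff, Set.mem_preimage]
    constructor
    · intro h; exact hq.resolve_left h
    · intro h h'; exact Set.disjoint_left.mp hD h' h
  have hclopen : IsClopen (ι ⁻¹' V₁) :=
    ⟨by rw [← isOpen_compl_iff, hcompl]; exact h₂.preimage hcont, h₁.preimage hcont⟩
  obtain ⟨e', he', hC⟩ := PrimeSpectrum.isClopen_iff.mp hclopen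
  obtain ⟨e, he, rfl⟩ := exists_algebraMap_eq_of_isIdempotentElem π hπ hrad e' he'
  have hpre : ι ⁻¹' (PrimeSpectrum.basicOpen e : Set _) = ι ⁻¹' V₁ := by
    rw [hC]
    ext q
    simp [hι]
  refine ⟨e, he, ?_, ?_⟩
  · rw [Set.disjoint_left]
    intro p hp hp2
    have : p ∈ Set.range ι := by rw [hrange, ← hU]; exact Or.inr hp2
    obtain ⟨q, rfl⟩ := this
    have hq : q ∈ ι ⁻¹' V₁ := by rw [← hpre]; exact hp
    exact Set.disjoint_left.mp hD hq hp2
  · rw [Set.disjoint_left]
    intro p hp hp1
    have : p ∈ Set.range ι := by rw [hrange, ← hU]; exact Or.inl hp1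
    obtain ⟨q, rfl⟩ := this
    have hq : q ∈ ι ⁻¹' (PrimeSpectrum.basicOpen e : Set _) := by rw [hpre]; exact hp1
    have h1 : e ∉ (ι q).asIdeal := hq
    have h2 : 1 - e ∉ (ι q).asIdeal := hp
    have h3 : e * (1 - e) ∈ (ι q).asIdeal := by
      have : e * (1 - e) = 0 := by rw [mul_sub, mul_one, he.eq, sub_self]
      rw [this]; exact zero_mem _
    rcases (ι q).isPrime.mem_or_mem h3 with h | h
    · exact h1 h
    · exact h2 h

end Groth.Agent.Lib.Helper25.ConnDVR
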