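import Mathlib
import Groth.Agent.Lib.Helper25.RedDVR
import Groth.Agent.Lib.Helper25.ConnDVRRing

open AlgebraicGeometry CategoryTheory Limits TensorProduct IsLocalRing

namespace Groth.Agent.Lib.Helper25.ConnDVR

open Groth.Agent.Lib.Helper25.RedDVR

universe u

theorem exists_affine_data {R : Type u} [CommRing R] [IsLocalRing R] {X : Scheme.{u}}
    (f : X ⟶ Spec (CommRingCat.of R)) [Flat f]
    (π : R) (hπ : π ∈ nonZeroDivisors R) (hm : maximalIdeal R = Ideal.span {π})
    (hred : IsReduced (f.fiber (closedPoint R))) (U : X.Opens) (hU : IsAffineOpen U) :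
    ∃ φ : CommRingCat.of R ⟶ Γ(X, U), Spec.map φ = hU.fromSpec ≫ f ∧
      φ.hom π ∈ nonZeroDivisors Γ(X, U) ∧ (Ideal.span {φ.hom π}).IsRadical := by
  obtain ⟨φ, hφ⟩ : ∃ φ : CommRingCat.of R ⟶ Γ(X, U), Spec.map φ = hU.fromSpec ≫ f :=
    ⟨Spec.preimage (hU.fromSpec ≫ f), Spec.map_preimage _⟩
  have hflat : φ.hom.Flat := by
    rw [← HasRingHomProperty.Spec_iff (P := @Flat), hφ]
    infer_instance
  algebraize [φ.hom]
  have hfib : IsReduced ((Spec.map φ).fiber (closedPoint R)) := by
    have : IsReduced (pullback f ((Spec (CommRingCat.of R)).fromSpecResidueField (closedPoint R))) :=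
      hred
    have e₁ : Spec.map φ ≫ 𝟙 _ = hU.fromSpec ≫ f := by simp [hφ]
    have e₂ : (Spec (CommRingCat.of R)).fromSpecResidueField (closedPoint R) ≫ 𝟙 _ =
        𝟙 _ ≫ (Spec (CommRingCat.of R)).fromSpecResidueField (closedPoint R) := by simp
    have hoi := Scheme.pullback_map_isOpenImmersion (Spec.map φ)
        ((Spec (CommRingCat.of R)).fromSpecResidueField (closedPoint R)) f
        ((Spec (CommRingCat.of R)).fromSpecResidueField (closedPoint R))
        hU.fromSpec (𝟙 _) (𝟙 _) e₁ e₂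
    exact @isReduced_of_isOpenImmersion _ _ _ hoi this
  have hfib' : IsReduced ((maximalIdeal R).Fiber Γ(X, U)) :=
    isReduced_fiber_ring_of_isReduced_fiber_Spec (R := R) (S := Γ(X, U)) (closedPoint R) hfib
  refine ⟨φ, hφ, ?_, ?_⟩
  · change algebraMap R Γ(X, U) π ∈ _
    rw [mem_nonZeroDivisors_iff_left]
    intro x hx
    have := Module.Flat.isSMulRegular_of_nonZeroDivisors (M := Γ(X, U)) hπ
    apply this
    simp only [Algebra.smul_def, mul_zero]
    exact hx
  · have := isReduced_quotient_map_maximalIdeal (R := R) (A := Γ(X, U))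
    rw [hm, Ideal.map_span, Set.image_singleton] at this
    rw [Ideal.isRadical_iff_quotient_reduced]
    exact this

theorem isPreconnected_preimage_basicOpen {R : Type u} [CommRing R] [IsLocalRing R] {X : Scheme.{u}}
    (f : X ⟶ Spec (CommRingCat.of R)) [Flat f]
    (π : R) (hπ : π ∈ nonZeroDivisors R) (hm : maximalIdeal R = Ideal.span {π})
    (hred : IsReduced (f.fiber (closedPoint R))) [PreconnectedSpace X] :
    _root_.IsPreconnected (f ⁻¹' (PrimeSpectrum.basicOpen π : Set (PrimeSpectrum R))) ∧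
    Dense (f ⁻¹' (PrimeSpectrum.basicOpen π : Set (PrimeSpectrum R))) := by
  set D : Set X := f ⁻¹' (PrimeSpectrum.basicOpen π : Set (PrimeSpectrum R)) with hD
  have hDopen : IsOpen D := (PrimeSpectrum.basicOpen π).isOpen.preimage f.continuous
  -- affine-local description
  have haff : ∀ (U : X.Opens) (hU : IsAffineOpen U),
      ∃ φ : CommRingCat.of R ⟶ Γ(X, U), hU.fromSpec ⁻¹' D =
        (PrimeSpectrum.basicOpen (φ.hom π) : Set (PrimeSpectrum Γ(X, U))) ∧
      φ.hom π ∈ nonZeroDivisors Γ(X, U) ∧ (Ideal.span {φ.hom π}).IsRadical := by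
    intro U hU
    obtain ⟨φ, hφ, h1, h2⟩ := exists_affine_data f π hπ hm hred U hU
    refine ⟨φ, ?_, h1, h2⟩
    rw [hD, ← Set.preimage_comp]
    have : (f ∘ hU.fromSpec : _ → _) = (Spec.map φ : _ → _) := by
      rw [hφ]; rfl
    rw [this]
    ext p
    rfl
  have hdense : Dense D := by
    rw [dense_iff_inter_open]
    intro W hW ⟨x, hx⟩
    obtain ⟨_, ⟨U, hU0, rfl⟩, hxU, hUW⟩ :=
      X.isBasis_affineOpens.exists_subset_of_mem_open hx hW
    have hU : IsAffineOpen U := hU0
    obtain ⟨φ, h0, h1, h2⟩ := haff U hU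
    obtain ⟨p₀, -⟩ : x ∈ Set.range hU.fromSpec := by rw [hU.range_fromSpec]; exact hxU
    have hnn : ¬ IsNilpotent (φ.hom π) := by
      intro hnil
      obtain ⟨k, hk⟩ := hnil
      have := pow_mem h1 k
      rw [hk] at this
      have h10 : (1 : Γ(X, U)) = 0 := mem_nonZeroDivisors_iff_left.mp this 1 (zero_mul 1)
      apply (show PrimeSpectrum Γ(X, U) from p₀).isPrime.ne_top
      rw [Ideal.eq_top_iff_one, h10]
      exact zero_mem _
    have : (PrimeSpectrum.basicOpen (φ.hom π)) ≠ ⊥ := by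
      rw [Ne, PrimeSpectrum.basicOpen_eq_bot_iff]; exact hnn
    obtain ⟨p, hp⟩ : (PrimeSpectrum.basicOpen (φ.hom π) : Set (PrimeSpectrum Γ(X, U))).Nonempty := by
      rw [Set.nonempty_iff_ne_empty]
      intro h
      apply this
      ext1
      exact h
    refine ⟨hU.fromSpec p, hUW ?_, ?_⟩
    · rw [← hU.range_fromSpec]; exact ⟨p, rfl⟩
    · have : p ∈ hU.fromSpec ⁻¹' D := by rw [h0]; exact hp
      exact this
  refine ⟨?_, hdense⟩
  rw [isPreconnected_iff_subset_of_disjoint]
  intro u v hu hv huv hdisj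
  set V₁ := D ∩ u with hV₁
  set V₂ := D ∩ v with hV₂
  have hV₁o : IsOpen V₁ := hDopen.inter hu
  have hV₂o : IsOpen V₂ := hDopen.inter hv
  have hunion : V₁ ∪ V₂ = D := by
    rw [hV₁, hV₂, ← Set.inter_union_distrib_left]
    exact Set.inter_eq_left.mpr huv
  have hdisj' : Disjoint V₁ V₂ := by
    rw [Set.disjoint_iff_inter_eq_empty, hV₁, hV₂, ← Set.inter_inter_distrib_left]
    exact hdisj
  have hcl : Disjoint (closure V₁) (closure V₂) := by
    rw [Set.disjoint_left]
    intro x hx1 hx2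
    obtain ⟨_, ⟨U, hU0, rfl⟩, hxU, -⟩ :=
      X.isBasis_affineOpens.exists_subset_of_mem_open (Set.mem_univ x) isOpen_univ
    have hU : IsAffineOpen U := hU0
    obtain ⟨φ, h0, h1, h2⟩ := haff U hU
    have hcont : Continuous hU.fromSpec := hU.fromSpec.continuous
    obtain ⟨e, he, hd1, hd2⟩ := exists_idempotent_separating (φ.hom π) h1 h2
      (hU.fromSpec ⁻¹' V₁) (hU.fromSpec ⁻¹' V₂) (hV₁o.preimage hcont) (hV₂o.preimage hcont)
      (by rw [← Set.preimage_union, hunion]; exact h0)
      (hdisj'.preimage _)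
    obtain ⟨p, rfl⟩ : x ∈ Set.range hU.fromSpec := by rw [hU.range_fromSpec]; exact hxU
    have hopen : ∀ a : Γ(X, U), IsOpen (hU.fromSpec ''
        (show Set (Spec Γ(X, U)) from (PrimeSpectrum.basicOpen a : Set (PrimeSpectrum Γ(X, U))))) :=
      fun a => hU.fromSpec.isOpenEmbedding.isOpenMap _
        (show IsOpen (show Set (Spec Γ(X, U)) from
          (PrimeSpectrum.basicOpen a : Set (PrimeSpectrum Γ(X, U)))) from
          (PrimeSpectrum.basicOpen a).isOpen)
    by_cases hpe : e ∈ (show PrimeSpectrum Γ(X, U) from p).asIdeal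
    · -- p ∈ D(1 - e)
      have hp' : (show PrimeSpectrum Γ(X, U) from p) ∈
          (PrimeSpectrum.basicOpen (1 - e) : Set (PrimeSpectrum Γ(X, U))) := by
        intro h
        have : (1 : Γ(X, U)) ∈ (show PrimeSpectrum Γ(X, U) from p).asIdeal := by
          have h1 : (1 : Γ(X, U)) = (1 - e) + e := by ring
          rw [h1]; exact add_mem h hpe
        exact (show PrimeSpectrum Γ(X, U) from p).isPrime.ne_top ((Ideal.eq_top_iff_one _).mpr this)
      obtain ⟨y, ⟨q, hq, rfl⟩, hy⟩ := mem_closure_iff.mp hx1 _ (hopen (1 - e)) ⟨p, hp', rfl⟩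
      exact Set.disjoint_left.mp hd2 hq hy
    · obtain ⟨y, ⟨q, hq, rfl⟩, hy⟩ := mem_closure_iff.mp hx2 _ (hopen e) ⟨p, hpe, rfl⟩
      exact Set.disjoint_left.mp hd1 hq hy
  have hcover : (Set.univ : Set X) ⊆ closure V₁ ∪ closure V₂ := by
    rw [← closure_union, hunion, hdense.closure_eq]
  have := isPreconnected_iff_subset_of_disjoint_closed.mp
    (isPreconnected_univ (α := X)) (closure V₁) (closure V₂) isClosed_closure isClosed_closure
    hcover (by rw [Set.disjoint_iff_inter_eq_empty.mp hcl, Set.inter_empty])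
  rcases this with h | h
  · left
    intro x hx
    rcases huv hx with h' | h'
    · exact h'
    · exfalso
      have h3 : x ∈ closure V₂ := subset_closure ⟨hx, h'⟩
      exact Set.disjoint_left.mp hcl (h (Set.mem_univ x)) h3
  · right
    intro x hx
    rcases huv hx with h' | h'
    · exfalso
      have h3 : x ∈ closure V₁ := subset_closure ⟨hx, h'⟩
      exact Set.disjoint_left.mp hcl h3 (h (Set.mem_univ x))
    · exact h'

end Groth.Agent.Lib.Helper25.ConnDVR
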