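import Mathlib
import Groth.Agent.Lib.Helper14.SchemeDim
import Groth.Agent.Lib.Helper21.BiratPoint

/-!
Dimension theory for group schemes locally of finite type over a field (helper25):
local dimension is preserved by flat integral morphisms, and all closed points of a group scheme
have local rings of the same dimension, equal to the dimension of the group.
-/

set_option autoImplicit false
universe u
open CategoryTheory AlgebraicGeometry

namespace Groth.Agent.Lib.Helper25.GrpDim

section integral

variable {X Y : Scheme.{u}}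

/-- There are no non-trivial specializations in the fibres of an integral morphism. -/
theorem eq_of_specializes_of_isIntegralHom (f : X ⟶ Y) [IsIntegralHom f] (a a' : X)
    (h : a' ⤳ a) (he : f a' = f a) : a' = a := by
  obtain ⟨W, hW, hyW, -⟩ := TopologicalSpace.Opens.isBasis_iff_nbhd.mp Y.isBasis_affineOpens
    (show f a ∈ (⊤ : Y.Opens) from trivial)
  have hV : IsAffineOpen (f ⁻¹ᵁ W) := hW.preimage f
  have haV : a ∈ f ⁻¹ᵁ W := hyW
  have ha'V : a' ∈ f ⁻¹ᵁ W := h.mem_open (f ⁻¹ᵁ W).isOpen haV
  have hle := Groth.Agent.Lib.Helper21.Birat.primeIdealOf_le_of_specializes hV ha'V haV h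
  have hint : (f.app W).hom.IsIntegral := f.isIntegral_app W hW
  let _ : Algebra Γ(Y, W) Γ(X, f ⁻¹ᵁ W) := (f.app W).hom.toAlgebra
  have : Algebra.IsIntegral Γ(Y, W) Γ(X, f ⁻¹ᵁ W) := ⟨hint⟩
  have hc1 := IsAffineOpen.comap_primeIdealOf_appLE W hW (f ⁻¹ᵁ W) hV le_rfl haV
  have hc2 := IsAffineOpen.comap_primeIdealOf_appLE W hW (f ⁻¹ᵁ W) hV le_rfl ha'V
  have hcomap : (hV.primeIdealOf ⟨a', ha'V⟩).asIdeal.comap (algebraMap Γ(Y, W) Γ(X, f ⁻¹ᵁ W)) =
      (hV.primeIdealOf ⟨a, haV⟩).asIdeal.comap (algebraMap Γ(Y, W) Γ(X, f ⁻¹ᵁ W)) := by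
    have e1 := congrArg PrimeSpectrum.asIdeal hc1
    have e2 := congrArg PrimeSpectrum.asIdeal hc2
    rw [← Scheme.Hom.app_eq_appLE] at e1 e2
    have e3 : (hW.primeIdealOf ⟨f a', ha'V⟩).asIdeal = (hW.primeIdealOf ⟨f a, haV⟩).asIdeal := by
      congr 2
      exact Subtype.ext he
    exact e2.trans (e3.trans e1.symm)
  by_contra hne
  have hlt : (hV.primeIdealOf ⟨a', ha'V⟩).asIdeal < (hV.primeIdealOf ⟨a, haV⟩).asIdeal := by
    refine lt_of_le_of_ne hle fun heq => hne ?_
    exact Groth.Agent.Lib.Helper21.Birat.primeIdealOf_injective hV ha'V haV heq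
  have := Ideal.IsIntegral.comap_lt_comap (R := Γ(Y, W)) hlt
  rw [hcomap] at this
  exact lt_irrefl _ this

/-- Local dimension is preserved by flat integral morphisms. -/
theorem ringKrullDim_stalk_eq_of_flat_integral (f : X ⟶ Y) [Flat f] [IsIntegralHom f] (a : X) :
    ringKrullDim (X.presheaf.stalk a) = ringKrullDim (Y.presheaf.stalk (f a)) := by
  rw [ringKrullDim_stalk_eq_coheight, ringKrullDim_stalk_eq_coheight]
  congr 1
  exact Groth.Agent.Lib.Helper14.AS.coheight_eq_of_generalizingMap f f.continuous
    (Flat.generalizingMap f) (eq_of_specializes_of_isIntegralHom f) a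

end integral

section algClosed

variable {K : Type u} [Field K] {G : Scheme.{u}} (f : G ⟶ Spec (CommRingCat.of K))
    [LocallyOfFiniteType f] [GrpObj (Over.mk f)]

include f in
set_option backward.defeqAttrib.useBackward true in
set_option backward.isDefEq.respectTransparency false in
open MonObj MonoidalCategory CartesianMonoidalCategory in
/-- Over an algebraically closed field, any two closed points of a group scheme locally of finite
type are exchanged by an automorphism of the underlying scheme. -/
theorem exists_iso_apply_eq [IsAlgClosed K] (x y : G) (hxc : x ∈ closedPoints G)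
    (hyc : y ∈ closedPoints G) : ∃ α : G ≅ G, α.hom x = y := by
  let x' : 𝟙_ _ ⟶ Over.mk f := Over.homMk _ ((pointEquivClosedPoint f).symm ⟨x, hxc⟩).2
  let y' : 𝟙_ _ ⟶ Over.mk f := Over.homMk _ ((pointEquivClosedPoint f).symm ⟨y, hyc⟩).2
  let α := (GrpObj.mulRight (A := Over.mk f) x').symm ≪≫
    (GrpObj.mulRight (A := Over.mk f) y')
  have hα : x' ≫ α.hom = y' := by
    dsimp only [Iso.trans_hom, Iso.symm_hom, α]
    rw [← Category.assoc, ← Iso.eq_comp_inv]
    simp [comp_lift_assoc]
  have hα' : α.hom.left x = y := by
    simpa [x', y', pointEquivClosedPoint] using congr(($hα).left (IsLocalRing.closedPoint K))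
  exact ⟨(Over.forget _).mapIso α, hα'⟩

include f in
/-- Over an algebraically closed field, the local rings at closed points of a group scheme locally
of finite type all have the same dimension. -/
theorem ringKrullDim_stalk_eq_of_closedPoints [IsAlgClosed K] (x y : G)
    (hxc : x ∈ closedPoints G) (hyc : y ∈ closedPoints G) :
    ringKrullDim (G.presheaf.stalk x) = ringKrullDim (G.presheaf.stalk y) := by
  obtain ⟨α, hα⟩ := exists_iso_apply_eq f x y hxc hyc
  have h := ringKrullDim_eq_of_ringEquiv (asIso (α.hom.stalkMap x)).commRingCatIsoToRingEquiv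
  rw [hα] at h
  exact h.symm

end algClosed

section general

variable (k : Type u) [Field k] (G : Over (Spec (CommRingCat.of k))) [GrpObj G]
  [LocallyOfFiniteType G.hom]

/-- The base change morphism to the algebraic closure. -/
noncomputable abbrev gbar : Spec (CommRingCat.of (AlgebraicClosure k)) ⟶ Spec (CommRingCat.of k) :=
  Spec.map (CommRingCat.ofHom <| algebraMap k (AlgebraicClosure k))

instance : IsIntegralHom (gbar k) := by
  rw [IsIntegralHom.SpecMap_iff]
  exact algebraMap_isIntegral_iff.mpr inferInstance

/-- In a group scheme locally of finite type over a field, the local rings at closed points all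
have the same dimension. -/
theorem ringKrullDim_stalk_eq_of_isClosed (x y : G.left) (hx : IsClosed ({x} : Set G.left))
    (hy : IsClosed ({y} : Set G.left)) :
    ringKrullDim (G.left.presheaf.stalk x) = ringKrullDim (G.left.presheaf.stalk y) := by
  let g := gbar k
  let p := Limits.pullback.fst G.hom g
  let q := Limits.pullback.snd G.hom g
  let _ : GrpObj (Over.mk G.hom) := inferInstanceAs (GrpObj G)
  let _ : GrpObj (Over.mk q) := Over.grpObjMkPullbackSnd
  have := LocallyOfFiniteType.jacobsonSpace q
  have key : ∀ z : G.left, IsClosed ({z} : Set G.left) →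
      ∃ z' : ↥(Limits.pullback G.hom g), z' ∈ closedPoints ↥(Limits.pullback G.hom g) ∧
        ringKrullDim (G.left.presheaf.stalk z) =
          ringKrullDim ((Limits.pullback G.hom g).presheaf.stalk z') := by
    intro z hz
    have hne : (p ⁻¹' {z}).Nonempty := by
      obtain ⟨z', hz'⟩ := p.surjective z
      exact ⟨z', hz'⟩
    obtain ⟨z', hz', hz'c⟩ :=
      nonempty_inter_closedPoints hne (hz.preimage p.continuous).isLocallyClosed
    refine ⟨z', hz'c, ?_⟩
    have h := ringKrullDim_stalk_eq_of_flat_integral p z'
    rw [show p z' = z from hz'] at h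
    exact h.symm
  obtain ⟨x', hx'c, hx'⟩ := key x hx
  obtain ⟨y', hy'c, hy'⟩ := key y hy
  rw [hx', hy']
  exact ringKrullDim_stalk_eq_of_closedPoints q x' y' hx'c hy'c

/-- In a group scheme locally of finite type over a field, the local ring at every closed point has
dimension equal to the dimension of the group. -/
theorem ringKrullDim_stalk_eq_topologicalKrullDim (x : G.left) (hx : IsClosed ({x} : Set G.left)) :
    ringKrullDim (G.left.presheaf.stalk x) = topologicalKrullDim G.left := by
  rw [Groth.Agent.Lib.Helper14.AS.topologicalKrullDim_eq_iSup_stalk]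
  refine le_antisymm (le_iSup (fun z : G.left => ringKrullDim (G.left.presheaf.stalk z)) x) ?_
  refine iSup_le fun z => ?_
  have := LocallyOfFiniteType.jacobsonSpace G.hom
  obtain ⟨z₀, hz₀, hz₀c⟩ := nonempty_inter_closedPoints
    (⟨z, subset_closure rfl⟩ : (closure ({z} : Set G.left)).Nonempty) isClosed_closure.isLocallyClosed
  have hspec : z ⤳ z₀ := specializes_iff_mem_closure.mpr hz₀
  rw [← ringKrullDim_stalk_eq_of_isClosed k G z₀ x hz₀c hx, ringKrullDim_stalk_eq_coheight,
    ringKrullDim_stalk_eq_coheight]
  exact WithBot.coe_le_coe.mpr (Order.coheight_anti hspec)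

end general

end Groth.Agent.Lib.Helper25.GrpDim
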