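import Groth.Agent.Lib.Helper25.HypCoh1
import Groth.Agent.Lib.Helper29.SH1
import Groth.Agent.Lib.Helper22.Cech.AffineMorphism
import Groth.Agent.Lib.Lead.Pn.TwistSeq

/-!
# Cohomology of the structure sheaf of a closed subscheme whose ideal sheaf is acyclic
-/

set_option autoImplicit false

universe u

open CategoryTheory CategoryTheory.Limits AlgebraicGeometry Opposite TopologicalSpace

namespace Groth.Agent.Lib.Helper25.HypTwist

open Groth.Agent.Lib.Helper29.QCoh

variable {X : Scheme.{u}} (I : X.IdealSheafData)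

theorem section_eq_zero_of_subsingleton_HH_zero (M : X.Modules)
    (h : Subsingleton (Coh.HH X M 0)) (s : Γ(M, ⊤)) : s = 0 := by
  have hT : IsTerminal (⊤ : X.Opens) := isTerminalTop
  apply (Sheaf.H.equiv₀ (Coh.toAb M) hT).symm.injective
  exact Subsingleton.elim (α := Coh.HH X M 0) _ _

theorem subsingleton_HH_subscheme (i : ℕ)
    (h₂ : Subsingleton (Coh.HH X (Coh.structureModule X) i))
    (h₁ : Subsingleton (Coh.HH X (ClSub.idealMod I) (i + 1))) :
    Subsingleton (Coh.HH I.subscheme (Coh.structureModule I.subscheme) i) := by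
  obtain ⟨e⟩ := Groth.Agent.Lib.Helper22.Cech.nonempty_HH_addEquiv_HH_push I.subschemeι
    (unitM I.subscheme) i
  have h3 : Subsingleton (Coh.HH X (ClSub.quotMod I) i) :=
    Groth.Agent.Lib.Lead.Pn.subsingleton_HH_X₃ (idealSeq I) (shortExact_idealSeq I) i h₂ h₁
  exact e.toEquiv.subsingleton

theorem appTop_bijective_of_subsingleton
    (h0 : Subsingleton (Coh.HH X (ClSub.idealMod I) 0))
    (h1 : Subsingleton (Coh.HH X (ClSub.idealMod I) 1)) :
    Function.Bijective I.subschemeι.appTop.hom := by
  constructor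
  · rw [injective_iff_map_eq_zero]
    intro a ha
    have hex := app_exact_of_exact_of_mono (idealSeq I) (ShortComplex.exact_kernel _)
      (⊤ : X.Opens)
    obtain ⟨s, hs⟩ := (hex (toUnit a)).mp ha
    rw [section_eq_zero_of_subsingleton_HH_zero (ClSub.idealMod I) h0 s, map_zero] at hs
    exact hs.symm
  · haveI : Subsingleton (Coh.HH X (idealSeq I).X₁ 1) := h1
    exact app_top_surjective_of_subsingleton_HH_one (idealSeq I) (shortExact_idealSeq I)

end Groth.Agent.Lib.Helper25.HypTwist
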