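import Mathlib
import Groth.Agent.Lib.Helper23.SmoothField
import Groth.Prelude.Def_CurvBase

/-!
# Geometric regularity of a local ring of a scheme l.f.t. over a field vs. the smooth locus
-/

set_option autoImplicit false
universe u
open CategoryTheory CategoryTheory.Limits AlgebraicGeometry TensorProduct

namespace Groth.Agent.Lib.Helper25.GeomRegSmooth

/-- geometric regularity is invariant under algebra isomorphisms. -/
theorem geomRegular_of_algEquiv {k S S' : Type u} [Field k] [CommRing S] [CommRing S']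
    [Algebra k S] [Algebra k S'] (e : S ≃ₐ[k] S') (h : CAlg.IsGeometricallyRegular k S) :
    CAlg.IsGeometricallyRegular k S' := by
  intro k' _ _ hfin
  haveI := h k' hfin
  exact IsRegularRing.of_ringEquiv
    (Algebra.TensorProduct.congr (AlgEquiv.refl : k' ≃ₐ[k] k') e).toRingEquiv

theorem geomRegular_iff_of_algEquiv {k S S' : Type u} [Field k] [CommRing S] [CommRing S']
    [Algebra k S] [Algebra k S'] (e : S ≃ₐ[k] S') :
    CAlg.IsGeometricallyRegular k S ↔ CAlg.IsGeometricallyRegular k S' :=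
  ⟨geomRegular_of_algEquiv e, geomRegular_of_algEquiv e.symm⟩

attribute [local instance] Curv2.stalkAlgebra

set_option maxHeartbeats 800000 in
theorem geomRegular_stalk_iff_mem_smoothLocus (k : Type u) [Field k] (X : Scheme.{u})
    [X.Over (Spec (CommRingCat.of k))]
    [LocallyOfFinitePresentation (X ↘ (Spec (CommRingCat.of k)))] (x : X) :
    CAlg.IsGeometricallyRegular k (X.presheaf.stalk x) ↔
      x ∈ (X ↘ (Spec (CommRingCat.of k))).smoothLocus := by
  set f : X ⟶ Spec (CommRingCat.of k) := X ↘ (Spec (CommRingCat.of k)) with hf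
  obtain ⟨_, ⟨V, hV, rfl⟩, hxV, -⟩ :=
    X.isBasis_affineOpens.exists_subset_of_mem_open (Set.mem_univ x) isOpen_univ
  have hU : IsAffineOpen (⊤ : (Spec (CommRingCat.of k)).Opens) := isAffineOpen_top _
  have hVU : V ≤ f ⁻¹ᵁ ⊤ := le_top
  rw [Scheme.Hom.mem_smoothLocus, formallySmooth_stalkMap_iff ⊤ hU V hV hVU hxV]
  letI algRC : Algebra Γ(Spec (CommRingCat.of k), ⊤) Γ(X, V) := (f.appLE ⊤ V hVU).hom.toAlgebra
  letI algkR : Algebra k Γ(Spec (CommRingCat.of k), ⊤) :=
    (Scheme.ΓSpecIso (CommRingCat.of k)).inv.hom.toAlgebra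
  letI algkC : Algebra k Γ(X, V) :=
    ((f.appLE ⊤ V hVU).hom.comp (Scheme.ΓSpecIso (CommRingCat.of k)).inv.hom).toAlgebra
  haveI : IsScalarTower k Γ(Spec (CommRingCat.of k), ⊤) Γ(X, V) :=
    IsScalarTower.of_algebraMap_eq (fun _ => rfl)
  have hbij : Function.Bijective (algebraMap k Γ(Spec (CommRingCat.of k), ⊤)) :=
    ConcreteCategory.bijective_of_isIso (Scheme.ΓSpecIso (CommRingCat.of k)).inv
  haveI : Algebra.FormallyEtale k Γ(Spec (CommRingCat.of k), ⊤) :=
    Algebra.FormallyEtale.of_equiv (AlgEquiv.ofBijective (Algebra.ofId k _) hbij)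
  haveI : Algebra.FiniteType k Γ(X, V) := by
    have h1 : (f.appLE ⊤ V hVU).hom.FiniteType := f.finiteType_appLE hU hV hVU
    have h2 : ((Scheme.ΓSpecIso (CommRingCat.of k)).inv.hom).FiniteType :=
      RingHom.FiniteType.of_surjective _ hbij.2
    exact h1.comp h2
  set q := (hV.primeIdealOf ⟨x, hxV⟩).asIdeal with hq
  haveI : q.IsPrime := (hV.primeIdealOf ⟨x, hxV⟩).isPrime
  change _ ↔ Algebra.FormallySmooth Γ(Spec (CommRingCat.of k), ⊤) (Localization.AtPrime q)
  rw [← Algebra.FormallySmooth.iff_restrictScalars (R := k)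
    (A := Γ(Spec (CommRingCat.of k), ⊤)) (B := Localization.AtPrime q)]
  have h14 := (Groth.Agent.Lib.Helper23.SmoothField.tfae_atPrime (k₀ := k) (k := k) (C := Γ(X, V)) q).out 0 3
  rw [h14]
  letI algCS : Algebra Γ(X, V) (X.presheaf.stalk x) :=
    TopCat.Presheaf.algebra_section_stalk X.presheaf ⟨x, hxV⟩
  haveI : IsLocalization.AtPrime (X.presheaf.stalk x) q := hV.isLocalization_stalk ⟨x, hxV⟩
  let e0 : Localization.AtPrime q ≃ₐ[Γ(X, V)] X.presheaf.stalk x :=
    IsLocalization.algEquiv q.primeCompl _ _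
  haveI : IsScalarTower k Γ(X, V) (X.presheaf.stalk x) := by
    refine IsScalarTower.of_algebraMap_eq (fun c => ?_)
    change (X.presheaf.germ ⊤ x trivial).hom ((f.appTop).hom
        ((Scheme.ΓSpecIso (CommRingCat.of k)).inv.hom c)) =
      (X.presheaf.germ V x hxV).hom ((f.appLE ⊤ V hVU).hom
        ((Scheme.ΓSpecIso (CommRingCat.of k)).inv.hom c))
    rw [Scheme.Hom.appLE, CommRingCat.hom_comp, RingHom.comp_apply]
    exact (TopCat.Presheaf.germ_res_apply X.presheaf (homOfLE le_top) x hxV _).symm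
  exact geomRegular_iff_of_algEquiv (e0.restrictScalars k).symm

end Groth.Agent.Lib.Helper25.GeomRegSmooth
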