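import Mathlib
import Groth.Agent.Lib.Helper13.SchemeLocal

set_option autoImplicit false
universe u
open AlgebraicGeometry CategoryTheory CategoryTheory.Limits

namespace Groth.Agent.Lib.Helper25.IdemSupport

/-- On a locally Noetherian scheme, an ideal sheaf `J` with `J ^ k ≤ J ^ (k+1)` has open support. -/
theorem isOpen_support_of_pow_le {Z : Scheme.{u}} [IsLocallyNoetherian Z] (J : Z.IdealSheafData)
    (k : ℕ) (hk : J ^ k ≤ J ^ (k + 1)) : IsOpen (J.support : Set Z) := by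
  rw [isOpen_iff_forall_mem_open]
  intro x hx
  obtain ⟨_, ⟨U, hU, rfl⟩, hxU, -⟩ :=
    Z.isBasis_affineOpens.exists_subset_of_mem_open (Set.mem_univ x) isOpen_univ
  have : IsNoetherianRing Γ(Z, U) := IsLocallyNoetherian.component_noetherian ⟨U, hU⟩
  set a : Ideal Γ(Z, U) := J.ideal ⟨U, hU⟩ with ha
  have hak : a ^ k ≤ a ^ (k + 1) := hk ⟨U, hU⟩
  -- `k ≠ 0`
  have hk0 : k ≠ 0 := by
    rintro rfl
    have h1 : a = ⊤ := by
      rw [eq_top_iff]
      simpa using hak
    have h2 := (Scheme.IdealSheafData.mem_support_iff_of_mem (I := J) (U := ⟨U, hU⟩) hxU).mp hx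
    rw [← ha, h1, Scheme.mem_zeroLocus_iff] at h2
    have h3 : x ∈ Z.basicOpen (1 : Γ(Z, U)) := by
      rw [Scheme.basicOpen_of_isUnit _ isUnit_one]; exact hxU
    exact (h2 1 trivial h3).elim
  -- `a ^ k` is idempotent
  have hpow : ∀ m, a ^ k ≤ a ^ (k + m) := by
    intro m
    induction m with
    | zero => exact le_rfl
    | succ m ih =>
      calc a ^ k ≤ a ^ (k + 1) := hak
        _ = a ^ k * a := pow_succ _ _
        _ ≤ a ^ (k + m) * a := Ideal.mul_mono_left ih
        _ = a ^ (k + (m + 1)) := by rw [← pow_succ, add_assoc]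
  have hidem : IsIdempotentElem (a ^ k) := by
    change a ^ k * a ^ k = a ^ k
    rw [← pow_add]
    exact le_antisymm (Ideal.pow_le_pow_right (Nat.le_add_right k k)) (hpow k)
  obtain ⟨e, he, hae⟩ := (Ideal.isIdempotentElem_iff_of_fg _ (IsNoetherian.noetherian _)).mp hidem
  have hea : e ∈ a := by
    have : e ∈ a ^ k := by rw [hae]; exact Ideal.mem_span_singleton_self e
    exact Ideal.pow_le_self hk0 this
  refine ⟨Z.basicOpen (1 - e), ?_, (Z.basicOpen (1 - e)).2, ?_⟩
  · intro y hy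
    have hyU : y ∈ U := Z.basicOpen_le _ hy
    rw [SetLike.mem_coe, Scheme.IdealSheafData.mem_support_iff_of_mem (U := ⟨U, hU⟩) hyU,
      Scheme.mem_zeroLocus_iff]
    intro r hr hyr
    have hrk : r ^ k ∈ a ^ k := Ideal.pow_mem_pow hr k
    rw [hae] at hrk
    obtain ⟨s, hs⟩ := Ideal.mem_span_singleton'.mp hrk
    -- `y ∈ D(r^k (1-e)) = D(0) = ∅`
    have h0 : r ^ k * (1 - e) = 0 := by
      rw [← hs, mul_assoc, mul_sub, mul_one, he.eq, sub_self, mul_zero]
    have hy2 : y ∈ Z.basicOpen (r ^ k * (1 - e)) := by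
      rw [Scheme.basicOpen_mul, Scheme.basicOpen_pow _ _ (Nat.pos_of_ne_zero hk0)]
      exact ⟨hyr, hy⟩
    rw [h0, Scheme.basicOpen_zero] at hy2
    exact hy2
  · have h2 := (Scheme.IdealSheafData.mem_support_iff_of_mem (I := J) (U := ⟨U, hU⟩) hxU).mp hx
    rw [Scheme.mem_zeroLocus_iff] at h2
    have hxe : x ∉ Z.basicOpen e := h2 e hea
    show x ∈ Z.basicOpen (1 - e)
    rw [Groth.Agent.Lib.Helper13.mem_basicOpen_iff_primeIdealOf hU _ hxU] at hxe ⊢
    rw [not_not] at hxe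
    intro h1
    have : (1 : Γ(Z, U)) ∈ (hU.primeIdealOf ⟨x, hxU⟩).asIdeal := by
      have := Ideal.add_mem _ h1 hxe
      rwa [sub_add_cancel] at this
    exact (hU.primeIdealOf ⟨x, hxU⟩).isPrime.ne_top ((Ideal.eq_top_iff_one _).mpr this)

end Groth.Agent.Lib.Helper25.IdemSupport
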