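import Mathlib.Algebra.Category.Grp.FilteredColimits
import Mathlib.Algebra.Category.Grp.Ulift
import Mathlib.CategoryTheory.Limits.ConcreteCategory.Basic

/-!
# Filtered colimits of abelian groups in a universe different from that of the index category

For a filtered small category `J : Type v` and a colimit cocone of a diagram
`G : J ⥤ AddCommGrpCat.{w}` (given, not assumed to exist in general), elements of the colimit come from
a stage and vanish iff they vanish at a later stage.
-/

namespace Groth.Agent.Lib.Helper25.AbFiltered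

open CategoryTheory CategoryTheory.Limits

universe w v

section
variable {J : Type v} [SmallCategory J] [IsFiltered J]

theorem presA (F : J ⥤ AddCommGrpCat.{max v w}) :
    PreservesColimit F (forget₂ AddCommGrpCat AddGrpCat) :=
  preservesColimit_of_preserves_colimit_cocone
    (AddCommGrpCat.FilteredColimits.colimitCoconeIsColimit.{v, w} F)
    (AddGrpCat.FilteredColimits.colimitCoconeIsColimit.{v, w} (F ⋙ forget₂ AddCommGrpCat AddGrpCat))

theorem presB (F : J ⥤ AddGrpCat.{max v w}) :
    PreservesColimit F (forget₂ AddGrpCat AddMonCat) :=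
  preservesColimit_of_preserves_colimit_cocone
    (AddGrpCat.FilteredColimits.colimitCoconeIsColimit.{v, w} F)
    (AddMonCat.FilteredColimits.colimitCoconeIsColimit.{v, w} (F ⋙ forget₂ AddGrpCat AddMonCat))

theorem presC (F : J ⥤ AddMonCat.{max v w}) :
    PreservesColimit F (forget AddMonCat) :=
  preservesColimit_of_preserves_colimit_cocone
    (AddMonCat.FilteredColimits.colimitCoconeIsColimit.{v, w} F)
    (Types.TypeMax.colimitCoconeIsColimit (F ⋙ forget AddMonCat))

theorem presAll (F : J ⥤ AddCommGrpCat.{max v w}) :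
    PreservesColimit F (forget AddCommGrpCat) := by
  have a := presA.{w, v} F
  have b := presB.{w, v} (F ⋙ forget₂ AddCommGrpCat AddGrpCat)
  have c := presC.{w, v} ((F ⋙ forget₂ AddCommGrpCat AddGrpCat) ⋙ forget₂ AddGrpCat AddMonCat)
  have : PreservesColimit F (forget₂ AddCommGrpCat AddGrpCat ⋙ forget₂ AddGrpCat AddMonCat ⋙
      forget AddMonCat) := by
    infer_instance
  exact this

variable (G : J ⥤ AddCommGrpCat.{w}) {D : Cocone G} (hD : IsColimit D)

include hD

theorem exists_rep (x : D.pt) : ∃ (j : J) (y : G.obj j), D.ι.app j y = x := by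
  let U := AddCommGrpCat.uliftFunctor.{v, w}
  have hD' : IsColimit (U.mapCocone D) := isColimitOfPreserves U hD
  haveI := presAll.{w, v} (G ⋙ U)
  obtain ⟨j, y', hy'⟩ := Concrete.isColimit_exists_rep (G ⋙ U) hD' (ULift.up x)
  exact ⟨j, y'.down, congrArg ULift.down hy'⟩

theorem exists_map_eq_zero {j : J} (y : G.obj j) (h : D.ι.app j y = 0) :
    ∃ (k : J) (f : j ⟶ k), G.map f y = 0 := by
  let U := AddCommGrpCat.uliftFunctor.{v, w}
  have hD' : IsColimit (U.mapCocone D) := isColimitOfPreserves U hD
  haveI := presAll.{w, v} (G ⋙ U)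
  have h' : (U.mapCocone D).ι.app j (ULift.up y) = (U.mapCocone D).ι.app j (ULift.up 0) := by
    apply ULift.ext
    change D.ι.app j y = D.ι.app j 0
    rw [h, map_zero]
  obtain ⟨k, f, g, hfg⟩ := Concrete.isColimit_exists_of_rep_eq (G ⋙ U) hD' _ _ h'
  refine ⟨k, f, ?_⟩
  have := congrArg ULift.down hfg
  change G.map f y = G.map g 0 at this
  rw [this, map_zero]

end

end Groth.Agent.Lib.Helper25.AbFiltered
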