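import Mathlib
import Groth.Agent.Lib.Helper25.AbSchPow3
import Groth.Agent.Lib.Helper10.SmoothReduced2

/-!
Multiplication by an integer invertible on the base on an abelian scheme is surjective, and smooth
morphisms are geometrically reduced (helper25).
-/

set_option autoImplicit false
set_option linter.style.haveILetI false
universe u
open CategoryTheory CategoryTheory.Limits MonoidalCategory CartesianMonoidalCategory MonObj GrpObj
  AlgebraicGeometry

namespace Groth.Agent.Lib.Helper25.AbSchPow

/-- A smooth morphism is geometrically reduced. -/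
theorem geometricallyReduced_of_smooth {X S : Scheme.{u}} (f : X ⟶ S) [Smooth f] :
    GeometricallyReduced f := by
  refine ⟨fun K _ y Z fst snd h => ?_⟩
  haveI : Smooth snd := MorphismProperty.of_isPullback h inferInstance
  exact Groth.Agent.Lib.Helper10.SmoothReduced.isReduced_of_smooth_field snd

/-- The unit section is fixed by integer powers of the identity. -/
theorem unit_comp_zpow {S : Scheme.{u}} (X : Over S) [GrpObj X] (n : ℤ) :
    η[X] ≫ ((𝟙 X : X ⟶ X) ^ n) = η[X] := by
  rw [GrpObj.comp_zpow, Category.comp_id]
  have h1 : (η[X] : 𝟙_ (Over S) ⟶ X) = 1 := by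
    rw [Hom.one_def]
    have : toUnit (𝟙_ (Over S)) = 𝟙 _ := toUnit_unique _ _
    rw [this, Category.id_comp]
  rw [h1, one_zpow]

/-- On an abelian scheme, multiplication by an integer invertible on the base is surjective. -/
theorem surjective_zpow_abelianScheme {S : Scheme.{u}} (X : Over S) [GrpObj X] [IsProper X.hom]
    [Flat X.hom] [LocallyOfFinitePresentation X.hom] [GeometricallyReduced X.hom]
    [GeometricallyConnected X.hom] (n : ℤ) (hn : IsUnit (n : Γ(S, ⊤))) :
    Surjective ((𝟙 X : X ⟶ X) ^ n).left := by
  set f := ((𝟙 X : X ⟶ X) ^ n).left with hf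
  haveI hE : Etale f := etale_zpow_abelianScheme X n hn
  haveI hF : IsFinite f := isFinite_zpow_abelianScheme X n hn
  have hopen : IsOpen (Set.range f) := f.isOpenMap.isOpen_range
  have hclosed : IsClosed (Set.range f) := f.isClosedMap.isClosed_range
  refine ⟨fun x => ?_⟩
  have hconn := X.hom.isConnected_preimage_singleton (X.hom x)
  let s0 : ↥(𝟙_ (Over S)).left := X.hom x
  have he1 : X.hom (η[X].left s0) = X.hom x := by
    have h1 : η[X].left ≫ X.hom = 𝟙 S := Over.w η[X]
    have := congrArg (fun g : S ⟶ S => g (X.hom x)) h1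
    exact this
  have he2 : f (η[X].left s0) = η[X].left s0 := by
    have h1 : η[X].left ≫ f = η[X].left := by
      rw [hf, ← Over.comp_left, unit_comp_zpow]
    have := congrArg (fun g : (𝟙_ (Over S)).left ⟶ X.left => g s0) h1
    exact this
  have hsub := hconn.isPreconnected.subset_isClopen ⟨hclosed, hopen⟩
    ⟨η[X].left s0, he1, ⟨_, he2⟩⟩
  exact hsub rfl

end Groth.Agent.Lib.Helper25.AbSchPow
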