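import Mathlib
import Groth.Agent.Lib.Helper23.Cartier
import Groth.Agent.Lib.Helper9.SmoothRed

/-!
Finitely generated field extensions: `dim Ω_{L/k} ≥ trdeg`, with equality iff separable
(= geometrically reduced). From Helper23's Cartier equality.  (helper25)
-/

set_option autoImplicit false
universe u
open KaehlerDifferential

namespace Groth.Agent.Lib.Helper25.FieldKaehlerSep

variable (k L : Type u) [Field k] [Field L] [Algebra k L] [Algebra.EssFiniteType k L]

theorem exists_nat_trdeg : ∃ a : ℕ, Algebra.trdeg k L = a := by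
  obtain ⟨n, hn, -⟩ := Groth.Agent.Lib.Helper23.Cartier.cartier k L
  exact ⟨n, hn⟩

/-- If `dim Ω_{L/k} ≤ trdeg_k L` then `L/k` is geometrically reduced. -/
theorem isGeometricallyReduced_of_finrank_le (a : ℕ) (ha : Algebra.trdeg k L = a)
    (h : Module.finrank L Ω[L⁄k] ≤ a) : Algebra.IsGeometricallyReduced k L := by
  obtain ⟨h1, h2, h3⟩ := Groth.Agent.Lib.Helper23.Cartier.t2469main (K := k) (L := L)
  rw [ha, Cardinal.toNat_natCast] at h3
  have h0 : Module.finrank L (EGA41.imperfection ℤ k L) = 0 := by omega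
  rw [Groth.Agent.Lib.Helper23.FieldSep.isGeometricallyReduced_iff_injective]
  rw [← LinearMap.ker_eq_bot]
  have h2' : Module.Finite L (LinearMap.ker (mapBaseChange ℤ k L)) := h2
  exact Submodule.finrank_eq_zero.mp h0

/-- If `L/k` is geometrically reduced then `dim Ω_{L/k} = trdeg_k L`. -/
theorem finrank_eq_of_isGeometricallyReduced [Algebra.IsGeometricallyReduced k L]
    (a : ℕ) (ha : Algebra.trdeg k L = a) : Module.finrank L Ω[L⁄k] = a := by
  rw [Groth.Agent.Lib.Helper9.SmoothRed.finrank_kaehler_eq_trdeg, ha, Cardinal.toNat_natCast]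

end Groth.Agent.Lib.Helper25.FieldKaehlerSep
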