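import Mathlib
import Groth.Agent.Lib.Helper9.SmoothDim

/-!
The local cotangent sequence `m/m² → κ ⊗ Ω_{B/k} → Ω_{κ/k} → 0` of a local `k`-algebra `B` in terms
of elements (helper25).
-/

set_option autoImplicit false
universe u
open TensorProduct KaehlerDifferential IsLocalRing

namespace Groth.Agent.Lib.Helper25.LocalKaehler

variable (k B : Type u) [CommRing k] [CommRing B] [IsLocalRing B] [Algebra k B]

theorem mapBaseChange_one_tmul_D (b : B) :
    mapBaseChange k B (ResidueField B) ((1 : ResidueField B) ⊗ₜ[B] D k B b) =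
      D k (ResidueField B) (residue B b) := by
  rw [mapBaseChange_tmul, one_smul, map_D]
  rfl

theorem map_D_eq (b : B) :
    KaehlerDifferential.map k k B (ResidueField B) (D k B b) = D k (ResidueField B) (residue B b) := by
  rw [map_D]; rfl

/-- Elements of the kernel of `κ ⊗ Ω_{B/k} → Ω_{κ/k}` are of the form `1 ⊗ dx` with `x ∈ m`. -/
theorem exists_mem_maximalIdeal_of_mapBaseChange_eq_zero (z : ResidueField B ⊗[B] Ω[B⁄k])
    (hz : mapBaseChange k B (ResidueField B) z = 0) :
    ∃ x ∈ maximalIdeal B, z = (1 : ResidueField B) ⊗ₜ[B] D k B x := by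
  have hsurj : Function.Surjective (algebraMap B (ResidueField B)) := residue_surjective
  have hex := KaehlerDifferential.exact_kerCotangentToTensor_mapBaseChange k B (ResidueField B) hsurj
  obtain ⟨y, rfl⟩ := (hex z).mp hz
  obtain ⟨x, rfl⟩ := Ideal.toCotangent_surjective _ y
  refine ⟨x.1, ?_, ?_⟩
  · have h := x.2
    rw [RingHom.mem_ker] at h
    exact (residue_eq_zero_iff _).mp h
  · rw [kerCotangentToTensor_toCotangent]

/-- If `g_i, i < r` generate `m` and the `d ḡ_i, i ≥ r` span `Ω_{κ/k}`, then the `1 ⊗ dg_i` span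
`κ ⊗ Ω_{B/k}`. -/
theorem span_tmul_D_eq_top {n r : ℕ} (g : Fin n → B)
    (h1 : Ideal.span (g '' {i : Fin n | (i : ℕ) < r}) = maximalIdeal B)
    (h2 : Submodule.span (ResidueField B) ((fun i : Fin n => D k (ResidueField B) (residue B (g i))) ''
      {i : Fin n | r ≤ (i : ℕ)}) = ⊤) :
    Submodule.span (ResidueField B) (Set.range fun i : Fin n =>
      (1 : ResidueField B) ⊗ₜ[B] D k B (g i)) = ⊤ := by
  set W := Submodule.span (ResidueField B) (Set.range fun i : Fin n =>
      (1 : ResidueField B) ⊗ₜ[B] D k B (g i)) with hW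
  -- elements `1 ⊗ dx`, `x ∈ m`, lie in `W`
  have hm : ∀ x ∈ maximalIdeal B, (1 : ResidueField B) ⊗ₜ[B] D k B x ∈ W := by
    intro x hx
    rw [← h1] at hx
    induction hx using Submodule.span_induction with
    | mem y hy =>
      obtain ⟨i, -, rfl⟩ := hy
      exact Submodule.subset_span ⟨i, rfl⟩
    | zero => rw [map_zero, TensorProduct.tmul_zero]; exact Submodule.zero_mem _
    | add y z _ _ hy hz =>
      rw [map_add, TensorProduct.tmul_add]; exact Submodule.add_mem _ hy hz
    | smul b y hy' hy =>
      have hym : y ∈ maximalIdeal B := by rw [← h1]; exact hy'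
      rw [smul_eq_mul, Groth.Agent.Lib.Helper9.SmoothDim.tmul_D_mul (k := k) b y hym]
      exact Submodule.smul_mem _ _ hy
  rw [eq_top_iff]
  rintro z -
  -- find `w ∈ W` with the same image
  have hz : mapBaseChange k B (ResidueField B) z ∈
      Submodule.map (mapBaseChange k B (ResidueField B)) W := by
    have : Submodule.span (ResidueField B) ((fun i : Fin n => D k (ResidueField B) (residue B (g i))) ''
      {i : Fin n | r ≤ (i : ℕ)}) ≤ Submodule.map (mapBaseChange k B (ResidueField B)) W := by
      rw [Submodule.span_le]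
      rintro _ ⟨i, -, rfl⟩
      exact ⟨_, Submodule.subset_span ⟨i, rfl⟩, mapBaseChange_one_tmul_D k B (g i)⟩
    exact this (by rw [h2]; trivial)
  obtain ⟨w, hw, hwz⟩ := hz
  obtain ⟨x, hx, hxz⟩ := exists_mem_maximalIdeal_of_mapBaseChange_eq_zero k B (z - w)
    (by rw [map_sub, hwz, sub_self])
  have : z = (z - w) + w := by abel
  rw [this, hxz]
  exact Submodule.add_mem _ (hm x hx) hw

omit [Algebra k B] in
/-- Nakayama: a family spans a finite module over a local ring if it spans the fibre. -/
theorem span_eq_top_of_span_tmul_eq_top {M : Type*} [AddCommGroup M] [Module B M] [Module.Finite B M]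
    {ι : Type*} (ω : ι → M)
    (h : Submodule.span (ResidueField B) (Set.range fun i => (1 : ResidueField B) ⊗ₜ[B] ω i) = ⊤) :
    Submodule.span B (Set.range ω) = ⊤ := by
  rw [← map_tensorProduct_mk_eq_top, Submodule.map_span, ← Submodule.restrictScalars_span B
    (ResidueField B) Ideal.Quotient.mk_surjective, Submodule.restrictScalars_eq_top_iff,
    ← Set.range_comp]
  exact h

/-- If the `dg_i` span `Ω_{B/k}` and `g_i ∈ m` for `i < r`, then the `d ḡ_i`, `i ≥ r`, span
`Ω_{κ/k}`. -/
theorem span_D_residue_eq_top {n r : ℕ} (g : Fin n → B)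
    (hg : ∀ i : Fin n, (i : ℕ) < r → g i ∈ maximalIdeal B)
    (hspan : Submodule.span B (Set.range fun i : Fin n => D k B (g i)) = ⊤) :
    Submodule.span (ResidueField B) ((fun i : Fin n => D k (ResidueField B) (residue B (g i))) ''
      {i : Fin n | r ≤ (i : ℕ)}) = ⊤ := by
  set S := Submodule.span (ResidueField B) ((fun i : Fin n => D k (ResidueField B) (residue B (g i))) ''
      {i : Fin n | r ≤ (i : ℕ)}) with hS
  have hsurj : Function.Surjective (KaehlerDifferential.map k k B (ResidueField B)) :=
    KaehlerDifferential.map_surjective_of_surjective k k B (ResidueField B) residue_surjective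
  have hall : ∀ ω : Ω[B⁄k], KaehlerDifferential.map k k B (ResidueField B) ω ∈ S := by
    intro ω
    have hω : ω ∈ Submodule.span B (Set.range fun i : Fin n => D k B (g i)) := by
      rw [hspan]; trivial
    induction hω using Submodule.span_induction with
    | mem y hy =>
      obtain ⟨i, rfl⟩ := hy
      rw [map_D_eq]
      by_cases hi : (i : ℕ) < r
      · rw [(residue_eq_zero_iff _).mpr (hg i hi), map_zero]
        exact Submodule.zero_mem _
      · exact Submodule.subset_span ⟨i, not_lt.mp hi, rfl⟩
    | zero => rw [map_zero]; exact Submodule.zero_mem _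
    | add y z _ _ hy hz => rw [map_add]; exact Submodule.add_mem _ hy hz
    | smul b y _ hy =>
      rw [map_smul, ← algebraMap_smul (ResidueField B) b]
      exact Submodule.smul_mem _ _ hy
  rw [eq_top_iff]
  rintro z -
  obtain ⟨ω, rfl⟩ := hsurj z
  exact hall ω

/-- If the `1 ⊗ dg_i` are linearly independent in `κ ⊗ Ω_{B/k}`, `g_i ∈ m` for `i < r ≤ n` and
`dim m/m² = r`, then the `g_i`, `i < r`, generate `m`. -/
theorem span_eq_maximalIdeal_of_linearIndependent [IsNoetherianRing B] {n r : ℕ} (hrn : r ≤ n)
    (g : Fin n → B) (hg : ∀ i : Fin n, (i : ℕ) < r → g i ∈ maximalIdeal B)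
    (hr : Module.finrank (ResidueField B) (CotangentSpace B) = r)
    (hli : LinearIndependent (ResidueField B)
      fun i : Fin n => (1 : ResidueField B) ⊗ₜ[B] D k B (g i)) :
    Ideal.span (g '' {i : Fin n | (i : ℕ) < r}) = maximalIdeal B := by
  classical
  let ι : Fin r → Fin n := Fin.castLE hrn
  have hι : ∀ j : Fin r, ((ι j : Fin n) : ℕ) < r := fun j => j.2
  let f : Fin r → B := fun j => g (ι j)
  have hf : ∀ j, f j ∈ maximalIdeal B := fun j => hg _ (hι j)
  have hli' : LinearIndependent (ResidueField B)
      fun j : Fin r => (1 : ResidueField B) ⊗ₜ[B] D k B (f j) :=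
    hli.comp ι (Fin.castLE_injective hrn)
  let v : Fin r → CotangentSpace B := fun j => (maximalIdeal B).toCotangent ⟨f j, hf j⟩
  have hv : LinearIndependent (ResidueField B) v := by
    rw [Fintype.linearIndependent_iff]
    intro c hc j
    choose a ha using fun j => residue_surjective (c j)
    have h1 : ∑ j, a j • v j = 0 := by
      rw [← hc]
      refine Finset.sum_congr rfl fun j _ => ?_
      rw [← ha j]
      rfl
    have h2 : ∑ j, a j • v j = (maximalIdeal B).toCotangent
        (∑ j, a j • (⟨f j, hf j⟩ : maximalIdeal B)) := by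
      rw [map_sum]
      refine Finset.sum_congr rfl fun j _ => ?_
      rw [map_smul]
    rw [h2, Ideal.toCotangent_eq_zero] at h1
    have h3 : ((∑ j, a j • (⟨f j, hf j⟩ : maximalIdeal B) : maximalIdeal B) : B) =
        ∑ j, a j * f j := by
      rw [Submodule.coe_sum]
      rfl
    rw [h3] at h1
    have h4 := Groth.Agent.Lib.Helper9.SmoothDim.mem_maximalIdeal_of_sum_mem_sq (k := k) f hf hli' a h1 j
    rw [← ha j]
    exact (residue_eq_zero_iff _).mpr h4
  have hfd : FiniteDimensional (ResidueField B) (CotangentSpace B) := inferInstance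
  have hspan := hv.span_eq_top_of_card_eq_finrank' (by rw [Fintype.card_fin, hr])
  have himg : Set.range v = (maximalIdeal B).toCotangent ''
      (Set.range fun j : Fin r => (⟨f j, hf j⟩ : maximalIdeal B)) := by
    rw [← Set.range_comp]; rfl
  rw [himg, CotangentSpace.span_image_eq_top_iff] at hspan
  have h5 := congrArg (Submodule.map (maximalIdeal B).subtype) hspan
  rw [Submodule.map_span, Submodule.map_top, Submodule.range_subtype, ← Set.range_comp] at h5
  have h6 : (⇑(Submodule.subtype (maximalIdeal B)) ∘ fun j : Fin r =>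
      (⟨f j, hf j⟩ : maximalIdeal B)) = f := rfl
  rw [h6] at h5
  have h7 : Set.range f = g '' {i : Fin n | (i : ℕ) < r} := by
    ext x
    constructor
    · rintro ⟨j, rfl⟩
      exact ⟨ι j, hι j, rfl⟩
    · rintro ⟨i, hi, rfl⟩
      exact ⟨⟨i, hi⟩, by simp [f, ι]⟩
  rw [h7] at h5
  exact h5

end Groth.Agent.Lib.Helper25.LocalKaehler
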