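import Mathlib
import Groth.Agent.Lib.Helper25.LocalKaehler
import Groth.Agent.Lib.Helper25.FieldKaehlerSep

/-!
EGA IV 17.15-type: a local ring `B` essentially of finite type over a field `k` is regular with
separable residue field iff it admits "adapted germs" (helper25).
-/

set_option autoImplicit false
set_option linter.unusedSectionVars false
universe u
open TensorProduct KaehlerDifferential IsLocalRing

namespace Groth.Agent.Lib.Helper25.AdaptedGerms

variable (k B : Type u) [Field k] [CommRing B] [IsLocalRing B] [IsNoetherianRing B] [Algebra k B]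
  [Algebra.EssFiniteType k B]

instance essFiniteType_residueField : Algebra.EssFiniteType k (ResidueField B) := by
  have : Algebra.FiniteType B (ResidueField B) :=
    Algebra.FiniteType.of_surjective (Algebra.ofId B (ResidueField B)) residue_surjective
  exact Algebra.EssFiniteType.comp k B _

omit [IsNoetherianRing B] [Algebra.EssFiniteType k B] [IsLocalRing B] [Algebra k B] [Field k] in
theorem ncard_lt_le (n r : ℕ) (g : Fin n → B) : (g '' {i : Fin n | (i : ℕ) < r}).ncard ≤ r := by
  classical
  refine (Set.ncard_image_le (Set.toFinite _)).trans ?_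
  have : {i : Fin n | (i : ℕ) < r} =
      ((Finset.univ.filter fun i : Fin n => (i : ℕ) < r : Finset (Fin n)) : Set (Fin n)) := by
    ext; simp
  rw [this, Set.ncard_coe_finset, Fin.card_filter_val_lt]
  exact min_le_right _ _

theorem ncard_ge_le {M : Type*} (n r : ℕ) (ω : Fin n → M) :
    (ω '' {i : Fin n | r ≤ (i : ℕ)}).ncard ≤ n - r := by
  classical
  refine (Set.ncard_image_le (Set.toFinite _)).trans ?_
  have : {i : Fin n | r ≤ (i : ℕ)} =
      ((Finset.univ.filter fun i : Fin n => ¬ (i : ℕ) < r : Finset (Fin n)) : Set (Fin n)) := by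
    ext; simp
  rw [this, Set.ncard_coe_finset]
  have h1 := Finset.card_filter_add_card_filter_not (s := (Finset.univ : Finset (Fin n)))
    (fun i : Fin n => (i : ℕ) < r)
  rw [Fin.card_filter_val_lt, Finset.card_univ, Fintype.card_fin] at h1
  omega

theorem regular_sep_of_exists_adapted (n r a : ℕ) (hnar : n = a + r)
    (ha : Algebra.trdeg k (ResidueField B) = a) (hr : ringKrullDim B = r)
    (g : Fin n → B)
    (h1 : Ideal.span (g '' {i : Fin n | (i : ℕ) < r}) = maximalIdeal B)
    (h2 : Submodule.span (ResidueField B) ((fun i : Fin n =>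
            D k (ResidueField B) (residue B (g i))) '' {i : Fin n | r ≤ (i : ℕ)}) = ⊤) :
    IsRegularLocalRing B ∧ Algebra.IsGeometricallyReduced k (ResidueField B) := by
  classical
  constructor
  · apply IsRegularLocalRing.of_spanFinrank_maximalIdeal_le
    rw [hr, ← h1]
    have hfin : (g '' {i : Fin n | (i : ℕ) < r}).Finite := Set.toFinite _
    have h3 := Submodule.spanFinrank_span_le_ncard_of_finite (R := B) hfin
    exact_mod_cast h3.trans (ncard_lt_le B n r g)
  · apply Groth.Agent.Lib.Helper25.FieldKaehlerSep.isGeometricallyReduced_of_finrank_le k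
      (ResidueField B) a ha
    have h3 : Module.finrank (ResidueField B) Ω[ResidueField B⁄k] =
        Module.finrank (ResidueField B) (⊤ : Submodule (ResidueField B) Ω[ResidueField B⁄k]) :=
      finrank_top _ _ |>.symm
    rw [h3, ← h2]
    have hfin : ((fun i : Fin n => D k (ResidueField B) (residue B (g i))) ''
        {i : Fin n | r ≤ (i : ℕ)}).Finite := Set.toFinite _
    have h4 := finrank_span_le_card (R := ResidueField B)
      ((fun i : Fin n => D k (ResidueField B) (residue B (g i))) '' {i : Fin n | r ≤ (i : ℕ)})
    rw [← Set.ncard_eq_toFinset_card'] at h4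
    have h5 := ncard_ge_le n r (fun i : Fin n => D k (ResidueField B) (residue B (g i)))
    omega

theorem exists_adapted_of_regular_sep (n r a : ℕ) (hnar : n = a + r)
    (ha : Algebra.trdeg k (ResidueField B) = a) (hr : ringKrullDim B = r)
    (hreg : IsRegularLocalRing B) (hsep : Algebra.IsGeometricallyReduced k (ResidueField B)) :
    ∃ g : Fin n → B,
      Ideal.span (g '' {i : Fin n | (i : ℕ) < r}) = maximalIdeal B ∧
        Submodule.span (ResidueField B) ((fun i : Fin n =>
          D k (ResidueField B) (residue B (g i))) '' {i : Fin n | r ≤ (i : ℕ)}) = ⊤ := by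
  classical
  -- generators of the maximal ideal
  have hsf : (maximalIdeal B).spanFinrank = r := by
    have := hreg.spanFinrank_maximalIdeal
    rw [hr] at this
    exact_mod_cast this
  have hfg : (maximalIdeal B).FG := IsNoetherian.noetherian _
  obtain ⟨s, hscard, hsspan⟩ := Submodule.FG.exists_span_finset_card_eq_spanFinrank hfg
  rw [hsf] at hscard
  let e : Fin r ≃ s := (Finset.equivFinOfCardEq hscard).symm
  -- elements whose differentials form a basis of `Ω_{κ/k}`
  set S : Set Ω[ResidueField B⁄k] :=
    Set.range (fun b : B => D k (ResidueField B) (residue B b)) with hS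
  have hSspan : Submodule.span (ResidueField B) S = ⊤ := by
    rw [eq_top_iff, ← KaehlerDifferential.span_range_derivation k (ResidueField B)]
    apply Submodule.span_mono
    rintro _ ⟨x, rfl⟩
    obtain ⟨b, rfl⟩ := residue_surjective x
    exact ⟨b, rfl⟩
  obtain ⟨f, hfS, hfspan, -⟩ := Submodule.exists_fun_fin_finrank_span_eq (ResidueField B) S
  have hd : Module.finrank (ResidueField B) (Submodule.span (ResidueField B) S) = a := by
    rw [hSspan, finrank_top]
    exact Groth.Agent.Lib.Helper25.FieldKaehlerSep.finrank_eq_of_isGeometricallyReduced k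
      (ResidueField B) a ha
  choose b hb using hfS
  refine ⟨fun i => if h : (i : ℕ) < r then (e ⟨i, h⟩ : B) else
    b ⟨(i : ℕ) - r, by rw [hd]; have := i.2; omega⟩, ?_, ?_⟩
  · have himg : ((fun i : Fin n => if h : (i : ℕ) < r then (e ⟨i, h⟩ : B) else
        b ⟨(i : ℕ) - r, by rw [hd]; have := i.2; omega⟩) '' {i : Fin n | (i : ℕ) < r}) =
        (s : Set B) := by
      ext x
      constructor
      · rintro ⟨i, hi, rfl⟩
        have hi' : (i : ℕ) < r := hi
        simp only [hi', dite_true]
        exact (e ⟨i, hi'⟩).2
      · intro hx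
        let j : Fin r := e.symm ⟨x, hx⟩
        refine ⟨⟨j, by have := j.2; omega⟩, j.2, ?_⟩
        have hj : ((⟨j, by have := j.2; omega⟩ : Fin n) : ℕ) < r := j.2
        simp only [hj, dite_true]
        change ((e (e.symm ⟨x, hx⟩) : s) : B) = x
        rw [Equiv.apply_symm_apply]
    rw [himg]
    exact hsspan
  · rw [eq_top_iff]
    intro z _
    have hz : z ∈ Submodule.span (ResidueField B) (Set.range f) := by
      rw [hfspan, hSspan]; trivial
    refine (Submodule.span_mono ?_) hz
    rintro _ ⟨j, rfl⟩
    have hj : (j : ℕ) < a := lt_of_lt_of_eq j.2 hd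
    refine ⟨⟨r + j, by omega⟩, ?_, ?_⟩
    · change r ≤ r + (j : ℕ)
      omega
    · have hnot : ¬ (((⟨r + j, by omega⟩ : Fin n) : ℕ) < r) := by simp
      simp only [hnot, dite_false]
      rw [← hb j]
      congr 3
      apply Fin.ext
      simp

end Groth.Agent.Lib.Helper25.AdaptedGerms
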