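import Mathlib.RingTheory.AdicCompletion.RingHom
import Mathlib.RingTheory.AdicCompletion.Completeness
import Mathlib.RingTheory.Ideal.Quotient.Operations

set_option autoImplicit false
universe u

namespace Groth.Agent.Lib.Helper25.AdicLift

open AdicCompletion

variable {R : Type*} [CommRing R] (I : Ideal R) {C B : Type*} [CommRing C] [Algebra R C]
  [CommRing B] [Algebra R B]

lemma map_pow_le_comap (ψ₀ : C →ₐ[R] B) (n : ℕ) :
    (I.map (algebraMap R C)) ^ n ≤ ((I.map (algebraMap R B)) ^ n).comap ψ₀ := by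
  rw [← Ideal.map_le_iff_le_comap, Ideal.map_pow]
  refine Ideal.pow_right_mono ?_ n
  rw [Ideal.map_le_iff_le_comap]
  intro x hx
  rw [Ideal.mem_comap]
  refine Submodule.span_induction ?_ ?_ ?_ ?_ hx
  · rintro _ ⟨r, hr, rfl⟩
    rw [AlgHom.commutes]
    exact Ideal.mem_map_of_mem _ hr
  · simp
  · intro x y _ _ hx hy; rw [map_add]; exact Ideal.add_mem _ hx hy
  · intro a x _ hx; rw [smul_eq_mul, map_mul]; exact Ideal.mul_mem_left _ _ hx

/-- the maps `Ĉ → B / J_B^n` -/
noncomputable def levelMap (ψ₀ : C →ₐ[R] B) (n : ℕ) :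
    AdicCompletion (I.map (algebraMap R C)) C →ₐ[R] B ⧸ (I.map (algebraMap R B)) ^ n :=
  (Ideal.quotientMapₐ ((I.map (algebraMap R B)) ^ n) ψ₀ (map_pow_le_comap I ψ₀ n)).comp
    ((evalₐ (I.map (algebraMap R C)) n).restrictScalars R)

lemma levelMap_mk (ψ₀ : C →ₐ[R] B) (n : ℕ) (x : AdicCauchySequence (I.map (algebraMap R C)) C) :
    levelMap I ψ₀ n (AdicCompletion.mk _ _ x) = Ideal.Quotient.mk _ (ψ₀ (x.val n)) := by
  change (Ideal.quotientMapₐ ((I.map (algebraMap R B)) ^ n) ψ₀ (map_pow_le_comap I ψ₀ n))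
    (evalₐ (I.map (algebraMap R C)) n (mkₐ _ x)) = _
  rw [evalₐ_mkₐ]
  rfl

lemma levelMap_compat (ψ₀ : C →ₐ[R] B) {m n : ℕ} (hle : m ≤ n) :
    (Ideal.Quotient.factorₐ R (Ideal.pow_le_pow_right hle)).comp (levelMap I ψ₀ n) =
      levelMap I ψ₀ m := by
  ext x
  obtain ⟨x, rfl⟩ := AdicCompletion.mk_surjective _ _ x
  rw [AlgHom.comp_apply, levelMap_mk, levelMap_mk]
  change Ideal.Quotient.mk _ (ψ₀ (x.val n)) = Ideal.Quotient.mk _ (ψ₀ (x.val m))
  rw [Ideal.Quotient.eq, ← map_sub]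
  apply map_pow_le_comap I ψ₀ m
  rw [← Ideal.Quotient.eq]
  exact AdicCompletion.Ideal.mk_eq_mk _ hle x

variable [IsAdicComplete (I.map (algebraMap R B)) B]

/-- Extension of an algebra map to the adic completion, for a complete target. -/
noncomputable def extend (ψ₀ : C →ₐ[R] B) :
    AdicCompletion (I.map (algebraMap R C)) C →ₐ[R] B :=
  IsAdicComplete.liftAlgHom (I.map (algebraMap R B)) (levelMap I ψ₀)
    (fun hle => levelMap_compat I ψ₀ hle)

lemma mk_extend (ψ₀ : C →ₐ[R] B) (n : ℕ) (x : AdicCompletion (I.map (algebraMap R C)) C) :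
    Ideal.Quotient.mk ((I.map (algebraMap R B)) ^ n) (extend I ψ₀ x) = levelMap I ψ₀ n x :=
  IsAdicComplete.mk_liftAlgHom _ _ _ n x

lemma extend_of (ψ₀ : C →ₐ[R] B) (c : C) :
    extend I ψ₀ (AdicCompletion.of _ _ c) = ψ₀ c := by
  have hH : IsHausdorff (I.map (algebraMap R B)) B := inferInstance
  rw [← sub_eq_zero]
  apply hH.haus'
  intro n
  rw [SModEq.sub_mem, smul_eq_mul, Ideal.mul_top, sub_zero, ← Ideal.Quotient.eq, mk_extend]
  change (Ideal.quotientMapₐ ((I.map (algebraMap R B)) ^ n) ψ₀ (map_pow_le_comap I ψ₀ n))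
    (evalₐ (I.map (algebraMap R C)) n (AdicCompletion.of _ _ c)) = _
  rw [evalₐ_of]
  rfl


omit [IsAdicComplete (I.map (algebraMap R B)) B] in
lemma ringHom_map_pow_le_comap (θ : C →+* B) (hθ : ∀ r, θ (algebraMap R C r) = algebraMap R B r)
    (n : ℕ) :
    (I.map (algebraMap R C)) ^ n ≤ ((I.map (algebraMap R B)) ^ n).comap θ := by
  rw [← Ideal.map_le_iff_le_comap, Ideal.map_pow]
  refine Ideal.pow_right_mono ?_ n
  rw [Ideal.map_le_iff_le_comap]
  intro x hx
  rw [Ideal.mem_comap]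
  refine Submodule.span_induction ?_ ?_ ?_ ?_ hx
  · rintro _ ⟨r, hr, rfl⟩
    rw [hθ]
    exact Ideal.mem_map_of_mem _ hr
  · simp
  · intro x y _ _ hx hy; rw [map_add]; exact Ideal.add_mem _ hx hy
  · intro a x _ hx; rw [smul_eq_mul, map_mul]; exact Ideal.mul_mem_left _ _ hx

omit [IsAdicComplete (I.map (algebraMap R B)) B] in
/-- An `R`-algebra map out of the completion sends the kernel of the `n`-th evaluation into
`I^n B` (for `I` finitely generated). -/
lemma map_mem_of_eval_eq_zero (hI : I.FG) (ψ : AdicCompletion (I.map (algebraMap R C)) C →ₐ[R] B)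
    (n : ℕ) (x : AdicCompletion (I.map (algebraMap R C)) C)
    (hx : AdicCompletion.eval (I.map (algebraMap R C)) C n x = 0) :
    ψ x ∈ (I.map (algebraMap R B)) ^ n := by
  have hJ : (I.map (algebraMap R C)).FG := hI.map _
  have hmem : x ∈ ((I.map (algebraMap R C)) ^ n • ⊤ :
      Submodule C (AdicCompletion (I.map (algebraMap R C)) C)) := by
    rw [AdicCompletion.pow_smul_top_eq_ker_eval hJ]
    exact hx
  refine Submodule.smul_induction_on hmem ?_ ?_
  · intro r hr y _
    rw [Algebra.smul_def, map_mul]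
    refine Ideal.mul_mem_right _ _ ?_
    have := ringHom_map_pow_le_comap I
      ((ψ : AdicCompletion (I.map (algebraMap R C)) C →+* B).comp
        (algebraMap C (AdicCompletion (I.map (algebraMap R C)) C))) (fun r => by
          change ψ (algebraMap R (AdicCompletion (I.map (algebraMap R C)) C) r) = _
          exact ψ.commutes r) n hr
    exact this
  · intro y z hy hz
    rw [map_add]
    exact Ideal.add_mem _ hy hz

/-- Uniqueness of extensions to the completion. -/
lemma ext_of_FG (hI : I.FG) (ψ₁ ψ₂ : AdicCompletion (I.map (algebraMap R C)) C →ₐ[R] B)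
    (h : ∀ c, ψ₁ (AdicCompletion.of _ _ c) = ψ₂ (AdicCompletion.of _ _ c)) : ψ₁ = ψ₂ := by
  have hH : IsHausdorff (I.map (algebraMap R B)) B := inferInstance
  ext x
  rw [← sub_eq_zero]
  apply hH.haus'
  intro n
  rw [SModEq.sub_mem, smul_eq_mul, Ideal.mul_top, sub_zero]
  obtain ⟨a, rfl⟩ := AdicCompletion.mk_surjective _ _ x
  set c := a.val n with hc
  have hev : AdicCompletion.eval (I.map (algebraMap R C)) C n
      (AdicCompletion.mk _ _ a - AdicCompletion.of _ _ c) = 0 := by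
    rw [map_sub, sub_eq_zero]
    rfl
  have h1 := map_mem_of_eval_eq_zero I hI ψ₁ n _ hev
  have h2 := map_mem_of_eval_eq_zero I hI ψ₂ n _ hev
  rw [map_sub] at h1 h2
  have : ψ₁ (AdicCompletion.mk _ _ a) - ψ₂ (AdicCompletion.mk _ _ a) =
      (ψ₁ (AdicCompletion.mk _ _ a) - ψ₁ (AdicCompletion.of _ _ c)) -
      (ψ₂ (AdicCompletion.mk _ _ a) - ψ₂ (AdicCompletion.of _ _ c)) := by
    rw [h c]; ring
  rw [this]
  exact Ideal.sub_mem _ h1 h2

end Groth.Agent.Lib.Helper25.AdicLift
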