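import Mathlib

open AlgebraicGeometry CategoryTheory Limits TopologicalSpace

namespace Groth.Agent.Lib.Helper25.AffCrit

universe u

theorem exists_pow_eq_one_sub_mul {A : Type*} [CommRing A] (a b : A) (hab : a + b = 1) (n : ℕ) :
    ∃ q : A, b ^ n = 1 - a * q := by
  induction n with
  | zero => exact ⟨0, by simp⟩
  | succ n ih =>
    obtain ⟨q, hq⟩ := ih
    refine ⟨1 + q - a * q, ?_⟩
    have hb : b = 1 - a := by rw [← hab]; ring
    rw [pow_succ, hq, hb]; ring

/-- If `f` restricted to `D(b)` is a unit, in a localization away from `b`, then `b ^ n ∈ (f)`. -/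
theorem exists_mul_eq_pow_of_isUnit {R S : Type*} [CommRing R] [CommRing S] [Algebra R S] (b f : R)
    [IsLocalization.Away b S] (h : IsUnit (algebraMap R S f)) : ∃ (x : R) (n : ℕ), x * f = b ^ n := by
  obtain ⟨w, hw⟩ := h.exists_right_inv
  obtain ⟨y, ⟨_, k, rfl⟩, rfl⟩ := IsLocalization.exists_mk'_eq (Submonoid.powers b) w
  rw [IsLocalization.mul_mk'_eq_mk'_of_mul, IsLocalization.mk'_eq_iff_eq_mul, one_mul] at hw
  have hw' : algebraMap R S (f * y) = algebraMap R S (b ^ k) := hw
  obtain ⟨⟨_, m, rfl⟩, hm⟩ := (IsLocalization.eq_iff_exists (Submonoid.powers b) S).mp hw'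
  refine ⟨b ^ m * y, m + k, ?_⟩
  have hm' : b ^ m * (f * y) = b ^ m * b ^ k := hm
  rw [pow_add, ← hm']; ring

/-- An open `V` of `Spec A` with `V ∩ D(f)` affine and `V ∩ V(f)` closed is affine. -/
theorem isAffineOpen_of_basicOpen_of_isClosed {A : CommRingCat.{u}} (V : (Spec A).Opens) (f : A)
    (haff : IsAffineOpen (V ⊓ (Spec A).basicOpen ((Scheme.ΓSpecIso A).inv f)))
    (hcl : IsClosed ((V : Set (Spec A)) ∩ PrimeSpectrum.zeroLocus {f})) : IsAffineOpen V := by
  -- the two ideals
  set I : Ideal A := PrimeSpectrum.vanishingIdeal ((V : Set (Spec A))ᶜ) with hI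
  set J : Ideal A := PrimeSpectrum.vanishingIdeal ((V : Set (Spec A)) ∩ PrimeSpectrum.zeroLocus {f})
    with hJ
  have hzI : PrimeSpectrum.zeroLocus (I : Set A) = (V : Set (Spec A))ᶜ := by
    rw [hI, PrimeSpectrum.zeroLocus_vanishingIdeal_eq_closure]
    exact (V.isOpen.isClosed_compl).closure_eq
  have hzJ : PrimeSpectrum.zeroLocus (J : Set A) =
      (V : Set (Spec A)) ∩ PrimeSpectrum.zeroLocus {f} := by
    rw [hJ, PrimeSpectrum.zeroLocus_vanishingIdeal_eq_closure]
    exact hcl.closure_eq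
  have hIJ : I ⊔ J = ⊤ := by
    rw [← PrimeSpectrum.zeroLocus_empty_iff_eq_top, PrimeSpectrum.zeroLocus_sup, hzI, hzJ]
    ext p
    simp only [Set.mem_inter_iff, Set.mem_empty_iff_false, iff_false]
    rintro ⟨h1, h2, -⟩
    exact h1 h2
  obtain ⟨a, ha, b, hb, hab⟩ := Submodule.mem_sup.mp (hIJ ▸ Submodule.mem_top : (1 : A) ∈ I ⊔ J)
  -- pointwise facts
  have hDa : ∀ p : PrimeSpectrum A, a ∉ p.asIdeal → p ∈ (V : Set (Spec A)) := by
    intro p hp
    by_contra hpV
    have : p ∈ PrimeSpectrum.zeroLocus (I : Set A) := by rw [hzI]; exact hpV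
    exact hp (this ha)
  have hVf : ∀ p : PrimeSpectrum A, p ∈ (V : Set (Spec A)) → f ∈ p.asIdeal → b ∈ p.asIdeal := by
    intro p hpV hpf
    have : p ∈ PrimeSpectrum.zeroLocus (J : Set A) := by
      rw [hzJ]
      refine ⟨hpV, ?_⟩
      change p ∈ PrimeSpectrum.zeroLocus {f}
      rw [PrimeSpectrum.mem_zeroLocus, Set.singleton_subset_iff]
      exact hpf
    exact this hb
  -- the ring map to sections over V
  let ρ : A →+* Γ(Spec A, V) :=
    ((Spec A).presheaf.map (homOfLE (le_top : V ≤ ⊤)).op).hom.comp (Scheme.ΓSpecIso A).inv.hom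
  have hbasic : ∀ g : A, (Spec A).basicOpen (ρ g) = V ⊓ PrimeSpectrum.basicOpen g := by
    intro g
    change (Spec A).basicOpen (((Spec A).presheaf.map (homOfLE (le_top : V ≤ ⊤)).op).hom
      ((Scheme.ΓSpecIso A).inv.hom g)) = _
    rw [Scheme.basicOpen_res]
    change V ⊓ (Spec A).basicOpen ((Scheme.ΓSpecIso A).inv g) = _
    rw [basicOpen_eq_of_affine]
  -- compactness and quasi-separatedness of V
  have hVeq : (V : Set (Spec A)) = ((PrimeSpectrum.basicOpen a : Set (PrimeSpectrum A))) ∪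
      ((V ⊓ (Spec A).basicOpen ((Scheme.ΓSpecIso A).inv f) : (Spec A).Opens) : Set (Spec A)) := by
    ext p
    constructor
    · intro hp
      by_cases hpf : f ∈ (show PrimeSpectrum A from p).asIdeal
      · left
        have hbp := hVf p hp hpf
        intro hap
        have : (1 : A) ∈ (show PrimeSpectrum A from p).asIdeal := by
          rw [← hab]; exact add_mem hap hbp
        exact (show PrimeSpectrum A from p).isPrime.ne_top ((Ideal.eq_top_iff_one _).mpr this)
      · right
        refine ⟨hp, ?_⟩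
        rw [basicOpen_eq_of_affine]
        exact hpf
    · rintro (hp | hp)
      · exact hDa p hp
      · exact hp.1
  have hVc : IsCompact (V : Set (Spec A)) := by
    rw [hVeq]
    exact (PrimeSpectrum.isCompact_basicOpen a).union haff.isCompact
  have hVqs : IsQuasiSeparated (V : Set (Spec A)) :=
    (isQuasiSeparated_univ (α := Spec A)).of_subset (Set.subset_univ _)
  -- `b ^ n ∈ (f)` on `V`
  have hle : (Spec A).basicOpen (ρ b) ≤ (Spec A).basicOpen (ρ f) := by
    rw [hbasic, hbasic]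
    rintro p ⟨hpV, hpb⟩
    refine ⟨hpV, ?_⟩
    intro hpf
    exact hpb (hVf p hpV hpf)
  have hloc := isLocalization_basicOpen_of_qcqs hVc hVqs (ρ b)
  have hunit : IsUnit (algebraMap Γ(Spec A, V) Γ(Spec A, (Spec A).basicOpen (ρ b)) (ρ f)) := by
    have h1 : IsUnit (((Spec A).presheaf.map (homOfLE ((Spec A).basicOpen_le (ρ f))).op).hom (ρ f)) :=
      RingedSpace.isUnit_res_basicOpen _ (ρ f)
    have h2 := h1.map ((Spec A).presheaf.map (homOfLE hle).op).hom
    rw [← CommRingCat.comp_apply, ← Functor.map_comp] at h2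
    exact h2
  obtain ⟨x, n, hx⟩ := exists_mul_eq_pow_of_isUnit (S := Γ(Spec A, (Spec A).basicOpen (ρ b)))
    (ρ b) (ρ f) hunit
  obtain ⟨q, hq⟩ := exists_pow_eq_one_sub_mul a b hab n
  apply isAffineOpen_of_isAffineOpen_basicOpen V {ρ f, ρ a}
  · rw [Ideal.eq_top_iff_one]
    have h1 : (1 : Γ(Spec A, V)) = x * ρ f + ρ q * ρ a := by
      rw [hx, ← map_pow, hq, ← map_mul, ← map_add]
      rw [show (1 - a * q + q * a) = 1 by ring, map_one]
    rw [h1]
    exact add_mem (Ideal.mul_mem_left _ _ (Ideal.subset_span (by simp)))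
      (Ideal.mul_mem_left _ _ (Ideal.subset_span (by simp)))
  · intro i hi
    rcases hi with rfl | rfl
    · rw [hbasic, ← basicOpen_eq_of_affine]
      exact haff
    · rw [hbasic]
      have : V ⊓ PrimeSpectrum.basicOpen a = PrimeSpectrum.basicOpen a := by
        rw [inf_eq_right]
        intro p hp
        exact hDa p hp
      rw [this, ← basicOpen_eq_of_affine]
      exact (isAffineOpen_top (Spec A)).basicOpen _

end Groth.Agent.Lib.Helper25.AffCrit
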