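import Mathlib
import Groth.Agent.Lib.Helper25.AffCrit
import Groth.Agent.Lib.Helper25.ImmDescent

open AlgebraicGeometry CategoryTheory Limits TopologicalSpace

namespace Groth.Agent.Lib.Helper25.AffCrit

open Groth.Agent.Lib.Helper25.ImmDescent

universe u

theorem isAffine_of_isOpenImmersion {A : CommRingCat.{u}} {V : Scheme.{u}} (j : V ⟶ Spec A)
    [IsOpenImmersion j] (f : A)
    (haff : IsAffineOpen (j ⁻¹ᵁ PrimeSpectrum.basicOpen f))
    (hcl : IsClosed (Set.range ⇑j ∩ PrimeSpectrum.zeroLocus {f})) : IsAffine V := by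
  have h1 : IsAffineOpen j.opensRange := by
    apply isAffineOpen_of_basicOpen_of_isClosed j.opensRange f
    · rw [basicOpen_eq_of_affine, ← Scheme.Hom.image_preimage_eq_opensRange_inf]
      exact haff.image_of_isOpenImmersion j
    · exact hcl
  have : IsAffine j.opensRange.toScheme := h1
  exact .of_isIso (j.isoOpensRange.hom)

theorem isAffine_of_isImmersion {A : CommRingCat.{u}} {V : Scheme.{u}} (j : V ⟶ Spec A)
    [IsImmersion j] [QuasiCompact j] (f : A)
    (haff : IsAffineOpen (j ⁻¹ᵁ PrimeSpectrum.basicOpen f))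
    (hcl : IsClosed (Set.range ⇑j ∩ PrimeSpectrum.zeroLocus {f})) : IsAffine V := by
  have hji : j.toImage ≫ j.imageι = j := j.toImage_imageι
  have himm : IsImmersion j.toImage := by
    have : IsImmersion (j.toImage ≫ j.imageι) := by rw [hji]; infer_instance
    exact IsImmersion.of_comp j.toImage j.imageι
  have hdom : IsSchemeTheoreticallyDominant j.toImage := isSchemeTheoreticallyDominant_toImage j
  have hopen : IsOpenImmersion j.toImage := isOpenImmersion_of_isImmersion_of_dominant j.toImage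
  have hZ : IsAffine j.image := isAffine_of_isAffineHom j.imageι
  obtain ⟨φ, hφ⟩ : ∃ φ : A ⟶ Γ(j.image, ⊤), Spec.map φ = j.image.isoSpec.inv ≫ j.imageι :=
    ⟨Spec.preimage _, Spec.map_preimage _⟩
  obtain ⟨j', hj'⟩ : ∃ j' : V ⟶ Spec Γ(j.image, ⊤), j' = j.toImage ≫ j.image.isoSpec.hom := ⟨_, rfl⟩
  have hj'open : IsOpenImmersion j' := by rw [hj']; infer_instance
  have hcomp : j' ≫ Spec.map φ = j := by
    rw [hj', hφ, Category.assoc, Iso.hom_inv_id_assoc, hji]
  have hcl' : IsClosedImmersion (Spec.map φ) := by rw [hφ]; infer_instance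
  have hmem : ∀ (B : CommRingCat.{u}) (g : B) (p : PrimeSpectrum B),
      p ∈ PrimeSpectrum.zeroLocus {g} ↔ g ∈ p.asIdeal := by
    intro B g p
    rw [PrimeSpectrum.mem_zeroLocus, Set.singleton_subset_iff]; rfl
  apply isAffine_of_isOpenImmersion j' (φ.hom f)
  · have : j' ⁻¹ᵁ PrimeSpectrum.basicOpen (φ.hom f) = j ⁻¹ᵁ PrimeSpectrum.basicOpen f := by
      have h1 : (PrimeSpectrum.basicOpen (φ.hom f) : (Spec Γ(j.image, ⊤)).Opens) =
          (Spec.map φ) ⁻¹ᵁ PrimeSpectrum.basicOpen f := by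
        ext p; rfl
      rw [h1, ← Scheme.Hom.comp_preimage, hcomp]
    rw [this]
    exact haff
  · have : Set.range ⇑j' ∩ PrimeSpectrum.zeroLocus {φ.hom f} =
        (Spec.map φ) ⁻¹' (Set.range ⇑j ∩ PrimeSpectrum.zeroLocus {f}) := by
      ext p
      constructor
      · rintro ⟨⟨v, rfl⟩, hp⟩
        refine ⟨⟨v, ?_⟩, ?_⟩
        · exact (congrArg (fun g : V ⟶ Spec A => g v) hcomp).symm
        · exact (hmem A f _).mpr ((hmem _ (φ.hom f) _).mp hp)
      · rintro ⟨⟨v, hv⟩, hp⟩
        refine ⟨⟨v, ?_⟩, ?_⟩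
        · apply (Spec.map φ).isClosedEmbedding.injective
          rw [← hv]
          exact (congrArg (fun g : V ⟶ Spec A => g v) hcomp)
        · exact (hmem _ (φ.hom f) _).mpr ((hmem A f _).mp hp)
    rw [this]
    exact hcl.preimage (Spec.map φ).continuous

end Groth.Agent.Lib.Helper25.AffCrit
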