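import Mathlib
import Groth.Agent.S13710
import Groth.Agent.Lib.Helper25.QAff
import Groth.Agent.Lib.Helper25.ImmDescent

open AlgebraicGeometry CategoryTheory Limits

namespace Groth.Agent.Lib.Helper25.AffDescent

open Groth.Agent.Lib.Helper25.QAff Groth.Agent.Lib.Helper25.ImmDescent

universe u

/-- Pointwise-cover version of descent of isomorphisms along flat (non-qc) covers. -/
theorem isIso_of_forall_exists_flat {X Y : Scheme.{u}} (f : X ⟶ Y) [QuasiCompact f]
    (H : ∀ y : Y, ∃ (W : Scheme.{u}) (g : W ⟶ Y), Flat g ∧ y ∈ Set.range g ∧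
      IsIso (pullback.snd f g)) : IsIso f := by
  choose W g hflat hy hiso using H
  have hG : Flat (Sigma.desc g) := IsZariskiLocalAtSource.sigmaDesc hflat
  have hsurj : Surjective (Sigma.desc g) := by
    refine ⟨fun y => ?_⟩
    obtain ⟨w, hw⟩ := hy y
    refine ⟨Sigma.ι W y w, ?_⟩
    rw [← Scheme.Hom.comp_apply, Sigma.ι_desc, hw]
  have hisoG : IsIso (pullback.snd f (Sigma.desc g)) := by
    change MorphismProperty.isomorphisms Scheme _
    apply IsZariskiLocalAtTarget.of_openCover (P := MorphismProperty.isomorphisms Scheme)
      (sigmaOpenCover W)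
    intro i
    change IsIso (pullback.snd (pullback.snd f (Sigma.desc g)) (Sigma.ι W i))
    have sq := (IsPullback.of_hasPullback (pullback.snd f (Sigma.desc g)) (Sigma.ι W i)).paste_horiz
      (IsPullback.of_hasPullback f (Sigma.desc g))
    rw [Groth.Agent.S13710.isIso_snd_iff_of_isPullback sq]
    have : Sigma.ι W i ≫ Sigma.desc g = g i := Sigma.ι_desc _ _
    rw [this]
    exact hiso i
  exact Groth.Agent.S13710.isIso_of_isIso_pullback_snd f (Sigma.desc g)

/-- Affineness descends along flat surjective (not necessarily quasi-compact) morphisms: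
affine base case. -/
theorem isAffine_of_flat_cover {R : CommRingCat.{u}} {X Y' : Scheme.{u}} (f : X ⟶ Spec R)
    (g : Y' ⟶ Spec R) [Flat g] [Surjective g] [QuasiCompact f] [QuasiSeparated f]
    [IsAffineHom (pullback.snd f g)] : IsAffine X := by
  have : CompactSpace X := QuasiCompact.compactSpace_of_compactSpace f
  have : QuasiSeparatedSpace X := quasiSeparatedSpace_of_quasiSeparated f
  have hqc : QuasiCompact X.toSpecΓ := (quasiCompact_iff_compactSpace _).mpr inferInstance
  suffices IsIso X.toSpecΓ from ⟨this⟩
  apply isIso_of_forall_exists_flat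
  intro z
  obtain ⟨y, hy⟩ : ∃ y, (Spec R).toSpecΓ y = (Spec.map f.appTop) z :=
    (Scheme.Hom.homeomorph (Spec R).toSpecΓ).surjective _
  obtain ⟨y', hy'⟩ := g.surjective y
  obtain ⟨j, w, hw⟩ := Y'.affineOpenCover.openCover.exists_eq y'
  obtain ⟨φ, hφ⟩ : ∃ φ : R ⟶ Y'.affineOpenCover.X j,
      Spec.map φ = Y'.affineOpenCover.f j ≫ g := ⟨Spec.preimage _, Spec.map_preimage _⟩
  have hflat : Flat (Spec.map φ) := by rw [hφ]; infer_instance
  refine ⟨_, Spec.map (pullback.snd (Spec.map φ) f).appTop, ?_, ?_, ?_⟩
  · have hQ0 : Flat (Spec.map (Spec.map φ).appTop) := by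
      rw [← MorphismProperty.cancel_left_of_respectsIso @Flat (Spec _).toSpecΓ,
        ← Scheme.toSpecΓ_naturality, MorphismProperty.cancel_right_of_respectsIso @Flat]
      exact hflat
    exact MorphismProperty.of_isPullback (isPullback_SpecMap_appTop φ f) hQ0
  · rw [range_fst_of_isPullback (isPullback_SpecMap_appTop φ f).flip, Set.mem_preimage]
    refine ⟨(Spec _).toSpecΓ w, ?_⟩
    rw [← Scheme.Hom.comp_apply, ← Scheme.toSpecΓ_naturality, Scheme.Hom.comp_apply, ← hy]
    congr 1
    rw [hφ, Scheme.Hom.comp_apply]
    change g ((Y'.affineOpenCover.openCover.f j) w) = y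
    rw [hw, hy']
  · rw [← Groth.Agent.S13710.isIso_snd_iff_of_isPullback (isPullback_toSpecΓ φ f).flip]
    have haff : IsAffineHom (pullback.fst (Spec.map φ) f) := by
      have hc : pullback.snd (Spec.map φ) f ≫ f =
          (pullback.fst (Spec.map φ) f ≫ Y'.affineOpenCover.f j) ≫ g := by
        rw [Category.assoc, ← hφ, pullback.condition]
      have hl : pullback.lift (pullback.snd (Spec.map φ) f)
          (pullback.fst (Spec.map φ) f ≫ Y'.affineOpenCover.f j) hc ≫ pullback.fst f g =
          pullback.snd (Spec.map φ) f := pullback.lift_fst _ _ _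
      have big : IsPullback (pullback.lift (pullback.snd (Spec.map φ) f)
          (pullback.fst (Spec.map φ) f ≫ Y'.affineOpenCover.f j) hc ≫ pullback.fst f g)
          (pullback.fst (Spec.map φ) f) f (Y'.affineOpenCover.f j ≫ g) := by
        rw [hl, ← hφ]
        exact (IsPullback.of_hasPullback (Spec.map φ) f).flip
      have left := IsPullback.of_right big (pullback.lift_snd _ _ _)
        (IsPullback.of_hasPullback f g)
      exact MorphismProperty.of_isPullback (P := @IsAffineHom) left inferInstance
    have : IsAffine (pullback (Spec.map φ) f) := isAffine_of_isAffineHom (pullback.fst (Spec.map φ) f)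
    infer_instance

/-- Affineness descends along flat surjective (not necessarily quasi-compact) morphisms. -/
theorem isAffineHom_of_flat_cover {X Y Y' : Scheme.{u}} (f : X ⟶ Y) (g : Y' ⟶ Y) [Flat g]
    [Surjective g] [QuasiCompact f] [QuasiSeparated f] [IsAffineHom (pullback.snd f g)] :
    IsAffineHom f := by
  apply IsZariskiLocalAtTarget.of_openCover (P := @IsAffineHom) Y.affineOpenCover.openCover
  intro i
  change IsAffineHom (pullback.snd f (Y.affineOpenCover.f i))
  set u := Y.affineOpenCover.f i with hu
  have hA := IsPullback.of_hasPullback (pullback.snd f u) (pullback.snd g u)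
  have hB := IsPullback.of_hasPullback f u
  have hpaste := hA.flip.paste_vert hB.flip
  have hc : (pullback.fst (pullback.snd f u) (pullback.snd g u) ≫ pullback.fst f u) ≫ f =
      (pullback.snd (pullback.snd f u) (pullback.snd g u) ≫ pullback.fst g u) ≫ g := by
    rw [Category.assoc, Category.assoc, pullback.condition, pullback.condition (f := g),
      ← Category.assoc, pullback.condition, Category.assoc]
  have big : IsPullback (pullback.lift
      (pullback.fst (pullback.snd f u) (pullback.snd g u) ≫ pullback.fst f u)
      (pullback.snd (pullback.snd f u) (pullback.snd g u) ≫ pullback.fst g u) hc ≫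
        pullback.fst f g)
      (pullback.snd (pullback.snd f u) (pullback.snd g u)) f (pullback.fst g u ≫ g) := by
    rw [pullback.lift_fst, pullback.condition (f := g)]
    exact hpaste.flip
  have left := IsPullback.of_right big (pullback.lift_snd _ _ _) (IsPullback.of_hasPullback f g)
  have haff : IsAffineHom (pullback.snd (pullback.snd f u) (pullback.snd g u)) :=
    MorphismProperty.of_isPullback (P := @IsAffineHom) left inferInstance
  have : IsAffine (pullback f u) := isAffine_of_flat_cover (pullback.snd f u) (pullback.snd g u)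
  infer_instance

end Groth.Agent.Lib.Helper25.AffDescent
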