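import Groth.Agent.Lib.Helper25.ReesAway
import Groth.Prelude.Def_BlowUp2

/-!
# The affine blow-up algebra `A[I/a]` is the degree-zero localization of the Rees algebra at `aX`
-/

set_option autoImplicit false

namespace Groth.Agent.Lib.Helper25.ReesAway

open Polynomial HomogeneousLocalization

universe u
variable {A : Type u} [CommRing A] (I : Ideal A)

/-- The fraction `x / a` in the affine blow-up algebra. -/
noncomputable def abaFrac (a : A) (x : A) (hx : x ∈ I) : BlowUp.affineAlgebra A I a :=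
  ⟨IsLocalization.mk' (Localization.Away a) x ⟨a, Submonoid.mem_powers a⟩,
    Algebra.subset_adjoin ⟨x, hx, rfl⟩⟩

lemma algebraMap_mul_abaFrac (a : A) (x : A) (hx : x ∈ I) :
    algebraMap A (BlowUp.affineAlgebra A I a) a * abaFrac I a x hx =
      algebraMap A (BlowUp.affineAlgebra A I a) x := by
  apply Subtype.ext
  change algebraMap A (Localization.Away a) a *
    IsLocalization.mk' (Localization.Away a) x ⟨a, Submonoid.mem_powers a⟩ =
      algebraMap A (Localization.Away a) x
  exact IsLocalization.mk'_spec' (Localization.Away a) x ⟨a, Submonoid.mem_powers a⟩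

lemma algebraMap_mem_nonZeroDivisors_aba (a : A) :
    algebraMap A (BlowUp.affineAlgebra A I a) a ∈
      nonZeroDivisors (BlowUp.affineAlgebra A I a) := by
  rw [mem_nonZeroDivisors_iff_right]
  intro z hz
  apply Subtype.ext
  have h1 : (z : Localization.Away a) * algebraMap A (Localization.Away a) a = 0 :=
    congrArg Subtype.val hz
  have hu : IsUnit (algebraMap A (Localization.Away a) a) :=
    IsLocalization.Away.algebraMap_isUnit a
  exact (hu.mul_left_eq_zero).1 h1

/-- The comparison map from the degree-zero localization of the Rees algebra to the affine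
blow-up algebra. -/
theorem exists_ringEquiv_aba (a : A) (ha : a ∈ I) :
    ∃ ψ : Away (Rees.deg (reesAlgebra I)) (tilde I a ha) →+* BlowUp.affineAlgebra A I a,
      Function.Bijective ψ ∧
        ψ.comp (kap I a ha) = algebraMap A (BlowUp.affineAlgebra A I a) := by
  set φ : A →+* BlowUp.affineAlgebra A I a := algebraMap A (BlowUp.affineAlgebra A I a) with hφ
  have hnzd : φ a ∈ nonZeroDivisors (BlowUp.affineAlgebra A I a) :=
    algebraMap_mem_nonZeroDivisors_aba I a
  have hdvd : ∀ x ∈ I, φ a ∣ φ x := fun x hx =>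
    ⟨abaFrac I a x hx, (algebraMap_mul_abaFrac I a x hx).symm⟩
  obtain ⟨ψ, hψ⟩ := exists_lift I φ a ha hnzd hdvd
  have hψk : ∀ r, ψ (kap I a ha r) = φ r := fun r => by rw [← hψ]; rfl
  refine ⟨ψ, ⟨?_, ?_⟩, hψ⟩
  · -- injective
    rw [injective_iff_map_eq_zero]
    intro z hz
    obtain ⟨n, c, hc, rfl⟩ := frac_surjective I a ha z
    have h1 := congrArg ψ (kap_pow_mul_frac I a ha n c hc)
    rw [map_mul, hz, mul_zero, hψk] at h1
    have h2 : algebraMap A (Localization.Away a) c = 0 := congrArg Subtype.val h1.symm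
    obtain ⟨⟨_, m, rfl⟩, hm⟩ := (IsLocalization.map_eq_zero_iff (Submonoid.powers a)
      (Localization.Away a) c).1 h2
    have hm' : a ^ m * c = 0 := hm
    have h3 : kap I a ha a ^ m * (kap I a ha a ^ n * frac I a ha n c hc) = 0 :=
      calc kap I a ha a ^ m * (kap I a ha a ^ n * frac I a ha n c hc)
          = kap I a ha a ^ m * kap I a ha c :=
            congrArg (kap I a ha a ^ m * ·) (kap_pow_mul_frac I a ha n c hc)
        _ = kap I a ha (a ^ m) * kap I a ha c :=
            congrArg (· * kap I a ha c) (map_pow (kap I a ha) a m).symm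
        _ = kap I a ha (a ^ m * c) := (map_mul (kap I a ha) (a ^ m) c).symm
        _ = 0 := by rw [hm']; exact map_zero _
    have h4 : ∀ k : ℕ, kap I a ha a ^ k ∈
        nonZeroDivisors (Away (Rees.deg (reesAlgebra I)) (tilde I a ha)) :=
      fun k => pow_mem (kap_mem_nonZeroDivisors I a ha) k
    have h5 := (mem_nonZeroDivisors_iff.1 (h4 m)).1 _ h3
    exact (mem_nonZeroDivisors_iff.1 (h4 n)).1 _ h5
  · -- surjective
    have key : ∀ (z : Localization.Away a) (hz : z ∈ BlowUp.affineAlgebra A I a),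
        ∃ w, ψ w = (⟨z, hz⟩ : BlowUp.affineAlgebra A I a) := by
      intro z hz
      refine Algebra.adjoin_induction
        (p := fun z hz => ∃ w, ψ w = (⟨z, hz⟩ : BlowUp.affineAlgebra A I a)) ?_ ?_ ?_ ?_ hz
      · rintro q ⟨x, hx, rfl⟩
        have hx1 : x ∈ I ^ 1 := by rwa [pow_one]
        refine ⟨frac I a ha 1 x hx1, ?_⟩
        have h1 : ψ (kap I a ha a ^ 1 * frac I a ha 1 x hx1) = ψ (kap I a ha x) :=
          congrArg ψ (kap_pow_mul_frac I a ha 1 x hx1)
        rw [map_mul, map_pow, hψk, pow_one, hψk] at h1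
        have h2 : φ a * ψ (frac I a ha 1 x hx1) = φ a * abaFrac I a x hx := by
          rw [h1]; exact (algebraMap_mul_abaFrac I a x hx).symm
        have h3 : φ a * (ψ (frac I a ha 1 x hx1) - abaFrac I a x hx) = 0 := by
          rw [mul_sub, h2, sub_self]
        rw [mul_comm] at h3
        exact sub_eq_zero.1 ((mem_nonZeroDivisors_iff_right.1 hnzd) _ h3)
      · intro r
        exact ⟨kap I a ha r, hψk r⟩
      · rintro x y hx hy ⟨w₁, hw₁⟩ ⟨w₂, hw₂⟩
        exact ⟨w₁ + w₂, by rw [map_add, hw₁, hw₂]; rfl⟩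
      · rintro x y hx hy ⟨w₁, hw₁⟩ ⟨w₂, hw₂⟩
        exact ⟨w₁ * w₂, by rw [map_mul, hw₁, hw₂]; rfl⟩
    intro z
    obtain ⟨w, hw⟩ := key z.1 z.2
    exact ⟨w, hw⟩

end Groth.Agent.Lib.Helper25.ReesAway
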