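import Groth.Agent.Lib.Helper12.AlgCl2
import Groth.Agent.Lib.Helper6.UnivHomeoRF

set_option autoImplicit false
universe u

open CategoryTheory AlgebraicGeometry Limits

namespace Groth.Agent.Lib.Helper25.AlgClCover

open Groth.Agent.Lib.Helper6.UnivHomeoRing

/-- integrality of the residue field map for integral ring maps -/
theorem residueFieldMap_isIntegral {A C : CommRingCat.{u}} (φ : A ⟶ C) (hφ : φ.hom.IsIntegral)
    (x : Spec C) : ((Spec.map φ).residueFieldMap x).hom.IsIntegral := by
  letI : Algebra ((Spec A).residueField (Spec.map φ x)) ((Spec C).residueField x) :=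
    ((Spec.map φ).residueFieldMap x).hom.toAlgebra
  have hcomp : ((Spec.map φ).residueFieldMap x).hom.comp (ev A (Spec.map φ x)) =
      (ev C x).comp φ.hom := by
    ext a; exact residueFieldMap_ev φ x a
  have hint : ∀ c : C, IsIntegral ((Spec A).residueField (Spec.map φ x)) (ev C x c) := by
    intro c
    obtain ⟨p, hp, hpc⟩ := hφ c
    refine ⟨p.map (ev A (Spec.map φ x)), hp.map _, ?_⟩
    rw [Polynomial.eval₂_map]
    change Polynomial.eval₂ (((Spec.map φ).residueFieldMap x).hom.comp (ev A (Spec.map φ x))) _ _ = 0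
    rw [hcomp, ← Polynomial.hom_eval₂, hpc, map_zero]
  intro z
  obtain ⟨d, hd, c, hdc⟩ := exists_ev_mul_eq C x z
  have hd0 : ev C x d ≠ 0 := fun h => hd ((ev_eq_zero_iff C x d).mp h)
  have hz : z = ev C x c * (ev C x d)⁻¹ := by
    rw [← hdc, mul_assoc, mul_inv_cancel₀ hd0, mul_one]
  change IsIntegral ((Spec A).residueField (Spec.map φ x)) z
  rw [hz]
  exact (hint c).mul (hint d).inv

/-- the ring `T(A)` as a `CommRingCat` with its structure map -/
noncomputable abbrev TT (A : CommRingCat.{u}) : CommRingCat.{u} := CommRingCat.of (H12AlgCl.T A)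

noncomputable abbrev φT (A : CommRingCat.{u}) : A ⟶ TT A :=
  CommRingCat.ofHom (algebraMap A (H12AlgCl.T A))

theorem φT_isIntegral (A : CommRingCat.{u}) : (φT A).hom.IsIntegral := by
  haveI := H12AlgCl.isIntegral_T A
  exact algebraMap_isIntegral_iff.mpr inferInstance

theorem surjective_SpecMap_φT (A : CommRingCat.{u}) : Function.Surjective (Spec.map (φT A)) := by
  intro p
  obtain ⟨q, hq⟩ := H12AlgCl.comap_surjective A p
  exact ⟨q, hq⟩

theorem isAlgClosed_residueField (A : CommRingCat.{u}) (x : Spec (TT A)) :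
    IsAlgClosed ((Spec (TT A)).residueField x) := by
  haveI := H12AlgCl.isAlgClosed A x.asIdeal
  exact IsAlgClosed.of_ringEquiv _ _
    (Scheme.Spec.residueFieldIso (TT A) x).symm.commRingCatIsoToRingEquiv

theorem isIntegral_of_isIso {K L : CommRingCat.{u}} (a : K ⟶ L) [IsIso a] : a.hom.IsIntegral :=
  RingHom.isIntegral_of_surjective _ (ConcreteCategory.bijective_of_isIso a).surjective

theorem isIntegral_comp {K L M : CommRingCat.{u}} (a : K ⟶ L) (b : L ⟶ M)
    (ha : a.hom.IsIntegral) (hb : b.hom.IsIntegral) : (a ≫ b).hom.IsIntegral :=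
  RingHom.IsIntegral.trans _ _ ha hb

theorem isIntegral_of_comp_iso {K L M : CommRingCat.{u}} (a : K ⟶ L) (b : L ⟶ M) [IsIso b]
    (h : (a ≫ b).hom.IsIntegral) : a.hom.IsIntegral := by
  have : a = (a ≫ b) ≫ inv b := by simp
  rw [this]; exact isIntegral_comp _ _ h (isIntegral_of_isIso _)

theorem exists_cover (X : Scheme.{u}) [CompactSpace X] [QuasiSeparatedSpace X] :
    ∃ (X' : Scheme.{u}) (f : X' ⟶ X), IsAffine X' ∧ QuasiCompact f ∧ Surjective f ∧
      ∀ x' : X', IsAlgClosed (X'.residueField x') ∧ (f.residueFieldMap x').hom.IsIntegral := by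
  let 𝒰 := X.affineCover.finiteSubcover
  haveI : ∀ i, IsAffine (𝒰.X i) := fun i => inferInstance
  let A : 𝒰.I₀ → CommRingCat.{u} := fun i => Γ(𝒰.X i, ⊤)
  let j : ∀ i, Spec (A i) ⟶ X := fun i => (𝒰.X i).isoSpec.inv ≫ 𝒰.f i
  let g : ∀ i, Spec (TT (A i)) ⟶ X := fun i => Spec.map (φT (A i)) ≫ j i
  let F : (∐ fun i => Spec (TT (A i))) ⟶ X := Sigma.desc g
  have hF : ∀ i, Sigma.ι (fun i => Spec (TT (A i))) i ≫ F = g i := fun i => Sigma.ι_desc _ _
  refine ⟨∐ fun i => Spec (TT (A i)), F, inferInstance, ?_, ?_, ?_⟩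
  · exact inferInstance
  · constructor
    intro x
    obtain ⟨i, y, hy⟩ := 𝒰.exists_eq x
    obtain ⟨z, hz⟩ := surjective_SpecMap_φT (A i) ((𝒰.X i).isoSpec.hom y)
    refine ⟨Sigma.ι (fun i => Spec (TT (A i))) i z, ?_⟩
    have e1 : F (Sigma.ι (fun i => Spec (TT (A i))) i z) = (g i) z := by
      rw [← Scheme.Hom.comp_apply, hF]
    have e2 : (g i) z = (𝒰.f i) ((𝒰.X i).isoSpec.inv ((Spec.map (φT (A i))) z)) := rfl
    have e3 : (𝒰.X i).isoSpec.inv ((𝒰.X i).isoSpec.hom y) = y := by
      simp
    rw [e1, e2, hz, e3, hy]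
  · intro x'
    have hx : ∃ (i : 𝒰.I₀) (z : Spec (TT (A i))),
        Sigma.ι (fun i => Spec (TT (A i))) i z = x' :=
      (sigmaOpenCover (fun i => Spec (TT (A i)))).exists_eq x'
    obtain ⟨i, z, rfl⟩ := hx
    change IsAlgClosed ((∐ fun i => Spec (TT (A i))).residueField
        (Sigma.ι (fun i => Spec (TT (A i))) i z)) ∧
      (F.residueFieldMap (Sigma.ι (fun i => Spec (TT (A i))) i z)).hom.IsIntegral
    set ι := Sigma.ι (fun i => Spec (TT (A i))) i with hι
    constructor
    · haveI := isAlgClosed_residueField (A i) z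
      exact IsAlgClosed.of_ringEquiv _ _
        (asIso (ι.residueFieldMap z)).symm.commRingCatIsoToRingEquiv
    · have h1 : (ι ≫ F).residueFieldMap z = F.residueFieldMap (ι z) ≫ ι.residueFieldMap z :=
        Scheme.residueFieldMap_comp _ _ _
      have hint : ((ι ≫ F).residueFieldMap z).hom.IsIntegral := by
        rw [Scheme.Hom.residueFieldMap_congr (hF i) z]
        refine isIntegral_comp _ _ (isIntegral_of_isIso _) ?_
        have h3 : (g i).residueFieldMap z = (j i).residueFieldMap (Spec.map (φT (A i)) z) ≫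
            (Spec.map (φT (A i))).residueFieldMap z := Scheme.residueFieldMap_comp _ _ _
        rw [h3]
        haveI : IsOpenImmersion (j i) := by dsimp only [j]; infer_instance
        exact isIntegral_comp _ _
          (isIntegral_of_isIso ((j i).residueFieldMap (Spec.map (φT (A i)) z)))
          (residueFieldMap_isIntegral (φT (A i)) (φT_isIntegral (A i)) z)
      rw [h1] at hint
      exact isIntegral_of_comp_iso _ _ hint

end Groth.Agent.Lib.Helper25.AlgClCover
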