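import Groth.Prelude.Def_Algz

/-!
# The distance function `Algz.deltaZ`: codimension lemmas
-/

namespace Groth.Agent.Lib.Helper25.AlgzDelta

open Algz Specialization

universe u
variable {Y : Type u} [TopologicalSpace Y]

lemma codimPt_eq_zero_of_eq (w v : Y) (h : w ⤳ v) (e : w = v) : codimPt w v h = 0 := by
  subst e
  unfold Algz.codimPt
  rw [Order.height_eq_zero]
  intro x _
  exact x.2

lemma one_le_codimPt [T0Space Y] (w v : Y) (h : w ⤳ v) (hne : w ≠ v) : 1 ≤ codimPt w v h := by
  rw [Order.one_le_iff_ne_zero]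
  unfold Algz.codimPt
  rw [Order.height_ne_zero]
  intro hmin
  apply hne
  have h1 : (⟨toEquiv v, Set.mem_Ici.2 le_rfl⟩ : Set.Ici (toEquiv v)) ≤
      ⟨toEquiv w, toEquiv_le_toEquiv.mpr h⟩ := toEquiv_le_toEquiv.mpr h
  have h2 := hmin h1
  have h3 : v ⤳ w := toEquiv_le_toEquiv.mp h2
  exact (h.antisymm h3).eq

lemma codimPt_le_one [T0Space Y] (w v : Y) (h : w ⤳ v)
    (himm : ∀ z : Y, w ⤳ z → z ⤳ v → z = w ∨ z = v) : codimPt w v h ≤ 1 := by
  unfold Algz.codimPt
  rw [show (1 : ℕ∞) = ((1 : ℕ) : ℕ∞) from rfl, Order.height_le_coe_iff]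
  intro y hy
  have h1 : w ⤳ ofEquiv y.1 := toEquiv_le_toEquiv.mp hy.le
  have h2 : ofEquiv y.1 ⤳ v := toEquiv_le_toEquiv.mp y.2
  rcases himm _ h1 h2 with h3 | h3
  · exfalso
    apply hy.ne
    apply Subtype.ext
    exact congrArg toEquiv h3
  · have e : y.1 = toEquiv v := congrArg toEquiv h3
    have h4 : Order.height y = 0 := by
      rw [Order.height_eq_zero]
      intro x _
      change y.1 ≤ x.1
      rw [e]
      exact x.2
    rw [h4]
    exact_mod_cast zero_lt_one

lemma codimPt_le_one' [T0Space Y] (w v : Y) (h : w ⤳ v) (w0 : Y) (e : w = w0)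
    (himm : ∀ z : Y, w0 ⤳ z → z ⤳ v → z = w0 ∨ z = v) : codimPt w v h ≤ 1 := by
  subst e
  exact codimPt_le_one w v h himm

lemma one_le_codimPt' [T0Space Y] (w v : Y) (h : w ⤳ v) (w0 v0 : Y) (e : w = w0) (e' : v = v0)
    (hne : w0 ≠ v0) : 1 ≤ codimPt w v h := by
  subst e e'
  exact one_le_codimPt w v h hne

/-- The system attached to a zigzag of specializations. -/
def zigzag (Z : Set Y) (k : ℕ) (y : Fin (k + 1) → Y) (y' : Fin k → Y) (h0 : y 0 ∈ Z)
    (hdown : ∀ i : Fin k, y' i ⤳ y i.castSucc) (hup : ∀ i : Fin k, y' i ⤳ y i.succ) :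
    Algz.DSystem Z (y (Fin.last k)) k where
  v := y
  w := (Fin.snoc y' (y (Fin.last k)) : Fin (k + 1) → Y)
  spec i := by
    refine Fin.lastCases ?_ (fun j => ?_) i
    · rw [Fin.snoc_last]
    · rw [Fin.snoc_castSucc]
      exact hdown j
  spec_succ i := by
    rw [Fin.snoc_castSucc]
    exact hup i
  start_mem := h0
  last_eq := Fin.snoc_last _ _

lemma zigzag_w_last (Z : Set Y) (k : ℕ) (y : Fin (k + 1) → Y) (y' : Fin k → Y) (h0 : y 0 ∈ Z)
    (hdown : ∀ i : Fin k, y' i ⤳ y i.castSucc) (hup : ∀ i : Fin k, y' i ⤳ y i.succ) :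
    Algz.DSystem.w (zigzag Z k y y' h0 hdown hup) (Fin.last k) = y (Fin.last k) := by
  change (Fin.snoc y' (y (Fin.last k)) : Fin (k + 1) → Y) (Fin.last k) = _
  rw [Fin.snoc_last]

lemma zigzag_w_castSucc (Z : Set Y) (k : ℕ) (y : Fin (k + 1) → Y) (y' : Fin k → Y) (h0 : y 0 ∈ Z)
    (hdown : ∀ i : Fin k, y' i ⤳ y i.castSucc) (hup : ∀ i : Fin k, y' i ⤳ y i.succ)
    (j : Fin k) :
    Algz.DSystem.w (zigzag Z k y y' h0 hdown hup) j.castSucc = y' j := by
  change (Fin.snoc y' (y (Fin.last k)) : Fin (k + 1) → Y) j.castSucc = _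
  rw [Fin.snoc_castSucc]

lemma delta_le_of_sum_le {Z : Set Y} {y : Y} {k : ℕ} (S : Algz.DSystem Z y k)
    (h : ∀ i : Fin (k + 1),
      (∑ j ∈ Finset.univ.filter (fun j : Fin (k + 1) => i ≤ j), Algz.DSystem.c S j) ≤
        ∑ j ∈ Finset.univ.filter (fun j : Fin k => i.val ≤ j.val), Algz.DSystem.b S j) :
    Algz.DSystem.delta S ≤ k := by
  unfold Algz.DSystem.delta
  have h1 : (Finset.univ.sup fun i : Fin (k + 1) =>
      (∑ j ∈ Finset.univ.filter (fun j : Fin (k + 1) => i ≤ j), Algz.DSystem.c S j) -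
        ∑ j ∈ Finset.univ.filter (fun j : Fin k => i.val ≤ j.val), Algz.DSystem.b S j) = 0 := by
    rw [← bot_eq_zero, Finset.sup_eq_bot_iff]
    intro i _
    rw [bot_eq_zero]
    exact tsub_eq_zero_of_le (h i)
  rw [h1, add_zero]

theorem deltaZ_zigzag_le [T0Space Y] (Z : Set Y) (k : ℕ) (y : Fin (k + 1) → Y) (y' : Fin k → Y)
    (h0 : y 0 ∈ Z)
    (hdown : ∀ i : Fin k, y' i ⤳ y i.castSucc ∧ y' i ≠ y i.castSucc ∧
      ∀ z : Y, y' i ⤳ z → z ⤳ y i.castSucc → z = y' i ∨ z = y i.castSucc)
    (hup : ∀ i : Fin k, y' i ⤳ y i.succ ∧ y' i ≠ y i.succ) :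
    Algz.deltaZ Z (y (Fin.last k)) ≤ k := by
  let S := zigzag Z k y y' h0 (fun i => (hdown i).1) (fun i => (hup i).1)
  refine (iInf₂_le k S).trans (delta_le_of_sum_le S fun i => ?_)
  rw [Finset.sum_filter, Finset.sum_filter, Fin.sum_univ_castSucc]
  have hlast : Algz.DSystem.c S (Fin.last k) = 0 :=
    codimPt_eq_zero_of_eq _ _ _ (zigzag_w_last Z k y y' h0 _ _)
  rw [hlast, ite_self, add_zero]
  refine Finset.sum_le_sum fun j _ => ?_
  have hc : Algz.DSystem.c S j.castSucc ≤ 1 :=
    codimPt_le_one' _ _ _ (y' j) (zigzag_w_castSucc Z k y y' h0 _ _ j) (hdown j).2.2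
  have hb : 1 ≤ Algz.DSystem.b S j :=
    one_le_codimPt' _ _ _ (y' j) (y j.succ) (zigzag_w_castSucc Z k y y' h0 _ _ j) rfl (hup j).2
  by_cases hij : i ≤ j.castSucc
  · have hij' : i.val ≤ j.val := hij
    rw [if_pos hij, if_pos hij']
    exact hc.trans hb
  · have hij' : ¬ i.val ≤ j.val := hij
    rw [if_neg hij, if_neg hij']

lemma codimPt_congr (w v w' v' : Y) (h : w ⤳ v) (h' : w' ⤳ v') (e1 : w = w') (e2 : v = v') :
    codimPt w v h = codimPt w' v' h' := by
  subst e1 e2
  rfl

lemma codimPt_mono_right (w v v' : Y) (h : w ⤳ v) (h' : v ⤳ v') :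
    codimPt w v h ≤ codimPt w v' (h.trans h') := by
  unfold Algz.codimPt
  let f : Set.Ici (toEquiv v) → Set.Ici (toEquiv v') := fun x =>
    ⟨x.1, (toEquiv_le_toEquiv.mpr h').trans x.2⟩
  have hf : StrictMono f := fun a b hab => hab
  exact Order.height_le_height_apply_of_strictMono f hf _

lemma eq_of_codimPt_eq_zero [T0Space Y] (w v : Y) (h : w ⤳ v) (h0 : codimPt w v h = 0) :
    w = v := by
  by_contra hne
  have := one_le_codimPt w v h hne
  rw [h0] at this
  exact absurd this (by simp)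

section Extend

variable {Z : Set Y} {y : Y} {k : ℕ} (S : Algz.DSystem Z y k) (y' : Y) (h : y ⤳ y')

/-- Extend a system by the pair `(y', y')`. -/
def extend : Algz.DSystem Z y' (k + 1) where
  v := (Fin.snoc (Algz.DSystem.v S) y' : Fin (k + 2) → Y)
  w := (Fin.snoc (Algz.DSystem.w S) y' : Fin (k + 2) → Y)
  spec i := by
    refine Fin.lastCases ?_ (fun j => ?_) i
    · rw [Fin.snoc_last, Fin.snoc_last]
    · rw [Fin.snoc_castSucc, Fin.snoc_castSucc]
      exact Algz.DSystem.spec S j
  spec_succ i := by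
    refine Fin.lastCases ?_ (fun j => ?_) i
    · rw [Fin.snoc_castSucc, Fin.succ_last, Fin.snoc_last, Algz.DSystem.last_eq S]
      exact h
    · rw [Fin.snoc_castSucc, Fin.succ_castSucc, Fin.snoc_castSucc]
      exact Algz.DSystem.spec_succ S j
  start_mem := by
    have : (0 : Fin (k + 2)) = Fin.castSucc 0 := rfl
    rw [this, Fin.snoc_castSucc]
    exact Algz.DSystem.start_mem S
  last_eq := Fin.snoc_last _ _

lemma extend_v_castSucc (j : Fin (k + 1)) :
    Algz.DSystem.v (extend S y' h) j.castSucc = Algz.DSystem.v S j := by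
  change (Fin.snoc (Algz.DSystem.v S) y' : Fin (k + 2) → Y) j.castSucc = _
  rw [Fin.snoc_castSucc]

lemma extend_w_castSucc (j : Fin (k + 1)) :
    Algz.DSystem.w (extend S y' h) j.castSucc = Algz.DSystem.w S j := by
  change (Fin.snoc (Algz.DSystem.w S) y' : Fin (k + 2) → Y) j.castSucc = _
  rw [Fin.snoc_castSucc]

lemma extend_v_last : Algz.DSystem.v (extend S y' h) (Fin.last (k + 1)) = y' := by
  change (Fin.snoc (Algz.DSystem.v S) y' : Fin (k + 2) → Y) (Fin.last (k + 1)) = _
  rw [Fin.snoc_last]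

lemma extend_w_last : Algz.DSystem.w (extend S y' h) (Fin.last (k + 1)) = y' := by
  change (Fin.snoc (Algz.DSystem.w S) y' : Fin (k + 2) → Y) (Fin.last (k + 1)) = _
  rw [Fin.snoc_last]

lemma extend_c_castSucc (j : Fin (k + 1)) :
    Algz.DSystem.c (extend S y' h) j.castSucc = Algz.DSystem.c S j :=
  codimPt_congr _ _ _ _ _ _ (extend_w_castSucc S y' h j) (extend_v_castSucc S y' h j)

lemma extend_c_last : Algz.DSystem.c (extend S y' h) (Fin.last (k + 1)) = 0 :=
  codimPt_eq_zero_of_eq _ _ _ ((extend_w_last S y' h).trans (extend_v_last S y' h).symm)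

lemma extend_b_castSucc (j : Fin k) :
    Algz.DSystem.b (extend S y' h) j.castSucc = Algz.DSystem.b S j := by
  refine codimPt_congr _ _ _ _ _ _ (extend_w_castSucc S y' h j.castSucc) ?_
  rw [Fin.succ_castSucc]
  exact extend_v_castSucc S y' h j.succ

lemma one_le_extend_b_last [T0Space Y] (hne : y ≠ y') :
    1 ≤ Algz.DSystem.b (extend S y' h) (Fin.last k) := by
  refine one_le_codimPt' _ _ _ y y' ?_ ?_ hne
  · rw [extend_w_castSucc, Algz.DSystem.last_eq S]
  · rw [Fin.succ_last]
    exact extend_v_last S y' h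

/-- The `i`-th term in the definition of the value of a system. -/
noncomputable def term {Z : Set Y} {y : Y} {k : ℕ} (S : Algz.DSystem Z y k) (i : Fin (k + 1)) :
    ℕ∞ :=
  (∑ j ∈ Finset.univ.filter (fun j : Fin (k + 1) => i ≤ j), Algz.DSystem.c S j) -
    ∑ j ∈ Finset.univ.filter (fun j : Fin k => i.val ≤ j.val), Algz.DSystem.b S j

omit y' in
lemma delta_eq : Algz.DSystem.delta S = (k : ℕ∞) + Finset.univ.sup (term S) := rfl

lemma extend_A_castSucc (i0 : Fin (k + 1)) :
    (∑ j ∈ Finset.univ.filter (fun j : Fin (k + 2) => i0.castSucc ≤ j),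
        Algz.DSystem.c (extend S y' h) j) =
      ∑ j ∈ Finset.univ.filter (fun j : Fin (k + 1) => i0 ≤ j), Algz.DSystem.c S j := by
  rw [Finset.sum_filter, Finset.sum_filter, Fin.sum_univ_castSucc, extend_c_last, ite_self,
    add_zero]
  refine Finset.sum_congr rfl fun j _ => ?_
  rw [extend_c_castSucc]
  simp only [Fin.castSucc_le_castSucc_iff]

lemma extend_B_castSucc (i0 : Fin (k + 1)) :
    (∑ j ∈ Finset.univ.filter (fun j : Fin (k + 1) => i0.castSucc.val ≤ j.val),
        Algz.DSystem.b (extend S y' h) j) =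
      (∑ j ∈ Finset.univ.filter (fun j : Fin k => i0.val ≤ j.val), Algz.DSystem.b S j) +
        Algz.DSystem.b (extend S y' h) (Fin.last k) := by
  rw [Finset.sum_filter, Finset.sum_filter, Fin.sum_univ_castSucc]
  have h1 : i0.castSucc.val ≤ (Fin.last k).val := by
    simp only [Fin.val_castSucc, Fin.val_last]
    omega
  rw [if_pos h1]
  congr 1
  refine Finset.sum_congr rfl fun j _ => ?_
  rw [extend_b_castSucc]
  simp only [Fin.val_castSucc]

lemma extend_A_last :
    (∑ j ∈ Finset.univ.filter (fun j : Fin (k + 2) => Fin.last (k + 1) ≤ j),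
        Algz.DSystem.c (extend S y' h) j) = 0 := by
  refine Finset.sum_eq_zero fun j hj => ?_
  rw [Finset.mem_filter] at hj
  have : j = Fin.last (k + 1) := Fin.last_le_iff.1 hj.2
  rw [this]
  exact extend_c_last S y' h

lemma extend_delta_le [T0Space Y] (hne : y ≠ y') (hM : 1 ≤ Finset.univ.sup (term S)) :
    Algz.DSystem.delta (extend S y' h) ≤ Algz.DSystem.delta S := by
  rw [delta_eq, delta_eq]
  have hβ := one_le_extend_b_last S y' h hne
  have h1 : Finset.univ.sup (term (extend S y' h)) ≤ Finset.univ.sup (term S) - 1 := by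
    refine Finset.sup_le fun i _ => ?_
    refine Fin.lastCases ?_ (fun i0 => ?_) i
    · unfold term
      rw [extend_A_last, zero_tsub]
      exact bot_le
    · unfold term
      rw [extend_A_castSucc, extend_B_castSucc, ← tsub_tsub]
      refine (tsub_le_tsub_left hβ _).trans (tsub_le_tsub_right ?_ _)
      exact Finset.le_sup (f := term S) (Finset.mem_univ i0)
  calc ((k + 1 : ℕ) : ℕ∞) + Finset.univ.sup (term (extend S y' h))
      ≤ ((k + 1 : ℕ) : ℕ∞) + (Finset.univ.sup (term S) - 1) := add_le_add_right h1 _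
    _ = (k : ℕ∞) + (1 + (Finset.univ.sup (term S) - 1)) := by
        rw [Nat.cast_succ, add_assoc]
    _ = (k : ℕ∞) + Finset.univ.sup (term S) := by rw [add_tsub_cancel_of_le hM]

end Extend

section Replace

variable {Z : Set Y} (hZ : IsClosed Z) {y : Y} {k : ℕ} (S : Algz.DSystem Z y k) (y' : Y)
  (h : y ⤳ y') (hc : Algz.DSystem.w S (Fin.last k) = Algz.DSystem.v S (Fin.last k))

/-- Replace the last pair of a system whose last pair is degenerate by `(y', y')`. -/
def replaceLast : Algz.DSystem Z y' k where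
  v := Function.update (Algz.DSystem.v S) (Fin.last k) y'
  w := Function.update (Algz.DSystem.w S) (Fin.last k) y'
  spec i := by
    by_cases hi : i = Fin.last k
    · subst hi
      rw [Function.update_self, Function.update_self]
    · rw [Function.update_of_ne hi, Function.update_of_ne hi]
      exact Algz.DSystem.spec S i
  spec_succ i := by
    rw [Function.update_of_ne (Fin.castSucc_lt_last i).ne]
    by_cases hi : i.succ = Fin.last k
    · rw [hi, Function.update_self]
      have h1 := Algz.DSystem.spec_succ S i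
      rw [hi, ← hc, Algz.DSystem.last_eq S] at h1
      exact h1.trans h
    · rw [Function.update_of_ne hi]
      exact Algz.DSystem.spec_succ S i
  start_mem := by
    by_cases h0 : (0 : Fin (k + 1)) = Fin.last k
    · rw [h0, Function.update_self]
      have h1 : Algz.DSystem.v S 0 ∈ Z := Algz.DSystem.start_mem S
      rw [h0, ← hc, Algz.DSystem.last_eq S] at h1
      exact h.mem_closed hZ h1
    · rw [Function.update_of_ne h0]
      exact Algz.DSystem.start_mem S
  last_eq := Function.update_self _ _ _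

lemma replaceLast_v_of_ne (j : Fin (k + 1)) (hj : j ≠ Fin.last k) :
    Algz.DSystem.v (replaceLast hZ S y' h hc) j = Algz.DSystem.v S j :=
  Function.update_of_ne hj _ _

lemma replaceLast_w_of_ne (j : Fin (k + 1)) (hj : j ≠ Fin.last k) :
    Algz.DSystem.w (replaceLast hZ S y' h hc) j = Algz.DSystem.w S j :=
  Function.update_of_ne hj _ _

lemma replaceLast_v_last :
    Algz.DSystem.v (replaceLast hZ S y' h hc) (Fin.last k) = y' :=
  Function.update_self _ _ _

lemma replaceLast_w_last :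
    Algz.DSystem.w (replaceLast hZ S y' h hc) (Fin.last k) = y' :=
  Function.update_self _ _ _

lemma replaceLast_c (j : Fin (k + 1)) :
    Algz.DSystem.c (replaceLast hZ S y' h hc) j = Algz.DSystem.c S j := by
  by_cases hj : j = Fin.last k
  · subst hj
    rw [show Algz.DSystem.c S (Fin.last k) = 0 from codimPt_eq_zero_of_eq _ _ _ hc]
    exact codimPt_eq_zero_of_eq _ _ _
      ((replaceLast_w_last hZ S y' h hc).trans (replaceLast_v_last hZ S y' h hc).symm)
  · exact codimPt_congr _ _ _ _ _ _ (replaceLast_w_of_ne hZ S y' h hc j hj)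
      (replaceLast_v_of_ne hZ S y' h hc j hj)

lemma le_replaceLast_b (j : Fin k) :
    Algz.DSystem.b S j ≤ Algz.DSystem.b (replaceLast hZ S y' h hc) j := by
  have hw := replaceLast_w_of_ne hZ S y' h hc j.castSucc (Fin.castSucc_lt_last j).ne
  by_cases hj : j.succ = Fin.last k
  · have hv : Algz.DSystem.v S j.succ = y := by
      rw [hj, ← hc, Algz.DSystem.last_eq S]
    have hv' : Algz.DSystem.v (replaceLast hZ S y' h hc) j.succ = y' := by
      rw [hj]
      exact replaceLast_v_last hZ S y' h hc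
    have hs : Algz.DSystem.w S j.castSucc ⤳ y := by
      have h1 := Algz.DSystem.spec_succ S j
      rwa [hv] at h1
    calc Algz.DSystem.b S j = codimPt (Algz.DSystem.w S j.castSucc) y hs :=
          codimPt_congr _ _ _ _ _ _ rfl hv
      _ ≤ codimPt (Algz.DSystem.w S j.castSucc) y' (hs.trans h) := codimPt_mono_right _ _ _ hs h
      _ = Algz.DSystem.b (replaceLast hZ S y' h hc) j :=
          codimPt_congr _ _ _ _ _ _ hw.symm hv'.symm
  · exact le_of_eq (codimPt_congr _ _ _ _ _ _ hw.symm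
      (replaceLast_v_of_ne hZ S y' h hc j.succ hj).symm)

lemma replaceLast_delta_le :
    Algz.DSystem.delta (replaceLast hZ S y' h hc) ≤ Algz.DSystem.delta S := by
  rw [delta_eq, delta_eq]
  refine add_le_add_right (Finset.sup_mono_fun fun i _ => ?_) _
  unfold term
  refine tsub_le_tsub (le_of_eq (Finset.sum_congr rfl fun j _ => replaceLast_c hZ S y' h hc j))
    (Finset.sum_le_sum fun j _ => le_replaceLast_b hZ S y' h hc j)

end Replace

theorem deltaZ_le_of_specializes [T0Space Y] (Z : Set Y) (hZ : IsClosed Z) (y y' : Y)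
    (h : y ⤳ y') : Algz.deltaZ Z y' ≤ Algz.deltaZ Z y := by
  rcases eq_or_ne y y' with rfl | hne
  · exact le_rfl
  unfold Algz.deltaZ
  refine le_iInf₂ fun k S => ?_
  by_cases hc : Algz.DSystem.c S (Fin.last k) = 0
  · have hc' := eq_of_codimPt_eq_zero _ _ _ hc
    exact (iInf₂_le k (replaceLast hZ S y' h hc')).trans (replaceLast_delta_le hZ S y' h hc')
  · have hM : 1 ≤ Finset.univ.sup (term S) := by
      refine le_trans ?_ (Finset.le_sup (f := term S) (Finset.mem_univ (Fin.last k)))
      unfold term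
      have h1 : (∑ j ∈ Finset.univ.filter (fun j : Fin k => (Fin.last k).val ≤ j.val),
          Algz.DSystem.b S j) = 0 := by
        refine Finset.sum_eq_zero fun j hj => ?_
        rw [Finset.mem_filter] at hj
        have := j.2
        simp only [Fin.val_last] at hj
        omega
      have h2 : Algz.DSystem.c S (Fin.last k) ≤
          ∑ j ∈ Finset.univ.filter (fun j : Fin (k + 1) => Fin.last k ≤ j),
            Algz.DSystem.c S j :=
        Finset.single_le_sum (f := Algz.DSystem.c S) (fun _ _ => bot_le)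
          (Finset.mem_filter.2 ⟨Finset.mem_univ _, le_rfl⟩)
      rw [h1, tsub_zero]
      exact (Order.one_le_iff_ne_zero.2 hc).trans h2
    exact (iInf₂_le (k + 1) (extend S y' h)).trans (extend_delta_le S y' h hne hM)

section OpenEmbedding

variable {Y' : Type u} [TopologicalSpace Y'] (f : Y' → Y) (hf : Topology.IsOpenEmbedding f)
include hf

lemma codimPt_map_eq (w v : Y') (h : w ⤳ v) :
    codimPt (f w) (f v) (h.map hf.continuous) = codimPt w v h := by
  unfold Algz.codimPt
  let e : Set.Ici (toEquiv v) → Set.Ici (toEquiv (f v)) := fun x =>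
    ⟨toEquiv (f (ofEquiv x.1)), toEquiv_le_toEquiv.mpr
      ((toEquiv_le_toEquiv.mp x.2 : ofEquiv x.1 ⤳ v).map hf.continuous)⟩
  have he_inj : Function.Injective e := by
    intro a b hab
    apply Subtype.ext
    have h1 : f (ofEquiv a.1) = f (ofEquiv b.1) := congrArg (fun z => ofEquiv z.1) hab
    exact congrArg toEquiv (hf.injective h1)
  have he_surj : Function.Surjective e := by
    intro b
    have h1 : ofEquiv b.1 ⤳ f v := toEquiv_le_toEquiv.mp b.2
    have h2 : ofEquiv b.1 ∈ Set.range f := h1.mem_open hf.isOpen_range ⟨v, rfl⟩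
    obtain ⟨a, ha⟩ := h2
    have h3 : a ⤳ v := by
      rw [← hf.isInducing.specializes_iff, ha]
      exact h1
    refine ⟨⟨toEquiv a, toEquiv_le_toEquiv.mpr h3⟩, ?_⟩
    apply Subtype.ext
    exact congrArg toEquiv ha
  let E : Set.Ici (toEquiv v) ≃o Set.Ici (toEquiv (f v)) :=
    { toEquiv := Equiv.ofBijective e ⟨he_inj, he_surj⟩
      map_rel_iff' := by
        intro a b
        change toEquiv (f (ofEquiv a.1)) ≤ toEquiv (f (ofEquiv b.1)) ↔ a.1 ≤ b.1
        rw [toEquiv_le_toEquiv, hf.isInducing.specializes_iff]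
        rfl }
  exact Order.height_orderIso E ⟨toEquiv w, toEquiv_le_toEquiv.mpr h⟩

/-- Push a system forward along an open embedding. -/
def mapSystem {Z : Set Y} {y' : Y'} {k : ℕ} (S : Algz.DSystem (f ⁻¹' Z) y' k) :
    Algz.DSystem Z (f y') k where
  v i := f (Algz.DSystem.v S i)
  w i := f (Algz.DSystem.w S i)
  spec i := (Algz.DSystem.spec S i).map hf.continuous
  spec_succ i := (Algz.DSystem.spec_succ S i).map hf.continuous
  start_mem := Algz.DSystem.start_mem S
  last_eq := congrArg f (Algz.DSystem.last_eq S)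

lemma mapSystem_delta {Z : Set Y} {y' : Y'} {k : ℕ} (S : Algz.DSystem (f ⁻¹' Z) y' k) :
    Algz.DSystem.delta (mapSystem f hf S) = Algz.DSystem.delta S := by
  unfold Algz.DSystem.delta
  have hc : ∀ j, Algz.DSystem.c (mapSystem f hf S) j = Algz.DSystem.c S j :=
    fun j => codimPt_map_eq f hf _ _ _
  have hb : ∀ j, Algz.DSystem.b (mapSystem f hf S) j = Algz.DSystem.b S j :=
    fun j => codimPt_map_eq f hf _ _ _
  simp only [hc, hb]

theorem deltaZ_le_of_isOpenEmbedding (Z : Set Y) (y' : Y') :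
    Algz.deltaZ Z (f y') ≤ Algz.deltaZ (f ⁻¹' Z) y' := by
  unfold Algz.deltaZ
  refine le_iInf₂ fun k S => ?_
  exact (iInf₂_le k (mapSystem f hf S)).trans (le_of_eq (mapSystem_delta f hf S))

end OpenEmbedding

/-- The system of length `0` given by a specialization `y ⤳ z` with `z ∈ Z`. -/
def single (Z : Set Y) (y z : Y) (h : y ⤳ z) (hz : z ∈ Z) : Algz.DSystem Z y 0 where
  v _ := z
  w _ := y
  spec _ := h
  spec_succ i := i.elim0
  start_mem := hz
  last_eq := rfl

lemma deltaZ_le_codimPt (Z : Set Y) (y z : Y) (h : y ⤳ z) (hz : z ∈ Z) :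
    Algz.deltaZ Z y ≤ codimPt y z h := by
  refine (iInf₂_le 0 (single Z y z h hz)).trans ?_
  unfold Algz.DSystem.delta
  rw [Nat.cast_zero, zero_add]
  refine Finset.sup_le fun i _ => ?_
  refine tsub_le_self.trans ?_
  rw [Finset.sum_filter, Fin.sum_univ_one]
  split_ifs
  · exact le_rfl
  · exact bot_le

end Groth.Agent.Lib.Helper25.AlgzDelta
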