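import Mathlib
import Groth.Agent.Lib.Helper25.SmoothLocalDim2
import Groth.Agent.Lib.Helper25.LocalDimRing
import Groth.Agent.Lib.Helper20.DimTrdeg
set_option autoImplicit false
universe u
open CategoryTheory CategoryTheory.Limits AlgebraicGeometry TensorProduct

namespace Groth.Agent.Lib.Helper25.BertiniJets

theorem rankAtStalk_eq_of_mem_freeLocus {R : Type*} [CommRing R] {M : Type*} [AddCommGroup M]
    [Module R M] (p : PrimeSpectrum R) (hp : p ∈ Module.freeLocus R M) :
    Module.rankAtStalk M p =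
      Module.finrank p.asIdeal.ResidueField (p.asIdeal.ResidueField ⊗[R] M) := by
  haveI : Module.Free (Localization.AtPrime p.asIdeal)
      (LocalizedModule p.asIdeal.primeCompl M) := Module.mem_freeLocus.mp hp
  haveI : Module.Free (Localization.AtPrime p.asIdeal) (Localization.AtPrime p.asIdeal ⊗[R] M) :=
    Module.Free.of_equiv (LocalizedModule.equivTensorProduct p.asIdeal.primeCompl M)
  let e : p.asIdeal.ResidueField ⊗[Localization.AtPrime p.asIdeal]
      (Localization.AtPrime p.asIdeal ⊗[R] M) ≃ₗ[p.asIdeal.ResidueField]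
      p.asIdeal.ResidueField ⊗[R] M :=
    AlgebraTensorModule.cancelBaseChange _ _ _ _ _
  rw [← e.finrank_eq, Module.finrank_baseChange, Module.rankAtStalk_eq_finrank_tensorProduct]

open Groth.Agent.Lib.Helper25.SmoothLocalDim Groth.Agent.Lib.Helper25.LocalDimRing in
/-- On the smooth locus of an equidimensional finite type algebra over a field, the differentials
have rank the dimension. -/
theorem rankAtStalk_kaehler_eq_of_equidim (k A : Type u) [Field k] [CommRing A] [Algebra k A]
    [Algebra.FiniteType k A] (r : ℕ)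
    (hdim : ∀ P ∈ minimalPrimes A, ringKrullDim (A ⧸ P) = r) (𝔭 : PrimeSpectrum A)
    (h𝔭 : 𝔭 ∈ Algebra.smoothLocus k A) :
    Module.rankAtStalk (Ω[A⁄k]) 𝔭 = r := by
  haveI := finitePresentation k A
  haveI := 𝔭.2
  obtain ⟨P, hPmin, hP𝔭⟩ := Ideal.exists_minimalPrimes_le (bot_le : (⊥ : Ideal A) ≤ 𝔭.asIdeal)
  haveI hPprime : P.IsPrime := hPmin.1.1
  have hPsm : Algebra.IsSmoothAt k P := isSmoothAt_of_le k A P 𝔭.asIdeal hP𝔭 h𝔭
  have hsub : Algebra.smoothLocus k A ⊆ Module.freeLocus A Ω[A⁄k] := by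
    rw [Algebra.smoothLocus_eq_compl_support_inter]
    exact Set.inter_subset_right
  have hrP : Module.rankAtStalk (Ω[A⁄k]) ⟨P, hPprime⟩ = r := by
    rw [rankAtStalk_eq_of_mem_freeLocus _ (hsub hPsm)]
    have h1 := finrank_eq_localDim_of_isSmoothAt k A P hPsm
    haveI : Algebra.EssFiniteType k P.ResidueField := Algebra.EssFiniteType.comp k A _
    obtain ⟨a, ha⟩ := Cardinal.lt_aleph0.mp (trdeg_lt_aleph0 k P.ResidueField)
    have hb : ringKrullDim (Localization.AtPrime P) = ((0 : ℕ) : WithBot ℕ∞) := by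
      rw [IsLocalization.AtPrime.ringKrullDim_eq_height P, Ideal.height_eq_zero_iff.mpr hPmin]
      rfl
    have h2 := localDim_eq_add k A P a 0 ha hb
    haveI : Algebra.FiniteType k (A ⧸ P) :=
      Algebra.FiniteType.of_surjective (Ideal.Quotient.mkₐ k P) Ideal.Quotient.mk_surjective
    have h3 := Groth.Agent.Lib.Helper20.DimTrdeg.ringKrullDim_eq_trdeg k (A ⧸ P) P.ResidueField
    rw [hdim P hPmin, ha] at h3
    have h4 : r = a := by
      have : ((r : ℕ) : WithBot ℕ∞) = ((a : ℕ) : WithBot ℕ∞) := by simpa using h3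
      exact_mod_cast this
    rw [h2] at h1
    have h5 : Module.finrank P.ResidueField (P.ResidueField ⊗[A] Ω[A⁄k]) = a + 0 := by
      exact_mod_cast h1
    rw [h4]
    exact h5
  rw [← hrP]
  have hlc := Module.isLocallyConstant_rankAtStalk_freeLocus (R := A) (M := Ω[A⁄k])
  let 𝔭' : Module.freeLocus A Ω[A⁄k] := ⟨𝔭, hsub h𝔭⟩
  let P' : Module.freeLocus A Ω[A⁄k] := ⟨⟨P, hPprime⟩, hsub hPsm⟩
  have hopen := hlc.isOpen_fiber (Module.rankAtStalk (Ω[A⁄k]) 𝔭)
  have hspec : P' ⤳ 𝔭' := by
    rw [subtype_specializes_iff]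
    exact (PrimeSpectrum.le_iff_specializes _ _).mp hP𝔭
  have := hspec.mem_open hopen (show 𝔭' ∈ _ from rfl)
  exact this.symm

end Groth.Agent.Lib.Helper25.BertiniJets
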