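import Mathlib
import Groth.Agent.Lib.Helper25.BertiniJets5
import Groth.Agent.Lib.Helper25.BertiniJets6
import Groth.Agent.Lib.Helper25.BertiniJets7
import Groth.Agent.Lib.Helper25.FibreDimRank
set_option autoImplicit false
universe u
open CategoryTheory CategoryTheory.Limits AlgebraicGeometry TensorProduct

namespace Groth.Agent.Lib.Helper25.BertiniJets

open PrimeSpectrum in
theorem exists_finset_cover_smoothLocus (k A : Type u) [Field k] [CommRing A] [Algebra k A]
    [Algebra.FiniteType k A] :
    ∃ F : Finset A, (∀ f ∈ F, Algebra.Smooth k (Localization.Away f)) ∧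
      ∀ p ∈ Algebra.smoothLocus k A, ∃ f ∈ F, f ∉ p.asIdeal := by
  haveI := Groth.Agent.Lib.Helper25.SmoothLocalDim.finitePresentation k A
  haveI : IsNoetherianRing A := Algebra.FiniteType.isNoetherianRing k A
  have hopen : IsOpen (Algebra.smoothLocus k A) := Algebra.isOpen_smoothLocus
  have hcompact : IsCompact (Algebra.smoothLocus k A) :=
    TopologicalSpace.NoetherianSpace.isCompact _
  have key : ∀ p : PrimeSpectrum A, ∃ f : A, (p ∈ Algebra.smoothLocus k A → p ∈ basicOpen f) ∧
      ((basicOpen f : Set (PrimeSpectrum A)) ⊆ Algebra.smoothLocus k A) := by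
    intro p
    by_cases hp : p ∈ Algebra.smoothLocus k A
    · obtain ⟨_, ⟨_, ⟨f, rfl⟩, rfl⟩, hpf, hfS⟩ := isBasis_basic_opens.exists_subset_of_mem_open hp hopen
      exact ⟨f, fun _ => hpf, hfS⟩
    · exact ⟨0, fun h => absurd h hp, by simp⟩
  choose f hf1 hf2 using key
  obtain ⟨t, ht⟩ := hcompact.elim_finite_subcover
    (fun p => ((basicOpen (f p) : TopologicalSpace.Opens (PrimeSpectrum A)) : Set (PrimeSpectrum A)))
    (fun p => (basicOpen (f p)).2) (fun p hp => Set.mem_iUnion.mpr ⟨p, hf1 p hp⟩)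
  classical
  refine ⟨t.image f, ?_, ?_⟩
  · intro g hg
    obtain ⟨p, _, rfl⟩ := Finset.mem_image.mp hg
    exact Algebra.basicOpen_subset_smoothLocus_iff_smooth.mp (hf2 p)
  · intro p hp
    obtain ⟨p', hp'⟩ := Set.mem_iUnion.mp (ht hp)
    obtain ⟨hp't, hpp'⟩ := Set.mem_iUnion.mp hp'
    exact ⟨f p', Finset.mem_image_of_mem _ hp't, hpp'⟩


theorem rankAtStalk_baseChange_of_mem_freeLocus {R : Type*} [CommRing R] {M : Type*}
    [AddCommGroup M] [Module R M] {S : Type*} [CommRing S] [Algebra R S] (p : PrimeSpectrum S)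
    (hp : p.comap (algebraMap R S) ∈ Module.freeLocus R M) :
    Module.rankAtStalk (S ⊗[R] M) p = Module.rankAtStalk M (p.comap (algebraMap R S)) := by
  let q : PrimeSpectrum R := p.comap (algebraMap R S)
  haveI : Module.Free (Localization.AtPrime q.asIdeal)
      (LocalizedModule q.asIdeal.primeCompl M) := Module.mem_freeLocus.mp hp
  let := Localization.AtPrime.algebraOfLiesOver q.asIdeal p.asIdeal
  let e : LocalizedModule p.asIdeal.primeCompl (S ⊗[R] M) ≃ₗ[Localization.AtPrime p.asIdeal]
      Localization.AtPrime p.asIdeal ⊗[Localization.AtPrime q.asIdeal]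
        LocalizedModule q.asIdeal.primeCompl M :=
    LocalizedModule.equivTensorProduct _ _ ≪≫ₗ
      (AlgebraTensorModule.cancelBaseChange R S _ _ M) ≪≫ₗ
      (AlgebraTensorModule.cancelBaseChange R _ _ _ M).symm ≪≫ₗ
      (AlgebraTensorModule.congr (LinearEquiv.refl _ _)
        (LocalizedModule.equivTensorProduct _ M).symm)
  rw [Module.rankAtStalk, e.finrank_eq]
  apply Module.finrank_baseChange

theorem rankAtStalk_isBaseChange_of_mem_freeLocus {R : Type*} [CommRing R] {M : Type*}
    [AddCommGroup M] [Module R M] {S Mₛ : Type*} [CommRing S] [Algebra R S] [AddCommGroup Mₛ]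
    [Module R Mₛ] [Module S Mₛ] [IsScalarTower R S Mₛ] {f : M →ₗ[R] Mₛ} (hf : IsBaseChange S f)
    (p : PrimeSpectrum S) (hp : p.comap (algebraMap R S) ∈ Module.freeLocus R M) :
    Module.rankAtStalk Mₛ p = Module.rankAtStalk M (p.comap (algebraMap R S)) := by
  rw [Module.rankAtStalk_eq_of_equiv hf.equiv.symm, rankAtStalk_baseChange_of_mem_freeLocus p hp]

theorem rankAtStalk_away_eq_of_equidim (k A : Type u) [Field k] [CommRing A] [Algebra k A]
    [Algebra.FiniteType k A] (r : ℕ)
    (hdim : ∀ P ∈ minimalPrimes A, ringKrullDim (A ⧸ P) = r) (f : A)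
    [Algebra.Smooth k (Localization.Away f)] (𝔓 : PrimeSpectrum (Localization.Away f)) :
    Module.rankAtStalk (Ω[Localization.Away f⁄k]) 𝔓 = r := by
  haveI := Groth.Agent.Lib.Helper25.SmoothLocalDim.finitePresentation k A
  haveI : Algebra.FormallyEtale A (Localization.Away f) :=
    Algebra.FormallyEtale.of_isLocalization (Rₘ := Localization.Away f) (Submonoid.powers f)
  have hsub : (PrimeSpectrum.basicOpen f : Set (PrimeSpectrum A)) ⊆ Algebra.smoothLocus k A :=
    Algebra.basicOpen_subset_smoothLocus_iff_smooth.mpr inferInstance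
  have hsm : 𝔓.comap (algebraMap A (Localization.Away f)) ∈ Algebra.smoothLocus k A := by
    apply hsub
    change f ∉ (𝔓.comap (algebraMap A (Localization.Away f))).asIdeal
    intro hf
    have hu : IsUnit (algebraMap A (Localization.Away f) f) :=
      IsLocalization.Away.algebraMap_isUnit f
    exact 𝔓.2.ne_top (Ideal.eq_top_of_isUnit_mem _ hf hu)
  have hfree : 𝔓.comap (algebraMap A (Localization.Away f)) ∈ Module.freeLocus A Ω[A⁄k] := by
    have h := hsm
    rw [Algebra.smoothLocus_eq_compl_support_inter] at h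
    exact h.2
  have h1 : Module.rankAtStalk (Ω[Localization.Away f⁄k]) 𝔓 =
      Module.rankAtStalk (Ω[A⁄k]) (𝔓.comap (algebraMap A (Localization.Away f))) :=
    rankAtStalk_isBaseChange_of_mem_freeLocus
      (KaehlerDifferential.isBaseChange_of_formallyEtale k A (Localization.Away f)) 𝔓 hfree
  rw [h1]
  exact rankAtStalk_kaehler_eq_of_equidim k A r hdim _ hsm


open Groth.Agent.Lib.Helper25.FibreDimRank in
theorem affine_bertini_aux (k : Type u) [Field k] (r : ℕ) (A : Type u) [CommRing A]
    [Algebra k A] [Algebra.FiniteType k A]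
    (hrank : ∀ (f : A) [Algebra.Smooth k (Localization.Away f)]
      (𝔓 : PrimeSpectrum (Localization.Away f)),
      Module.rankAtStalk (Ω[Localization.Away f⁄k]) 𝔓 = r)
    (ℓ : A) (f : A) [Algebra.Smooth k (Localization.Away f)]
    (D : Derivation k (Localization.Away f) (Localization.Away f))
    (hD : D (algebraMap A (Localization.Away f) ℓ) - 1 ∈
      Ideal.span {algebraMap A (Localization.Away f) ℓ})
    (I : Ideal A) (hI : I = Ideal.span {ℓ})
    (q : Ideal (A ⧸ I)) [hq : q.IsPrime] (hfq : Ideal.Quotient.mk I f ∉ q) :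
    ∃ f' : A ⧸ I, f' ∉ q ∧ SmoothOfRelativeDimension (r - 1)
      (Spec.map (CommRingCat.ofHom (algebraMap k (Localization.Away f')))) := by
  set B := Localization.Away f with hB
  set J : Ideal B := I.map (algebraMap A B) with hJdef
  have hJ : J = Ideal.span {algebraMap A B ℓ} := by
    rw [hJdef, hI, Ideal.map_span, Set.image_singleton]
  haveI hCsm : Algebra.Smooth k (B ⧸ J) := smooth_quotient_of_derivation _ D hD J hJ
  set fbar : A ⧸ I := Ideal.Quotient.mk I f with hfbar
  haveI hloc : IsLocalization.Away fbar (B ⧸ J) := by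
    have h1 : IsLocalization (Algebra.algebraMapSubmonoid (A ⧸ I) (Submonoid.powers f))
        (B ⧸ I.map (algebraMap A B)) := inferInstance
    have h2 : Algebra.algebraMapSubmonoid (A ⧸ I) (Submonoid.powers f) = Submonoid.powers fbar := by
      rw [Algebra.algebraMapSubmonoid, Submonoid.map_powers]
      rfl
    rw [h2] at h1
    exact h1
  haveI : IsScalarTower k (A ⧸ I) (B ⧸ J) := by
    refine IsScalarTower.of_algebraMap_eq fun c => ?_
    change Ideal.Quotient.mk J (algebraMap k B c) = _
    rw [IsScalarTower.algebraMap_apply k A B]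
    rfl
  have hdisj : Disjoint ((Submonoid.powers fbar : Submonoid (A ⧸ I)) : Set (A ⧸ I))
      (q : Set (A ⧸ I)) := by
    rw [Set.disjoint_left]
    rintro _ ⟨j, rfl⟩ hj
    exact hfq (hq.mem_of_pow_mem j hj)
  set qC : Ideal (B ⧸ J) := q.map (algebraMap (A ⧸ I) (B ⧸ J)) with hqCdef
  haveI hqC : qC.IsPrime :=
    IsLocalization.isPrime_of_isPrime_disjoint (Submonoid.powers fbar) _ _ hq hdisj
  have hr1 := rankAtStalk_quotient_of_derivation (k := k) (B := B) (C := B ⧸ J) (algebraMap A B ℓ)
    Ideal.Quotient.mk_surjective (by rw [Ideal.Quotient.algebraMap_eq, Ideal.mk_ker]; exact hJ)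
    D hD ⟨qC, hqC⟩
  rw [hrank f] at hr1
  obtain ⟨t, n', ht, hstd, hn'⟩ :=
    exists_away_isStandardSmoothOfRelativeDimension (A := k) (B := B ⧸ J) ⟨qC, hqC⟩
  have hn'' : n' = r - 1 := by omega
  rw [hn''] at hstd
  haveI := hstd
  have hassoc := IsLocalization.Away.associated_sec_fst fbar t
  haveI : IsLocalization.Away (fbar * (IsLocalization.Away.sec fbar t).1) (Localization.Away t) :=
    .mul_of_associated _ _ t hassoc
  let e : Localization.Away (fbar * (IsLocalization.Away.sec fbar t).1) ≃ₐ[A ⧸ I]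
      Localization.Away t := Localization.algEquiv _ _
  refine ⟨fbar * (IsLocalization.Away.sec fbar t).1, ?_, ?_⟩
  · refine Ideal.IsPrime.mul_notMem hq hfq fun hmem => ht ?_
    change t ∈ qC
    rw [Ideal.mem_iff_of_associated hassoc.symm]
    exact Ideal.mem_map_of_mem (algebraMap (A ⧸ I) (B ⧸ J)) hmem
  · have hstd' : Algebra.IsStandardSmoothOfRelativeDimension (r - 1) k
        (Localization.Away (fbar * (IsLocalization.Away.sec fbar t).1)) :=
      Algebra.IsStandardSmoothOfRelativeDimension.of_algEquiv (r - 1) (e.restrictScalars k).symm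
    rw [HasRingHomProperty.Spec_iff (P := @SmoothOfRelativeDimension (r - 1))]
    exact RingHom.locally_of RingHom.isStandardSmoothOfRelativeDimension_respectsIso _
      ((RingHom.isStandardSmoothOfRelativeDimension_algebraMap (r - 1)).mpr hstd')


theorem affine_bertini (k : Type u) [Field k] (n r : ℕ) (A : Type u) [CommRing A]
    [Algebra k A] (x : Fin n → A)
    (hx : Function.Surjective (MvPolynomial.aeval x : MvPolynomial (Fin n) k →ₐ[k] A))
    (hdim : ∀ P ∈ minimalPrimes A, ringKrullDim (A ⧸ P) = r) :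
    ∃ g : MvPolynomial (Fin (n + 1)) k, g ≠ 0 ∧
      ∀ a : Fin (n + 1) → k, MvPolynomial.eval a g ≠ 0 →
        ∀ (q : Ideal (A ⧸ Ideal.span {algebraMap k A (a 0) + ∑ i : Fin n, algebraMap k A (a i.succ) * x i}))
          (_ : q.IsPrime),
          (∃ f : A, f ∉ q.comap (Ideal.Quotient.mk _) ∧
            Smooth (Spec.map (CommRingCat.ofHom (algebraMap k (Localization.Away f))))) →
          ∃ f : A ⧸ Ideal.span {algebraMap k A (a 0) + ∑ i : Fin n, algebraMap k A (a i.succ) * x i},
            f ∉ q ∧ SmoothOfRelativeDimension (r - 1)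
              (Spec.map (CommRingCat.ofHom (algebraMap k (Localization.Away f)))) := by
  haveI : Algebra.FiniteType k A :=
    Algebra.FiniteType.of_surjective (MvPolynomial.aeval x) hx
  haveI := Groth.Agent.Lib.Helper25.SmoothLocalDim.finitePresentation k A
  obtain ⟨F, hFsm, hFcov⟩ := exists_finset_cover_smoothLocus k A
  have key : ∀ f : A, ∃ g : MvPolynomial (Fin (n + 1)) k, g ≠ 0 ∧
      (Algebra.Smooth k (Localization.Away f) → ∀ c : Fin (n + 1) → k,
        MvPolynomial.eval c g ≠ 0 →
        ∃ D : Derivation k (Localization.Away f) (Localization.Away f),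
          D (algebraMap A (Localization.Away f) (ell x c)) - 1 ∈
            Ideal.span {algebraMap A (Localization.Away f) (ell x c)}) := by
    intro f
    by_cases h : Algebra.Smooth k (Localization.Away f)
    · obtain ⟨g, hg0, hg⟩ := exists_poly_derivation x hx f (Localization.Away f)
      exact ⟨g, hg0, fun _ => hg⟩
    · exact ⟨1, one_ne_zero, fun h' => absurd h' h⟩
  choose G hG0 hG using key
  refine ⟨∏ f ∈ F, G f, Finset.prod_ne_zero_iff.mpr (fun f _ => hG0 f), fun a ha q hq hsm => ?_⟩
  rw [map_prod, Finset.prod_ne_zero_iff] at ha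
  obtain ⟨f₁, hf₁q, hf₁sm⟩ := hsm
  have hq'S : (⟨q.comap (Ideal.Quotient.mk _), inferInstance⟩ : PrimeSpectrum A) ∈
      Algebra.smoothLocus k A := by
    have hsm1 : Algebra.Smooth k (Localization.Away f₁) := by
      rw [HasRingHomProperty.Spec_iff (P := @Smooth)] at hf₁sm
      exact RingHom.smooth_algebraMap.mp hf₁sm
    exact (Algebra.basicOpen_subset_smoothLocus_iff_smooth.mpr hsm1) hf₁q
  obtain ⟨f, hfF, hfq⟩ := hFcov _ hq'S
  haveI hBsm : Algebra.Smooth k (Localization.Away f) := hFsm f hfF
  obtain ⟨D, hD⟩ := hG f hBsm a (ha f hfF)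
  exact affine_bertini_aux k r A
    (fun f' _ 𝔓 => rankAtStalk_away_eq_of_equidim k A r hdim f' 𝔓) (ell x a) f D hD
    (Ideal.span {algebraMap k A (a 0) + ∑ i : Fin n, algebraMap k A (a i.succ) * x i}) rfl q hfq

end Groth.Agent.Lib.Helper25.BertiniJets
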