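import Mathlib

set_option autoImplicit false
universe u

open CategoryTheory CategoryTheory.Limits AlgebraicGeometry TopologicalSpace IsLocalRing

namespace Groth.Agent.Lib.Helper25.BiratVal

theorem bijective_stalkSpecializes_of_eq {Y : Scheme.{u}} {a b : Y} (e : a = b) :
    Function.Bijective (Y.presheaf.stalkSpecializes (specializes_of_eq e)) := by
  subst e
  have : Y.presheaf.stalkSpecializes (specializes_of_eq (rfl : a = a)) = 𝟙 _ :=
    TopCat.Presheaf.stalkSpecializes_refl _ _
  rw [this]
  exact Function.bijective_id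

theorem exists_point_bijective_stalkMap {X Y : Scheme.{u}} (f : X ⟶ Y) [IsProper f]
    [IsIntegral X] [IsIntegral Y]
    (hξ : f (genericPoint X) = genericPoint Y)
    (hbir : Function.Bijective (f.stalkMap (genericPoint X)))
    (y : Y) [ValuationRing (Y.presheaf.stalk y)] :
    ∃ x : X, f x = y ∧ Function.Bijective (f.stalkMap x) := by
  -- the iso of function fields
  let α : Y.presheaf.stalk (genericPoint Y) ⟶ Y.presheaf.stalk (f (genericPoint X)) :=
    Y.presheaf.stalkSpecializes (specializes_of_eq hξ)
  let β : Y.presheaf.stalk (genericPoint Y) ⟶ X.presheaf.stalk (genericPoint X) :=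
    α ≫ f.stalkMap (genericPoint X)
  have hβ : IsIso β := by
    rw [ConcreteCategory.isIso_iff_bijective]
    exact hbir.comp (bijective_stalkSpecializes_of_eq hξ)
  let θ : X.presheaf.stalk (genericPoint X) ⟶ Y.presheaf.stalk (genericPoint Y) := inv β
  let i₁ : Spec (.of Y.functionField) ⟶ X := Spec.map θ ≫ X.fromSpecStalk (genericPoint X)
  let i₂ : Spec (.of (Y.presheaf.stalk y)) ⟶ Y := Y.fromSpecStalk y
  have hy_gen : genericPoint Y ⤳ y := (genericPoint_spec Y).specializes trivial
  have halg : CommRingCat.ofHom (algebraMap (Y.presheaf.stalk y) Y.functionField) =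
      Y.presheaf.stalkSpecializes hy_gen := rfl
  have hsq : CommSq i₁ (Spec.map (CommRingCat.ofHom
      (algebraMap (Y.presheaf.stalk y) Y.functionField))) f i₂ := by
    constructor
    rw [halg, Scheme.SpecMap_stalkSpecializes_fromSpecStalk]
    show (Spec.map θ ≫ X.fromSpecStalk (genericPoint X)) ≫ f = _
    rw [Category.assoc, ← Scheme.SpecMap_stalkMap_fromSpecStalk,
      ← Scheme.SpecMap_stalkSpecializes_fromSpecStalk (specializes_of_eq hξ),
      ← Spec.map_comp_assoc, ← Spec.map_comp_assoc]
    have : Y.presheaf.stalkSpecializes (specializes_of_eq hξ) ≫ f.stalkMap (genericPoint X) ≫ θ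
        = 𝟙 _ := by
      rw [← Category.assoc]
      exact IsIso.hom_inv_id β
    rw [this, Spec.map_id, Category.id_comp]
  let S : ValuativeCommSq f :=
    { R := Y.presheaf.stalk y
      K := Y.functionField
      i₁ := i₁
      i₂ := i₂
      commSq := hsq }
  have hex : ValuativeCriterion.Existence f := by
    have h : UniversallyClosed f := inferInstance
    rw [UniversallyClosed.eq_valuativeCriterion] at h
    exact h.1
  obtain ⟨⟨ℓ, hℓ1, hℓ2⟩⟩ := (hex S).exists_lift
  change Spec.map (CommRingCat.ofHom (algebraMap (Y.presheaf.stalk y) Y.functionField)) ≫ ℓ = i₁ at hℓ1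
  change ℓ ≫ f = i₂ at hℓ2
  set x := ℓ (closedPoint (Y.presheaf.stalk y)) with hx
  have hfx : f x = y := by
    have := congrArg (fun g : Spec (Y.presheaf.stalk y) ⟶ Y => g (closedPoint (Y.presheaf.stalk y))) hℓ2
    simpa [i₂, Scheme.fromSpecStalk_closedPoint] using this
  let φ : X.presheaf.stalk x ⟶ Y.presheaf.stalk y := Scheme.stalkClosedPointTo ℓ
  have hφ : Spec.map φ ≫ X.fromSpecStalk x = ℓ := Scheme.Spec_stalkClosedPointTo_fromSpecStalk ℓ
  -- (1)
  have h1 : f.stalkMap x ≫ φ = Y.presheaf.stalkSpecializes (specializes_of_eq hfx.symm) := by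
    apply Spec.map_injective
    rw [← cancel_mono (Y.fromSpecStalk (f x)), Scheme.SpecMap_stalkSpecializes_fromSpecStalk,
      Spec.map_comp, Category.assoc, Scheme.SpecMap_stalkMap_fromSpecStalk, ← Category.assoc, hφ, hℓ2]
  -- (2)
  have hx_gen : genericPoint X ⤳ x := (genericPoint_spec X).specializes trivial
  have h2 : φ ≫ Y.presheaf.stalkSpecializes hy_gen = X.presheaf.stalkSpecializes hx_gen ≫ θ := by
    apply Spec.map_injective
    rw [← cancel_mono (X.fromSpecStalk x), Spec.map_comp, Category.assoc, hφ, ← halg, hℓ1,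
      Spec.map_comp, Category.assoc, Scheme.SpecMap_stalkSpecializes_fromSpecStalk]
  have hφinj : Function.Injective φ := by
    have hinj : Function.Injective (X.presheaf.stalkSpecializes hx_gen ≫ θ) := by
      have hθ : Function.Injective θ :=
        ((ConcreteCategory.isIso_iff_bijective θ).mp inferInstance).1
      have : Function.Injective (X.presheaf.stalkSpecializes hx_gen) :=
        IsFractionRing.injective (X.presheaf.stalk x) X.functionField
      intro a b hab
      rw [ConcreteCategory.comp_apply, ConcreteCategory.comp_apply] at hab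
      exact this (hθ hab)
    rw [← h2] at hinj
    intro a b hab
    apply hinj
    rw [ConcreteCategory.comp_apply, ConcreteCategory.comp_apply, hab]
  have h3 : Function.Bijective (f.stalkMap x ≫ φ) := by
    rw [h1]; exact bijective_stalkSpecializes_of_eq hfx.symm
  have hφbij : Function.Bijective φ := by
    refine ⟨hφinj, fun r => ?_⟩
    obtain ⟨s, hs⟩ := h3.2 r
    rw [ConcreteCategory.comp_apply] at hs
    exact ⟨_, hs⟩
  refine ⟨x, hfx, ?_, ?_⟩
  · intro a b hab
    apply h3.1
    rw [ConcreteCategory.comp_apply, ConcreteCategory.comp_apply, hab]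
  · intro r
    obtain ⟨s, hs⟩ := h3.2 (φ r)
    rw [ConcreteCategory.comp_apply] at hs
    exact ⟨s, hφinj hs⟩

end Groth.Agent.Lib.Helper25.BiratVal
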