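import Groth.Agent.Lib.Helper25.BlowUpGlue

/-!
# Morphisms to an affine scheme with effective Cartier inverse image ideal
-/

set_option autoImplicit false
universe u
open CategoryTheory CategoryTheory.Limits AlgebraicGeometry TopologicalSpace

namespace Groth.Agent.Lib.Helper25.BlowUpUP

variable {A : Type u} [CommRing A] {Y : Scheme.{u}}

/-- The ring map `A → Γ(Y, V)` induced by a morphism `g : Y ⟶ Spec A`. -/
noncomputable def phi (g : Y ⟶ Spec (CommRingCat.of A)) (V : Y.Opens) : A →+* Γ(Y, V) :=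
  (g.appLE ⊤ V le_top).hom.comp (Scheme.ΓSpecIso (CommRingCat.of A)).inv.hom

theorem SpecMap_phi (g : Y ⟶ Spec (CommRingCat.of A)) {V : Y.Opens} (hV : IsAffineOpen V) :
    Spec.map (CommRingCat.ofHom (phi g V)) = hV.fromSpec ≫ g := by
  have h := IsAffineOpen.SpecMap_appLE_fromSpec g (isAffineOpen_top (Spec (CommRingCat.of A))) hV
    le_top
  rw [IsAffineOpen.fromSpec_top, Scheme.isoSpec_Spec_inv, ← Spec.map_comp] at h
  exact h

theorem specIdeal_comap_ideal (I : Ideal A) (g : Y ⟶ Spec (CommRingCat.of A))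
    (V : Y.affineOpens) :
    ((specIdeal I).comap g).ideal V = I.map (phi g V.1) := by
  rw [Groth.Agent.Lib.Helper1.ideal_comap _ g V ⟨⊤, isAffineOpen_top _⟩ le_top]
  rw [Scheme.IdealSheafData.ofIdealTop_ideal, Ideal.map_map, Ideal.map_map]
  congr 1

theorem mem_basicOpen_iff_notMem_primeIdealOf {V : Y.Opens} (hV : IsAffineOpen V) (y : Y)
    (hy : y ∈ V) (c : Γ(Y, V)) :
    y ∈ Y.basicOpen c ↔ c ∉ (hV.primeIdealOf ⟨y, hy⟩).asIdeal := by
  have h1 : hV.fromSpec (hV.primeIdealOf ⟨y, hy⟩) = y := hV.fromSpec_primeIdealOf ⟨y, hy⟩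
  have h2 := hV.fromSpec_preimage_basicOpen c
  constructor
  · intro h
    have : hV.primeIdealOf ⟨y, hy⟩ ∈ hV.fromSpec ⁻¹ᵁ Y.basicOpen c := by
      change hV.fromSpec (hV.primeIdealOf ⟨y, hy⟩) ∈ Y.basicOpen c
      rw [h1]; exact h
    rw [h2] at this
    exact this
  · intro h
    have : hV.primeIdealOf ⟨y, hy⟩ ∈ hV.fromSpec ⁻¹ᵁ Y.basicOpen c := by
      rw [h2]; exact h
    have h3 : hV.fromSpec (hV.primeIdealOf ⟨y, hy⟩) ∈ Y.basicOpen c := this
    rw [h1] at h3
    exact h3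

theorem phi_res (g : Y ⟶ Spec (CommRingCat.of A)) {V V' : Y.Opens} (h : V' ≤ V) (x : A) :
    (Y.presheaf.map (homOfLE h).op).hom (phi g V x) = phi g V' x := by
  have := Scheme.Hom.appLE_map g (U := ⊤) (V := V) (V' := V') le_top (homOfLE h).op
  have h2 := congrArg (fun (t : Γ(Spec (CommRingCat.of A), ⊤) ⟶ Γ(Y, V')) =>
    t.hom ((Scheme.ΓSpecIso (CommRingCat.of A)).inv.hom x)) this
  exact h2

/-- (P5a) Near any point, the inverse image of `I` under a morphism to `Spec A` with effective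
Cartier inverse image ideal is generated by the image of a single element of `I`, which is a
nonzerodivisor. -/
theorem exists_affine_generator (I : Ideal A) (g : Y ⟶ Spec (CommRingCat.of A))
    (hg : BlowUp.IsEffCartierIdeal ((specIdeal I).comap g)) (y : Y) (W : Y.Opens) (hyW : y ∈ W) :
    ∃ V : Y.affineOpens, y ∈ V.1 ∧ V.1 ≤ W ∧ ∃ a ∈ I,
      phi g V.1 a ∈ nonZeroDivisors Γ(Y, V.1) ∧ I.map (phi g V.1) = Ideal.span {phi g V.1 a} := by
  obtain ⟨V₀, t, hyV₀, hV₀W, ht, hIt⟩ := exists_affine_principal_le _ hg y W hyW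
  rw [specIdeal_comap_ideal] at hIt
  set 𝔭 := (V₀.2.primeIdealOf ⟨y, hyV₀⟩).asIdeal with h𝔭
  -- find a generator near `y`
  have hex : ∃ a ∈ I, ∃ c, phi g V₀.1 a = c * t ∧ c ∉ 𝔭 := by
    by_contra hcon
    push Not at hcon
    have hle : I.map (phi g V₀.1) ≤ 𝔭 * Ideal.span {t} := by
      rw [Ideal.map_le_iff_le_comap]
      intro x hx
      rw [Ideal.mem_comap]
      have hx1 : phi g V₀.1 x ∈ Ideal.span {t} := hIt ▸ Ideal.mem_map_of_mem _ hx
      obtain ⟨c, hc⟩ := Ideal.mem_span_singleton'.1 hx1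
      rw [← hc]
      exact Ideal.mul_mem_mul (hcon x hx c hc.symm) (Ideal.mem_span_singleton_self t)
    have htm : t ∈ 𝔭 * Ideal.span {t} := hle (hIt ▸ Ideal.mem_span_singleton_self t)
    obtain ⟨z, hz, hzt⟩ := Ideal.mem_mul_span_singleton.1 htm
    have hz1 : z = 1 := by
      have : (z - 1) * t = 0 := by rw [sub_mul, hzt, one_mul, sub_self]
      exact sub_eq_zero.1 ((mem_nonZeroDivisors_iff_right.1 ht) _ this)
    rw [hz1] at hz
    exact (V₀.2.primeIdealOf ⟨y, hyV₀⟩).isPrime.ne_top ((Ideal.eq_top_iff_one _).2 hz)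
  obtain ⟨a, haI, c, hac, hc𝔭⟩ := hex
  have hyc : y ∈ Y.basicOpen c := (mem_basicOpen_iff_notMem_primeIdealOf V₀.2 y hyV₀ c).2 hc𝔭
  have hle : Y.basicOpen c ≤ V₀.1 := Y.basicOpen_le c
  refine ⟨Y.affineBasicOpen c, hyc, hle.trans hV₀W, a, haI, ?_⟩
  have hres : phi g (Y.basicOpen c) a =
      (Y.presheaf.map (homOfLE hle).op).hom c * (Y.presheaf.map (homOfLE hle).op).hom t := by
    rw [← phi_res g hle a, hac, map_mul]
  have hunit : IsUnit ((Y.presheaf.map (homOfLE hle).op).hom c) :=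
    Y.toRingedSpace.isUnit_res_basicOpen c
  have htnzd : (Y.presheaf.map (homOfLE hle).op).hom t ∈ nonZeroDivisors Γ(Y, Y.basicOpen c) :=
    res_basicOpen_mem_nonZeroDivisors V₀.2 c t ht
  have hideal : I.map (phi g (Y.basicOpen c)) =
      Ideal.span {(Y.presheaf.map (homOfLE hle).op).hom t} := by
    have h1 : I.map (phi g (Y.basicOpen c)) =
        (I.map (phi g V₀.1)).map (Y.presheaf.map (homOfLE hle).op).hom := by
      rw [Ideal.map_map]
      congr 1
      ext x
      exact (phi_res g hle x).symm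
    rw [h1, hIt, Ideal.map_span, Set.image_singleton]
  constructor
  · change phi g (Y.basicOpen c) a ∈ _
    rw [hres]
    exact Submonoid.mul_mem _ hunit.mem_nonZeroDivisors htnzd
  · change I.map (phi g (Y.basicOpen c)) = Ideal.span {phi g (Y.basicOpen c) a}
    rw [hideal, hres]
    obtain ⟨u, hu⟩ := hunit
    rw [← hu, Ideal.span_singleton_mul_left_unit u.isUnit]

theorem hom_ext_of_forall_fromSpec {Y P : Scheme.{u}} (h h' : Y ⟶ P)
    (H : ∀ y : Y, ∃ V : Y.Opens, ∃ hV : IsAffineOpen V, y ∈ V ∧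
      hV.fromSpec ≫ h = hV.fromSpec ≫ h') : h = h' := by
  choose V hV hyV heq using H
  have hcov : IsOpenCover V := by
    rw [IsOpenCover, eq_top_iff]
    intro y _
    exact Opens.mem_iSup.mpr ⟨y, hyV y⟩
  refine Scheme.Cover.hom_ext (Y.openCoverOfIsOpenCover V hcov) _ _ fun y => ?_
  change (V y).ι ≫ h = (V y).ι ≫ h'
  rw [← (hV y).isoSpec_hom_fromSpec, Category.assoc, Category.assoc, heq y]

end Groth.Agent.Lib.Helper25.BlowUpUP
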