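import Groth.Agent.Lib.Helper25.BlowUpChart
import Groth.Agent.Lib.Helper12.QuasiReg2
import Groth.Prelude.Def_Mor2

/-!
# The exceptional divisor of the blowing up along a regular closed immersion is smooth over the centre
-/

set_option autoImplicit false
universe u
open CategoryTheory CategoryTheory.Limits AlgebraicGeometry TopologicalSpace

namespace Groth.Agent.Lib.Helper25.ExcSmooth

open Groth.Agent.Lib.Helper25.BlowUpChart Groth.Agent.Lib.Helper25.RegChart

theorem appLE_congr_hom {X Y : Scheme.{u}} {f f' : X ⟶ Y} (h : f = f') (U : Y.Opens) (V : X.Opens)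
    (e : V ≤ f ⁻¹ᵁ U) : f.appLE U V e = f'.appLE U V (h ▸ e) := by
  subst h; rfl

theorem smoothRingHom_stable :
    RingHom.StableUnderCompositionWithLocalizationAwaySource RingHom.Smooth := by
  intro R S T _ _ _ _ r _ f hf
  exact RingHom.Smooth.comp (RingHom.Smooth.holdsForLocalizationAway S r) hf

/-- **The exceptional divisor of the blowing up along a regular closed immersion is smooth over the
centre.** -/
theorem smooth_exceptional {X X' Y : Scheme.{u}} (i : Y ⟶ X) (hi : Mor2.IsRegularClosedImmersion i)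
    (b : X' ⟶ X) (hb : BlowUp.IsBlowUp b i.ker) (g : (BlowUp.exceptional b i.ker).subscheme ⟶ Y)
    (hg : g ≫ i = (BlowUp.exceptional b i.ker).subschemeι ≫ b) : Smooth g := by
  haveI : IsClosedImmersion i := hi.1
  rw [HasRingHomProperty.iff_exists_appLE (P := @Smooth) smoothRingHom_stable]
  intro e
  obtain ⟨U, hU, hiU, rs, hrs, hker⟩ := hi.2 (g e)
  have hx' : (BlowUp.exceptional b i.ker).subschemeι e ∈ b ⁻¹ᵁ U := by
    change b ((BlowUp.exceptional b i.ker).subschemeι e) ∈ U
    have : b ((BlowUp.exceptional b i.ker).subschemeι e) = i (g e) := by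
      rw [← Scheme.Hom.comp_apply, ← Scheme.Hom.comp_apply, hg]
    rw [this]; exact hiU
  -- the regular sequence as a function
  let f : Fin rs.length → Γ(X, U) := fun j => rs.get j
  have hf : List.ofFn f = rs := List.ofFn_get rs
  have hspan : Ideal.span (Set.range f) = i.ker.ideal ⟨U, hU⟩ := by
    rw [hker]
    exact (Groth.Agent.Lib.Helper12.QR.ofList_ofFn f).symm.trans (congrArg Ideal.ofList hf)
  have hq : CAlgX.IsQuasiRegular f :=
    Groth.Agent.Lib.Helper12.QR.isQuasiRegular_of_isWeaklyRegular _ f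
      (hf.symm ▸ hrs.toIsWeaklyRegular)
  obtain ⟨a, ⟨k, hk⟩, V, hV, hVU, hxV, hchart⟩ :=
    exists_chart i.ker b hb U hU (Set.range f) hspan _ hx'
  have hUY : IsAffineOpen (i ⁻¹ᵁ U) := hU.preimage i
  have hW : IsAffineOpen ((BlowUp.exceptional b i.ker).subschemeι ⁻¹ᵁ V) :=
    hV.preimage (BlowUp.exceptional b i.ker).subschemeι
  have hWU : (BlowUp.exceptional b i.ker).subschemeι ⁻¹ᵁ V ≤ g ⁻¹ᵁ (i ⁻¹ᵁ U) := by
    intro w hw
    change i (g w) ∈ U
    have : i (g w) = b ((BlowUp.exceptional b i.ker).subschemeι w) := by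
      rw [← Scheme.Hom.comp_apply, ← Scheme.Hom.comp_apply, hg]
    rw [this]
    exact hVU hw
  refine ⟨⟨i ⁻¹ᵁ U, hUY⟩, ⟨(BlowUp.exceptional b i.ker).subschemeι ⁻¹ᵁ V, hW⟩, hxV, hWU, ?_⟩
  refine IsChart.smooth f k hk hchart hspan.symm hq (i.app U).hom
    ((BlowUp.exceptional b i.ker).subschemeι.app V).hom _
    (i.app_surjective U hU) ((BlowUp.exceptional b i.ker).subschemeι.app_surjective V hV) ?_ ?_ ?_
  · exact (Scheme.Hom.ker_apply i ⟨U, hU⟩).symm
  · rw [← Scheme.Hom.ker_apply (BlowUp.exceptional b i.ker).subschemeι ⟨V, hV⟩,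
      Scheme.IdealSheafData.ker_subschemeι]
    exact Groth.Agent.Lib.Helper1.ideal_comap i.ker b ⟨V, hV⟩ ⟨U, hU⟩ hVU
  · have h1 : i.app U ≫ g.appLE (i ⁻¹ᵁ U) _ hWU =
        b.appLE U V hVU ≫ (BlowUp.exceptional b i.ker).subschemeι.app V := by
      rw [Scheme.Hom.app_eq_appLE, Scheme.Hom.app_eq_appLE, Scheme.Hom.appLE_comp_appLE,
        Scheme.Hom.appLE_comp_appLE]
      exact appLE_congr_hom hg _ _ _
    exact congrArg CommRingCat.Hom.hom h1

end Groth.Agent.Lib.Helper25.ExcSmooth
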