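import Groth.Agent.Lib.Helper25.BlowUpRegular
import Groth.Agent.Lib.Helper8.CMQ1
import Groth.Agent.Lib.Helper23.SyntF1
import Groth.Agent.Lib.Helper9.SmoothSerre2
import Groth.Agent.S18944

/-!
# The blowing up of a Cohen–Macaulay scheme along a regular ideal is Cohen–Macaulay
-/

set_option autoImplicit false
universe u
open CategoryTheory CategoryTheory.Limits AlgebraicGeometry TopologicalSpace IsLocalRing Pointwise

namespace Groth.Agent.Lib.Helper25.BlowUpCM

open Groth.Agent.Lib.Helper25.BlowUpUP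

/-- A Noetherian local ring is Cohen–Macaulay as soon as its quotient by a regular element of the
maximal ideal is. -/
theorem cm_of_quot {T : Type u} [CommRing T] [IsNoetherianRing T] [IsLocalRing T] (x : T)
    (hx : x ∈ maximalIdeal T) (hreg : IsSMulRegular T x)
    (h : LocCoh.IsCohenMacaulayLocalRing (T ⧸ Ideal.span {x})) :
    LocCoh.IsCohenMacaulayLocalRing T := by
  refine { supportDim_eq_depth := ?_ }
  rw [Module.supportDim_self_eq_ringKrullDim]
  have h1 := h.supportDim_eq_depth
  rw [Module.supportDim_self_eq_ringKrullDim] at h1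
  have h2 := ringKrullDim_quotient_span_singleton_succ_eq_ringKrullDim hreg hx
  have h3 := Groth.Agent.Lib.Helper18.CM.depth_quotSMulTop T hx hreg
  have hspan : Ideal.span {x} = x • (⊤ : Ideal T) := by
    simp [← Submodule.ideal_span_singleton_smul]
  let e : QuotSMulTop x T ≃ₗ[T] T ⧸ Ideal.span {x} :=
    Submodule.quotEquivOfEq _ _ hspan.symm
  have h4 : LocCoh.depth T (QuotSMulTop x T) = LocCoh.depth T (T ⧸ Ideal.span {x}) :=
    Groth.Agent.Lib.Helper18.CM.depth_congr e
  haveI : IsLocalHom (algebraMap T (T ⧸ Ideal.span {x})) :=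
    IsLocalHom.of_surjective _ Ideal.Quotient.mk_surjective
  have h5 : LocCoh.depth T (T ⧸ Ideal.span {x}) =
      LocCoh.depth (T ⧸ Ideal.span {x}) (T ⧸ Ideal.span {x}) :=
    Groth.Agent.Lib.Helper18.CM.depth_eq_of_finite (A := T) (B := T ⧸ Ideal.span {x})
      (T ⧸ Ideal.span {x})
  rw [← h2, h1, ← h3, h4, h5]
  push_cast
  rfl


theorem withBot_cancel {a : WithBot ℕ∞} {b d : ℕ∞} (hd : d ≠ ⊤)
    (h : a + (d : WithBot ℕ∞) = (d : WithBot ℕ∞) + (b : WithBot ℕ∞)) : a = (b : WithBot ℕ∞) := by
  induction a using WithBot.recBotCoe with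
  | bot =>
    rw [WithBot.bot_add] at h
    exact absurd h WithBot.bot_ne_coe
  | coe a =>
    have h' : ((a + d : ℕ∞) : WithBot ℕ∞) = ((d + b : ℕ∞) : WithBot ℕ∞) := h
    rw [WithBot.coe_inj, add_comm d b] at h'
    rw [WithBot.coe_inj]
    exact ENat.add_left_injective_of_ne_top hd h'

/-- The local rings of a scheme smooth over a Cohen–Macaulay base are Cohen–Macaulay. -/
theorem cm_stalk_of_smooth {X Y : Scheme.{u}} [IsLocallyNoetherian Y] (g : X ⟶ Y) [Smooth g]
    (x : X) (hY : LocCoh.IsCohenMacaulayLocalRing (Y.presheaf.stalk (g x))) :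
    LocCoh.IsCohenMacaulayLocalRing (X.presheaf.stalk x) := by
  haveI : IsLocallyNoetherian X := LocallyOfFiniteType.isLocallyNoetherian g
  have hx : ∃ U : X.Opens, x ∈ U ∧ Smooth (U.ι ≫ g) := ⟨⊤, trivial, inferInstance⟩
  have h1 := Groth.Agent.Lib.Helper9.SmoothSerre.codepth_stalk g x hx
  have h2 := hY.supportDim_eq_depth
  rw [Module.supportDim_self_eq_ringKrullDim] at h2
  refine { supportDim_eq_depth := ?_ }
  rw [Module.supportDim_self_eq_ringKrullDim]
  have hd : LocCoh.depth (Y.presheaf.stalk (g x)) (Y.presheaf.stalk (g x)) ≠ ⊤ :=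
    Groth.Agent.Lib.Helper18.CM.depth_ne_top _
  change ringKrullDim (X.presheaf.stalk x) + _ = ringKrullDim (Y.presheaf.stalk (g x)) + _ at h1
  rw [h2] at h1
  exact withBot_cancel hd h1


/-- The closed immersion defined by a regular ideal is a regular immersion. -/
theorem isRegularImmersion_subschemeι {W : Scheme.{u}} (I : W.IdealSheafData)
    (hI : RegImm.IsRegularIdeal RegImm.Kind.regular I) :
    RegImm.IsRegularImmersion RegImm.Kind.regular I.subschemeι := by
  refine ⟨inferInstance, fun z => ?_⟩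
  have hz : I.subschemeι z ∈ I.support := by
    rw [← SetLike.mem_coe, ← Scheme.IdealSheafData.range_subschemeι]
    exact ⟨z, rfl⟩
  obtain ⟨U, hzU, rs, hrs, hU⟩ := hI _ hz
  refine ⟨U, hzU, inferInstance, rs, hrs, ?_⟩
  rw [← Scheme.Hom.ker_apply I.subschemeι U, Scheme.IdealSheafData.ker_subschemeι]
  exact hU

/-- The closed immersion defined by a regular ideal is a regular closed immersion. -/
theorem isRegularClosedImmersion_subschemeι {W : Scheme.{u}} (I : W.IdealSheafData)
    (hI : RegImm.IsRegularIdeal RegImm.Kind.regular I) :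
    Mor2.IsRegularClosedImmersion I.subschemeι := by
  refine ⟨inferInstance, fun z => ?_⟩
  have hz : I.subschemeι z ∈ I.support := by
    rw [← SetLike.mem_coe, ← Scheme.IdealSheafData.range_subschemeι]
    exact ⟨z, rfl⟩
  obtain ⟨U, hzU, rs, hrs, hU⟩ := hI _ hz
  refine ⟨U.1, U.2, hzU, rs, hrs, ?_⟩
  rw [Scheme.IdealSheafData.ker_subschemeι]
  exact hU

/-- The closed subscheme of a Cohen–Macaulay scheme cut out by a regular ideal is
Cohen–Macaulay. -/
theorem cm_stalk_subscheme {W : Scheme.{u}} (I : W.IdealSheafData)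
    (hI : RegImm.IsRegularIdeal RegImm.Kind.regular I) (v : I.subscheme)
    (hW : LocCoh.IsCohenMacaulayLocalRing (W.presheaf.stalk (I.subschemeι v))) :
    LocCoh.IsCohenMacaulayLocalRing (I.subscheme.presheaf.stalk v) := by
  obtain ⟨rs, hrs, hker⟩ :=
    Groth.Agent.S18944.result I.subschemeι (isRegularImmersion_subschemeι I hI) v
  haveI : IsLocalRing (W.presheaf.stalk (I.subschemeι v)) := inferInstance
  have hsurj : Function.Surjective (I.subschemeι.stalkMap v).hom :=
    I.subschemeι.stalkMap_surjective v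
  have hmem : ∀ x ∈ rs, x ∈ maximalIdeal (W.presheaf.stalk (I.subschemeι v)) := by
    intro x hx
    have hxk : x ∈ RingHom.ker (I.subschemeι.stalkMap v).hom := by
      rw [hker]; exact Ideal.subset_span hx
    rw [mem_maximalIdeal, mem_nonunits_iff]
    intro hu
    have := hu.map (I.subschemeι.stalkMap v).hom
    rw [RingHom.mem_ker.mp hxk] at this
    exact not_isUnit_zero this
  have h1 := Groth.Agent.Lib.Helper23.SyntF.cm_quot_ofList hW rs hmem hrs.toIsWeaklyRegular
  have e : (W.presheaf.stalk (I.subschemeι v) ⧸ Ideal.ofList rs) ≃+*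
      I.subscheme.presheaf.stalk v :=
    (Ideal.quotEquivOfEq hker.symm).trans (RingHom.quotientKerEquivOfSurjective hsurj)
  haveI := h1
  exact Groth.Agent.Lib.Helper18.FibQuot.isCohenMacaulayLocalRing_of_ringEquiv e


/-- A locally Noetherian scheme is Cohen–Macaulay along a Cohen–Macaulay effective Cartier
divisor. -/
theorem cm_stalk_of_effCartier {X' : Scheme.{u}} [IsLocallyNoetherian X']
    (𝓙 : X'.IdealSheafData) (h𝓙 : BlowUp.IsEffCartierIdeal 𝓙) (e : 𝓙.subscheme)
    (hE : LocCoh.IsCohenMacaulayLocalRing (𝓙.subscheme.presheaf.stalk e)) :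
    LocCoh.IsCohenMacaulayLocalRing (X'.presheaf.stalk (𝓙.subschemeι e)) := by
  obtain ⟨h, hnzd, hmax, ⟨φ⟩⟩ := Groth.Agent.Lib.Helper10.RelCartier.exists_stalk_equiv 𝓙 h𝓙 e
  have hq : LocCoh.IsCohenMacaulayLocalRing
      (X'.presheaf.stalk (𝓙.subschemeι e) ⧸ Ideal.span {h}) := by
    haveI := hE
    exact Groth.Agent.Lib.Helper18.FibQuot.isCohenMacaulayLocalRing_of_ringEquiv φ.symm
  exact cm_of_quot h hmax (Module.Flat.isSMulRegular_of_nonZeroDivisors hnzd) hq

/-- **The blowing up of a Cohen–Macaulay scheme along a regular ideal is Cohen–Macaulay.** -/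
theorem cm_stalk_blowUp {W T : Scheme.{u}} [IsLocallyNoetherian W]
    (hcm : ∀ w : W, LocCoh.IsCohenMacaulayLocalRing (W.presheaf.stalk w))
    (I : W.IdealSheafData) (hI : RegImm.IsRegularIdeal RegImm.Kind.regular I)
    (π : T ⟶ W) (hπ : BlowUp.IsBlowUp π I) (t : T) :
    LocCoh.IsCohenMacaulayLocalRing (T.presheaf.stalk t) := by
  have hi := isRegularClosedImmersion_subschemeι I hI
  have hik : I.subschemeι.ker = I := I.ker_subschemeι
  rw [← hik] at hπ
  by_cases ht : π t ∈ I.subschemeι.ker.support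
  · have h𝓘 : BlowUp.IsFiniteTypeIdeal I.subschemeι.ker := by
      intro U
      haveI : IsNoetherianRing Γ(W, U.1) := IsLocallyNoetherian.component_noetherian U
      exact (isNoetherianRing_iff_ideal_fg _).1 inferInstance _
    have hproj := Groth.Agent.Lib.Helper25.ReesQC.isProjective_of_isBlowUp I.subschemeι.ker h𝓘 π hπ
    haveI hprop : IsProper π := (Groth.Agent.S4418.result π hproj).2
    haveI : IsLocallyNoetherian T := LocallyOfFiniteType.isLocallyNoetherian π
    haveI : IsLocallyNoetherian I.subscheme := LocallyOfFiniteType.isLocallyNoetherian I.subschemeι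
    have ht' : t ∈ (BlowUp.exceptional π I.subschemeι.ker).support := by
      change t ∈ (I.subschemeι.ker.comap π).support
      rw [Scheme.IdealSheafData.support_comap]
      exact ht
    rw [← SetLike.mem_coe, ← Scheme.IdealSheafData.range_subschemeι] at ht'
    obtain ⟨e, rfl⟩ := ht'
    have hle : I.subschemeι.ker ≤
        ((BlowUp.exceptional π I.subschemeι.ker).subschemeι ≫ π).ker := by
      rw [← Scheme.IdealSheafData.map_ker]
      have hk : (BlowUp.exceptional π I.subschemeι.ker).subschemeι.ker =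
          BlowUp.exceptional π I.subschemeι.ker := Scheme.IdealSheafData.ker_subschemeι _
      rw [hk]
      exact I.subschemeι.ker.le_map_comap π
    let g : (BlowUp.exceptional π I.subschemeι.ker).subscheme ⟶ I.subscheme :=
      IsClosedImmersion.lift I.subschemeι
        ((BlowUp.exceptional π I.subschemeι.ker).subschemeι ≫ π) hle
    have hg : g ≫ I.subschemeι = (BlowUp.exceptional π I.subschemeι.ker).subschemeι ≫ π :=
      IsClosedImmersion.lift_fac _ _ _
    haveI : Smooth g :=
      Groth.Agent.Lib.Helper25.ExcSmooth.smooth_exceptional I.subschemeι hi π hπ g hg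
    have hV := cm_stalk_subscheme I hI (g e) (hcm _)
    have hE := cm_stalk_of_smooth g e hV
    exact cm_stalk_of_effCartier (BlowUp.exceptional π I.subschemeι.ker) hπ.1 e hE
  · haveI hst : IsIso (π.stalkMap t) :=
      isIso_stalkMap_of_notMem_support I.subschemeι.ker π hπ t ht
    haveI := hcm (π t)
    exact Groth.Agent.Lib.Helper18.FibQuot.isCohenMacaulayLocalRing_of_ringEquiv
      (asIso (π.stalkMap t)).commRingCatIsoToRingEquiv

end Groth.Agent.Lib.Helper25.BlowUpCM
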