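import Groth.Agent.Lib.Helper25.BlowUpAffineCompl

/-!
# Closures after blowing up (local algebra on charts)
-/

set_option autoImplicit false
universe u
open CategoryTheory CategoryTheory.Limits AlgebraicGeometry TopologicalSpace

namespace Groth.Agent.Lib.Helper25.BlowUpUP

variable {X : Scheme.{u}}

/-- The prime ideal of the point `y` in the ring of sections of an affine open containing it. -/
noncomputable def primeAt (W : X.affineOpens) (y : X) (hy : y ∈ W.1) : Ideal Γ(X, W.1) :=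
  (W.2.primeIdealOf ⟨y, hy⟩).asIdeal

instance (W : X.affineOpens) (y : X) (hy : y ∈ W.1) : (primeAt W y hy).IsPrime :=
  (W.2.primeIdealOf ⟨y, hy⟩).isPrime

theorem mem_basicOpen_iff_notMem_primeAt (W : X.affineOpens) (y : X) (hy : y ∈ W.1)
    (s : Γ(X, W.1)) : y ∈ X.basicOpen s ↔ s ∉ primeAt W y hy :=
  Groth.Agent.Lib.Helper25.BlowUpUP.mem_basicOpen_iff_notMem_primeIdealOf W.2 y hy s

theorem mem_primeAt_iff (W : X.affineOpens) (y : X) (hy : y ∈ W.1)
    (s : Γ(X, W.1)) : s ∈ primeAt W y hy ↔ y ∉ X.basicOpen s := by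
  rw [mem_basicOpen_iff_notMem_primeAt W y hy, not_not]

theorem mem_support_iff_le_primeAt (𝓚 : X.IdealSheafData) (W : X.affineOpens) (y : X)
    (hy : y ∈ W.1) : y ∈ 𝓚.support ↔ 𝓚.ideal W ≤ primeAt W y hy := by
  rw [Scheme.IdealSheafData.mem_support_iff_of_mem hy, Scheme.mem_zeroLocus_iff]
  constructor
  · intro h s hs
    rw [mem_primeAt_iff]
    exact h s hs
  · intro h s hs
    rw [← mem_primeAt_iff W y hy]
    exact h hs

theorem appLE_mem_primeAt_iff {Y : Scheme.{u}} (h : Y ⟶ X) (W' : X.affineOpens)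
    (W : Y.affineOpens) (e : W.1 ≤ h ⁻¹ᵁ W'.1) (y : Y) (hy : y ∈ W.1) (s : Γ(X, W'.1)) :
    (h.appLE W'.1 W.1 e).hom s ∈ primeAt W y hy ↔
      s ∈ primeAt W' (h y) (show h y ∈ W'.1 from e hy) := by
  rw [mem_primeAt_iff W y hy, mem_primeAt_iff W' (h y) (show h y ∈ W'.1 from e hy),
    Scheme.basicOpen_appLE]
  constructor
  · intro h1 h2
    exact h1 ⟨hy, h2⟩
  · intro h1 h2
    exact h1 h2.2

/-- Core lemma: if `t u ∈ t M + 𝓚(W)` with `u` invertible at `z` and `M` vanishing at `z`, then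
near `z` the section `t` vanishes on the support of `𝓚`. -/
theorem exists_nhd_forall_mem_support_mem_primeAt (W : X.affineOpens) (z : X) (hz : z ∈ W.1)
    (t u : Γ(X, W.1)) (hu : u ∉ primeAt W z hz)
    (M : Ideal Γ(X, W.1)) (hM : M ≤ primeAt W z hz) (𝓚 : X.IdealSheafData)
    (h : t * u ∈ Ideal.span {t} * M ⊔ 𝓚.ideal W) :
    ∃ N : X.Opens, z ∈ N ∧ N ≤ W.1 ∧ ∀ (w : X) (hwW : w ∈ W.1), w ∈ N →
      w ∈ 𝓚.support → t ∈ primeAt W w hwW := by
  obtain ⟨a, ha, κ, hκ, hsum⟩ := Submodule.mem_sup.1 h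
  obtain ⟨m, hm, rfl⟩ := Ideal.mem_span_singleton_mul.1 ha
  have hum : u - m ∉ primeAt W z hz := by
    intro hcon
    apply hu
    have := Ideal.add_mem _ hcon (hM hm)
    rwa [sub_add_cancel] at this
  refine ⟨X.basicOpen (u - m), (mem_basicOpen_iff_notMem_primeAt W z hz _).2 hum,
    X.basicOpen_le _, ?_⟩
  intro w hwW hw hwK
  have h1 : u - m ∉ primeAt W w hwW := (mem_basicOpen_iff_notMem_primeAt W w hwW _).1 hw
  have h2 : κ ∈ primeAt W w hwW := (mem_support_iff_le_primeAt 𝓚 W w hwW).1 hwK hκ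
  have h3 : t * (u - m) = κ := by rw [mul_sub, ← hsum]; ring
  rw [← h3] at h2
  exact ((Ideal.IsPrime.mem_or_mem inferInstance h2).resolve_right h1)


theorem span_singleton_le_primeAt_iff (W : X.affineOpens) (y : X) (hy : y ∈ W.1)
    (𝓛 : X.IdealSheafData) (t : Γ(X, W.1)) (hI : 𝓛.ideal W = Ideal.span {t}) :
    y ∈ 𝓛.support ↔ t ∈ primeAt W y hy := by
  rw [mem_support_iff_le_primeAt 𝓛 W y hy, hI, Ideal.span_singleton_le_iff_mem]

/-- (Q) Elements of the transporter `(𝓕 : t)` vanish on the closure of any subset of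
`supp 𝓕` on which `t` is invertible. -/
theorem mem_primeAt_of_mem_closure (W : X.affineOpens) (x : X) (hx : x ∈ W.1)
    (𝓛 𝓕 : X.IdealSheafData) (t : Γ(X, W.1)) (hI : 𝓛.ideal W = Ideal.span {t})
    (S : Set X) (hS𝓕 : S ⊆ (𝓕.support : Set X)) (hS𝓛 : Disjoint S (𝓛.support : Set X))
    (hxS : x ∈ closure S) (j : Γ(X, W.1)) (hj : t * j ∈ 𝓕.ideal W) :
    j ∈ primeAt W x hx := by
  by_contra hcon
  have hxj : x ∈ X.basicOpen j := (mem_basicOpen_iff_notMem_primeAt W x hx j).2 hcon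
  obtain ⟨y, hyj, hyS⟩ := mem_closure_iff.1 hxS _ (X.basicOpen j).2 hxj
  have hyW : y ∈ W.1 := X.basicOpen_le j hyj
  have h1 : t ∉ primeAt W y hyW := by
    rw [← span_singleton_le_primeAt_iff W y hyW 𝓛 t hI]
    exact fun h => Set.disjoint_left.1 hS𝓛 hyS h
  have h2 : t * j ∈ primeAt W y hyW :=
    (mem_support_iff_le_primeAt 𝓕 W y hyW).1 (hS𝓕 hyS) hj
  have h3 : j ∈ primeAt W y hyW := (Ideal.IsPrime.mem_or_mem inferInstance h2).resolve_left h1
  exact (mem_basicOpen_iff_notMem_primeAt W y hyW j).1 hyj h3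

/-- (P) pulling back the factorization `𝓕 = t · (𝓕 : t)`. -/
theorem exists_ideal_comap_le_span_mul {T : Scheme.{u}} (h : T ⟶ X) (W' : X.affineOpens)
    (W : T.affineOpens) (e : W.1 ≤ h ⁻¹ᵁ W'.1) (z : T) (hz : z ∈ W.1)
    (𝓛 𝓕 : X.IdealSheafData) (hle : 𝓕 ≤ 𝓛) (t : Γ(X, W'.1)) (hI : 𝓛.ideal W' = Ideal.span {t})
    (hJ : ∀ j : Γ(X, W'.1), t * j ∈ 𝓕.ideal W' →
      j ∈ primeAt W' (h z) (show h z ∈ W'.1 from e hz)) :
    ∃ M : Ideal Γ(T, W.1), M ≤ primeAt W z hz ∧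
      (𝓕.comap h).ideal W ≤ Ideal.span {(h.appLE W'.1 W.1 e).hom t} * M := by
  set θ := (h.appLE W'.1 W.1 e).hom with hθ
  set J : Ideal Γ(X, W'.1) := (𝓕.ideal W').colon {t} with hJdef
  have hJmem : ∀ j, j ∈ J ↔ t * j ∈ 𝓕.ideal W' := by
    intro j
    rw [hJdef, Submodule.mem_colon_singleton, smul_eq_mul, mul_comm]
  refine ⟨J.map θ, ?_, ?_⟩
  · rw [Ideal.map_le_iff_le_comap]
    intro j hj
    rw [Ideal.mem_comap, hθ, appLE_mem_primeAt_iff h W' W e z hz j]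
    exact hJ j ((hJmem j).1 hj)
  · rw [Groth.Agent.Lib.Helper1.ideal_comap 𝓕 h W W' e, Ideal.map_le_iff_le_comap]
    intro s hs
    rw [Ideal.mem_comap]
    have hs' : s ∈ Ideal.span {t} := by
      rw [← hI]
      exact (Scheme.IdealSheafData.le_def.1 hle W') hs
    obtain ⟨a, rfl⟩ := Ideal.mem_span_singleton'.1 hs'
    have haJ : a ∈ J := by rw [hJmem, mul_comm]; exact hs
    have h1 : θ t ∈ Ideal.span {θ t} := Ideal.mem_span_singleton_self _
    have h2 : θ a ∈ J.map θ := Ideal.mem_map_of_mem θ haJ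
    have h3 : θ (a * t) = θ t * θ a := by rw [map_mul, mul_comm]
    rw [h3]
    exact Ideal.mul_mem_mul h1 h2

end Groth.Agent.Lib.Helper25.BlowUpUP
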