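import Groth.Agent.Lib.Helper25.BlowUpProd

/-!
# Blowing up comaximal ideals: the fibre product of the blowing ups
-/

set_option autoImplicit false
universe u
open CategoryTheory CategoryTheory.Limits AlgebraicGeometry TopologicalSpace

namespace Groth.Agent.Lib.Helper25.BlowUpUP

variable {X : Scheme.{u}}

/-- If `σ₂` is an isomorphism over the open `W`, then the projection `B₁ ×_X B₂ ⟶ B₁` is an
isomorphism over `σ₁⁻¹ W`. -/
theorem isIso_morphismRestrict_pullback_fst {B₁ B₂ : Scheme.{u}} (σ₁ : B₁ ⟶ X) (σ₂ : B₂ ⟶ X)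
    (W : X.Opens) (hW : IsIso (σ₂ ∣_ W)) :
    IsIso (pullback.fst σ₁ σ₂ ∣_ (σ₁ ⁻¹ᵁ W)) := by
  have A := isPullback_morphismRestrict (pullback.fst σ₁ σ₂) (σ₁ ⁻¹ᵁ W)
  have B := IsPullback.of_hasPullback σ₁ σ₂
  have AB := A.paste_vert B
  have C := isPullback_morphismRestrict σ₂ W
  rw [← morphismRestrict_ι] at AB
  exact (IsPullback.of_bot' AB C).isIso_fst_of_isIso

/-- For comaximal ideals, the inverse image of the first one on the fibre product of the two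
blowing ups is effective Cartier. -/
theorem isEffCartierIdeal_comap_pullback_fst {B₁ B₂ : Scheme.{u}} (I₁ I₂ : X.IdealSheafData)
    (h : I₁ ⊔ I₂ = ⊤) (σ₁ : B₁ ⟶ X) (hσ₁ : BlowUp.IsBlowUp σ₁ I₁) (σ₂ : B₂ ⟶ X)
    (hσ₂ : BlowUp.IsBlowUp σ₂ I₂) :
    BlowUp.IsEffCartierIdeal (I₁.comap (pullback.fst σ₁ σ₂ ≫ σ₁)) := by
  refine isEffCartierIdeal_of_forall_openImmersion _ fun p => ?_
  set π := pullback.fst σ₁ σ₂ ≫ σ₁ with hπ
  have hcases : π p ∉ I₁.support ∨ π p ∉ I₂.support := by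
    by_contra hcon
    push Not at hcon
    have h1 : π p ∈ (I₁ ⊔ I₂).support := by
      rw [Scheme.IdealSheafData.support_sup]
      exact ⟨hcon.1, hcon.2⟩
    rw [h, Scheme.IdealSheafData.support_top] at h1
    exact h1
  rcases hcases with h1 | h2
  · refine ⟨_, (π ⁻¹ᵁ complSupport I₁).ι, inferInstance, ?_, ?_⟩
    · rw [Scheme.Opens.range_ι]; exact h1
    · rw [← Scheme.IdealSheafData.comap_comp,
        comap_eq_top_of_support I₁ ((π ⁻¹ᵁ complSupport I₁).ι ≫ π)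
          (fun y : ↥(π ⁻¹ᵁ complSupport I₁) => y.2)]
      exact isEffCartierIdeal_top
  · have hiso := isIso_morphismRestrict_pullback_fst σ₁ σ₂ (complSupport I₂)
      (isIso_restrict_compl_support I₂ σ₂ hσ₂)
    set U₁ : B₁.Opens := σ₁ ⁻¹ᵁ complSupport I₂ with hU₁
    refine ⟨_, (pullback.fst σ₁ σ₂ ⁻¹ᵁ U₁).ι, inferInstance, ?_, ?_⟩
    · rw [Scheme.Opens.range_ι]; exact h2
    · rw [← Scheme.IdealSheafData.comap_comp, hπ, ← Category.assoc, ← morphismRestrict_ι,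
        Category.assoc, Scheme.IdealSheafData.comap_comp, Scheme.IdealSheafData.comap_comp]
      exact isEffCartierIdeal_comap_of_flat _ _ (isEffCartierIdeal_comap_of_flat _ _ hσ₁.1)

theorem isEffCartierIdeal_comap_pullback_snd {B₁ B₂ : Scheme.{u}} (I₁ I₂ : X.IdealSheafData)
    (h : I₁ ⊔ I₂ = ⊤) (σ₁ : B₁ ⟶ X) (hσ₁ : BlowUp.IsBlowUp σ₁ I₁) (σ₂ : B₂ ⟶ X)
    (hσ₂ : BlowUp.IsBlowUp σ₂ I₂) :
    BlowUp.IsEffCartierIdeal (I₂.comap (pullback.fst σ₁ σ₂ ≫ σ₁)) := by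
  have h' : I₂ ⊔ I₁ = ⊤ := by rw [sup_comm]; exact h
  have h1 := isEffCartierIdeal_comap_pullback_fst I₂ I₁ h' σ₂ hσ₂ σ₁ hσ₁
  have h2 : pullback.fst σ₁ σ₂ ≫ σ₁ =
      (pullbackSymmetry σ₁ σ₂).hom ≫ pullback.fst σ₂ σ₁ ≫ σ₂ := by
    rw [pullbackSymmetry_hom_comp_fst_assoc, pullback.condition]
  rw [h2, Scheme.IdealSheafData.comap_comp]
  exact isEffCartierIdeal_comap_of_flat _ _ h1

/-- For comaximal ideals, the fibre product of the two blowing ups is the blowing up of the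
product ideal. -/
theorem isBlowUp_pullback_of_sup_eq_top {B₁ B₂ : Scheme.{u}} (I₁ I₂ : X.IdealSheafData)
    (h : I₁ ⊔ I₂ = ⊤) (σ₁ : B₁ ⟶ X) (hσ₁ : BlowUp.IsBlowUp σ₁ I₁) (σ₂ : B₂ ⟶ X)
    (hσ₂ : BlowUp.IsBlowUp σ₂ I₂) :
    BlowUp.IsBlowUp (pullback.fst σ₁ σ₂ ≫ σ₁) (I₁ * I₂) := by
  refine ⟨?_, fun Y g hg => ?_⟩
  · rw [Groth.Agent.Lib.Helper1.comap_mul]
    exact isEffCartierIdeal_mul _ _ (isEffCartierIdeal_comap_pullback_fst I₁ I₂ h σ₁ hσ₁ σ₂ hσ₂)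
      (isEffCartierIdeal_comap_pullback_snd I₁ I₂ h σ₁ hσ₁ σ₂ hσ₂)
  · rw [Groth.Agent.Lib.Helper1.comap_mul] at hg
    obtain ⟨h₁, hh₁, hu₁⟩ := hσ₁.2 Y g (isEffCartierIdeal_of_mul_left _ _ hg)
    obtain ⟨h₂, hh₂, hu₂⟩ := hσ₂.2 Y g (isEffCartierIdeal_of_mul_right _ _ hg)
    refine ⟨pullback.lift h₁ h₂ (hh₁.trans hh₂.symm), ?_, fun m hm => ?_⟩
    · change pullback.lift h₁ h₂ _ ≫ pullback.fst σ₁ σ₂ ≫ σ₁ = g
      rw [pullback.lift_fst_assoc, hh₁]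
    · have hm' : m ≫ pullback.fst σ₁ σ₂ ≫ σ₁ = g := hm
      apply pullback.hom_ext
      · rw [pullback.lift_fst]
        exact hu₁ _ (by change (m ≫ pullback.fst σ₁ σ₂) ≫ σ₁ = g; rw [Category.assoc, hm'])
      · rw [pullback.lift_snd]
        exact hu₂ _ (by
          change (m ≫ pullback.snd σ₁ σ₂) ≫ σ₂ = g
          rw [Category.assoc, ← pullback.condition, hm'])

theorem inf_eq_mul_of_sup_eq_top (I₁ I₂ : X.IdealSheafData) (h : I₁ ⊔ I₂ = ⊤) :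
    I₁ ⊓ I₂ = I₁ * I₂ := by
  ext U : 2
  rw [Scheme.IdealSheafData.ideal_inf, Scheme.IdealSheafData.ideal_mul, Pi.inf_apply,
    Pi.mul_apply]
  refine (Ideal.mul_eq_inf_of_isCoprime ?_).symm
  rw [Ideal.isCoprime_iff_sup_eq]
  have := congrArg (fun I : X.IdealSheafData => I.ideal U) h
  simpa using this

end Groth.Agent.Lib.Helper25.BlowUpUP
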