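import Groth.Agent.Lib.Helper25.BlowUpProd

/-!
# Ideal sheaves of finite type: locality and inverse images; products over finite families
-/

set_option autoImplicit false
universe u
open CategoryTheory CategoryTheory.Limits AlgebraicGeometry TopologicalSpace

namespace Groth.Agent.Lib.Helper25.BlowUpUP

variable {X : Scheme.{u}}

/-- Finite generation of the ideal on a basic open gives finite generation of the extension to
the abstract localization. -/
theorem fg_map_away_of_fg_basicOpen (𝓚 : X.IdealSheafData) (V : X.affineOpens) (s : Γ(X, V.1))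
    (h : (𝓚.ideal (X.affineBasicOpen s)).FG) :
    ((𝓚.ideal V).map (algebraMap Γ(X, V.1) (Localization.Away s))).FG := by
  let _ := (X.presheaf.map (homOfLE (X.basicOpen_le s)).op).hom.toAlgebra
  have hloc : IsLocalization.Away s Γ(X, X.basicOpen s) := V.2.isLocalization_basicOpen s
  let e : Γ(X, X.basicOpen s) ≃ₐ[Γ(X, V.1)] Localization.Away s :=
    IsLocalization.algEquiv (Submonoid.powers s) _ _
  have h0 : (𝓚.ideal V).map (X.presheaf.map (homOfLE (X.basicOpen_le s)).op).hom =
      𝓚.ideal (X.affineBasicOpen s) := 𝓚.map_ideal_basicOpen V s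
  have hfg' : ((𝓚.ideal V).map (X.presheaf.map (homOfLE (X.basicOpen_le s)).op).hom).FG := by
    rw [h0]; exact h
  have h2 := hfg'.map (e : Γ(X, X.basicOpen s) →+* Localization.Away s)
  rw [Ideal.map_map] at h2
  have h3 : (e : Γ(X, X.basicOpen s) →+* Localization.Away s).comp
      (X.presheaf.map (homOfLE (X.basicOpen_le s)).op).hom =
        algebraMap Γ(X, V.1) (Localization.Away s) := by
    ext x
    exact e.commutes x
  rw [h3] at h2
  exact h2

/-- Finite type is a local property of ideal sheaves. -/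
theorem isFiniteTypeIdeal_of_local (𝓚 : X.IdealSheafData)
    (h : ∀ x : X, ∃ V : X.affineOpens, x ∈ V.1 ∧ (𝓚.ideal V).FG) : BlowUp.IsFiniteTypeIdeal 𝓚 := by
  intro V
  -- the sections whose basic open has a finitely generated ideal
  let t : Set Γ(X, V.1) := {s | (𝓚.ideal (X.affineBasicOpen s)).FG}
  have ht : Ideal.span t = ⊤ := by
    rw [← V.2.self_le_iSup_basicOpen_iff]
    intro x hxV
    obtain ⟨Vx, hxVx, hfg⟩ := h x
    obtain ⟨s, hsle, hxs⟩ := V.2.exists_basicOpen_le (V := Vx.1) ⟨x, hxVx⟩ hxV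
    have hs : s ∈ t := by
      change (𝓚.ideal (X.affineBasicOpen s)).FG
      have hle : X.affineBasicOpen s ≤ Vx := hsle
      rw [← 𝓚.map_ideal hle]
      exact hfg.map _
    exact Opens.mem_iSup.mpr ⟨⟨s, hs⟩, hxs⟩
  exact Ideal.fg_of_localizationSpan t ht fun g => fg_map_away_of_fg_basicOpen 𝓚 V g.1 g.2

/-- The inverse image of an ideal sheaf of finite type is of finite type. -/
theorem isFiniteTypeIdeal_comap {Y : Scheme.{u}} (f : Y ⟶ X) (𝓚 : X.IdealSheafData)
    (h : BlowUp.IsFiniteTypeIdeal 𝓚) : BlowUp.IsFiniteTypeIdeal (𝓚.comap f) := by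
  refine isFiniteTypeIdeal_of_local _ fun y => ?_
  obtain ⟨_, ⟨W, hW, rfl⟩, hyW, -⟩ :=
    X.isBasis_affineOpens.exists_subset_of_mem_open (Set.mem_univ (f y)) isOpen_univ
  obtain ⟨V, hyV, hVW, -⟩ := exists_affineOpens_le_preimage f y W hyW ⊤ trivial
  refine ⟨V, hyV, ?_⟩
  rw [Groth.Agent.Lib.Helper1.ideal_comap 𝓚 f V ⟨W, hW⟩ hVW]
  exact (h ⟨W, hW⟩).map _

theorem isFiniteTypeIdeal_one : BlowUp.IsFiniteTypeIdeal (1 : X.IdealSheafData) := by
  intro V
  change (⊤ : Ideal Γ(X, V.1)).FG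
  exact ⟨{1}, by simp⟩

theorem isFiniteTypeIdeal_mul (𝓐 𝓑 : X.IdealSheafData) (hA : BlowUp.IsFiniteTypeIdeal 𝓐)
    (hB : BlowUp.IsFiniteTypeIdeal 𝓑) : BlowUp.IsFiniteTypeIdeal (𝓐 * 𝓑) := by
  intro V
  rw [Scheme.IdealSheafData.ideal_mul, Pi.mul_apply]
  exact (hA V).mul (hB V)

theorem isFiniteTypeIdeal_prod {ι : Type*} (s : Finset ι) (𝓘 : ι → X.IdealSheafData)
    (h : ∀ i ∈ s, BlowUp.IsFiniteTypeIdeal (𝓘 i)) :
    BlowUp.IsFiniteTypeIdeal (∏ i ∈ s, 𝓘 i) := by
  classical
  induction s using Finset.induction_on with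
  | empty => rw [Finset.prod_empty]; exact isFiniteTypeIdeal_one
  | insert a s ha ih =>
    rw [Finset.prod_insert ha]
    exact isFiniteTypeIdeal_mul _ _ (h a (Finset.mem_insert_self a s))
      (ih fun i hi => h i (Finset.mem_insert_of_mem hi))

theorem support_prod_disjoint {ι : Type*} (s : Finset ι) (𝓘 : ι → X.IdealSheafData) (U : Set X)
    (h : ∀ i ∈ s, Disjoint ((𝓘 i).support : Set X) U) :
    Disjoint ((∏ i ∈ s, 𝓘 i).support : Set X) U := by
  classical
  induction s using Finset.induction_on with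
  | empty =>
    rw [Finset.prod_empty]
    change Disjoint ((⊥ : Closeds X) : Set X) U
    simp
  | insert a s ha ih =>
    rw [Finset.prod_insert ha, Scheme.IdealSheafData.support_mul]
    change Disjoint (((𝓘 a).support : Set X) ∪ ((∏ i ∈ s, 𝓘 i).support : Set X)) U
    rw [Set.disjoint_union_left]
    exact ⟨h a (Finset.mem_insert_self a s), ih fun i hi => h i (Finset.mem_insert_of_mem hi)⟩

end Groth.Agent.Lib.Helper25.BlowUpUP
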