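import Groth.Agent.Lib.Helper25.BlowUpReg

/-!
# Locality of effective Cartier ideals and a gluing criterion for blow-ups
-/

set_option autoImplicit false
universe u
open CategoryTheory CategoryTheory.Limits AlgebraicGeometry TopologicalSpace

namespace Groth.Agent.Lib.Helper25.BlowUpUP

variable {X : Scheme.{u}}

/-- (G1) Being the ideal of an effective Cartier divisor is local for open immersions. -/
theorem isEffCartierIdeal_of_forall_openImmersion (𝓙 : X.IdealSheafData)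
    (h : ∀ x : X, ∃ (U : Scheme.{u}) (j : U ⟶ X), IsOpenImmersion j ∧ x ∈ Set.range j ∧
      BlowUp.IsEffCartierIdeal (𝓙.comap j)) :
    BlowUp.IsEffCartierIdeal 𝓙 := by
  intro x
  obtain ⟨U, j, hj, ⟨u, rfl⟩, hE⟩ := h x
  obtain ⟨W, huW, t, ht, hW⟩ := hE u
  refine ⟨⟨j ''ᵁ W.1, W.2.image_of_isOpenImmersion j⟩, ⟨u, huW, rfl⟩,
    (j.appIso W.1).inv.hom t, ?_, ?_⟩
  · exact map_mem_nonZeroDivisors_of_isIso (j.appIso W.1).inv ht
  · rw [Scheme.IdealSheafData.ideal_comap_of_isOpenImmersion] at hW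
    have hsurj : Function.Surjective (j.appIso W.1).inv.hom :=
      (ConcreteCategory.bijective_of_isIso (j.appIso W.1).inv).2
    have := congrArg (Ideal.map (j.appIso W.1).inv.hom) hW
    rw [Ideal.map_comap_of_surjective _ hsurj, Ideal.map_span, Set.image_singleton] at this
    exact this

/-- The ideal sheaf on `Spec A` attached to an ideal `I` of `A`. -/
noncomputable abbrev specIdeal {A : Type u} [CommRing A] (I : Ideal A) :
    (Spec (CommRingCat.of A)).IdealSheafData :=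
  Scheme.IdealSheafData.ofIdealTop (I.map (Scheme.ΓSpecIso (CommRingCat.of A)).inv.hom)

theorem specIdeal_comap_ideal_top {A C : Type u} [CommRing A] [CommRing C] (I : Ideal A)
    (κ : A →+* C) :
    ((specIdeal I).comap (Spec.map (CommRingCat.ofHom κ))).ideal
      ⟨⊤, isAffineOpen_top (Spec (CommRingCat.of C))⟩ =
      (I.map κ).map (Scheme.ΓSpecIso (CommRingCat.of C)).inv.hom := by
  rw [Groth.Agent.Lib.Helper1.ideal_comap _ _ ⟨⊤, isAffineOpen_top _⟩ ⟨⊤, isAffineOpen_top _⟩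
    (by rfl : (⊤ : (Spec (CommRingCat.of C)).Opens) ≤ _)]
  rw [Scheme.IdealSheafData.ofIdealTop_ideal]
  rw [Ideal.map_map, Ideal.map_map, Ideal.map_map]
  congr 1
  have h := Scheme.ΓSpecIso_inv_naturality (CommRingCat.ofHom κ)
  have h' := congrArg CommRingCat.Hom.hom h
  simp only [CommRingCat.hom_comp, CommRingCat.hom_ofHom] at h'
  rw [h']
  have e1 : (Spec.map (CommRingCat.ofHom κ)).appLE ⊤ ⊤ (by rfl) =
      (Spec.map (CommRingCat.ofHom κ)).appTop := by
    exact Scheme.Hom.appLE_eq_app (Spec.map (CommRingCat.ofHom κ)) (U := ⊤)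
  have e2 : (Spec (CommRingCat.of A)).presheaf.map (homOfLE (le_top : (⊤ : (Spec (CommRingCat.of A)).Opens) ≤ ⊤)).op = 𝟙 _ := by
    rw [show homOfLE (le_top : (⊤ : (Spec (CommRingCat.of A)).Opens) ≤ ⊤) = 𝟙 _ from Subsingleton.elim _ _]
    simp
  ext x
  simp only [RingHom.comp_apply]
  change (CommRingCat.Hom.hom ((Spec.map (CommRingCat.ofHom κ)).appLE ⊤ ⊤ (by rfl))) ((CommRingCat.Hom.hom ((Spec (CommRingCat.of A)).presheaf.map (homOfLE (le_top : (⊤ : (Spec (CommRingCat.of A)).Opens) ≤ ⊤)).op)) _) = _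
  rw [e1, e2]
  rfl

/-- (G2) the affine case of effective Cartier inverse images. -/
theorem isEffCartierIdeal_specIdeal_comap {A C : Type u} [CommRing A] [CommRing C] (I : Ideal A)
    (κ : A →+* C) (a : A) (hI : I.map κ = Ideal.span {κ a}) (hnzd : κ a ∈ nonZeroDivisors C) :
    BlowUp.IsEffCartierIdeal ((specIdeal I).comap (Spec.map (CommRingCat.ofHom κ))) := by
  intro x
  refine ⟨⟨⊤, isAffineOpen_top _⟩, trivial,
    (Scheme.ΓSpecIso (CommRingCat.of C)).inv.hom (κ a), ?_, ?_⟩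
  · exact map_mem_nonZeroDivisors_of_isIso (Scheme.ΓSpecIso (CommRingCat.of C)).inv hnzd
  · rw [specIdeal_comap_ideal_top, hI, Ideal.map_span, Set.image_singleton]

/-- Gluing local lifts along an open cover, given uniqueness of lifts. -/
theorem existsUnique_lift_of_openCover {P Y : Scheme.{u}} (π : P ⟶ X) (𝓘 : X.IdealSheafData)
    (huniq : ∀ (Y : Scheme.{u}) (h h' : Y ⟶ P), h ≫ π = h' ≫ π →
      BlowUp.IsEffCartierIdeal (𝓘.comap (h ≫ π)) → h = h')
    (g : Y ⟶ X) (hg : BlowUp.IsEffCartierIdeal (𝓘.comap g)) (𝒰 : Y.OpenCover)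
    (k : ∀ i, 𝒰.X i ⟶ P) (hk : ∀ i, k i ≫ π = 𝒰.f i ≫ g) :
    ∃! h : Y ⟶ P, h ≫ π = g := by
  have hcompat : ∀ y z, pullback.fst (𝒰.f y) (𝒰.f z) ≫ k y = pullback.snd _ _ ≫ k z := by
    intro y z
    have hπ : (pullback.fst (𝒰.f y) (𝒰.f z) ≫ k y) ≫ π = (pullback.snd _ _ ≫ k z) ≫ π := by
      rw [Category.assoc, Category.assoc, hk, hk]
      exact pullback.condition_assoc _
    refine huniq _ _ _ hπ ?_
    rw [Category.assoc, hk, ← Category.assoc, Scheme.IdealSheafData.comap_comp]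
    exact isEffCartierIdeal_comap_of_flat _ _ hg
  have hπ : 𝒰.glueMorphisms k hcompat ≫ π = g := by
    refine Scheme.Cover.hom_ext 𝒰 _ _ fun y => ?_
    rw [Scheme.Cover.ι_glueMorphisms_assoc]
    exact hk y
  refine ⟨𝒰.glueMorphisms k hcompat, hπ, ?_⟩
  intro h' hh'
  refine huniq _ _ _ (hh'.trans hπ.symm) ?_
  rw [hh']
  exact hg

/-- (G3) A criterion for the universal property of blowing up: uniqueness of lifts plus local
existence of lifts. -/
theorem isBlowUp_of_local {P : Scheme.{u}} (π : P ⟶ X) (𝓘 : X.IdealSheafData)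
    (h1 : BlowUp.IsEffCartierIdeal (𝓘.comap π))
    (huniq : ∀ (Y : Scheme.{u}) (h h' : Y ⟶ P), h ≫ π = h' ≫ π →
      BlowUp.IsEffCartierIdeal (𝓘.comap (h ≫ π)) → h = h')
    (hex : ∀ (Y : Scheme.{u}) (g : Y ⟶ X), BlowUp.IsEffCartierIdeal (𝓘.comap g) →
      ∀ y : Y, ∃ U : Y.Opens, y ∈ U ∧ ∃ k : U.toScheme ⟶ P, k ≫ π = U.ι ≫ g) :
    BlowUp.IsBlowUp π 𝓘 := by
  refine ⟨h1, fun Y g hg => ?_⟩
  choose U hyU k hk using hex Y g hg
  have hcov : IsOpenCover U := by
    rw [IsOpenCover, eq_top_iff]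
    intro y _
    exact Opens.mem_iSup.mpr ⟨y, hyU y⟩
  exact existsUnique_lift_of_openCover π 𝓘 huniq g hg (Y.openCoverOfIsOpenCover U hcov) k hk

end Groth.Agent.Lib.Helper25.BlowUpUP
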