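import Groth.Agent.Lib.Helper25.BlowUpReg

/-!
# Maximal points of a blowing up
-/

set_option autoImplicit false
universe u
open CategoryTheory CategoryTheory.Limits AlgebraicGeometry TopologicalSpace

namespace Groth.Agent.Lib.Helper25.BlowUpUP

/-- Topological lemma: if `f` restricts to a homeomorphism `f⁻¹ W ≃ W` over an open `W` and all
maximal points of the source lie over `W`, then `f` maps the maximal points of the source
bijectively onto the maximal points of the target lying in `W`. -/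
theorem bijOn_maximalPoints {X' X : Type*} [TopologicalSpace X'] [TopologicalSpace X]
    (f : X' → X) (W : Set X) (hW : IsOpen W) (hW' : IsOpen (f ⁻¹' W))
    (e : ↥(f ⁻¹' W) ≃ₜ ↥W) (he : ∀ y, (e y).1 = f y.1)
    (hmax : ∀ x' : X', (∀ y : X', y ⤳ x' → y = x') → f x' ∈ W) :
    Set.BijOn f {x' : X' | ∀ y : X', y ⤳ x' → y = x'}
      {x : X | (∀ y : X, y ⤳ x → y = x) ∧ x ∈ W} := by
  refine ⟨?_, ?_, ?_⟩
  · intro x' hx'
    have hxW : f x' ∈ W := hmax x' hx'
    refine ⟨fun y hy => ?_, hxW⟩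
    have hyW : y ∈ W := hy.mem_open hW hxW
    let x'' : ↥(f ⁻¹' W) := ⟨x', hxW⟩
    let y' : ↥(f ⁻¹' W) := e.symm ⟨y, hyW⟩
    have h1 : e y' ⤳ e x'' := by
      rw [subtype_specializes_iff, e.apply_symm_apply, he]
      exact hy
    have h2 : y' ⤳ x'' := e.isInducing.specializes_iff.1 h1
    rw [subtype_specializes_iff] at h2
    have h3 : y'.1 = x' := hx' _ h2
    have h4 : (e y').1 = f y'.1 := he y'
    rw [e.apply_symm_apply, h3] at h4
    exact h4
  · intro x₁ hx₁ x₂ hx₂ h
    have h1 : f x₁ ∈ W := hmax x₁ hx₁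
    have h2 : f x₂ ∈ W := hmax x₂ hx₂
    have h3 : e ⟨x₁, h1⟩ = e ⟨x₂, h2⟩ := by
      apply Subtype.ext
      rw [he, he]
      exact h
    exact congrArg Subtype.val (e.injective h3)
  · rintro x ⟨hx, hxW⟩
    let x' : ↥(f ⁻¹' W) := e.symm ⟨x, hxW⟩
    have hfx : f x'.1 = x := by
      rw [← he, e.apply_symm_apply]
    refine ⟨x'.1, fun y' hy' => ?_, hfx⟩
    have hy'W : y' ∈ f ⁻¹' W := hy'.mem_open hW' x'.2
    have h1 : (⟨y', hy'W⟩ : ↥(f ⁻¹' W)) ⤳ x' := by
      rw [subtype_specializes_iff]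
      exact hy'
    have h2 : e ⟨y', hy'W⟩ ⤳ e x' := e.isInducing.specializes_iff.2 h1
    rw [subtype_specializes_iff, he, he, hfx] at h2
    have h3 : f y' = x := hx _ h2
    have h4 : e ⟨y', hy'W⟩ = e x' := by
      apply Subtype.ext
      rw [he, he, hfx]
      exact h3
    exact congrArg Subtype.val (e.injective h4)

variable {X : Scheme.{u}}

/-- A maximal point is never in the support of an effective Cartier ideal. -/
theorem notMem_support_of_forall_specializes_eq (𝓙 : X.IdealSheafData)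
    (h : BlowUp.IsEffCartierIdeal 𝓙) (x : X) (hx : ∀ y : X, y ⤳ x → y = x) : x ∉ 𝓙.support := by
  intro hxs
  obtain ⟨U, hxU, f, hf, hI⟩ := h x
  set p := U.2.primeIdealOf ⟨x, hxU⟩ with hp
  have hpx : U.2.fromSpec p = x := U.2.fromSpec_primeIdealOf ⟨x, hxU⟩
  have hfp : f ∈ p.asIdeal := by
    by_contra hfp
    have h1 : p ∈ PrimeSpectrum.basicOpen f := hfp
    rw [← U.2.fromSpec_preimage_basicOpen] at h1
    have h2 : x ∈ X.basicOpen f := by
      rw [← hpx]; exact h1
    exact notMem_support_of_mem_basicOpen 𝓙 U f hI x h2 hxs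
  have hmin : p.asIdeal ∈ minimalPrimes Γ(X, U.1) := by
    rw [minimalPrimes_eq_minimals]
    refine ⟨p.isPrime, fun q hq hqp => ?_⟩
    let q' : PrimeSpectrum Γ(X, U.1) := ⟨q, hq⟩
    have h1 : q' ⤳ p := (PrimeSpectrum.le_iff_specializes q' p).1 hqp
    have h2 : U.2.fromSpec q' ⤳ U.2.fromSpec p := h1.map U.2.fromSpec.continuous
    rw [hpx] at h2
    have h3 : U.2.fromSpec q' = U.2.fromSpec p := (hx _ h2).trans hpx.symm
    have h4 : q' = p := U.2.fromSpec.isOpenEmbedding.injective h3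
    rw [← h4]
  exact Set.disjoint_left.1 (Ideal.disjoint_nonZeroDivisors_of_mem_minimalPrimes hmin) hfp hf

end Groth.Agent.Lib.Helper25.BlowUpUP
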