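import Groth.Agent.Lib.Helper25.BlowUpLocal
import Groth.Agent.Lib.Helper25.BlowUpMax

/-!
# Blowing ups of integral schemes
-/

set_option autoImplicit false
universe u
open CategoryTheory CategoryTheory.Limits AlgebraicGeometry TopologicalSpace

namespace Groth.Agent.Lib.Helper25.BlowUpUP

variable {X : Scheme.{u}}

/-- The complement of an effective Cartier divisor is dense. -/
theorem dense_compl_support_of_isEffCartierIdeal (𝓙 : X.IdealSheafData)
    (h : BlowUp.IsEffCartierIdeal 𝓙) : Dense ((𝓙.support : Set X)ᶜ) := by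
  rw [dense_iff_inter_open]
  rintro W hW ⟨x, hxW⟩
  obtain ⟨U, f, hxU, hUW, hf, hI⟩ := exists_affine_principal_le 𝓙 h x ⟨W, hW⟩ hxW
  have hnil : ¬ IsNilpotent f := by
    rintro ⟨n, hn⟩
    have h1 : (1 : Γ(X, U.1)) = 0 := by
      have := pow_mem hf n
      rw [hn] at this
      have h0 := (mem_nonZeroDivisors_iff_right.1 this) 1 (by rw [mul_zero])
      exact h0
    have : Subsingleton Γ(X, U.1) := subsingleton_of_zero_eq_one h1.symm
    have hne : Nonempty U.1 := ⟨⟨x, hxU⟩⟩
    have := Scheme.component_nontrivial X U.1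
    exact not_subsingleton Γ(X, U.1) ‹_›
  have h2 : PrimeSpectrum.basicOpen f ≠ ⊥ := fun hb =>
    hnil ((PrimeSpectrum.basicOpen_eq_bot_iff f).1 hb)
  obtain ⟨p, hp⟩ := (Opens.ne_bot_iff_nonempty _).1 h2
  have hp1 : p ∈ PrimeSpectrum.basicOpen f := hp
  rw [← U.2.fromSpec_preimage_basicOpen] at hp1
  have hp' : U.2.fromSpec p ∈ X.basicOpen f := hp1
  refine ⟨U.2.fromSpec p, hUW (X.basicOpen_le f hp'), ?_⟩
  exact notMem_support_of_mem_basicOpen 𝓙 U f hI _ hp'

/-- Points of the base off the centre are in the image of a blowing up. -/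
theorem exists_preimage_of_notMem_support {X' : Scheme.{u}} (𝓘 : X.IdealSheafData) (b : X' ⟶ X)
    (hb : BlowUp.IsBlowUp b 𝓘) (x : X) (hx : x ∉ 𝓘.support) : ∃ x' : X', b x' = x := by
  have h1 := isIso_restrict_compl_support 𝓘 b hb
  let u : (complSupport 𝓘 : X.Opens) := ⟨x, hx⟩
  obtain ⟨v, hv⟩ := (b ∣_ complSupport 𝓘).homeomorph.surjective u
  refine ⟨v.1, ?_⟩
  have h2 : ((b ∣_ complSupport 𝓘) v).1 = x := congrArg Subtype.val hv
  exact (morphismRestrict_base_coe b (complSupport 𝓘) v).symm.trans h2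

/-- The blowing up of an integral scheme in a nonzero ideal is integral. -/
theorem isIntegral_of_isBlowUp {X' : Scheme.{u}} [IsIntegral X] (𝓘 : X.IdealSheafData)
    (h𝓘 : 𝓘 ≠ ⊥) (b : X' ⟶ X) (hb : BlowUp.IsBlowUp b 𝓘) : IsIntegral X' := by
  have hred : IsReduced X' := isReduced_of_isBlowUp 𝓘 b hb
  rw [isIntegral_iff_irreducibleSpace_and_isReduced]
  refine ⟨?_, hred⟩
  -- the open complement of the centre
  set W : X.Opens := complSupport 𝓘 with hW
  have hWne : (W : Set X).Nonempty := by
    by_contra hcon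
    rw [Set.not_nonempty_iff_eq_empty] at hcon
    apply h𝓘
    rw [← Scheme.IdealSheafData.support_eq_top_iff]
    ext y
    simp only [Closeds.coe_top, Set.mem_univ, iff_true]
    by_contra hy
    have : y ∈ (W : Set X) := hy
    rw [hcon] at this
    exact this
  have h1 := isIso_restrict_compl_support 𝓘 b hb
  obtain ⟨x, hx⟩ := hWne
  obtain ⟨x', hx'⟩ := exists_preimage_of_notMem_support 𝓘 b hb x hx
  have hne : Nonempty (b ⁻¹ᵁ W).toScheme := ⟨⟨x', by change b x' ∈ W; rw [hx']; exact hx⟩⟩
  have hint : IsIntegral (b ⁻¹ᵁ W).toScheme :=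
    isIntegral_of_isOpenImmersion ((b ∣_ W) ≫ W.ι)
  have hirr : IsIrreducible ((b ⁻¹ᵁ W : X'.Opens) : Set X') := by
    have h2 : IsIrreducible (Set.univ : Set (b ⁻¹ᵁ W).toScheme) :=
      IrreducibleSpace.isIrreducible_univ _
    have h3 := h2.image (b ⁻¹ᵁ W).ι (b ⁻¹ᵁ W).ι.continuous.continuousOn
    rw [Set.image_univ, Scheme.Opens.range_ι] at h3
    exact h3
  have hdense : Dense ((b ⁻¹ᵁ W : X'.Opens) : Set X') := by
    have := dense_compl_support_of_isEffCartierIdeal (𝓘.comap b) hb.1
    rw [Scheme.IdealSheafData.support_comap] at this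
    exact this
  rw [irreducibleSpace_def]
  have := hirr.closure
  rw [hdense.closure_eq] at this
  exact this

/-- A blowing up of an integral scheme in a nonzero ideal maps the generic point to the generic
point, which lies off the centre. -/
theorem genericPoint_of_isBlowUp {X' : Scheme.{u}} [IsIntegral X] [IsIntegral X']
    (𝓘 : X.IdealSheafData) (h𝓘 : 𝓘 ≠ ⊥) (b : X' ⟶ X) (hb : BlowUp.IsBlowUp b 𝓘) :
    b (genericPoint X') = genericPoint X ∧ b (genericPoint X') ∉ 𝓘.support := by
  set W : X.Opens := complSupport 𝓘 with hW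
  have hWne : (W : Set X).Nonempty := by
    by_contra hcon
    rw [Set.not_nonempty_iff_eq_empty] at hcon
    apply h𝓘
    rw [← Scheme.IdealSheafData.support_eq_top_iff]
    ext y
    simp only [Closeds.coe_top, Set.mem_univ, iff_true]
    by_contra hy
    have : y ∈ (W : Set X) := hy
    rw [hcon] at this
    exact this
  have hWdense : Dense (W : Set X) := W.2.dense hWne
  have hrange : (W : Set X) ⊆ Set.range b := fun x hx =>
    exists_preimage_of_notMem_support 𝓘 b hb x hx
  constructor
  · have h1 : IsGenericPoint (b (genericPoint X')) (closure (b '' ⊤)) :=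
      (genericPoint_spec X').image b.continuous
    have h2 : closure (b '' (⊤ : Set X')) = ⊤ := by
      rw [Set.top_eq_univ, Set.image_univ]
      exact (hWdense.mono hrange).closure_eq
    rw [h2] at h1
    exact h1.eq (genericPoint_spec X)
  · obtain ⟨x, hx⟩ := hWne
    obtain ⟨x', hx'⟩ := hrange hx
    have hne : ((⊤ : Set X') ∩ (b ⁻¹ᵁ W : X'.Opens)).Nonempty :=
      ⟨x', trivial, by change b x' ∈ W; rw [hx']; exact hx⟩
    exact ((genericPoint_spec X').mem_open_set_iff (b ⁻¹ᵁ W).2).2 hne

/-- The residue field map of a blowing up is bijective off the centre. -/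
theorem bijective_residueFieldMap_of_notMem_support {X' : Scheme.{u}} (𝓘 : X.IdealSheafData)
    (b : X' ⟶ X) (hb : BlowUp.IsBlowUp b 𝓘) (y : X') (hy : b y ∉ 𝓘.support) :
    Function.Bijective (b.residueFieldMap y).hom := by
  have : IsIso (b.stalkMap y) := isIso_stalkMap_of_notMem_support 𝓘 b hb y hy
  have : IsIso (b.residueFieldMap y) :=
    (IsLocalRing.ResidueField.mapEquiv
      (asIso (b.stalkMap y)).commRingCatIsoToRingEquiv).toCommRingCatIso.isIso_hom
  exact ConcreteCategory.bijective_of_isIso (b.residueFieldMap y)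

end Groth.Agent.Lib.Helper25.BlowUpUP
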