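import Groth.Agent.Lib.Helper25.ChartBC
import Groth.Agent.Lib.Helper25.BlowUpBC
import Groth.Agent.Helper19.RegInter4
import Groth.Prelude.Def_RegImm

/-!
# Blowing up a Koszul-regular ideal commutes with Tor-independent base change
-/

set_option autoImplicit false
universe u
open CategoryTheory CategoryTheory.Limits AlgebraicGeometry TopologicalSpace

namespace Groth.Agent.Lib.Helper25.BlowUpKoszBC

open Groth.Agent.Lib.Helper25.BlowUpChart Groth.Agent.Lib.Helper25.RegChart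
  Groth.Agent.Lib.Helper25.BlowUpUP

/-- Off the support, a quasi-coherent ideal is the unit ideal on small affine opens. -/
theorem exists_affine_ideal_eq_top {X : Scheme.{u}} (𝓙 : X.IdealSheafData) (x : X)
    (hx : x ∉ 𝓙.support) : ∃ U : X.affineOpens, x ∈ U.1 ∧ 𝓙.ideal U = ⊤ := by
  obtain ⟨_, ⟨U, hU, rfl⟩, hxU, hUle⟩ := X.isBasis_affineOpens.exists_subset_of_mem_open
    (show x ∈ ((complSupport 𝓙 : X.Opens) : Set X) from hx) (complSupport 𝓙).2
  refine ⟨⟨U, hU⟩, hxU, ?_⟩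
  have h1 := hU.fromSpec_image_zeroLocus (𝓙.ideal ⟨U, hU⟩)
  have h2 := Scheme.IdealSheafData.zeroLocus_inter_subset_supportSet 𝓙 ⟨U, hU⟩
  rw [← PrimeSpectrum.zeroLocus_empty_iff_eq_top]
  by_contra hne
  obtain ⟨p, hp⟩ := Set.nonempty_iff_ne_empty.2 hne
  have h3 : hU.fromSpec p ∈ X.zeroLocus (U := U) (𝓙.ideal ⟨U, hU⟩) ∩ U := by
    rw [← h1]
    exact ⟨p, hp, rfl⟩
  have h4 : hU.fromSpec p ∈ 𝓙.supportSet := h2 h3
  exact hUle h3.2 (Scheme.IdealSheafData.mem_supportSet_iff_mem_support.1 h4)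

/-- `H_1`-regularity is insensitive to the indexing of the image of a list. -/
theorem isH1Regular_cast {R : Type u} [CommRing R] {c c' : ℕ} (e : c = c') (f : Fin c → R)
    (f' : Fin c' → R) (hff : ∀ i, f' (Fin.cast e i) = f i) (h : CAlgX.IsH1Regular f) :
    CAlgX.IsH1Regular f' := by
  subst e
  have : f' = f := funext fun i => hff i
  rw [this]
  exact h

theorem isH1Regular_map_get {R S : Type u} [CommRing R] [CommRing S] (φ : R → S) (rs : List R)
    (h : CAlgX.IsH1Regular (rs.map φ).get) :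
    CAlgX.IsH1Regular (fun i : Fin rs.length => φ (rs.get i)) :=
  isH1Regular_cast (List.length_map φ) _ _ (fun i => by simp) h

/-- The inverse image of the exceptional divisor in the base change of the blowing up of a
Koszul-regular ideal along a Tor-independent morphism is an effective Cartier divisor. -/
theorem isEffCartierIdeal_comap_fst {X X' B : Scheme.{u}} (𝓘 : X.IdealSheafData)
    (h𝓘 : RegImm.IsRegularIdeal .koszul 𝓘) (g : X' ⟶ X)
    (hg : ∀ (U : X.affineOpens) (rs : List Γ(X, U.1)), LCI.IsKoszulRegularSeq Γ(X, U.1) rs →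
      𝓘.ideal U = Ideal.ofList rs → ∀ (V : X'.affineOpens) (e : V.1 ≤ g ⁻¹ᵁ U.1),
        LCI.IsKoszulRegularSeq Γ(X', V.1) (rs.map fun r => (g.appLE U.1 V.1 e).hom r))
    (b : B ⟶ X) (hb : BlowUp.IsBlowUp b 𝓘) :
    BlowUp.IsEffCartierIdeal ((𝓘.comap b).comap (pullback.fst b g)) := by
  intro y'
  have H : IsPullback (pullback.fst b g) (pullback.snd b g) b g := IsPullback.of_hasPullback b g
  by_cases hx : b (pullback.fst b g y') ∈ 𝓘.support
  · obtain ⟨U, hxU, rs, hrs, hI⟩ := h𝓘 _ hx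
    have hsq : g (pullback.snd b g y') = b (pullback.fst b g y') := by
      rw [← Scheme.Hom.comp_apply, ← Scheme.Hom.comp_apply, H.w]
    obtain ⟨UT, hyUT, hUTS, -⟩ :=
      exists_affineOpens_le_preimage g (pullback.snd b g y') U.1 (hsq ▸ hxU) ⊤ trivial
    let f : Fin rs.length → Γ(X, U.1) := fun j => rs.get j
    have hspan : Ideal.span (Set.range f) = 𝓘.ideal ⟨U.1, U.2⟩ := by
      change _ = 𝓘.ideal U
      rw [hI, Ideal.ofList]
      congr 1
      ext z
      simp [f, List.mem_iff_get]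
    obtain ⟨a, ⟨k, hk⟩, V, hV, hVU, hxV, hchart⟩ :=
      exists_chart 𝓘 b hb U.1 U.2 (Set.range f) hspan (pullback.fst b g y') hxU
    have hUY : pullback.fst b g ⁻¹ᵁ V ⊓ pullback.snd b g ⁻¹ᵁ UT.1 =
        pullback.fst b g ⁻¹ᵁ V ⊓ pullback.snd b g ⁻¹ᵁ UT.1 := rfl
    have hUYaff : IsAffineOpen (pullback.fst b g ⁻¹ᵁ V ⊓ pullback.snd b g ⁻¹ᵁ UT.1) := by
      have : IsAffine _ := U.2
      have : IsAffine _ := UT.2
      have : IsAffine _ := hV
      exact .of_isIso (Scheme.Hom.isPullback_resLE H hUTS hVU hUY).isoPullback.hom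
    have hPO := (isIso_pushoutSection_iff H hUTS hVU hUY).mp
      (isIso_pushoutSection_of_isAffineOpen H hUTS hVU hUY U.2 UT.2 hV)
    have hle : pullback.fst b g ⁻¹ᵁ V ⊓ pullback.snd b g ⁻¹ᵁ UT.1 ≤ pullback.fst b g ⁻¹ᵁ V :=
      inf_le_left
    have hH1 : CAlgX.IsH1Regular f := Groth.Agent.Helper19.RegInter.isH1Regular_of_koszul rs hrs
    have hH1' : CAlgX.IsH1Regular (fun i => (g.appLE U.1 UT.1 hUTS).hom (f i)) :=
      isH1Regular_map_get (fun r => (g.appLE U.1 UT.1 hUTS).hom r) rs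
        (Groth.Agent.Helper19.RegInter.isH1Regular_of_koszul _ (hg U rs hrs hI UT hUTS))
    refine ⟨⟨_, hUYaff⟩, ⟨hxV, hyUT⟩,
      ((pullback.fst b g).appLE V _ hle).hom ((b.appLE U.1 V hVU).hom a), ?_, ?_⟩
    · exact Groth.Agent.Lib.Helper25.ChartBC.mem_nonZeroDivisors_pushout_chart hPO hchart f
        hspan.symm k hk hH1 hH1'
    · rw [Groth.Agent.Lib.Helper1.ideal_comap (𝓘.comap b) (pullback.fst b g) ⟨_, hUYaff⟩
        ⟨V, hV⟩ hle, Groth.Agent.Lib.Helper1.ideal_comap 𝓘 b ⟨V, hV⟩ U hVU]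
      change Ideal.map _ (Ideal.map _ (𝓘.ideal ⟨U.1, U.2⟩)) = _
      rw [hchart.map_eq, Ideal.map_span, Set.image_singleton]
  · have hy' : y' ∉ ((𝓘.comap b).comap (pullback.fst b g)).support := by
      rw [Scheme.IdealSheafData.support_comap, Scheme.IdealSheafData.support_comap]
      exact hx
    obtain ⟨W, hyW, hW⟩ := exists_affine_ideal_eq_top _ y' hy'
    refine ⟨W, hyW, 1, one_mem _, ?_⟩
    rw [hW, Ideal.span_singleton_one]

/-- **Blowing up a Koszul-regular ideal commutes with Tor-independent base change.** -/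
theorem isBlowUp_snd {X X' B : Scheme.{u}} (𝓘 : X.IdealSheafData)
    (h𝓘 : RegImm.IsRegularIdeal .koszul 𝓘) (g : X' ⟶ X)
    (hg : ∀ (U : X.affineOpens) (rs : List Γ(X, U.1)), LCI.IsKoszulRegularSeq Γ(X, U.1) rs →
      𝓘.ideal U = Ideal.ofList rs → ∀ (V : X'.affineOpens) (e : V.1 ≤ g ⁻¹ᵁ U.1),
        LCI.IsKoszulRegularSeq Γ(X', V.1) (rs.map fun r => (g.appLE U.1 V.1 e).hom r))
    (b : B ⟶ X) (hb : BlowUp.IsBlowUp b 𝓘) :
    BlowUp.IsBlowUp (pullback.snd b g) (𝓘.comap g) :=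
  Groth.Agent.Lib.Helper25.BlowUpBC.isBlowUp_of_isPullback (IsPullback.of_hasPullback b g) 𝓘 hb
    (isEffCartierIdeal_comap_fst 𝓘 h𝓘 g hg b hb)

end Groth.Agent.Lib.Helper25.BlowUpKoszBC
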