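import Groth.Agent.Lib.Helper25.RegChartAlg
import Groth.Agent.Helper19.Conormal8

/-!
# The standard presentation of an affine blow-up chart along an `H_1`-regular sequence

For `I = (f_1, …, f_c)` generated by an `H_1`-regular sequence and `a = f_k`, the chart
`B = A[I/a]` is `A[T_j : j ≠ k] / (a T_j - f_j)`; in particular it is of finite presentation.
-/

set_option autoImplicit false
universe u

namespace Groth.Agent.Lib.Helper25.ChartPres

open Groth.Agent.Lib.Helper25.RegChart Groth.Agent.Helper19.OmegaAlg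

variable {A B : Type u} [CommRing A] [CommRing B] {I : Ideal A} {a : A} {κ : A →+* B}
  {c : ℕ} (f : Fin c → A) (hfI : ∀ j, f j ∈ I) (h : IsChart I a κ) (k : Fin c) (hk : f k = a)

variable (A) in
/-- The polynomial ring of the chart. -/
abbrev P := MvPolynomial {j : Fin c // j ≠ k} A

/-- The generators `a T_j - f_j` of the ideal of the chart. -/
noncomputable def gen (j : {j : Fin c // j ≠ k}) : MvPolynomial {j : Fin c // j ≠ k} A :=
  MvPolynomial.C (f k) * MvPolynomial.X j - MvPolynomial.C (f j.1)

/-- The ideal of the chart. -/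
noncomputable def J : Ideal (MvPolynomial {j : Fin c // j ≠ k} A) :=
  Ideal.span (Set.range (gen f k))

include hk in
lemma J_le_ker : J f k ≤ RingHom.ker (Θ f hfI h k) := by
  rw [J, Ideal.span_le]
  rintro _ ⟨j, rfl⟩
  rw [SetLike.mem_coe, RingHom.mem_ker, gen, map_sub, map_mul]
  simp only [Θ, MvPolynomial.coe_eval₂Hom, MvPolynomial.eval₂_C, MvPolynomial.eval₂_X]
  rw [hk, kap_mul_t, sub_self]

/-- The dehomogenised variables: `T_j` for `j ≠ k` and `1` for `j = k`. -/
noncomputable def Xt (i : Fin c) : MvPolynomial {j : Fin c // j ≠ k} A :=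
  if hi : i = k then 1 else MvPolynomial.X ⟨i, hi⟩

lemma C_sub_mem (i : Fin c) :
    MvPolynomial.C (f i) - MvPolynomial.C (f k) * Xt k i ∈ J f k := by
  unfold Xt
  split_ifs with hi
  · subst hi
    rw [mul_one, sub_self]
    exact zero_mem _
  · have : gen f k ⟨i, hi⟩ ∈ J f k := Ideal.subset_span ⟨_, rfl⟩
    have h2 : MvPolynomial.C (f i) - MvPolynomial.C (f k) * MvPolynomial.X ⟨i, hi⟩ =
        -gen f k ⟨i, hi⟩ := by
      rw [gen]; ring
    rw [h2]
    exact neg_mem this

/-- `a` is a nonzerodivisor modulo the ideal of the chart, for an `H_1`-regular sequence. -/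
theorem mem_J_of_C_mul_mem (hH1 : CAlgX.IsH1Regular f)
    (y : MvPolynomial {j : Fin c // j ≠ k} A) (hy : MvPolynomial.C (f k) * y ∈ J f k) :
    y ∈ J f k := by
  classical
  have hH1' : CAlgX.IsH1Regular (fun i => algebraMap A (P A k) (f i)) :=
    isH1Regular_of_flat f hH1
  rw [J, Ideal.mem_span_range_iff_exists_fun] at hy
  obtain ⟨r, hr⟩ := hy
  -- the relation
  let ρ : Fin c → P A k := fun i => if hi : i = k then y - ∑ j, r j * MvPolynomial.X j else r ⟨i, hi⟩
  have h1 : ρ k = y - ∑ j, r j * MvPolynomial.X j := by simp [ρ]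
  have h2 : ∀ j : {j : Fin c // j ≠ k}, ρ j.1 = r j := fun j => by simp [ρ, j.2]
  have hρ : ∑ i, ρ i * algebraMap A (P A k) (f i) = 0 := by
    rw [Fintype.sum_eq_add_sum_subtype_ne _ k, h1]
    simp_rw [h2]
    have h3 : ∑ j, r j * gen f k j =
        (∑ j, r j * MvPolynomial.X j) * MvPolynomial.C (f k) -
          ∑ j : {j : Fin c // j ≠ k}, r j * MvPolynomial.C (f j.1) := by
      rw [Finset.sum_mul, ← Finset.sum_sub_distrib]
      refine Finset.sum_congr rfl fun j _ => ?_
      rw [gen]; ring
    rw [h3] at hr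
    simp only [MvPolynomial.algebraMap_eq]
    linear_combination -hr
  have hmem := hH1' ρ hρ
  -- the functional `v ↦ Σ v_i X̃_i` kills the trivial relations modulo `J`
  have key : ∀ v : Fin c → P A k,
      v ∈ Submodule.span (P A k) {v : Fin c → P A k | ∃ i j : Fin c,
        v = Pi.single i (algebraMap A (P A k) (f j)) - Pi.single j (algebraMap A (P A k) (f i))} →
      ∑ i, v i * Xt k i ∈ J f k := by
    intro v hv
    induction hv using Submodule.span_induction with
    | mem x hx =>
      obtain ⟨i, j, rfl⟩ := hx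
      simp only [Pi.sub_apply, sub_mul, Finset.sum_sub_distrib]
      have e1 : ∑ l, (Pi.single i (algebraMap A (P A k) (f j)) : Fin c → P A k) l * Xt k l =
          algebraMap A (P A k) (f j) * Xt k i := by
        rw [Finset.sum_eq_single i]
        · rw [Pi.single_eq_same]
        · intro b _ hb; rw [Pi.single_eq_of_ne hb, zero_mul]
        · intro hh; exact absurd (Finset.mem_univ i) hh
      have e2 : ∑ l, (Pi.single j (algebraMap A (P A k) (f i)) : Fin c → P A k) l * Xt k l =
          algebraMap A (P A k) (f i) * Xt k j := by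
        rw [Finset.sum_eq_single j]
        · rw [Pi.single_eq_same]
        · intro b _ hb; rw [Pi.single_eq_of_ne hb, zero_mul]
        · intro hh; exact absurd (Finset.mem_univ j) hh
      rw [e1, e2]
      simp only [MvPolynomial.algebraMap_eq]
      have e3 : MvPolynomial.C (f j) * Xt k i - MvPolynomial.C (f i) * Xt k j =
          (MvPolynomial.C (f j) - MvPolynomial.C (f k) * Xt k j) * Xt k i -
            (MvPolynomial.C (f i) - MvPolynomial.C (f k) * Xt k i) * Xt k j := by ring
      rw [e3]
      exact sub_mem (Ideal.mul_mem_right _ _ (C_sub_mem f k j))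
        (Ideal.mul_mem_right _ _ (C_sub_mem f k i))
    | zero => simp
    | add x z _ _ hx hz =>
      simp only [Pi.add_apply, add_mul, Finset.sum_add_distrib]
      exact add_mem hx hz
    | smul b x _ hx =>
      simp only [Pi.smul_apply, smul_eq_mul, mul_assoc]
      rw [← Finset.mul_sum]
      exact Ideal.mul_mem_left _ _ hx
  have hfin := key ρ hmem
  rw [Fintype.sum_eq_add_sum_subtype_ne _ k, h1] at hfin
  simp_rw [h2] at hfin
  have e4 : Xt (A := A) k k = 1 := by simp [Xt]
  have e5 : ∀ j : {j : Fin c // j ≠ k}, Xt (A := A) k j.1 = MvPolynomial.X j := fun j => by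
    simp [Xt, j.2]
  rw [e4] at hfin
  simp_rw [e5] at hfin
  have e6 : (y - ∑ j, r j * MvPolynomial.X j) * 1 + ∑ j, r j * MvPolynomial.X j = y := by ring
  rw [e6] at hfin
  exact hfin


/-- Modulo the ideal of the chart, every polynomial becomes a constant after multiplication by a
power of `a`. -/
theorem exists_pow_mul_sub_C_mem (Q : P A k) :
    ∃ (n : ℕ) (x : A), MvPolynomial.C (f k) ^ n * Q - MvPolynomial.C x ∈ J f k := by
  induction Q using MvPolynomial.induction_on with
  | C r => exact ⟨0, r, by simp⟩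
  | add p q hp hq =>
    obtain ⟨n, x, hx⟩ := hp
    obtain ⟨m, z, hz⟩ := hq
    refine ⟨n + m, f k ^ m * x + f k ^ n * z, ?_⟩
    have e : MvPolynomial.C (f k) ^ (n + m) * (p + q) -
        MvPolynomial.C (f k ^ m * x + f k ^ n * z) =
        MvPolynomial.C (f k) ^ m * (MvPolynomial.C (f k) ^ n * p - MvPolynomial.C x) +
          MvPolynomial.C (f k) ^ n * (MvPolynomial.C (f k) ^ m * q - MvPolynomial.C z) := by
      simp only [map_add, map_mul, map_pow]
      ring
    rw [e]
    exact add_mem (Ideal.mul_mem_left _ _ hx) (Ideal.mul_mem_left _ _ hz)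
  | mul_X p j hp =>
    obtain ⟨n, x, hx⟩ := hp
    refine ⟨n + 1, x * f j.1, ?_⟩
    have hg : gen f k j ∈ J f k := Ideal.subset_span ⟨_, rfl⟩
    have e : MvPolynomial.C (f k) ^ (n + 1) * (p * MvPolynomial.X j) -
        MvPolynomial.C (x * f j.1) =
        (MvPolynomial.C (f k) * MvPolynomial.X j) *
          (MvPolynomial.C (f k) ^ n * p - MvPolynomial.C x) +
          MvPolynomial.C x * gen f k j := by
      simp only [map_mul, gen]
      ring
    rw [e]
    exact add_mem (Ideal.mul_mem_left _ _ hx) (Ideal.mul_mem_left _ _ hg)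

include hk in
/-- **The ideal of the chart**: `ker Θ = (a T_j - f_j)` for an `H_1`-regular sequence. -/
theorem ker_Θ_eq (hH1 : CAlgX.IsH1Regular f) : RingHom.ker (Θ f hfI h k) = J f k := by
  refine le_antisymm ?_ (J_le_ker f hfI h k hk)
  intro Q hQ
  rw [RingHom.mem_ker] at hQ
  obtain ⟨n, x, hx⟩ := exists_pow_mul_sub_C_mem f k Q
  have h1 := J_le_ker f hfI h k hk hx
  rw [RingHom.mem_ker, map_sub, map_mul, hQ, mul_zero, zero_sub, neg_eq_zero] at h1
  have h2 : κ x = 0 := by simpa [Θ] using h1
  obtain ⟨N, hN⟩ := h.ker x h2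
  have h3 : MvPolynomial.C (f k) ^ (N + n) * Q ∈ J f k := by
    have e : MvPolynomial.C (f k) ^ (N + n) * Q =
        MvPolynomial.C (f k) ^ N * (MvPolynomial.C (f k) ^ n * Q - MvPolynomial.C x) +
          MvPolynomial.C (a ^ N * x) := by
      simp only [map_mul, map_pow, hk]
      ring
    rw [e, hN, map_zero, add_zero]
    exact Ideal.mul_mem_left _ _ hx
  -- cancel the powers of `a`
  have h4 : ∀ m : ℕ, MvPolynomial.C (f k) ^ m * Q ∈ J f k → Q ∈ J f k := by
    intro m
    induction m with
    | zero => intro hm; simpa using hm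
    | succ m ih =>
      intro hm
      apply ih
      apply mem_J_of_C_mul_mem f k hH1
      rw [← mul_assoc, ← pow_succ']
      exact hm
  exact h4 _ h3

include hk h in
/-- **An affine blow-up chart along an `H_1`-regular sequence is of finite presentation.** -/
theorem finitePresentation (hI : I = Ideal.span (Set.range f)) (hH1 : CAlgX.IsH1Regular f) :
    κ.FinitePresentation := by
  classical
  have hfI : ∀ j, f j ∈ I := fun j => hI ▸ Ideal.subset_span ⟨j, rfl⟩
  letI := κ.toAlgebra
  let Θa : P A k →ₐ[A] B := MvPolynomial.aeval (fun j : {j : Fin c // j ≠ k} => t f hfI h j.1)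
  have hΘ : (Θa : P A k →+* B) = Θ f hfI h k := by
    refine MvPolynomial.ringHom_ext (fun r => ?_) (fun j => ?_)
    · simp [Θa, Θ, RingHom.algebraMap_toAlgebra]
    · simp [Θa, Θ]
  have hsurj : Function.Surjective Θa := by
    intro z
    obtain ⟨Q, hQ⟩ := Θ_surjective f hfI h k hk hI z
    exact ⟨Q, by rw [← hQ, ← hΘ]; rfl⟩
  have hker : (RingHom.ker (Θa : P A k →+* B)).FG := by
    rw [hΘ, ker_Θ_eq f hfI h k hk hH1, J]
    exact Submodule.fg_span (Set.finite_range _)
  exact Algebra.FinitePresentation.of_surjective hsurj hker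

end Groth.Agent.Lib.Helper25.ChartPres
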