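import Mathlib
import Groth.Agent.Lib.Helper11.KzCone
import Groth.Agent.Lib.Helper11.KzRes
import Groth.Agent.Lib.Helper16.KzLoc1

/-!
# Dropping the first element of a Koszul-regular sequence (helper25)

If `a :: l` is Koszul-regular and `l` is Koszul-regular after inverting `a`, then `l` is
Koszul-regular.
-/

set_option autoImplicit false
universe u
open CategoryTheory CategoryTheory.Limits CochainComplex

namespace Groth.Agent.Lib.Helper25.KoszulCons

open Groth.Agent.Lib.Helper11.Kz Groth.Agent.Lib.Helper16.KzLoc

section Cone

variable {A : Type u} [CommRing A] {K L : CochainComplex (ModuleCat.{u} A) ℤ} (φ : K ⟶ L)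

open HomotopyCategory Pretriangulated

/-- If the cone of `φ` has no cohomology in degree `n`, then `H^{n+1}(φ)` is injective. -/
theorem injective_homologyMap_of_isZero_cone (n : ℤ)
    (h : IsZero ((mappingCone φ).homology n)) :
    Function.Injective (HomologicalComplex.homologyMap φ (n + 1)).hom := by
  let F := HomotopyCategory.homologyFunctor (ModuleCat.{u} A) (ComplexShape.up ℤ) 0
  let T := mappingCone.triangleh φ
  have hT : T ∈ distTriang _ := HomotopyCategory.mappingCone_triangleh_distinguished φ
  let eK : ∀ m : ℤ, (F.shift m).obj T.obj₁ ≅ K.homology m := fun m =>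
    (homologyFunctorFactors (ModuleCat.{u} A) (ComplexShape.up ℤ) m).app K
  let eL : ∀ m : ℤ, (F.shift m).obj T.obj₂ ≅ L.homology m := fun m =>
    (homologyFunctorFactors (ModuleCat.{u} A) (ComplexShape.up ℤ) m).app L
  let eC : ∀ m : ℤ, (F.shift m).obj T.obj₃ ≅ (mappingCone φ).homology m := fun m =>
    (homologyFunctorFactors (ModuleCat.{u} A) (ComplexShape.up ℤ) m).app (mappingCone φ)
  have comm : ∀ m : ℤ, (F.shift m).map T.mor₁ ≫ (eL m).hom =
      (eK m).hom ≫ HomologicalComplex.homologyMap φ m := fun m =>
    (homologyFunctorFactors (ModuleCat.{u} A) (ComplexShape.up ℤ) m).hom.naturality φ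
  have hz : IsZero ((F.shift n).obj T.obj₃) := h.of_iso (eC n)
  have hδ : F.homologySequenceδ T n (n + 1) rfl = 0 := hz.eq_of_src _ _
  have hmono : Mono ((F.shift (n + 1)).map T.mor₁) :=
    (F.homologySequence_mono_shift_map_mor₁_iff T hT n (n + 1) rfl).mpr hδ
  have hmono2 : Mono (HomologicalComplex.homologyMap φ (n + 1)) := by
    have h1 : HomologicalComplex.homologyMap φ (n + 1) =
        (eK (n + 1)).inv ≫ (F.shift (n + 1)).map T.mor₁ ≫ (eL (n + 1)).hom := by
      rw [comm, Iso.inv_hom_id_assoc]
    rw [h1]
    infer_instance
  exact (ModuleCat.mono_iff_injective _).mp hmono2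

end Cone

variable {A : Type u} [CommRing A]

/-- **Dropping the first element.** -/
theorem kreg_of_cons (a : A) (l : List A) (hcons : LCI.IsKoszulRegularSeq A (a :: l))
    (hloc : KregLoc l (Submonoid.powers a)) : LCI.IsKoszulRegularSeq A l := by
  intro i hi
  rw [ModuleCat.isZero_iff_subsingleton, subsingleton_iff_forall_eq 0]
  intro y
  obtain ⟨s, ⟨m, rfl⟩, hy⟩ := hloc i hi y
  -- multiplication by `a` is injective on the cohomology in degree `i`
  have hinj : Function.Injective (fun v : ((Koszul.koszul A l).homology i : ModuleCat.{u} A) => a • v) := by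
    by_cases h1 : i = 1
    · -- no cohomology in positive degrees
      subst h1
      have hsub : Subsingleton ((Koszul.koszul A l).homology 1 : ModuleCat.{u} A) := by
        rw [koszul_eq]
        exact KH_subsingleton l A 1 (Or.inl one_pos)
      intro v w _
      exact Subsingleton.elim _ _
    · have hz : IsZero ((Koszul.koszul A (a :: l)).homology (i - 1)) :=
        hcons (i - 1) (by omega)
      have hz' : IsZero ((mappingCone (a • 𝟙 (Koszul.koszul A l))).homology (i - 1)) := hz
      have h2 := injective_homologyMap_of_isZero_cone (a • 𝟙 (Koszul.koszul A l)) (i - 1) hz'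
      rw [homologyMap_smul_id] at h2
      have h3 : i - 1 + 1 = i := by omega
      rw [h3] at h2
      intro v w hvw
      exact h2 hvw
  have hpow : ∀ m : ℕ, ∀ v : ((Koszul.koszul A l).homology i : ModuleCat.{u} A),
      a ^ m • v = 0 → v = 0 := by
    intro m
    induction m with
    | zero =>
      intro v hv
      rwa [pow_zero, one_smul] at hv
    | succ m ih =>
      intro v hv
      rw [pow_succ', mul_smul] at hv
      have : a ^ m • v = 0 := hinj (by
        show a • (a ^ m • v) = a • (0 : ((Koszul.koszul A l).homology i : ModuleCat.{u} A))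
        rw [hv, smul_zero])
      exact ih v this
  exact hpow m y hy

end Groth.Agent.Lib.Helper25.KoszulCons
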