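import Mathlib
import Groth.Agent.Lib.Helper25.KoszulCons1
import Groth.Agent.Lib.Helper16.KzInv5
import Groth.Agent.Lib.Helper16.KzComp4

/-!
# The equations of an affine blow-up chart of a Koszul-regular sequence are Koszul-regular
(helper25)

For a Koszul-regular sequence `f_0, …, f_n` in `A` and an index `k`, the polynomials
`f_k X_m - f_{k.succAbove m}` form a Koszul-regular sequence in `A[X_0, …, X_{n-1}]`.
-/

set_option autoImplicit false
universe u
open CategoryTheory CategoryTheory.Limits MvPolynomial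

namespace Groth.Agent.Lib.Helper25.KoszulCons

open Groth.Agent.Lib.Helper16.KzInv Groth.Agent.Lib.Helper16.KzLoc Groth.Agent.Lib.Helper16.KzComp

variable {A : Type u} [CommRing A] {n : ℕ} (f : Fin (n + 1) → A) (k : Fin (n + 1))

/-- the equations of the `k`-th chart -/
noncomputable def chartGen (m : Fin n) : MvPolynomial (Fin n) A :=
  C (f k) * X m - C (f (k.succAbove m))

theorem ofList_cons_chartGen :
    Ideal.ofList (C (f k) :: List.ofFn (chartGen f k)) =
      Ideal.ofList ((List.ofFn f).map (algebraMap A (MvPolynomial (Fin n) A))) := by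
  apply le_antisymm
  · rw [Ideal.ofList, Ideal.span_le]
    intro x hx
    rw [Set.mem_ofPred_eq, List.mem_cons] at hx
    have hmem : ∀ j, (C (f j) : MvPolynomial (Fin n) A) ∈
        Ideal.ofList ((List.ofFn f).map (algebraMap A (MvPolynomial (Fin n) A))) := by
      intro j
      apply Ideal.subset_span
      rw [Set.mem_ofPred_eq, List.mem_map]
      exact ⟨f j, (List.mem_ofFn' _ _).mpr ⟨j, rfl⟩, rfl⟩
    rcases hx with rfl | hx
    · exact hmem k
    · obtain ⟨m, rfl⟩ := (List.mem_ofFn' _ _).mp hx
      rw [SetLike.mem_coe, chartGen]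
      exact Ideal.sub_mem _ (Ideal.mul_mem_right _ _ (hmem k)) (hmem _)
  · rw [Ideal.ofList, Ideal.span_le]
    intro x hx
    rw [Set.mem_ofPred_eq, List.mem_map] at hx
    obtain ⟨y, hy, rfl⟩ := hx
    obtain ⟨j, rfl⟩ := (List.mem_ofFn' _ _).mp hy
    have hk : (C (f k) : MvPolynomial (Fin n) A) ∈
        Ideal.ofList (C (f k) :: List.ofFn (chartGen f k)) := by
      apply Ideal.subset_span
      rw [Set.mem_ofPred_eq]
      exact List.mem_cons_self
    rw [SetLike.mem_coe]
    by_cases hjk : j = k
    · rw [hjk]; exact hk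
    · obtain ⟨m, rfl⟩ := Fin.exists_succAbove_eq hjk
      have hg : chartGen f k m ∈ Ideal.ofList (C (f k) :: List.ofFn (chartGen f k)) := by
        apply Ideal.subset_span
        rw [Set.mem_ofPred_eq]
        exact List.mem_cons_of_mem _ ((List.mem_ofFn' _ _).mpr ⟨m, rfl⟩)
      have e : (algebraMap A (MvPolynomial (Fin n) A)) (f (k.succAbove m)) =
          C (f k) * X m - chartGen f k m := by
        rw [chartGen]; simp [MvPolynomial.algebraMap_eq]
      rw [e]
      exact Ideal.sub_mem _ (Ideal.mul_mem_right _ _ hk) hg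

theorem kreg_cons_chartGen (hf : LCI.IsKoszulRegularSeq A (List.ofFn f)) :
    LCI.IsKoszulRegularSeq (MvPolynomial (Fin n) A) (C (f k) :: List.ofFn (chartGen f k)) := by
  have hP : LCI.IsKoszulRegularSeq (MvPolynomial (Fin n) A)
      ((List.ofFn f).map (algebraMap A (MvPolynomial (Fin n) A))) :=
    isKoszulRegularSeq_map_of_flat hf
  refine isKoszulRegularSeq_of_ofList_eq _ _ ?_ (ofList_cons_chartGen f k) hP
  simp

attribute [local instance] MvPolynomial.algebraMvPolynomial in
theorem kregLoc_chartGen :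
    KregLoc (List.ofFn (chartGen f k)) (Submonoid.powers (C (f k) : MvPolynomial (Fin n) A)) := by
  set Aa := Localization.Away (f k) with hAa
  haveI hloc : IsLocalization ((Submonoid.powers (f k)).map (C (σ := Fin n)))
      (MvPolynomial (Fin n) Aa) := MvPolynomial.isLocalization (Submonoid.powers (f k)) Aa
  have hS : (Submonoid.powers (f k)).map (C (σ := Fin n) : A →+* MvPolynomial (Fin n) A) =
      Submonoid.powers (C (f k) : MvPolynomial (Fin n) A) := by
    rw [Submonoid.map_powers]
  rw [hS] at hloc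
  rw [← kreg_iff_kregLoc (List.ofFn (chartGen f k)) _ (MvPolynomial (Fin n) Aa)]
  have hu : IsUnit (algebraMap A Aa (f k)) := IsLocalization.Away.algebraMap_isUnit (f k)
  set u := algebraMap A Aa (f k) with hudef
  set v : Aa := ↑(hu.unit⁻¹) with hvdef
  have huv : u * v = 1 := by rw [hvdef]; exact hu.mul_val_inv
  let h : Fin n → Aa := fun m => v * algebraMap A Aa (f (k.succAbove m))
  have hmap : (List.ofFn (chartGen f k)).map
      (algebraMap (MvPolynomial (Fin n) A) (MvPolynomial (Fin n) Aa)) =
      List.ofFn (fun m => (C u : MvPolynomial (Fin n) Aa) * (X m - C (h m))) := by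
    rw [List.map_ofFn]
    congr 1
    funext m
    simp only [Function.comp_apply, chartGen, MvPolynomial.algebraMap_def, map_sub, map_mul,
      MvPolynomial.map_C, MvPolynomial.map_X, h]
    rw [mul_sub, ← mul_assoc (C u) (C v), ← C_mul, huv, C_1, one_mul]
  rw [hmap]
  refine isKoszulRegularSeq_of_ofList_eq (shiftList h) _ (by simp [shiftList]) ?_ (kreg_shiftList h)
  apply le_antisymm
  · rw [Ideal.ofList, Ideal.span_le]
    intro x hx
    obtain ⟨m, rfl⟩ := (List.mem_ofFn' _ _).mp hx
    apply Ideal.mul_mem_left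
    apply Ideal.subset_span
    rw [Set.mem_ofPred_eq, shiftList]
    exact (List.mem_ofFn' _ _).mpr ⟨m, rfl⟩
  · rw [Ideal.ofList, Ideal.span_le]
    intro x hx
    rw [Set.mem_ofPred_eq, shiftList] at hx
    obtain ⟨m, rfl⟩ := (List.mem_ofFn' _ _).mp hx
    have e : (X m - C (h m) : MvPolynomial (Fin n) Aa) =
        C v * ((C u : MvPolynomial (Fin n) Aa) * (X m - C (h m))) := by
      rw [← mul_assoc, ← C_mul, mul_comm v u, huv, C_1, one_mul]
    show (X m - C (h m) : MvPolynomial (Fin n) Aa) ∈ _
    rw [e]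
    apply Ideal.mul_mem_left
    apply Ideal.subset_span
    rw [Set.mem_ofPred_eq]
    exact (List.mem_ofFn' _ _).mpr ⟨m, rfl⟩

/-- **The equations of a chart of the blow-up of a Koszul-regular sequence are Koszul-regular.** -/
theorem kreg_chartGen (hf : LCI.IsKoszulRegularSeq A (List.ofFn f)) :
    LCI.IsKoszulRegularSeq (MvPolynomial (Fin n) A) (List.ofFn (chartGen f k)) :=
  kreg_of_cons _ _ (kreg_cons_chartGen f k hf) (kregLoc_chartGen f k)

end Groth.Agent.Lib.Helper25.KoszulCons
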