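import Mathlib
import Groth.Agent.Lib.Helper25.KoszulCons2
import Groth.Agent.Lib.Helper25.ChartPres
import Groth.Agent.Lib.Helper16.KzDesc1

/-!
# An affine blow-up chart along a Koszul-regular sequence is a local complete intersection ring map
(helper25)
-/

set_option autoImplicit false
universe u
open CategoryTheory CategoryTheory.Limits MvPolynomial

namespace Groth.Agent.Lib.Helper25.BlowUpLCI

open Groth.Agent.Lib.Helper25.KoszulCons Groth.Agent.Lib.Helper25.RegChart
  Groth.Agent.Lib.Helper25.ChartPres Groth.Agent.Lib.Helper16.KzComp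

variable {A B : Type u} [CommRing A] [CommRing B] {I : Ideal A} {a : A} {κ : A →+* B}

theorem isLCIHom_of_isChart {c : ℕ} (f : Fin c → A) (h : IsChart I a κ) (k : Fin c) (hk : f k = a)
    (hI : I = Ideal.span (Set.range f)) (hH1 : CAlgX.IsH1Regular f)
    (hkr : LCI.IsKoszulRegularSeq A (List.ofFn f)) : IsLCIHom κ := by
  classical
  obtain ⟨n, rfl⟩ : ∃ n, c = n + 1 := ⟨c - 1, by have := k.pos; omega⟩
  have hfI : ∀ j, f j ∈ I := fun j => hI ▸ Ideal.subset_span ⟨j, rfl⟩
  letI := κ.toAlgebra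
  show LCI.IsLCI A B
  let ε : Fin n ≃ {j : Fin (n + 1) // j ≠ k} := finSuccAboveEquiv k
  have hε : ∀ m : Fin n, ((ε m : {j : Fin (n + 1) // j ≠ k}) : Fin (n + 1)) = k.succAbove m :=
    fun m => by rw [finSuccAboveEquiv_apply]
  let ρ : MvPolynomial (Fin n) A ≃ₐ[A] MvPolynomial {j : Fin (n + 1) // j ≠ k} A :=
    MvPolynomial.renameEquiv A ε
  let φ : MvPolynomial (Fin n) A →ₐ[A] B :=
    MvPolynomial.aeval (fun m : Fin n => t f hfI h (k.succAbove m))
  have hφ : (φ : MvPolynomial (Fin n) A →+* B) = (Θ f hfI h k).comp (ρ : MvPolynomial (Fin n) A →+* _) := by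
    refine MvPolynomial.ringHom_ext (fun r => ?_) (fun m => ?_)
    · simp [φ, Θ, ρ, RingHom.algebraMap_toAlgebra]
    · simp [φ, Θ, ρ, hε]
  have hsurj : Function.Surjective φ := by
    intro z
    obtain ⟨Q, hQ⟩ := Θ_surjective f hfI h k hk hI z
    refine ⟨ρ.symm Q, ?_⟩
    have : (φ : MvPolynomial (Fin n) A →+* B) (ρ.symm Q) = z := by
      rw [hφ, RingHom.comp_apply]
      have : (ρ : MvPolynomial (Fin n) A →+* _) (ρ.symm Q) = Q := ρ.apply_symm_apply Q
      rw [this, hQ]
    exact this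
  have hker : RingHom.ker φ.toRingHom = Ideal.ofList (List.ofFn (chartGen f k)) := by
    have h0 : φ.toRingHom = (Θ f hfI h k).comp (ρ : MvPolynomial (Fin n) A →+* _) := hφ
    rw [h0, ← RingHom.comap_ker, ker_Θ_eq f hfI h k hk hH1]
    have hJ : J f k = (Ideal.ofList (List.ofFn (chartGen f k))).map
        (ρ : MvPolynomial (Fin n) A →+* _) := by
      rw [J, Ideal.ofList, Ideal.map_span]
      congr 1
      ext x
      constructor
      · rintro ⟨j, rfl⟩
        refine ⟨chartGen f k (ε.symm j), ?_, ?_⟩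
        · exact (List.mem_ofFn' _ _).mpr ⟨ε.symm j, rfl⟩
        · have hj : k.succAbove (ε.symm j) = j.1 := by
            rw [← hε, ε.apply_symm_apply]
          simp [chartGen, gen, ρ, hj]
      · rintro ⟨y, hy, rfl⟩
        obtain ⟨m, rfl⟩ := (List.mem_ofFn' _ _).mp hy
        refine ⟨ε m, ?_⟩
        simp [chartGen, gen, ρ, hε]
    rw [hJ]
    exact Ideal.comap_map_of_bijective _ ρ.bijective
  refine ⟨Algebra.FiniteType.of_surjective φ hsurj, n, φ, hsurj, ?_⟩
  rw [hker]
  exact isKoszulRegularIdeal_ofList _ (kreg_chartGen f k hkr)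

end Groth.Agent.Lib.Helper25.BlowUpLCI
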