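import Mathlib
import Groth.Agent.Lib.Helper25.BlowUpLCI1
import Groth.Agent.Lib.Helper25.BlowUpFP
import Groth.Agent.Lib.Helper16.KzDesc2
import Groth.Agent.S1514

/-!
# The blowing up along a regular closed immersion is a local complete intersection morphism, hence
perfect (helper25)
-/

set_option autoImplicit false
universe u
open CategoryTheory CategoryTheory.Limits AlgebraicGeometry TopologicalSpace

namespace Groth.Agent.Lib.Helper25.BlowUpLCI

open Groth.Agent.Lib.Helper25.BlowUpChart Groth.Agent.Lib.Helper25.RegChart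
  Groth.Agent.Lib.Helper25.BlowUpUP Groth.Agent.Lib.Helper16.KzComp
  Groth.Agent.Lib.Helper25.BlowUpFP

instance lciMor_isStableUnderComposition : (LCIMor.{u}).IsStableUnderComposition :=
  HasRingHomProperty.stableUnderComposition isLCIHom_stableUnderComposition

theorem lciMor_of_isOpenImmersion {X Y : Scheme.{u}} (f : X ⟶ Y) [IsOpenImmersion f] : LCIMor f :=
  HasRingHomProperty.of_isOpenImmersion (P := LCIMor)
    isLCIHom_holdsForLocalizationAway.containsIdentities

instance lciMor_respectsRight : MorphismProperty.RespectsRight (LCIMor.{u}) @IsOpenImmersion :=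
  ⟨fun j hj g hg => by
    haveI : IsOpenImmersion j := hj
    exact MorphismProperty.comp_mem _ _ _ hg (lciMor_of_isOpenImmersion j)⟩

/-- **The blowing up along a regular closed immersion is a local complete intersection morphism.** -/
theorem lciMor_blowUp {X X' Y : Scheme.{u}} (i : Y ⟶ X)
    (hi : Mor2.IsRegularClosedImmersion i) (b : X' ⟶ X) (hb : BlowUp.IsBlowUp b i.ker) :
    LCIMor b := by
  haveI : IsClosedImmersion i := hi.1
  rw [IsZariskiLocalAtSource.iff_exists_resLE (P := LCIMor)]
  intro x'
  by_cases hx : b x' ∈ i.ker.support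
  · obtain ⟨y, hy⟩ : ∃ y : Y, i y = b x' := by
      have h1 : (i.ker.support : Set X) = Set.range i := by
        rw [Scheme.Hom.support_ker, i.isClosedEmbedding.isClosed_range.closure_eq]
      have : b x' ∈ Set.range i := by rw [← h1]; exact hx
      exact this
    obtain ⟨U, hU, hiU, rs, hrs, hker⟩ := hi.2 y
    have hx'U : x' ∈ b ⁻¹ᵁ U := by
      change b x' ∈ U
      rw [← hy]; exact hiU
    let f : Fin rs.length → Γ(X, U) := fun j => rs.get j
    have hf : List.ofFn f = rs := List.ofFn_get rs
    have hspan : Ideal.span (Set.range f) = i.ker.ideal ⟨U, hU⟩ := by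
      rw [hker, Ideal.ofList]
      congr 1
      ext z
      simp [f, List.mem_iff_get]
    obtain ⟨a, ⟨k, hk⟩, V, hV, hVU, hxV, hchart⟩ :=
      exists_chart i.ker b hb U hU (Set.range f) hspan x' hx'U
    have hlci : IsLCIHom (b.appLE U V hVU).hom :=
      isLCIHom_of_isChart f hchart k hk hspan.symm (isH1Regular_get_of_isRegular rs hrs)
        (by rw [hf]; exact kreg_of_isWeaklyRegular rs hrs.toIsWeaklyRegular)
    refine ⟨U, V, hxV, hVU, ?_⟩
    haveI : IsAffine U := hU
    haveI : IsAffine V := hV
    rw [HasRingHomProperty.iff_of_isAffine (P := LCIMor)]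
    exact (isLCIHom_respectsIso.arrow_mk_iso_iff (arrowResLEAppIso b U V hVU)).mpr hlci
  · refine ⟨complSupport i.ker, b ⁻¹ᵁ complSupport i.ker, hx, le_rfl, ?_⟩
    rw [Scheme.Hom.resLE_eq_morphismRestrict]
    haveI := isIso_restrict_compl_support i.ker b hb
    exact lciMor_of_isOpenImmersion _

/-- **The blowing up along a regular closed immersion is a perfect morphism.** -/
theorem isPerfectMor_blowUp {X X' Y : Scheme.{u}} (i : Y ⟶ X)
    (hi : Mor2.IsRegularClosedImmersion i) (b : X' ⟶ X) (hb : BlowUp.IsBlowUp b i.ker) :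
    MoreMor.IsPerfectMor b :=
  (Groth.Agent.S1514.result b ((lciMor_iff b).mp (lciMor_blowUp i hi b hb))).2.2

end Groth.Agent.Lib.Helper25.BlowUpLCI
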