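import Groth.Agent.Lib.Helper25.BlowUpRegular
import Groth.Agent.Lib.Helper25.BlowUpIntegral
import Groth.Agent.Lib.Helper14.SmRegField
import Groth.Agent.Lib.Helper21.RegularLocal

/-!
# The blowing up of a regular local ring in its maximal ideal is regular
-/

set_option autoImplicit false
universe u
open CategoryTheory CategoryTheory.Limits AlgebraicGeometry TopologicalSpace

namespace Groth.Agent.Lib.Helper25.BlowUpRegSpec

open Groth.Agent.Lib.Helper25.BlowUpUP Groth.Agent.Lib.Helper25.RegularSmooth
  Groth.Agent.Lib.Helper25.BlowUpRegGen Groth.Agent.Lib.Helper25.BlowUpRegular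

variable {A : Type u} [CommRing A]

theorem ker_SpecMap_mk (I : Ideal A) :
    (Spec.map (CommRingCat.ofHom (Ideal.Quotient.mk I))).ker = specIdeal I := by
  rw [Scheme.ker_of_isAffine]
  congr 1
  ext x
  have hnat := Scheme.ΓSpecIso_inv_naturality (CommRingCat.ofHom (Ideal.Quotient.mk I))
  let e : A ≃+* Γ(Spec (CommRingCat.of A), ⊤) :=
    (Scheme.ΓSpecIso (CommRingCat.of A)).symm.commRingCatIsoToRingEquiv
  obtain ⟨a, rfl⟩ := e.surjective x
  have h1 : (Spec.map (CommRingCat.ofHom (Ideal.Quotient.mk I))).appTop.hom (e a) =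
      (Scheme.ΓSpecIso (CommRingCat.of (A ⧸ I))).inv.hom (Ideal.Quotient.mk I a) := by
    have := congrArg (fun φ => φ.hom a) hnat
    exact this.symm
  rw [RingHom.mem_ker, h1]
  have hinj : Function.Injective (Scheme.ΓSpecIso (CommRingCat.of (A ⧸ I))).inv.hom :=
    (ConcreteCategory.bijective_of_isIso (Scheme.ΓSpecIso (CommRingCat.of (A ⧸ I))).inv).1
  rw [map_eq_zero_iff _ hinj, Ideal.Quotient.eq_zero_iff_mem]
  constructor
  · intro ha
    exact Ideal.mem_map_of_mem _ ha
  · intro ha
    have h2 : (Ideal.map (Scheme.ΓSpecIso (CommRingCat.of A)).inv.hom I) = I.map (e : A →+* _) := rfl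
    rw [h2] at ha
    obtain ⟨a', ha', h3⟩ := (Ideal.mem_map_of_equiv e _).1 ha
    rwa [← e.injective h3]

/-- all local rings of the spectrum of a regular local ring are regular -/
theorem isRegularLocalRing_stalk_Spec [IsRegularLocalRing A] (x : Spec (CommRingCat.of A)) :
    IsRegularLocalRing ((Spec (CommRingCat.of A)).presheaf.stalk x) := by
  have hA : IsAffineOpen (⊤ : (Spec (CommRingCat.of A)).Opens) := isAffineOpen_top _
  let x' : (⊤ : (Spec (CommRingCat.of A)).Opens) := ⟨x, trivial⟩
  letI := (Spec (CommRingCat.of A)).presheaf.algebra_section_stalk x'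
  haveI hloc := hA.isLocalization_stalk x'
  let e₀ : Γ(Spec (CommRingCat.of A), ⊤) ≃+* A :=
    (Scheme.ΓSpecIso (CommRingCat.of A)).commRingCatIsoToRingEquiv
  haveI : IsRegularLocalRing Γ(Spec (CommRingCat.of A), ⊤) := IsRegularLocalRing.of_ringEquiv e₀.symm
  haveI := Groth.Agent.Lib.Helper18.SerreReg.isRegularLocalRing_localization_atPrime
    Γ(Spec (CommRingCat.of A), ⊤) (hA.primeIdealOf x').asIdeal
  exact IsRegularLocalRing.of_ringEquiv (IsLocalization.algEquiv
    (hA.primeIdealOf x').asIdeal.primeCompl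
    (Localization.AtPrime (hA.primeIdealOf x').asIdeal)
    ((Spec (CommRingCat.of A)).presheaf.stalk x)).toRingEquiv

/-- **The blowing up of a regular local ring in its maximal ideal is regular.** -/
theorem isRegularLocalRing_stalk_blowUp_maximalIdeal [IsRegularLocalRing A] {X : Scheme.{u}}
    (b : X ⟶ Spec (CommRingCat.of A))
    (hb : BlowUp.IsBlowUp b (specIdeal (IsLocalRing.maximalIdeal A))) (x : X) :
    IsRegularLocalRing (X.presheaf.stalk x) := by
  letI : Field (A ⧸ IsLocalRing.maximalIdeal A) := Ideal.Quotient.field _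
  let i : Spec (CommRingCat.of (A ⧸ IsLocalRing.maximalIdeal A)) ⟶ Spec (CommRingCat.of A) :=
    Spec.map (CommRingCat.ofHom (Ideal.Quotient.mk (IsLocalRing.maximalIdeal A)))
  haveI : IsClosedImmersion i := IsClosedImmersion.spec_of_surjective _ Ideal.Quotient.mk_surjective
  haveI : IsLocallyNoetherian (Spec (CommRingCat.of A)) := inferInstance
  have hker : i.ker = specIdeal (IsLocalRing.maximalIdeal A) := ker_SpecMap_mk _
  rw [← hker] at hb
  have hY := Groth.Agent.Lib.Helper14.AS.isRegularLocalRing_stalk_spec_field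
    (A ⧸ IsLocalRing.maximalIdeal A)
  have hi := isRegularClosedImmersion_of_regular i
    (fun y => isRegularLocalRing_stalk_Spec (i y)) hY
  exact isRegularLocalRing_stalk_blowUp i hi isRegularLocalRing_stalk_Spec hY b hb x

end Groth.Agent.Lib.Helper25.BlowUpRegSpec
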