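import Groth.Agent.Lib.Helper25.BlowUpRegGen
import Groth.Agent.Lib.Helper25.ExcSmooth
import Groth.Agent.S2889
import Groth.Agent.Helper19.RegNear

/-!
# The blowing up of a regular scheme along a regular centre is regular
-/

set_option autoImplicit false
universe u
open CategoryTheory CategoryTheory.Limits AlgebraicGeometry TopologicalSpace

namespace Groth.Agent.Lib.Helper25.BlowUpRegular

open Groth.Agent.Lib.Helper25.BlowUpUP Groth.Agent.Lib.Helper25.RegularSmooth
  Groth.Agent.Lib.Helper25.BlowUpRegGen

/-- A locally Noetherian scheme is regular along a regular effective Cartier divisor. -/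
theorem isRegularLocalRing_stalk_of_effCartier {X' : Scheme.{u}} [IsLocallyNoetherian X']
    (𝓙 : X'.IdealSheafData) (h𝓙 : BlowUp.IsEffCartierIdeal 𝓙) (e : 𝓙.subscheme)
    [IsRegularLocalRing (𝓙.subscheme.presheaf.stalk e)] :
    IsRegularLocalRing (X'.presheaf.stalk (𝓙.subschemeι e)) := by
  obtain ⟨h, hnzd, hmax, ⟨φ⟩⟩ := Groth.Agent.Lib.Helper10.RelCartier.exists_stalk_equiv 𝓙 h𝓙 e
  haveI : IsRegularLocalRing (X'.presheaf.stalk (𝓙.subschemeι e) ⧸ Ideal.span {h}) :=
    IsRegularLocalRing.of_ringEquiv φ.symm
  exact Groth.Agent.Lib.Helper18.CatHt.isRegularLocalRing_of_quotient _ hmax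
    (Module.Flat.isSMulRegular_of_nonZeroDivisors hnzd) inferInstance

/-- A closed immersion between regular locally Noetherian schemes is a regular closed immersion. -/
theorem isRegularClosedImmersion_of_regular {X Y : Scheme.{u}} [IsLocallyNoetherian X] (i : Y ⟶ X)
    [IsClosedImmersion i] (hX : ∀ y : Y, IsRegularLocalRing (X.presheaf.stalk (i y)))
    (hY : ∀ y : Y, IsRegularLocalRing (Y.presheaf.stalk y)) : Mor2.IsRegularClosedImmersion i := by
  refine ⟨inferInstance, fun y => ?_⟩
  haveI := hY y
  obtain ⟨V, hyV, hV⟩ := (Groth.Agent.S2889.result i y).2 (hX y)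
  obtain ⟨W, hW, hyW, rs, hrs, hI⟩ := Groth.Agent.Helper19.RegNear.affReg_of_restrict i y V hyV hV
  exact ⟨W, hW, hyW, rs, hrs, hI.symm⟩

/-- **The blowing up of a regular scheme along a regular centre is regular.** -/
theorem isRegularLocalRing_stalk_blowUp {X X' Y : Scheme.{u}} [IsLocallyNoetherian X] (i : Y ⟶ X)
    (hi : Mor2.IsRegularClosedImmersion i) (hX : ∀ x : X, IsRegularLocalRing (X.presheaf.stalk x))
    (hY : ∀ y : Y, IsRegularLocalRing (Y.presheaf.stalk y))
    (b : X' ⟶ X) (hb : BlowUp.IsBlowUp b i.ker) (z : X') :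
    IsRegularLocalRing (X'.presheaf.stalk z) := by
  haveI : IsClosedImmersion i := hi.1
  by_cases hz : b z ∈ i.ker.support
  · -- the blowing up is proper, so `X'` is locally Noetherian
    have h𝓘 : BlowUp.IsFiniteTypeIdeal i.ker := by
      intro U
      haveI : IsNoetherianRing Γ(X, U.1) := IsLocallyNoetherian.component_noetherian U
      exact (isNoetherianRing_iff_ideal_fg _).1 inferInstance _
    have hproj := Groth.Agent.Lib.Helper25.ReesQC.isProjective_of_isBlowUp i.ker h𝓘 b hb
    haveI hprop : IsProper b := (Groth.Agent.S4418.result b hproj).2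
    haveI : IsLocallyNoetherian X' := LocallyOfFiniteType.isLocallyNoetherian b
    haveI : IsLocallyNoetherian Y := LocallyOfFiniteType.isLocallyNoetherian i
    have hz' : z ∈ (BlowUp.exceptional b i.ker).support := by
      change z ∈ (i.ker.comap b).support
      rw [Scheme.IdealSheafData.support_comap]
      exact hz
    rw [← SetLike.mem_coe, ← Scheme.IdealSheafData.range_subschemeι] at hz'
    obtain ⟨e, rfl⟩ := hz'
    have hle : i.ker ≤ ((BlowUp.exceptional b i.ker).subschemeι ≫ b).ker := by
      rw [← Scheme.IdealSheafData.map_ker, Scheme.IdealSheafData.ker_subschemeι]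
      exact i.ker.le_map_comap b
    let g : (BlowUp.exceptional b i.ker).subscheme ⟶ Y :=
      IsClosedImmersion.lift i ((BlowUp.exceptional b i.ker).subschemeι ≫ b) hle
    have hg : g ≫ i = (BlowUp.exceptional b i.ker).subschemeι ≫ b :=
      IsClosedImmersion.lift_fac _ _ _
    haveI : Smooth g := Groth.Agent.Lib.Helper25.ExcSmooth.smooth_exceptional i hi b hb g hg
    haveI := hY (g e)
    haveI : IsRegularLocalRing ((BlowUp.exceptional b i.ker).subscheme.presheaf.stalk e) :=
      isRegularLocalRing_stalk_of_smooth g e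
    exact isRegularLocalRing_stalk_of_effCartier (BlowUp.exceptional b i.ker) hb.1 e
  · haveI hst : IsIso (b.stalkMap z) := isIso_stalkMap_of_notMem_support i.ker b hb z hz
    haveI := hX (b z)
    exact IsRegularLocalRing.of_ringEquiv (asIso (b.stalkMap z)).commRingCatIsoToRingEquiv

end Groth.Agent.Lib.Helper25.BlowUpRegular
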