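import Groth.Agent.Lib.Helper25.BlowUpFP
import Groth.Agent.Lib.Helper25.ExcSmooth
import Groth.Agent.Helper19.SmReg3
import Groth.Agent.Helper19.CIBridge3
import Groth.Agent.Helper19.LciMor
import Groth.Agent.Lib.Helper13.SchemeLocal
import Groth.Agent.S1677

/-!
# The blowing up of a smooth scheme along a smooth centre is smooth
-/

set_option autoImplicit false
universe u
open CategoryTheory CategoryTheory.Limits AlgebraicGeometry TopologicalSpace

namespace Groth.Agent.Lib.Helper25.BlowUpSmooth

open Groth.Agent.Lib.Helper25.BlowUpUP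

/-- A closed immersion of a smooth `S`-scheme into a smooth `S`-scheme is a regular closed
immersion. -/
theorem isRegularClosedImmersion_of_smooth {Z X S : Scheme.{u}} (q : X ⟶ S) [Smooth q]
    (i : Z ⟶ X) [IsClosedImmersion i] [Smooth (i ≫ q)] : Mor2.IsRegularClosedImmersion i := by
  have hci : CInt.IsCIMorphism (i ≫ q) :=
    (Groth.Agent.Helper19.CIBridge.isCIMorphism_iff_lciMor (i ≫ q)).mpr
      (Groth.Agent.Helper19.LciMor.lciMor_of_smooth (i ≫ q))
  exact Groth.Agent.S1677.result q i hci

/-- **The blowing up of a smooth scheme along a smooth centre is smooth, and so is its exceptional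
divisor.** -/
theorem smooth_blowUp {Z X X' S : Scheme.{u}} (q : X ⟶ S) [Smooth q] (i : Z ⟶ X)
    [IsClosedImmersion i] [Smooth (i ≫ q)] (b : X' ⟶ X) (hb : BlowUp.IsBlowUp b i.ker) :
    Smooth (b ≫ q) ∧ Smooth ((BlowUp.exceptional b i.ker).subschemeι ≫ b ≫ q) := by
  have hi : Mor2.IsRegularClosedImmersion i := isRegularClosedImmersion_of_smooth q i
  haveI hlfp : LocallyOfFinitePresentation b :=
    Groth.Agent.Lib.Helper25.BlowUpFP.locallyOfFinitePresentation_blowUp i hi b hb
  -- the exceptional divisor is smooth over the centre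
  have hle : i.ker ≤ ((BlowUp.exceptional b i.ker).subschemeι ≫ b).ker := by
    rw [← Scheme.IdealSheafData.map_ker]
    have hk : (BlowUp.exceptional b i.ker).subschemeι.ker = BlowUp.exceptional b i.ker :=
      Scheme.IdealSheafData.ker_subschemeι _
    rw [hk]
    exact i.ker.le_map_comap b
  let g : (BlowUp.exceptional b i.ker).subscheme ⟶ Z :=
    IsClosedImmersion.lift i ((BlowUp.exceptional b i.ker).subschemeι ≫ b) hle
  have hg : g ≫ i = (BlowUp.exceptional b i.ker).subschemeι ≫ b :=
    IsClosedImmersion.lift_fac _ _ _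
  haveI : Smooth g := Groth.Agent.Lib.Helper25.ExcSmooth.smooth_exceptional i hi b hb g hg
  have hE : Smooth ((BlowUp.exceptional b i.ker).subschemeι ≫ b ≫ q) := by
    have e : (BlowUp.exceptional b i.ker).subschemeι ≫ b ≫ q = g ≫ (i ≫ q) := by
      rw [← Category.assoc, ← hg, Category.assoc]
    rw [e]
    infer_instance
  refine ⟨?_, hE⟩
  haveI := hE
  rw [← Scheme.Hom.smoothLocus_eq_top_iff, eq_top_iff]
  intro x' _
  by_cases hx : b x' ∈ i.ker.support
  · have hx' : x' ∈ (BlowUp.exceptional b i.ker).support := by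
      change x' ∈ (i.ker.comap b).support
      rw [Scheme.IdealSheafData.support_comap]
      exact hx
    rw [← SetLike.mem_coe, ← Scheme.IdealSheafData.range_subschemeι] at hx'
    obtain ⟨e, rfl⟩ := hx'
    obtain ⟨U, heU, t, ht, hI⟩ := hb.1 ((BlowUp.exceptional b i.ker).subschemeι e)
    have he : e ∈ ((BlowUp.exceptional b i.ker).subschemeι ≫ b ≫ q).smoothLocus := by
      rw [Scheme.Hom.smoothLocus_eq_top]; trivial
    refine Groth.Agent.Helper19.SmReg.mem_smoothLocus_of_regular (b ≫ q)
      (BlowUp.exceptional b i.ker).subschemeι e he U.1 U.2 heU [t] ?_ ?_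
    · rw [RingTheory.Sequence.isWeaklyRegular_singleton_iff]
      exact Module.Flat.isSMulRegular_of_nonZeroDivisors ht
    · rw [Ideal.ofList_singleton, Scheme.IdealSheafData.ker_subschemeι]
      exact hI
  · haveI := isIso_restrict_compl_support i.ker b hb
    haveI : Smooth ((b ⁻¹ᵁ complSupport i.ker).ι ≫ b ≫ q) := by
      have e : (b ⁻¹ᵁ complSupport i.ker).ι ≫ b ≫ q =
          (b ∣_ complSupport i.ker) ≫ (complSupport i.ker).ι ≫ q := by
        rw [← Category.assoc, ← morphismRestrict_ι, Category.assoc]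
      rw [e]
      infer_instance
    exact Groth.Agent.Lib.Helper13.le_smoothLocus_of_smooth_ι_comp (b ≫ q)
      (b ⁻¹ᵁ complSupport i.ker) hx

end Groth.Agent.Lib.Helper25.BlowUpSmooth
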