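import Groth.Agent.Lib.Helper25.BlowUpDense

/-!
# Strict transforms: the inverse image ideal is not generated by sections vanishing on the centre
-/

set_option autoImplicit false
universe u
open CategoryTheory CategoryTheory.Limits AlgebraicGeometry TopologicalSpace

namespace Groth.Agent.Lib.Helper25.BlowUpUP

variable {X : Scheme.{u}}

theorem appLE_congr_hom {Y : Scheme.{u}} {f g : Y ⟶ X} (h : f = g) (U : X.Opens) (V : Y.Opens)
    (e : V ≤ f ⁻¹ᵁ U) (s : Γ(X, U)) :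
    (f.appLE U V e).hom s = (g.appLE U V (h ▸ e)).hom s := by
  subst h; rfl

/-- A section of `𝓘` pulls back to zero on a scheme mapping to the closed subscheme of `𝓘`. -/
theorem appLE_eq_zero_of_mem_ideal {X' Yt : Scheme.{u}} (𝓘 : X.IdealSheafData) (b : X' ⟶ X)
    (b' : Yt ⟶ 𝓘.subscheme) (k : Yt ⟶ X') (hk : k ≫ b = b' ≫ 𝓘.subschemeι)
    (V : X.affineOpens) (s : Γ(X, V.1)) (hs : s ∈ 𝓘.ideal V) (V' : X'.Opens)
    (hV' : V' ≤ b ⁻¹ᵁ V.1) (T : Yt.Opens) (hT : T ≤ k ⁻¹ᵁ V') :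
    (k.appLE V' T hT).hom ((b.appLE V.1 V' hV').hom s) = 0 := by
  have e1 : T ≤ (k ≫ b) ⁻¹ᵁ V.1 := fun z hz => hV' (hT hz)
  have h1 : (k.appLE V' T hT).hom ((b.appLE V.1 V' hV').hom s) =
      ((k ≫ b).appLE V.1 T e1).hom s := by
    rw [← Scheme.Hom.appLE_comp_appLE k b V.1 V' T hV' hT]
    rfl
  rw [h1, appLE_congr_hom hk V.1 T e1 s]
  have e1' : T ≤ (b' ≫ 𝓘.subschemeι) ⁻¹ᵁ V.1 := hk ▸ e1
  have e2 : T ≤ b' ⁻¹ᵁ (𝓘.subschemeι ⁻¹ᵁ V.1) := e1'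
  have h2 : ((b' ≫ 𝓘.subschemeι).appLE V.1 T (hk ▸ e1)).hom s =
      (b'.appLE (𝓘.subschemeι ⁻¹ᵁ V.1) T e2).hom
        ((𝓘.subschemeι.appLE V.1 (𝓘.subschemeι ⁻¹ᵁ V.1) le_rfl).hom s) := by
    rw [← Scheme.Hom.appLE_comp_appLE b' 𝓘.subschemeι V.1 (𝓘.subschemeι ⁻¹ᵁ V.1) T le_rfl e2]
    rfl
  rw [h2, Scheme.Hom.appLE_eq_app]
  have h3 : (𝓘.subschemeι.app V.1).hom s = 0 := by
    rw [← RingHom.mem_ker, Scheme.IdealSheafData.ker_subschemeι_app]
    exact hs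
  rw [h3, map_zero]

/-- On an affine open meeting the strict transform of `V(𝓘)`, the inverse image of an ideal `𝓔`
(whose restriction to the strict transform is effective Cartier) is not generated by the
pull-back of a section of `𝓘`. -/
theorem ideal_ne_span_of_mem_range_strictTransform {X' Yt : Scheme.{u}}
    (𝓘 𝓔 : X.IdealSheafData) (b : X' ⟶ X)
    (b' : Yt ⟶ 𝓘.subscheme) (k : Yt ⟶ X') (hk : k ≫ b = b' ≫ 𝓘.subschemeι)
    (hE : BlowUp.IsEffCartierIdeal ((𝓔.comap b).comap k))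
    (V : X.affineOpens) (s : Γ(X, V.1)) (hs : s ∈ 𝓘.ideal V) (V' : X'.affineOpens)
    (hV' : V'.1 ≤ b ⁻¹ᵁ V.1) (y : Yt) (hy : k y ∈ V'.1) :
    (𝓔.comap b).ideal V' ≠ Ideal.span {(b.appLE V.1 V'.1 hV').hom s} := by
  intro heq
  obtain ⟨T, t, hyT, hTle, ht, hIt⟩ := exists_affine_principal_le _ hE y (k ⁻¹ᵁ V'.1) hy
  rw [Groth.Agent.Lib.Helper1.ideal_comap (𝓔.comap b) k T V' hTle, heq, Ideal.map_span,
    Set.image_singleton, appLE_eq_zero_of_mem_ideal 𝓘 b b' k hk V s hs V'.1 hV' T.1 hTle] at hIt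
  have ht0 : t = 0 := by
    have : t ∈ Ideal.span {(0 : Γ(Yt, T.1))} := hIt ▸ Ideal.mem_span_singleton_self t
    simpa using this
  rw [ht0] at ht
  have h1 : (1 : Γ(Yt, T.1)) = 0 :=
    (mem_nonZeroDivisors_iff_right.1 ht) 1 (mul_zero _)
  have : Subsingleton Γ(Yt, T.1) := subsingleton_of_zero_eq_one h1.symm
  have hne : Nonempty T.1 := ⟨⟨y, hyT⟩⟩
  have := Scheme.component_nontrivial Yt T.1
  exact not_subsingleton Γ(Yt, T.1) ‹_›

/-- If the inverse image of a sum of ideal sheaves is effective Cartier, then near any point it is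
generated by the pull-back of a section of one of the summands. -/
theorem exists_generator_of_iSup {Y : Scheme.{u}} {ι : Type*} (𝓙 : ι → X.IdealSheafData)
    (f : Y ⟶ X) (hE : BlowUp.IsEffCartierIdeal ((⨆ i, 𝓙 i).comap f)) (y : Y)
    (V : X.affineOpens) (hyV : f y ∈ V.1) :
    ∃ (i : ι) (s : Γ(X, V.1)) (V' : Y.affineOpens) (hV' : V'.1 ≤ f ⁻¹ᵁ V.1), s ∈ (𝓙 i).ideal V ∧
      y ∈ V'.1 ∧ (f.appLE V.1 V'.1 hV').hom s ∈ nonZeroDivisors Γ(Y, V'.1) ∧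
      ((⨆ i, 𝓙 i).comap f).ideal V' = Ideal.span {(f.appLE V.1 V'.1 hV').hom s} := by
  obtain ⟨V₀, t, hyV₀, hV₀le, ht, hIt⟩ := exists_affine_principal_le _ hE y (f ⁻¹ᵁ V.1) hyV
  rw [Groth.Agent.Lib.Helper1.ideal_comap _ f V₀ V hV₀le, Scheme.IdealSheafData.ideal_iSup,
    iSup_apply, Ideal.map_iSup] at hIt
  set φ := (f.appLE V.1 V₀.1 hV₀le).hom with hφ
  set 𝔭 := (V₀.2.primeIdealOf ⟨y, hyV₀⟩).asIdeal with h𝔭
  have hex : ∃ i, ∃ s ∈ (𝓙 i).ideal V, ∃ c, φ s = c * t ∧ c ∉ 𝔭 := by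
    by_contra hcon
    push Not at hcon
    have hle : ⨆ i, ((𝓙 i).ideal V).map φ ≤ 𝔭 * Ideal.span {t} := by
      refine iSup_le fun i => ?_
      rw [Ideal.map_le_iff_le_comap]
      intro x hx
      rw [Ideal.mem_comap]
      have hx1 : φ x ∈ Ideal.span {t} :=
        hIt ▸ (le_iSup (fun i => ((𝓙 i).ideal V).map φ) i) (Ideal.mem_map_of_mem _ hx)
      obtain ⟨c, hc⟩ := Ideal.mem_span_singleton'.1 hx1
      rw [← hc]
      exact Ideal.mul_mem_mul (hcon i x hx c hc.symm) (Ideal.mem_span_singleton_self t)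
    have htm : t ∈ 𝔭 * Ideal.span {t} := hle (hIt ▸ Ideal.mem_span_singleton_self t)
    obtain ⟨z, hz, hzt⟩ := Ideal.mem_mul_span_singleton.1 htm
    have hz1 : z = 1 := by
      have : (z - 1) * t = 0 := by rw [sub_mul, hzt, one_mul, sub_self]
      exact sub_eq_zero.1 ((mem_nonZeroDivisors_iff_right.1 ht) _ this)
    rw [hz1] at hz
    exact (V₀.2.primeIdealOf ⟨y, hyV₀⟩).isPrime.ne_top ((Ideal.eq_top_iff_one _).2 hz)
  obtain ⟨i, s, hs, c, hsc, hc𝔭⟩ := hex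
  have hyc : y ∈ Y.basicOpen c := (mem_basicOpen_iff_notMem_primeIdealOf V₀.2 y hyV₀ c).2 hc𝔭
  have hle : Y.basicOpen c ≤ V₀.1 := Y.basicOpen_le c
  have hV' : Y.basicOpen c ≤ f ⁻¹ᵁ V.1 := hle.trans hV₀le
  have hres : (f.appLE V.1 (Y.basicOpen c) hV').hom s =
      (Y.presheaf.map (homOfLE hle).op).hom c * (Y.presheaf.map (homOfLE hle).op).hom t := by
    rw [← map_mul, ← hsc, hφ, ← CommRingCat.comp_apply, Scheme.Hom.appLE_map]
  have hunit : IsUnit ((Y.presheaf.map (homOfLE hle).op).hom c) :=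
    Y.toRingedSpace.isUnit_res_basicOpen c
  have htnzd : (Y.presheaf.map (homOfLE hle).op).hom t ∈ nonZeroDivisors Γ(Y, Y.basicOpen c) :=
    res_basicOpen_mem_nonZeroDivisors V₀.2 c t ht
  have hIt' : ((⨆ i, 𝓙 i).comap f).ideal V₀ = Ideal.span {t} := by
    rw [Groth.Agent.Lib.Helper1.ideal_comap _ f V₀ V hV₀le, Scheme.IdealSheafData.ideal_iSup,
      iSup_apply, Ideal.map_iSup]
    exact hIt
  refine ⟨i, s, Y.affineBasicOpen c, hV', hs, hyc, ?_, ?_⟩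
  · change (f.appLE V.1 (Y.basicOpen c) hV').hom s ∈ _
    rw [hres]
    exact Submonoid.mul_mem _ hunit.mem_nonZeroDivisors htnzd
  · change _ = Ideal.span {(f.appLE V.1 (Y.basicOpen c) hV').hom s}
    rw [← Scheme.IdealSheafData.map_ideal_basicOpen _ V₀ c, hIt', Ideal.map_span,
      Set.image_singleton, hres]
    obtain ⟨u, hu⟩ := hunit
    rw [← hu, Ideal.span_singleton_mul_left_unit u.isUnit]

end Groth.Agent.Lib.Helper25.BlowUpUP
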