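import Groth.Agent.Lib.Helper25.ChartPres

/-!
# Base change of an affine blow-up chart along an `H_1`-regular sequence

If `B = A[I/a]` is the chart of the blowing up of `A` in `I = (f_1, …, f_c)` (an `H_1`-regular
sequence, `a = f_k`) and `A → A'` is a ring map under which the sequence stays `H_1`-regular, then
`B ⊗_A A' = A'[T_j]/(a T_j - f_j)` is the corresponding chart over `A'`; in particular `a` remains a
nonzerodivisor on it.
-/

set_option autoImplicit false
universe u

namespace Groth.Agent.Lib.Helper25.ChartBC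

open Groth.Agent.Lib.Helper25.RegChart Groth.Agent.Lib.Helper25.ChartPres
open CategoryTheory CategoryTheory.Limits

theorem mem_nonZeroDivisors_pushout_chart {A B A' C : CommRingCat.{u}} {φ : A ⟶ B} {ψ : A ⟶ A'}
    {inl : B ⟶ C} {inr : A' ⟶ C} (hP : IsPushout φ ψ inl inr) {I : Ideal A} {a : A}
    (h : IsChart I a φ.hom) {c : ℕ} (f : Fin c → A) (hI : I = Ideal.span (Set.range f))
    (k : Fin c) (hk : f k = a) (hH1 : CAlgX.IsH1Regular f)
    (hH1' : CAlgX.IsH1Regular (fun i => ψ.hom (f i))) :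
    inl.hom (φ.hom a) ∈ nonZeroDivisors C := by
  classical
  have hfI : ∀ j, f j ∈ I := fun j => hI ▸ Ideal.subset_span ⟨j, rfl⟩
  let f' : Fin c → A' := fun i => ψ.hom (f i)
  let Q' := MvPolynomial {j : Fin c // j ≠ k} A' ⧸ J f' k
  let mk' : MvPolynomial {j : Fin c // j ≠ k} A' →+* Q' := Ideal.Quotient.mk (J f' k)
  have hΘs : Function.Surjective (Θ f hfI h k) := Θ_surjective f hfI h k hk hI
  -- the map `B → Q'`
  have hmapgen : ∀ j, MvPolynomial.map ψ.hom (gen f k j) = gen f' k j := by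
    intro j
    simp [gen, f']
  have hkerle : RingHom.ker (Θ f hfI h k) ≤ RingHom.ker (mk'.comp (MvPolynomial.map ψ.hom)) := by
    rw [ker_Θ_eq f hfI h k hk hH1, J, Ideal.span_le]
    rintro _ ⟨j, rfl⟩
    rw [SetLike.mem_coe, RingHom.mem_ker, RingHom.comp_apply, hmapgen]
    exact Ideal.Quotient.eq_zero_iff_mem.2 (Ideal.subset_span ⟨j, rfl⟩)
  let β : B →+* Q' := RingHom.liftOfSurjective (Θ f hfI h k) hΘs ⟨_, hkerle⟩
  have hβ : ∀ q, β (Θ f hfI h k q) = mk' (MvPolynomial.map ψ.hom q) := fun q =>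
    RingHom.liftOfSurjective_comp_apply (Θ f hfI h k) hΘs ⟨_, hkerle⟩ q
  let α' : A' →+* Q' := mk'.comp MvPolynomial.C
  have hΘC : ∀ x : A, Θ f hfI h k (MvPolynomial.C x) = φ.hom x := by
    intro x
    simp [Θ]
  have hβφ : ∀ x : A, β (φ.hom x) = mk' (MvPolynomial.C (ψ.hom x)) := by
    intro x
    rw [← hΘC, hβ, MvPolynomial.map_C]
  have hcomm : φ ≫ CommRingCat.ofHom β = ψ ≫ CommRingCat.ofHom α' := by
    ext x
    exact hβφ x
  let Φ : C ⟶ CommRingCat.of Q' := hP.desc (CommRingCat.ofHom β) (CommRingCat.ofHom α') hcomm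
  have hΦl : inl ≫ Φ = CommRingCat.ofHom β := hP.inl_desc _ _ _
  have hΦr : inr ≫ Φ = CommRingCat.ofHom α' := hP.inr_desc _ _ _
  -- the map back
  let ev : MvPolynomial {j : Fin c // j ≠ k} A' →+* C :=
    MvPolynomial.eval₂Hom inr.hom (fun j => inl.hom (t f hfI h j.1))
  have hw : ∀ x : A, inr.hom (ψ.hom x) = inl.hom (φ.hom x) := by
    intro x
    have := congrArg (fun m => m.hom x) hP.w
    exact this.symm
  have hkill : ∀ q ∈ J f' k, ev q = 0 := by
    have : J f' k ≤ RingHom.ker ev := by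
      rw [J, Ideal.span_le]
      rintro _ ⟨j, rfl⟩
      rw [SetLike.mem_coe, RingHom.mem_ker]
      simp only [gen, f', ev, map_sub, map_mul, MvPolynomial.coe_eval₂Hom, MvPolynomial.eval₂_C,
        MvPolynomial.eval₂_X]
      rw [hw, hw, ← map_mul, hk, kap_mul_t, sub_self]
    exact fun q hq => this hq
  let Ψ : Q' →+* C := Ideal.Quotient.lift (J f' k) ev hkill
  have hΨ : ∀ q, Ψ (mk' q) = ev q := fun q => Ideal.Quotient.lift_mk _ _ _
  have hΨΦ : Φ ≫ CommRingCat.ofHom Ψ = 𝟙 C := by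
    apply hP.hom_ext
    · rw [← Category.assoc, hΦl, Category.comp_id]
      ext b
      obtain ⟨q, rfl⟩ := hΘs b
      change Ψ (β (Θ f hfI h k q)) = inl.hom (Θ f hfI h k q)
      rw [hβ, hΨ]
      have : ev.comp (MvPolynomial.map ψ.hom) = inl.hom.comp (Θ f hfI h k) := by
        refine MvPolynomial.ringHom_ext (fun r => ?_) (fun j => ?_)
        · simp [ev, Θ, hw]
        · simp [ev, Θ]
      exact RingHom.congr_fun this q
    · rw [← Category.assoc, hΦr, Category.comp_id]
      ext x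
      change Ψ (mk' (MvPolynomial.C x)) = inr.hom x
      rw [hΨ]
      simp [ev]
  have hΦinj : Function.Injective Φ.hom := by
    intro x y hxy
    have h1 : ∀ z : C, Ψ (Φ.hom z) = z := fun z => by
      have := congrArg (fun m => m.hom z) hΨΦ
      exact this
    rw [← h1 x, ← h1 y, hxy]
  refine mem_nonZeroDivisors_of_injective hΦinj ?_
  have e1 : Φ.hom (inl.hom (φ.hom a)) = mk' (MvPolynomial.C (f' k)) := by
    have := congrArg (fun m => m.hom (φ.hom a)) hΦl
    simp only [CommRingCat.hom_comp, RingHom.comp_apply, CommRingCat.hom_ofHom] at this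
    rw [this, hβφ, ← hk]
  rw [e1, mem_nonZeroDivisors_iff_right]
  intro z hz
  obtain ⟨y, rfl⟩ := Ideal.Quotient.mk_surjective z
  change mk' y * mk' (MvPolynomial.C (f' k)) = 0 at hz
  rw [← map_mul, mul_comm] at hz
  have h2 : MvPolynomial.C (f' k) * y ∈ J f' k := Ideal.Quotient.eq_zero_iff_mem.1 hz
  exact Ideal.Quotient.eq_zero_iff_mem.2 (mem_J_of_C_mul_mem f' k hH1' y h2)

end Groth.Agent.Lib.Helper25.ChartBC
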