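import Mathlib
import Groth.Prelude
import Groth.Agent.Lib.Helper25.ChartPoly4

/-!
# The projective Jacobian criterion, pointwise form

`V_+(W) ⊆ P^r_k` is smooth over `k` iff `W` and all its partial derivatives have no common zero
with a coordinate equal to `1` in any domain over `k`.
-/

set_option autoImplicit false

universe u

open MvPolynomial AlgebraicGeometry CategoryTheory

namespace Groth.Agent.Lib.Helper25.ChartPoly

variable (k : Type u) [Field k] (r : ℕ)

theorem aeval_comp_sub1 (j : Fin (r + 1)) {D : Type u} [CommRing D] [Algebra k D]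
    (x : Fin (r + 1) → D) (hx : x j = 1) (F : MvPolynomial (Fin (r + 1)) k) :
    aeval (fun i : {i : Fin (r + 1) // i ≠ j} => x i.1) (sub1 r k j F) = aeval x F := by
  have key : (aeval (fun i : {i : Fin (r + 1) // i ≠ j} => x i.1)).comp (sub1 r k j) = aeval x := by
    apply MvPolynomial.algHom_ext
    intro l
    rw [AlgHom.comp_apply, aeval_X]
    by_cases h : l = j
    · subst h
      rw [sub1_X_self, map_one, hx]
    · rw [sub1_X_ne r k j l h, aeval_X]
  exact congrArg (fun φ => φ F) key

/-- **Projective Jacobian criterion**, pointwise form. -/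
theorem smooth_hypIdeal_iff_forall_point {d : ℕ} (W : LefPen.Form r k d) (hW : W ≠ 0) :
    Smooth ((LefPen.hypIdeal W).subschemeι ≫ CohB1.ProjSpace.toSpec r k) ↔
      ∀ (D : Type u) [CommRing D] [IsDomain D] [Algebra k D] (x : Fin (r + 1) → D),
        (∃ j, x j = 1) → aeval x W.1 = 0 → (∀ i, aeval x (pderiv i W.1) = 0) → False := by
  rw [smooth_hypIdeal_iff k r W hW]
  constructor
  · intro h D _ _ _ x ⟨j, hxj⟩ hW0 hd
    let φ : MvPolynomial {i : Fin (r + 1) // i ≠ j} k →ₐ[k] D :=
      aeval (fun i : {i : Fin (r + 1) // i ≠ j} => x i.1)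
    have hφ : ∀ F, φ (sub1 r k j F) = aeval x F := aeval_comp_sub1 k r j x hxj
    haveI : (RingHom.ker φ.toRingHom).IsPrime := RingHom.ker_isPrime _
    obtain ⟨i, hi⟩ := h j (RingHom.ker φ.toRingHom) inferInstance (by
      rw [RingHom.mem_ker]
      change φ (sub1 r k j W.1) = 0
      rw [hφ, hW0])
    apply hi
    rw [RingHom.mem_ker]
    change φ (pderiv i (sub1 r k j W.1)) = 0
    rw [pderiv_sub1, hφ, hd]
  · intro h j 𝔓 h𝔓 hg
    by_contra hcon
    push Not at hcon
    let x : Fin (r + 1) → (MvPolynomial {i : Fin (r + 1) // i ≠ j} k ⧸ 𝔓) :=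
      fun l => Ideal.Quotient.mk 𝔓 (sub1 r k j (X l))
    have hxj : x j = 1 := by
      change Ideal.Quotient.mk 𝔓 (sub1 r k j (X j)) = 1
      rw [sub1_X_self, map_one]
    have hx : ∀ F : MvPolynomial (Fin (r + 1)) k,
        aeval x F = Ideal.Quotient.mk 𝔓 (sub1 r k j F) := by
      intro F
      have key : aeval x = (Ideal.Quotient.mkₐ k 𝔓).comp (sub1 r k j) := by
        apply MvPolynomial.algHom_ext
        intro l
        rw [aeval_X]
        rfl
      exact congrArg (fun φ => φ F) key
    have hmk : ∀ y, y ∈ 𝔓 → Ideal.Quotient.mk 𝔓 y = 0 := fun y hy =>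
      Ideal.Quotient.eq_zero_iff_mem.mpr hy
    have hW0 : aeval x W.1 = 0 := by rw [hx, hmk _ hg]
    have hne : ∀ i, i ≠ j → aeval x (pderiv i W.1) = 0 := by
      intro i hi
      rw [hx, ← pderiv_sub1 r k j ⟨i, hi⟩, hmk _ (hcon ⟨i, hi⟩)]
    refine h _ x ⟨j, hxj⟩ hW0 (fun i => ?_)
    by_cases hi : i = j
    · subst hi
      have hE := congrArg (aeval x) (MvPolynomial.IsHomogeneous.sum_X_mul_pderiv
        ((MvPolynomial.mem_homogeneousSubmodule d W.1).mp W.2))
      rw [map_sum, map_nsmul, hW0, smul_zero, Finset.sum_eq_single i] at hE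
      · rw [map_mul, aeval_X, hxj, one_mul] at hE
        exact hE
      · intro l _ hl
        rw [map_mul, hne l hl, mul_zero]
      · intro h'; exact absurd (Finset.mem_univ _) h'
    · exact hne i hi

end Groth.Agent.Lib.Helper25.ChartPoly
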