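import Mathlib

/-!
# Elementary algebra of the short Weierstrass cubic `Y²Z = X³ + aXZ² - bZ³`
-/

set_option autoImplicit false

universe u

namespace Groth.Agent.Lib.Helper25.ChartPoly

/-- A common zero of the Weierstrass cubic and its partial derivatives, with one coordinate equal to `1`,
forces the discriminant to vanish. -/
theorem weierstrass_no_sing {D : Type*} [CommRing D] [IsDomain D] (A B X Y Z : D)
    (h2 : (2 : D) ≠ 0) (hne : X = 1 ∨ Y = 1 ∨ Z = 1)
    (hW : Y ^ 2 * Z - X ^ 3 - A * X * Z ^ 2 + B * Z ^ 3 = 0)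
    (e0 : -(3 * X ^ 2) - A * Z ^ 2 = 0)
    (e1 : 2 * Y * Z = 0)
    (e2 : Y ^ 2 - 2 * A * X * Z + 3 * B * Z ^ 2 = 0) :
    4 * A ^ 3 + 27 * B ^ 2 = 0 := by
  have hYZ : Y = 0 ∨ Z = 0 := by
    rcases mul_eq_zero.mp e1 with h | h
    · rcases mul_eq_zero.mp h with h | h
      · exact absurd h h2
      · exact Or.inl h
    · exact Or.inr h
  by_cases hZ : Z = 0
  · exfalso
    subst hZ
    have hY : Y = 0 := by
      have : Y ^ 2 = 0 := by linear_combination e2
      exact pow_eq_zero_iff (two_ne_zero) |>.mp this
    have hX : X = 0 := by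
      have : X ^ 3 = 0 := by linear_combination -hW
      exact pow_eq_zero_iff (three_ne_zero) |>.mp this
    rcases hne with h | h | h
    · rw [hX] at h; exact zero_ne_one h
    · rw [hY] at h; exact zero_ne_one h
    · exact zero_ne_one h
  · have hY : Y = 0 := hYZ.resolve_right hZ
    subst hY
    have hA : A * Z ^ 2 = -(3 * X ^ 2) := by linear_combination -e0
    have hB : B * Z ^ 3 = -(2 * X ^ 3) := by linear_combination hW - X * e0
    have h6 : (4 * A ^ 3 + 27 * B ^ 2) * Z ^ 6 = 0 := by
      have : (4 * A ^ 3 + 27 * B ^ 2) * Z ^ 6 = 4 * (A * Z ^ 2) ^ 3 + 27 * (B * Z ^ 3) ^ 2 := by ring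
      rw [this, hA, hB]
      ring
    rcases mul_eq_zero.mp h6 with h | h
    · exact h
    · exact absurd (pow_eq_zero_iff (by norm_num) |>.mp h) hZ

/-- When the discriminant vanishes the affine Weierstrass cubic has a singular point over the algebraic
closure. -/
theorem weierstrass_bad_point {k : Type u} [Field k] (h2 : (2 : k) ≠ 0) (a b : k)
    (hdisc : 4 * a ^ 3 + 27 * b ^ 2 = 0) :
    ∃ x₀ : AlgebraicClosure k,
      -x₀ ^ 3 - algebraMap k (AlgebraicClosure k) a * x₀ + algebraMap k (AlgebraicClosure k) b = 0 ∧
        -(3 * x₀ ^ 2) - algebraMap k (AlgebraicClosure k) a = 0 := by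
  by_cases h3 : (3 : k) = 0
  · have h27 : (27 : k) = 0 := by
      have : (27 : k) = 3 * 9 := by norm_num
      rw [this, h3, zero_mul]
    have ha : a = 0 := by
      have h4 : (4 : k) * a ^ 3 = 0 := by linear_combination hdisc - b ^ 2 * h27
      have h4' : (4 : k) ≠ 0 := by
        have : (4 : k) = 2 * 2 := by norm_num
        rw [this]; exact mul_ne_zero h2 h2
      rcases mul_eq_zero.mp h4 with h | h
      · exact absurd h h4'
      · exact pow_eq_zero_iff (three_ne_zero) |>.mp h
    have h3' : (3 : AlgebraicClosure k) = 0 := by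
      have := congrArg (algebraMap k (AlgebraicClosure k)) h3
      rwa [map_ofNat, map_zero] at this
    obtain ⟨x₀, hx₀⟩ := IsAlgClosed.exists_root
      (Polynomial.X ^ 3 - Polynomial.C (algebraMap k (AlgebraicClosure k) b)) (by
        rw [Polynomial.degree_X_pow_sub_C (by norm_num)]
        norm_num)
    rw [Polynomial.IsRoot.def, Polynomial.eval_sub, Polynomial.eval_pow, Polynomial.eval_X,
      Polynomial.eval_C] at hx₀
    refine ⟨x₀, ?_, ?_⟩
    · rw [ha, map_zero]
      linear_combination -hx₀
    · rw [ha, map_zero, h3']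
      ring
  · by_cases ha : a = 0
    · have hb : b = 0 := by
        rw [ha] at hdisc
        have h27 : (27 : k) ≠ 0 := by
          have : (27 : k) = 3 * 3 * 3 := by norm_num
          rw [this]; exact mul_ne_zero (mul_ne_zero h3 h3) h3
        have : (27 : k) * b ^ 2 = 0 := by linear_combination hdisc
        rcases mul_eq_zero.mp this with h | h
        · exact absurd h h27
        · exact pow_eq_zero_iff (two_ne_zero) |>.mp h
      refine ⟨0, ?_, ?_⟩
      · rw [ha, hb]; simp
      · rw [ha]; simp
    · refine ⟨algebraMap k (AlgebraicClosure k) (3 * b / (2 * a)), ?_, ?_⟩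
      · have : -(3 * b / (2 * a)) ^ 3 - a * (3 * b / (2 * a)) + b = 0 := by
          field_simp
          linear_combination (-b) * hdisc
        have h' := congrArg (algebraMap k (AlgebraicClosure k)) this
        simpa only [map_add, map_sub, map_neg, map_mul, map_pow, map_zero] using h'
      · have : -(3 * (3 * b / (2 * a)) ^ 2) - a = 0 := by
          field_simp
          linear_combination (-1 : k) * hdisc
        have h' := congrArg (algebraMap k (AlgebraicClosure k)) this
        simpa only [map_add, map_sub, map_neg, map_mul, map_pow, map_zero, map_ofNat] using h'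

end Groth.Agent.Lib.Helper25.ChartPoly
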