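import Mathlib
import Groth.Agent.Lib.Helper25.JacobianCrit

/-!
# Regular sequences and formal smoothness of quotients (helper25)

* `ker_inf_ofList_le_mul`: for a surjection `π : P → M` of `P`-modules and a sequence `gs` weakly
  regular on `M`: `ker π ⊓ (gs) ≤ (gs) * ker π` (vanishing of `Tor₁(P/(gs), M)`).
* `inf_ofList_le_mul`: the same for `M = P ⧸ I`.
* `formallySmooth_quotient_of_isWeaklyRegular`: `P` local, formally smooth over `R` with finite free
  differentials, `I ≤ I_Y = I + (gs)` ideals with `gs` weakly regular on `P ⧸ I`: if `P ⧸ I_Y` is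
  formally smooth over `R`, so is `P ⧸ I`.
-/

set_option autoImplicit false
universe u v w

open TensorProduct KaehlerDifferential IsLocalRing

namespace Groth.Agent.Lib.Helper25.RegSmooth

open Groth.Agent.Lib.Helper25.JacobianCrit

section Koszul

variable {P : Type v} [CommRing P]

theorem ker_inf_ofList_le_mul (gs : List P) {M : Type w} [AddCommGroup M] [Module P M]
    (π : P →ₗ[P] M) (hπ : Function.Surjective π)
    (h : RingTheory.Sequence.IsWeaklyRegular M gs) :
    LinearMap.ker π ⊓ Ideal.ofList gs ≤ Ideal.ofList gs * LinearMap.ker π := by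
  induction gs generalizing M with
  | nil =>
    intro x hx
    have h2 : x ∈ Ideal.ofList ([] : List P) := hx.2
    rw [Ideal.ofList_nil, Ideal.mem_bot] at h2
    rw [h2]
    exact zero_mem _
  | cons g gs ih =>
    rw [RingTheory.Sequence.isWeaklyRegular_cons_iff] at h
    obtain ⟨hg, hgs⟩ := h
    set N : Ideal P := LinearMap.ker π with hN
    set π' : P →ₗ[P] QuotSMulTop g M := (Submodule.mkQ _).comp π with hπ'
    have hπ's : Function.Surjective π' := (Submodule.mkQ_surjective _).comp hπ
    set N' : Ideal P := LinearMap.ker π' with hN'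
    have hNN' : N ≤ N' := by
      intro x hx
      rw [hN', LinearMap.mem_ker, hπ', LinearMap.comp_apply, LinearMap.mem_ker.mp hx, map_zero]
    have hgN' : ∀ c : P, c * g ∈ N' := by
      intro c
      rw [hN', LinearMap.mem_ker, hπ', LinearMap.comp_apply, Submodule.mkQ_apply,
        Submodule.Quotient.mk_eq_zero]
      rw [mul_comm, ← smul_eq_mul, map_smul]
      exact Submodule.smul_mem_pointwise_smul _ _ _ Submodule.mem_top
    have hN'le : N' ≤ N ⊔ Ideal.span {g} := by
      intro x hx
      rw [hN', LinearMap.mem_ker, hπ', LinearMap.comp_apply, Submodule.mkQ_apply,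
        Submodule.Quotient.mk_eq_zero] at hx
      obtain ⟨m, -, hm⟩ := (Submodule.mem_smul_pointwise_iff_exists _ _ _).mp hx
      obtain ⟨y, rfl⟩ := hπ m
      have h1 : x - g * y ∈ N := by
        rw [hN, LinearMap.mem_ker, map_sub, ← smul_eq_mul, map_smul, hm, sub_self]
      have h2 : x = (x - g * y) + y * g := by ring
      rw [h2]
      exact Submodule.add_mem_sup h1 (Ideal.mul_mem_left _ _ (Ideal.mem_span_singleton_self g))
    have ih' := ih π' hπ's hgs
    intro x hx
    obtain ⟨hxN, hxG⟩ := hx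
    rw [Ideal.ofList_cons] at hxG
    obtain ⟨a, ha, y, hy, rfl⟩ := Submodule.mem_sup.mp hxG
    obtain ⟨c, rfl⟩ := Ideal.mem_span_singleton'.mp ha
    have hyN' : y ∈ N' := by
      have h1 : y = (c * g + y) - c * g := by ring
      rw [h1]
      exact sub_mem (hNN' hxN) (hgN' c)
    have hy2 : y ∈ Ideal.ofList gs * N' := ih' ⟨hyN', hy⟩
    have hy3 : y ∈ Ideal.ofList gs * N ⊔ Ideal.ofList gs * Ideal.span {g} := by
      rw [← Ideal.mul_sup]
      exact Ideal.mul_mono_right hN'le hy2
    obtain ⟨z, hz, t, ht, rfl⟩ := Submodule.mem_sup.mp hy3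
    obtain ⟨w, hw, rfl⟩ := Ideal.mem_mul_span_singleton.mp ht
    have hzN : z ∈ N := Ideal.mul_le_right hz
    have h1 : (c + w) * g ∈ N := by
      have h2 : (c + w) * g = (c * g + (z + w * g)) - z := by ring
      rw [h2]
      exact sub_mem hxN hzN
    have h3 : c + w ∈ N := by
      rw [hN, LinearMap.mem_ker] at h1 ⊢
      rw [mul_comm, ← smul_eq_mul, map_smul] at h1
      exact hg (by show g • π (c + w) = g • 0; rw [h1, smul_zero])
    have h4 : c * g + (z + w * g) = g * (c + w) + z := by ring
    rw [h4, Ideal.ofList_cons]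
    refine add_mem ?_ ?_
    · exact Ideal.mul_mem_mul (Ideal.mem_sup_left (Ideal.mem_span_singleton_self g)) h3
    · exact Ideal.mul_mono_left le_sup_right hz

theorem inf_ofList_le_mul (I : Ideal P) (gs : List P)
    (h : RingTheory.Sequence.IsWeaklyRegular (P ⧸ I) gs) :
    I ⊓ Ideal.ofList gs ≤ Ideal.ofList gs * I := by
  have h1 := ker_inf_ofList_le_mul gs (Submodule.mkQ I) (Submodule.mkQ_surjective I) h
  rwa [Submodule.ker_mkQ] at h1

end Koszul

section Local

variable {R : Type u} {P : Type v} [CommRing R] [CommRing P] [Algebra R P] [IsLocalRing P]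

theorem formallySmooth_quotient_of_isWeaklyRegular
    [Algebra.FormallySmooth R P] [Module.Free P Ω[P⁄R]] [Module.Finite P Ω[P⁄R]]
    (I IY : Ideal P) (hI : I.FG) (hIY : IY ≤ maximalIdeal P) (gs : List P)
    (hsup : IY = I ⊔ Ideal.ofList gs)
    (hreg : RingTheory.Sequence.IsWeaklyRegular (P ⧸ I) gs)
    [Algebra.FormallySmooth R (P ⧸ IY)] : Algebra.FormallySmooth R (P ⧸ I) := by
  have hle : I ≤ IY := hsup ▸ le_sup_left
  have hG : Ideal.ofList gs ≤ IY := hsup ▸ le_sup_right
  have hGfg : (Ideal.ofList gs).FG := by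
    classical
    refine ⟨gs.toFinset, ?_⟩
    unfold Ideal.ofList
    congr 1
    ext r
    simp
  have hIYfg : IY.FG := hsup ▸ Submodule.FG.sup hI hGfg
  rw [formallySmooth_quotient_iff (R := R) I hI (hle.trans hIY)]
  intro x hx hd
  have h1 := (formallySmooth_quotient_iff (R := R) IY hIYfg hIY).mp inferInstance x (hle hx) hd
  rw [hsup, Ideal.smul_eq_mul, Ideal.mul_sup] at h1
  obtain ⟨a, ha, b, hb, rfl⟩ := Submodule.mem_sup.mp h1
  have haI : a ∈ I := Ideal.mul_le_right ha
  have hbG : b ∈ Ideal.ofList gs := Ideal.mul_le_right hb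
  have hbI : b ∈ I := by
    have : b = (a + b) - a := by ring
    rw [this]
    exact sub_mem hx haI
  have h2 : b ∈ Ideal.ofList gs * I := inf_ofList_le_mul I gs hreg ⟨hbI, hbG⟩
  rw [Ideal.smul_eq_mul]
  exact add_mem ha (Ideal.mul_mono_left (hG.trans hIY) h2)

end Local

end Groth.Agent.Lib.Helper25.RegSmooth
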