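import Mathlib
import Groth.Agent.Lib.Helper25.RegSmooth1
import Groth.Agent.Lib.Helper25.JacobianCrit2

/-!
# Smoothness from a smooth closed subscheme cut out by a regular sequence (helper25)

`formallySmooth_of_isWeaklyRegular`: `B` a finitely presented `A`-algebra, `q` a prime, `L = B_q`,
`J ≤ q` an ideal such that `J L` is generated by a weakly regular sequence and `L ⧸ J L` is formally
smooth over `A`; then `L` is formally smooth over `A`.
-/

set_option autoImplicit false
universe u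

open TensorProduct KaehlerDifferential IsLocalRing

namespace Groth.Agent.Lib.Helper25.RegSmooth

open Groth.Agent.Lib.Helper25.JacobianCrit

/-- abstract form: `L ≃ P₀ ⧸ I` with `P₀` local formally smooth with finite free differentials. -/
theorem formallySmooth_of_equiv_quotient {A : Type u} [CommRing A] (P₀ : Type u) [CommRing P₀]
    [Algebra A P₀] [IsLocalRing P₀] [Algebra.FormallySmooth A P₀] [Module.Free P₀ Ω[P₀⁄A]]
    [Module.Finite P₀ Ω[P₀⁄A]] (I IY : Ideal P₀) (hI : I.FG) (hIIY : I ≤ IY)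
    (hIYm : IY ≤ maximalIdeal P₀) (L : Type u) [CommRing L] [Algebra A L]
    (εA : L ≃ₐ[A] (P₀ ⧸ I)) (JL : Ideal L)
    (hJT : JL.map (εA : L →+* (P₀ ⧸ I)) = IY.map (Ideal.Quotient.mk I))
    [Algebra.FormallySmooth A (L ⧸ JL)]
    (rs : List L) (hrs : RingTheory.Sequence.IsWeaklyRegular L rs)
    (hJL : Ideal.ofList rs = JL) : Algebra.FormallySmooth A L := by
  classical
  -- formal smoothness of `P₀ ⧸ IY`
  haveI hsmY : Algebra.FormallySmooth A (P₀ ⧸ IY) := by
    let e1 : (L ⧸ JL) ≃ₐ[A] ((P₀ ⧸ I) ⧸ IY.map (Ideal.Quotient.mkₐ A I)) :=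
      Ideal.quotientEquivAlg JL _ εA hJT.symm
    let e2 := DoubleQuot.quotQuotEquivQuotOfLEₐ A hIIY
    exact Algebra.FormallySmooth.of_equiv (e1.trans e2)
  -- the regular sequence
  set rs' : List (P₀ ⧸ I) := rs.map εA with hrs'
  have hrs'reg : RingTheory.Sequence.IsWeaklyRegular (P₀ ⧸ I) rs' := by
    refine (AddEquiv.isWeaklyRegular_congr (e := εA.toRingEquiv.toAddEquiv) ?_).mp hrs
    rw [hrs', List.forall₂_map_right_iff, List.forall₂_same]
    intro r _ x
    show εA (r • x) = εA r • εA x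
    rw [smul_eq_mul, smul_eq_mul, map_mul]
  have hmksurj : Function.Surjective (Ideal.Quotient.mk I) := Ideal.Quotient.mk_surjective
  set gs : List P₀ := rs'.map (Function.surjInv hmksurj) with hgs
  have hgsmap : gs.map (Ideal.Quotient.mk I) = rs' := by
    rw [hgs, List.map_map]
    conv_rhs => rw [← List.map_id rs']
    apply List.map_congr_left
    intro a _
    exact Function.surjInv_eq hmksurj a
  have hgsreg : RingTheory.Sequence.IsWeaklyRegular (P₀ ⧸ I) gs := by
    rw [← RingTheory.Sequence.isWeaklyRegular_map_algebraMap_iff (P₀ ⧸ I) (P₀ ⧸ I) gs]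
    have : gs.map (algebraMap P₀ (P₀ ⧸ I)) = rs' := hgsmap
    rw [this]
    exact hrs'reg
  have hsup : IY = I ⊔ Ideal.ofList gs := by
    have h1 : (Ideal.ofList gs).map (Ideal.Quotient.mk I) = IY.map (Ideal.Quotient.mk I) := by
      rw [Ideal.map_ofList, hgsmap, hrs', ← hJT, ← hJL, Ideal.map_ofList]
      rfl
    have h2 := congrArg (Ideal.comap (Ideal.Quotient.mk I)) h1
    rw [Ideal.comap_map_of_surjective _ hmksurj, Ideal.comap_map_of_surjective _ hmksurj,
      ← RingHom.ker_eq_comap_bot, Ideal.mk_ker] at h2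
    rw [sup_comm, h2]
    exact (sup_eq_left.mpr hIIY).symm
  haveI : Algebra.FormallySmooth A (P₀ ⧸ I) :=
    formallySmooth_quotient_of_isWeaklyRegular (R := A) I IY hI hIYm gs hsup hgsreg
  exact Algebra.FormallySmooth.of_equiv εA.symm

theorem formallySmooth_of_isWeaklyRegular {A B : Type u} [CommRing A] [CommRing B] [Algebra A B]
    [Algebra.FinitePresentation A B] (J : Ideal B) (q : Ideal B) [q.IsPrime] (hJq : J ≤ q)
    (L : Type u) [CommRing L] [Algebra B L] [IsLocalization.AtPrime L q] [Algebra A L]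
    [IsScalarTower A B L]
    [Algebra.FormallySmooth A (L ⧸ J.map (algebraMap B L))]
    (rs : List L) (hrs : RingTheory.Sequence.IsWeaklyRegular L rs)
    (hJL : Ideal.ofList rs = J.map (algebraMap B L)) : Algebra.FormallySmooth A L := by
  classical
  obtain ⟨n, φ, hφ, hK⟩ := Algebra.FinitePresentation.out (R := A) (A := B)
  set K₀ : Ideal (MvPolynomial (Fin n) A) := RingHom.ker φ with hK₀
  have hK₀fg : K₀.FG := hK
  let e : (MvPolynomial (Fin n) A ⧸ K₀) ≃ₐ[A] B := Ideal.quotientKerAlgEquivOfSurjective hφ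
  have he : ∀ x, e (Ideal.Quotient.mk K₀ x) = φ x := fun x => rfl
  set q₀ : Ideal (MvPolynomial (Fin n) A ⧸ K₀) := q.comap (e : _ →+* B) with hq₀
  haveI : q₀.IsPrime := Ideal.comap_isPrime _ _
  set 𝔓 : Ideal (MvPolynomial (Fin n) A) := q₀.comap (Ideal.Quotient.mk K₀) with h𝔓
  set I : Ideal (Localization.AtPrime 𝔓) :=
    K₀.map (algebraMap (MvPolynomial (Fin n) A) (Localization.AtPrime 𝔓)) with hI
  haveI hlocT : IsLocalization.AtPrime (Localization.AtPrime 𝔓 ⧸ I) q₀ :=
    isLocalization_quotient_atPrime K₀ q₀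
  have hST : IsScalarTower A (MvPolynomial (Fin n) A ⧸ K₀) (Localization.AtPrime 𝔓 ⧸ I) := by
    refine IsScalarTower.of_algebraMap_eq (R := A) (S := MvPolynomial (Fin n) A ⧸ K₀)
      (A := Localization.AtPrime 𝔓 ⧸ I) fun r => ?_
    rw [IsScalarTower.algebraMap_apply A (MvPolynomial (Fin n) A) (MvPolynomial (Fin n) A ⧸ K₀),
      IsScalarTower.algebraMap_apply A (Localization.AtPrime 𝔓) (Localization.AtPrime 𝔓 ⧸ I),
      IsScalarTower.algebraMap_apply A (MvPolynomial (Fin n) A) (Localization.AtPrime 𝔓)]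
    rfl
  -- the ring equivalence `L ≃ P₀ ⧸ I`
  have hH : q.primeCompl.map e.symm.toRingEquiv.toMonoidHom = q₀.primeCompl := by
    ext y
    constructor
    · rintro ⟨b, hb, rfl⟩
      show e.symm.toRingEquiv b ∉ q₀
      rw [hq₀, Ideal.mem_comap]
      have h : (e : _ →+* B) (e.symm.toRingEquiv b) = b := by simp
      rw [h]
      exact hb
    · intro hy
      refine ⟨e y, ?_, e.symm_apply_apply y⟩
      exact hy
  let ε : L ≃+* (Localization.AtPrime 𝔓 ⧸ I) :=
    IsLocalization.ringEquivOfRingEquiv (M := q.primeCompl) (T := q₀.primeCompl) L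
      (Localization.AtPrime 𝔓 ⧸ I) e.symm.toRingEquiv hH
  have hε : ∀ b : B, ε (algebraMap B L b) =
      algebraMap (MvPolynomial (Fin n) A ⧸ K₀) (Localization.AtPrime 𝔓 ⧸ I) (e.symm b) := fun b =>
    IsLocalization.ringEquivOfRingEquiv_eq (M := q.primeCompl) (T := q₀.primeCompl)
      (S := L) (Q := Localization.AtPrime 𝔓 ⧸ I) hH b
  let εA : L ≃ₐ[A] (Localization.AtPrime 𝔓 ⧸ I) := AlgEquiv.ofRingEquiv (f := ε) (fun a => by
    rw [IsScalarTower.algebraMap_apply A B L, hε,
      IsScalarTower.algebraMap_apply A (MvPolynomial (Fin n) A ⧸ K₀) (Localization.AtPrime 𝔓 ⧸ I)]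
    congr 1
    exact e.symm.commutes a)
  have hεA : ∀ x, εA x = ε x := fun x => rfl
  -- the ideal `I_Y`
  set J₀ : Ideal (MvPolynomial (Fin n) A) := J.comap φ with hJ₀
  set IY : Ideal (Localization.AtPrime 𝔓) :=
    J₀.map (algebraMap (MvPolynomial (Fin n) A) (Localization.AtPrime 𝔓)) with hIY
  have hK₀J₀ : K₀ ≤ J₀ := by
    intro x hx
    rw [hJ₀, Ideal.mem_comap, RingHom.mem_ker.mp hx]
    exact zero_mem _
  have hIIY : I ≤ IY := Ideal.map_mono hK₀J₀
  have hJ₀𝔓 : J₀ ≤ 𝔓 := by
    intro x hx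
    rw [h𝔓, Ideal.mem_comap, hq₀, Ideal.mem_comap]
    show e (Ideal.Quotient.mk K₀ x) ∈ q
    rw [he]
    exact hJq hx
  have hIYm : IY ≤ maximalIdeal (Localization.AtPrime 𝔓) := by
    rw [← Localization.AtPrime.map_eq_maximalIdeal]
    exact Ideal.map_mono hJ₀𝔓
  -- compatibility of the maps
  have hcomm : ∀ x : MvPolynomial (Fin n) A,
      ε (algebraMap B L (φ x)) = Ideal.Quotient.mk I (algebraMap _ (Localization.AtPrime 𝔓) x) := by
    intro x
    rw [hε]
    have : e.symm (φ x) = Ideal.Quotient.mk K₀ x := by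
      rw [AlgEquiv.symm_apply_eq, he]
    rw [this]
    rfl
  have hJT : (J.map (algebraMap B L)).map (εA : L →+* (Localization.AtPrime 𝔓 ⧸ I)) =
      IY.map (Ideal.Quotient.mk I) := by
    have h1 : J = J₀.map (φ : _ →+* B) := by
      rw [hJ₀]
      exact (Ideal.map_comap_of_surjective _ hφ J).symm
    rw [hIY, Ideal.map_map, Ideal.map_map]
    conv_lhs => rw [h1]
    rw [Ideal.map_map]
    congr 1
    refine RingHom.ext fun x => ?_
    simp only [RingHom.comp_apply]
    exact hcomm x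
  -- `P₀` is formally smooth with finite free differentials
  haveI : Algebra.FormallySmooth (MvPolynomial (Fin n) A) (Localization.AtPrime 𝔓) :=
    Algebra.FormallySmooth.of_isLocalization 𝔓.primeCompl
  haveI hsmP : Algebra.FormallySmooth A (Localization.AtPrime 𝔓) :=
    Algebra.FormallySmooth.comp A (MvPolynomial (Fin n) A) (Localization.AtPrime 𝔓)
  haveI : Algebra.IsSmoothAt A 𝔓 := hsmP
  obtain ⟨hfree, hfin⟩ := free_finite_kaehler_localization (R := A) 𝔓
  exact formallySmooth_of_equiv_quotient (Localization.AtPrime 𝔓) I IY (hK₀fg.map _) hIIY hIYm L εA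
    (J.map (algebraMap B L)) hJT rs hrs hJL

end Groth.Agent.Lib.Helper25.RegSmooth
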