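import Mathlib
import Groth.Agent.S2818
import Groth.Agent.Lib.Helper25.SectionRegular

/-!
# A smooth closed subscheme of a smooth scheme is cut out by a regular sequence (helper25)

* `isWeaklyRegular_map_X`: distinct variables form a weakly regular sequence in `MvPolynomial σ k`.
* `exists_isRegular_away`: `B` finitely presented over `A`, smooth at `q`, `J ≤ q` finitely
  generated with `B_q ⧸ J B_q` formally smooth over `A`: on a basic open neighbourhood `D(f)` of `q`
  the ideal `J` is generated by a regular sequence.
-/

set_option autoImplicit false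
universe u

open TensorProduct KaehlerDifferential IsLocalRing

namespace Groth.Agent.Lib.Helper25.RegSmooth

open Groth.Agent.Lib.Helper25.JacobianCrit Groth.Agent.Lib.Helper25.SectionRegular

section Poly

open MvPolynomial

variable {k : Type*} [CommRing k] {σ : Type*}

theorem mem_span_X_of_X_mul_mem' (s : Set σ) (j : σ) (hj : j ∉ s)
    (f : MvPolynomial σ k) (h : X j * f ∈ Ideal.span (X '' s : Set (MvPolynomial σ k))) :
    f ∈ Ideal.span (X '' s : Set (MvPolynomial σ k)) := by
  classical
  rw [MvPolynomial.mem_ideal_span_X_image] at h ⊢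
  intro d hd
  have hmem : Finsupp.single j 1 + d ∈ (X j * f).support := by
    rw [MvPolynomial.support_X_mul]
    exact Finset.mem_map_of_mem _ hd
  obtain ⟨i, his, hi⟩ := h _ hmem
  refine ⟨i, his, ?_⟩
  have hij : j ≠ i := fun h' => hj (h' ▸ his)
  rw [Finsupp.add_apply, Finsupp.single_apply, if_neg hij, zero_add] at hi
  exact hi

theorem isWeaklyRegular_map_X (l : List σ) (hl : l.Nodup) :
    RingTheory.Sequence.IsWeaklyRegular (MvPolynomial σ k)
      (l.map (X : σ → MvPolynomial σ k)) := by
  refine ⟨fun i hi => ?_⟩
  have hi' : i < l.length := by rwa [List.length_map] at hi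
  rw [isSMulRegular_on_quot_iff_lsmul_comap_le, List.getElem_map, smul_eq_mul, Ideal.mul_top]
  have hofl : Ideal.ofList ((l.map (X : σ → MvPolynomial σ k)).take i) =
      Ideal.span (X '' {a | a ∈ l.take i}) := by
    unfold Ideal.ofList
    congr 1
    ext r
    simp only [Set.mem_setOf_eq, Set.mem_image]
    first
      | rw [List.take_map, List.mem_map]
      | rw [← List.map_take, List.mem_map]
      | rw [List.map_take, List.mem_map]
  rw [hofl]
  intro f hf
  refine mem_span_X_of_X_mul_mem' _ l[i] ?_ f hf
  intro hmem
  obtain ⟨j, hj, hje⟩ := List.mem_take_iff_getElem.mp hmem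
  have hji : j < i := (lt_min_iff.mp hj).1
  have := (hl.getElem_inj_iff (hi := (lt_min_iff.mp hj).2) (hj := hi')).mp hje
  omega

end Poly

section Main

variable {A B : Type u} [CommRing A] [CommRing B] [Algebra A B]

theorem isSmoothAt_quotient_iff' (I : Ideal B) (Q : Ideal (B ⧸ I)) [Q.IsPrime] (q : Ideal B)
    [q.IsPrime] (hQ : Q.comap (Ideal.Quotient.mk I) = q) :
    Algebra.IsSmoothAt A Q ↔ Algebra.FormallySmooth A
      (Localization.AtPrime q ⧸ I.map (algebraMap B (Localization.AtPrime q))) := by
  subst hQ
  exact isSmoothAt_quotient_iff A I Q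

theorem span_one_tmul_eq_top (q : Ideal B) [q.IsPrime] (M : Type*) [AddCommGroup M] [Module B M] :
    Submodule.span q.ResidueField
      (Set.range fun m : M => (1 : q.ResidueField) ⊗ₜ[B] m) = ⊤ := by
  rw [eq_top_iff]
  rintro v -
  induction v using TensorProduct.induction_on with
  | zero => exact zero_mem _
  | add x y hx hy => exact add_mem hx hy
  | tmul c m =>
    have : c ⊗ₜ[B] m = c • ((1 : q.ResidueField) ⊗ₜ[B] m) := by
      rw [TensorProduct.smul_tmul', smul_eq_mul, mul_one]
    rw [this]
    exact Submodule.smul_mem _ _ (Submodule.subset_span ⟨m, rfl⟩)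

/-- `B` finitely presented over `A` and smooth at `q`, `J ≤ q` finitely generated with
`B_q ⧸ J B_q` formally smooth: near `q` the ideal `J` is generated by a regular sequence. -/
theorem exists_isRegular_away [Algebra.FinitePresentation A B] (J : Ideal B) (hJ : J.FG)
    (q : Ideal B) [q.IsPrime] (hJq : J ≤ q) [Algebra.IsSmoothAt A q]
    [Algebra.FormallySmooth A
      (Localization.AtPrime q ⧸ J.map (algebraMap B (Localization.AtPrime q)))] :
    ∃ f : B, f ∉ q ∧ ∀ (B' : Type u) [CommRing B'] [Algebra B B'] [IsLocalization.Away f B'],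
      ∃ rs : List B', RingTheory.Sequence.IsRegular B' rs ∧
        Ideal.ofList rs = J.map (algebraMap B B') := by
  classical
  -- the prime of the quotient
  have hmks : Function.Surjective (Ideal.Quotient.mk J) := Ideal.Quotient.mk_surjective
  set Q : Ideal (B ⧸ J) := q.map (Ideal.Quotient.mk J) with hQdef
  haveI : Q.IsPrime := Ideal.map_isPrime_of_surjective hmks (by rwa [Ideal.mk_ker])
  have hQ : Q.comap (Ideal.Quotient.mk J) = q := by
    rw [hQdef, Ideal.comap_map_of_surjective _ hmks, ← RingHom.ker_eq_comap_bot, Ideal.mk_ker]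
    exact sup_eq_left.mpr hJq
  haveI : Algebra.IsSmoothAt A Q := (isSmoothAt_quotient_iff' J Q q hQ).mpr inferInstance
  -- minimal generators
  haveI : Module.Finite B J := Module.Finite.iff_fg.mpr hJ
  obtain ⟨r, g, -, hli, hsp⟩ := exists_fin_basis_of_span_image
    (fun m : J => (1 : q.ResidueField) ⊗ₜ[B] m) Set.univ
    (by rw [Set.image_univ]; exact span_one_tmul_eq_top q J)
  have hmin : r = Module.finrank q.ResidueField (q.ResidueField ⊗[B] J) := by
    have := Module.finrank_eq_card_basis (Module.Basis.mk hli (le_of_eq hsp.symm))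
    rw [this, Fintype.card_fin]
  obtain ⟨s, hsq, hs⟩ := exists_notMem_smul_mem_span q g hsp
  have hgen : J.map (algebraMap B (Localization.AtPrime q)) =
      Ideal.span (Set.range fun i => algebraMap B (Localization.AtPrime q) (g i : B)) := by
    apply le_antisymm
    · rw [Ideal.map_le_iff_le_comap]
      intro j hj
      rw [Ideal.mem_comap]
      have h1 := hs ⟨j, hj⟩
      have h2 : s * j ∈ Ideal.span (Set.range fun i => (g i : B)) := by
        have h3 := Submodule.mem_map_of_mem (f := J.subtype) h1
        rw [Submodule.map_span, ← Set.range_comp] at h3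
        exact h3
      have h4 := Ideal.mem_map_of_mem (algebraMap B (Localization.AtPrime q)) h2
      rw [Ideal.map_span, ← Set.range_comp, map_mul] at h4
      have hu : IsUnit (algebraMap B (Localization.AtPrime q) s) :=
        IsLocalization.map_units (Localization.AtPrime q) (⟨s, hsq⟩ : q.primeCompl)
      exact (Ideal.unit_mul_mem_iff_mem _ hu).mp h4
    · rw [Ideal.span_le]
      rintro _ ⟨i, rfl⟩
      exact Ideal.mem_map_of_mem _ (g i).2
  obtain ⟨f, hfq, m, g', hEt, hJf⟩ := Groth.Agent.S2818.result A B J hJ q hJq Q hQ r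
    (fun i => (g i : B)) (fun i => (g i).2) hgen hmin
  refine ⟨f, hfq, ?_⟩
  intro B' _ _ _
  -- the regular sequence in `Localization.Away f`
  set Φ : MvPolynomial (Fin r ⊕ Fin m) A →ₐ[A] Localization.Away f :=
    MvPolynomial.aeval (Sum.elim (fun i => algebraMap B (Localization.Away f) (g i : B)) g')
    with hΦ
  letI algΦ : Algebra (MvPolynomial (Fin r ⊕ Fin m) A) (Localization.Away f) :=
    Φ.toRingHom.toAlgebra
  haveI : Algebra.Etale (MvPolynomial (Fin r ⊕ Fin m) A) (Localization.Away f) := hEt
  haveI : Module.Flat (MvPolynomial (Fin r ⊕ Fin m) A) (Localization.Away f) := inferInstance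
  have hnodup : (List.ofFn (fun i : Fin r => (Sum.inl i : Fin r ⊕ Fin m))).Nodup :=
    List.nodup_ofFn.mpr (fun a b h => Sum.inl_injective h)
  have hreg := (isWeaklyRegular_map_X (k := A) _ hnodup).of_flat (S := Localization.Away f)
  have hlist : ((List.ofFn (fun i : Fin r => (Sum.inl i : Fin r ⊕ Fin m))).map
      (MvPolynomial.X : _ → MvPolynomial (Fin r ⊕ Fin m) A)).map
        (algebraMap (MvPolynomial (Fin r ⊕ Fin m) A) (Localization.Away f)) =
      List.ofFn (fun i : Fin r => algebraMap B (Localization.Away f) (g i : B)) := by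
    rw [List.map_ofFn, List.map_ofFn]
    congr 1
    funext i
    show Φ (MvPolynomial.X (Sum.inl i)) = _
    rw [hΦ, MvPolynomial.aeval_X]
    rfl
  rw [hlist] at hreg
  -- transport to `B'`
  let e' : Localization.Away f ≃ₐ[B] B' := IsLocalization.algEquiv (Submonoid.powers f) _ _
  refine ⟨List.ofFn (fun i : Fin r => algebraMap B B' (g i : B)), ⟨?_, ?_⟩, ?_⟩
  · have h1 := (AddEquiv.isWeaklyRegular_congr (e := e'.toRingEquiv.toAddEquiv)
      (as := List.ofFn (fun i : Fin r => algebraMap B (Localization.Away f) (g i : B)))
      (bs := List.ofFn (fun i : Fin r => algebraMap B B' (g i : B))) ?_).mp hreg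
    · exact h1
    · have : List.ofFn (fun i : Fin r => algebraMap B B' (g i : B)) =
          (List.ofFn (fun i : Fin r => algebraMap B (Localization.Away f) (g i : B))).map e' := by
        rw [List.map_ofFn]
        congr 1
        funext i
        exact (e'.commutes (g i : B)).symm
      rw [this, List.forall₂_map_right_iff, List.forall₂_same]
      intro x _ y
      show e' (x • y) = e' x • e' y
      rw [smul_eq_mul, smul_eq_mul, map_mul]
  · -- properness
    rw [ofList_ofFn, Ideal.smul_eq_mul, Ideal.mul_top]
    intro htop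
    have hle : Ideal.span (Set.range fun i : Fin r => algebraMap B B' (g i : B)) ≤
        q.map (algebraMap B B') := by
      rw [Ideal.span_le]
      rintro _ ⟨i, rfl⟩
      exact Ideal.mem_map_of_mem _ (hJq (g i).2)
    have hprime : (q.map (algebraMap B B')).IsPrime := by
      refine IsLocalization.isPrime_of_isPrime_disjoint (Submonoid.powers f) B' q inferInstance ?_
      rw [Set.disjoint_left]
      rintro x ⟨n, rfl⟩ hx
      exact hfq (Ideal.IsPrime.mem_of_pow_mem inferInstance n hx)
    exact hprime.ne_top (top_le_iff.mp (htop.symm ▸ hle))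
  · rw [ofList_ofFn]
    have h1 : J.map (algebraMap B B') = (J.map (algebraMap B (Localization.Away f))).map
        (e' : Localization.Away f →+* B') := by
      rw [Ideal.map_map]
      congr 1
      refine RingHom.ext fun b => ?_
      exact (e'.commutes b).symm
    rw [h1, hJf, Ideal.map_span, ← Set.range_comp]
    congr 2
    funext i
    exact (e'.commutes (g i : B)).symm

end Main

end Groth.Agent.Lib.Helper25.RegSmooth
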