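import Mathlib
import Groth.Prelude.Def_CInt
import Groth.Agent.Lib.Helper25.RegSmooth2
import Groth.Agent.Lib.Helper25.RegSmooth3
import Groth.Agent.Helper19.RegNear

/-!
# Smoothness along a smooth closed subscheme and regular immersions (helper25)

`mem_smoothLocus_iff_isRegularIdeal`: `f : X ⟶ S` locally of finite presentation, `j : Y ⟶ X` a
closed immersion with `j ≫ f` locally of finite presentation and smooth at `x`.  Then `f` is smooth
at `j x` iff the kernel of `O_{X,j x} → O_{Y,x}` is generated by a regular sequence.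
-/

set_option autoImplicit false
universe u

open CategoryTheory AlgebraicGeometry TopologicalSpace

namespace Groth.Agent.Lib.Helper25.RegSmooth

open Groth.Agent.Helper19.RegNear

/-- formal smoothness of the stalk over the ring of sections of an affine open of the base. -/
theorem formallySmooth_stalkMap_iff_germ {X S : Scheme.{u}} (f : X ⟶ S) (x : X) (U : S.Opens)
    (hU : IsAffineOpen U) (V : X.Opens) (hV : IsAffineOpen V) (hVU : V ≤ f ⁻¹ᵁ U) (hx : x ∈ V) :
    (f.stalkMap x).hom.FormallySmooth ↔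
      ((X.presheaf.germ V x hx).hom.comp (f.appLE U V hVU).hom).FormallySmooth := by
  letI algAB : Algebra Γ(S, U) Γ(X, V) := (f.appLE U V hVU).hom.toAlgebra
  letI algBL : Algebra Γ(X, V) (X.presheaf.stalk x) :=
    TopCat.Presheaf.algebra_section_stalk X.presheaf ⟨x, hx⟩
  haveI hloc : IsLocalization.AtPrime (X.presheaf.stalk x) (hV.primeIdealOf ⟨x, hx⟩).asIdeal :=
    hV.isLocalization_stalk ⟨x, hx⟩
  letI algAL : Algebra Γ(S, U) (X.presheaf.stalk x) :=
    ((X.presheaf.germ V x hx).hom.comp (f.appLE U V hVU).hom).toAlgebra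
  haveI : IsScalarTower Γ(S, U) Γ(X, V) (X.presheaf.stalk x) := IsScalarTower.of_algebraMap_eq' rfl
  rw [formallySmooth_stalkMap_iff U hU V hV hVU hx]
  let e : X.presheaf.stalk x ≃ₐ[Γ(X, V)] Localization.AtPrime (hV.primeIdealOf ⟨x, hx⟩).asIdeal :=
    IsLocalization.algEquiv (hV.primeIdealOf ⟨x, hx⟩).asIdeal.primeCompl _ _
  show Algebra.FormallySmooth Γ(S, U) (Localization.AtPrime (hV.primeIdealOf ⟨x, hx⟩).asIdeal) ↔
    Algebra.FormallySmooth Γ(S, U) (X.presheaf.stalk x)
  exact (Algebra.FormallySmooth.iff_of_equiv (e.restrictScalars Γ(S, U))).symm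

/-- `exists_isRegular_away` for an arbitrary localization `L` of `B` at `q`. -/
theorem exists_isRegular_away' {A B : Type u} [CommRing A] [CommRing B] [Algebra A B]
    [Algebra.FinitePresentation A B] (J : Ideal B) (hJ : J.FG)
    (q : Ideal B) [q.IsPrime] (hJq : J ≤ q) (L : Type u) [CommRing L] [Algebra B L]
    [IsLocalization.AtPrime L q] [Algebra A L] [IsScalarTower A B L]
    [Algebra.FormallySmooth A L] [Algebra.FormallySmooth A (L ⧸ J.map (algebraMap B L))] :
    ∃ f : B, f ∉ q ∧ ∀ (B' : Type u) [CommRing B'] [Algebra B B'] [IsLocalization.Away f B'],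
      ∃ rs : List B', RingTheory.Sequence.IsRegular B' rs ∧
        Ideal.ofList rs = J.map (algebraMap B B') := by
  let e : L ≃ₐ[B] Localization.AtPrime q := IsLocalization.algEquiv q.primeCompl _ _
  haveI h1 : Algebra.IsSmoothAt A q :=
    Algebra.FormallySmooth.of_equiv (e.restrictScalars A)
  have hmap : J.map (algebraMap B (Localization.AtPrime q)) =
      (J.map (algebraMap B L)).map ((e.restrictScalars A : L ≃ₐ[A] Localization.AtPrime q) :
        L →+* Localization.AtPrime q) := by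
    rw [Ideal.map_map]
    congr 1
    refine RingHom.ext fun b => ?_
    exact (e.commutes b).symm
  haveI h2 : Algebra.FormallySmooth A
      (Localization.AtPrime q ⧸ J.map (algebraMap B (Localization.AtPrime q))) :=
    Algebra.FormallySmooth.of_equiv
      (Ideal.quotientEquivAlg (J.map (algebraMap B L)) _ (e.restrictScalars A) hmap)
  exact exists_isRegular_away (A := A) J hJ q hJq

/-- **Smoothness along a smooth closed subscheme.** -/
theorem mem_smoothLocus_iff_isRegularIdeal {X Y S : Scheme.{u}} (f : X ⟶ S)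
    [LocallyOfFinitePresentation f] (j : Y ⟶ X) [IsClosedImmersion j]
    [LocallyOfFinitePresentation (j ≫ f)] (x : Y) (hY : x ∈ (j ≫ f).smoothLocus) :
    j x ∈ f.smoothLocus ↔ CInt.IsRegularIdeal (RingHom.ker (j.stalkMap x).hom) := by
  -- charts
  obtain ⟨_, ⟨U, hU, rfl⟩, hxU, -⟩ :=
    S.isBasis_affineOpens.exists_subset_of_mem_open (Set.mem_univ (f (j x))) isOpen_univ
  obtain ⟨_, ⟨V, hV, rfl⟩, hxV, hVU⟩ :=
    X.isBasis_affineOpens.exists_subset_of_mem_open hxU (U.2.preimage f.continuous)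
  have hU' : IsAffineOpen U := hU
  have hV0 : IsAffineOpen V := hV
  have hV' : IsAffineOpen (j ⁻¹ᵁ V) := hV0.preimage j
  have hxV' : x ∈ j ⁻¹ᵁ V := hxV
  have hle : j ⁻¹ᵁ V ≤ (j ≫ f) ⁻¹ᵁ U := fun y hy => hVU hy
  -- algebra structures
  letI algAB : Algebra Γ(S, U) Γ(X, V) := (f.appLE U V hVU).hom.toAlgebra
  haveI hfp : Algebra.FinitePresentation Γ(S, U) Γ(X, V) :=
    f.finitePresentation_appLE hU' hV0 hVU
  letI algBL : Algebra Γ(X, V) (X.presheaf.stalk (j x)) :=
    TopCat.Presheaf.algebra_section_stalk X.presheaf ⟨j x, hxV⟩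
  haveI hloc : IsLocalization.AtPrime (X.presheaf.stalk (j x))
      (hV0.primeIdealOf ⟨j x, hxV⟩).asIdeal := hV0.isLocalization_stalk ⟨j x, hxV⟩
  letI algAL : Algebra Γ(S, U) (X.presheaf.stalk (j x)) :=
    ((X.presheaf.germ V (j x) hxV).hom.comp (f.appLE U V hVU).hom).toAlgebra
  haveI : IsScalarTower Γ(S, U) Γ(X, V) (X.presheaf.stalk (j x)) :=
    IsScalarTower.of_algebraMap_eq' rfl
  set q := (hV0.primeIdealOf ⟨j x, hxV⟩).asIdeal with hq
  set J := j.ker.ideal ⟨V, hV0⟩ with hJ
  have hker : RingHom.ker (j.stalkMap x).hom =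
      J.map (algebraMap Γ(X, V) (X.presheaf.stalk (j x))) := ker_stalkMap_eq j x V hV0 hxV
  have hJq : J ≤ q := fun a ha => mem_primeIdealOf_of_mem_ker j x V hV0 hxV a ha
  -- the composite `(j ≫ f).appLE`
  have happ : (j ≫ f).appLE U (j ⁻¹ᵁ V) hle = f.appLE U V hVU ≫ j.app V := by
    rw [← Scheme.Hom.appLE_comp_appLE j f U V (j ⁻¹ᵁ V) hVU le_rfl, Scheme.Hom.appLE_eq_app]
  -- smoothness of `Y`
  have hsmY : Algebra.FormallySmooth Γ(S, U)
      (X.presheaf.stalk (j x) ⧸ J.map (algebraMap Γ(X, V) (X.presheaf.stalk (j x)))) := by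
    have h1 := (formallySmooth_stalkMap_iff_germ (j ≫ f) x U hU' (j ⁻¹ᵁ V) hV' hle hxV').mp hY
    have hρ : (Y.presheaf.germ (j ⁻¹ᵁ V) x hxV').hom.comp ((j ≫ f).appLE U (j ⁻¹ᵁ V) hle).hom =
        (j.stalkMap x).hom.comp (algebraMap Γ(S, U) (X.presheaf.stalk (j x))) := by
      rw [happ]
      refine RingHom.ext fun a => ?_
      simp only [RingHom.comp_apply, CommRingCat.hom_comp]
      exact (Scheme.Hom.germ_stalkMap_apply j V x hxV ((f.appLE U V hVU).hom a)).symm
    rw [hρ] at h1
    letI algAL' : Algebra Γ(S, U) (Y.presheaf.stalk x) :=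
      ((j.stalkMap x).hom.comp (algebraMap Γ(S, U) (X.presheaf.stalk (j x)))).toAlgebra
    haveI hsmL' : Algebra.FormallySmooth Γ(S, U) (Y.presheaf.stalk x) := h1
    let σA : X.presheaf.stalk (j x) →ₐ[Γ(S, U)] Y.presheaf.stalk x :=
      { (j.stalkMap x).hom with commutes' := fun a => rfl }
    have hσ : Function.Surjective σA := j.stalkMap_surjective x
    let e1 := Ideal.quotientKerAlgEquivOfSurjective hσ
    have hkerσ : J.map (algebraMap Γ(X, V) (X.presheaf.stalk (j x))) = RingHom.ker σA := by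
      rw [← hker]
      rfl
    let e2 := Ideal.quotientEquivAlgOfEq Γ(S, U) hkerσ
    exact Algebra.FormallySmooth.of_equiv (e2.trans e1).symm
  -- `J` is finitely generated
  have hJfg : J.FG := by
    letI algAC : Algebra Γ(S, U) Γ(Y, j ⁻¹ᵁ V) :=
      ((j.app V).hom.comp (f.appLE U V hVU).hom).toAlgebra
    haveI : Algebra.FinitePresentation Γ(S, U) Γ(Y, j ⁻¹ᵁ V) := by
      have h1 := (j ≫ f).finitePresentation_appLE hU' hV' hle
      rw [happ] at h1
      exact h1
    let ψA : Γ(X, V) →ₐ[Γ(S, U)] Γ(Y, j ⁻¹ᵁ V) :=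
      { (j.app V).hom with commutes' := fun a => rfl }
    have hψ : Function.Surjective ψA := j.app_surjective V hV0
    have h2 := Algebra.FinitePresentation.ker_fG_of_surjective ψA hψ
    have h3 : RingHom.ker ψA.toRingHom = J := by
      rw [hJ, Scheme.Hom.ker_apply]
    rwa [h3] at h2
  rw [Scheme.Hom.mem_smoothLocus, formallySmooth_stalkMap_iff_germ f (j x) U hU' V hV0 hVU hxV, hker]
  show Algebra.FormallySmooth Γ(S, U) (X.presheaf.stalk (j x)) ↔ _
  constructor
  · intro hsm
    obtain ⟨g, hgq, hB⟩ := exists_isRegular_away' (A := Γ(S, U)) J hJfg q hJq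
      (X.presheaf.stalk (j x))
    have haff : AffReg j x := by
      refine ⟨X.basicOpen g, hV0.basicOpen g, ?_, ?_⟩
      · by_contra hn
        exact hgq ((Groth.Agent.Helper19.QuasiRegScheme.mem_primeIdealOf_iff hV0 (j x) hxV g).mpr hn)
      · haveI := hV0.isLocalization_basicOpen g
        have h1 := hB Γ(X, X.basicOpen g)
        have h2 := j.ker.map_ideal_basicOpen ⟨V, hV0⟩ g
        show CInt.IsRegularIdeal (j.ker.ideal (X.affineBasicOpen g))
        rw [← h2]
        exact h1
    have h3 := stalk_of_affReg j x haff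
    rwa [hker] at h3
  · rintro ⟨rs, hrs, hofl⟩
    exact formallySmooth_of_isWeaklyRegular (A := Γ(S, U)) J q hJq (X.presheaf.stalk (j x)) rs
      hrs.toIsWeaklyRegular hofl

end Groth.Agent.Lib.Helper25.RegSmooth
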