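import Mathlib
import Groth.Prelude.Def_CInt
import Groth.Agent.Helper19.RegNear
import Groth.Agent.Lib.Helper21.BaseChg5
import Groth.Agent.Lib.Helper21.EquiSub9
import Groth.Agent.Lib.Helper21.FibStalkDepth
import Groth.Agent.Lib.Helper25.RegSmooth4

/-!
# Codimension of a smooth closed subscheme of a smooth scheme, relative to the base (helper25)
-/

set_option autoImplicit false
universe u

open CategoryTheory AlgebraicGeometry TopologicalSpace

namespace Groth.Agent.Lib.Helper25.CodimSmooth

open Groth.Agent.Helper19.RegNear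

/-- above an element of finite coheight there is a maximal element -/
theorem exists_isMax_ge {α : Type*} [Preorder α] :
    ∀ (n : ℕ) (a : α), Order.coheight a ≤ n → ∃ b, a ≤ b ∧ IsMax b := by
  intro n
  induction n with
  | zero =>
    intro a h
    refine ⟨a, le_rfl, Order.coheight_eq_zero.mp ?_⟩
    exact le_antisymm (by simpa using h) zero_le
  | succ n ih =>
    intro a h
    by_cases hm : IsMax a
    · exact ⟨a, le_rfl, hm⟩
    · obtain ⟨b, hb⟩ := not_isMax_iff.mp hm
      have h1 : Order.coheight b + 1 ≤ Order.coheight a := Order.coheight_add_one_le hb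
      have h2 : Order.coheight b ≤ n := by
        have h3 : Order.coheight b + 1 ≤ ((n + 1 : ℕ) : ℕ∞) := h1.trans h
        have h4 : Order.coheight b + 1 ≤ (n : ℕ∞) + 1 := by simpa using h3
        exact (ENat.add_le_add_iff_right (by simp)).mp h4
      obtain ⟨c, hbc, hc⟩ := ih b h2
      exact ⟨c, hb.le.trans hbc, hc⟩

/-- the dimension of a Noetherian local ring is a natural number -/
theorem exists_nat_ringKrullDim_eq (R : Type*) [CommRing R] [IsNoetherianRing R] [IsLocalRing R] :
    ∃ n : ℕ, ringKrullDim R = n := by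
  have h1 : ringKrullDim R ≠ ⊤ := ringKrullDim_ne_top
  have h2 : ringKrullDim R ≠ ⊥ := ringKrullDim_ne_bot
  obtain ⟨m, hm⟩ := WithBot.ne_bot_iff_exists.mp h2
  have hm' : m ≠ ⊤ := by
    rintro rfl
    exact h1 hm.symm
  obtain ⟨n, rfl⟩ := ENat.ne_top_iff_exists.mp hm'
  exact ⟨n, hm.symm⟩

/-- along a regularly immersed closed subscheme the dimensions of the local rings differ by the
length of the regular sequence. -/
theorem ringKrullDim_stalk_add_length {X Y : Scheme.{u}} [IsLocallyNoetherian X] (i : Y ⟶ X)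
    [IsClosedImmersion i] (W : X.Opens) (hW : IsAffineOpen W) (rs : List Γ(X, W))
    (hrs : RingTheory.Sequence.IsRegular Γ(X, W) rs)
    (hI : Ideal.ofList rs = i.ker.ideal ⟨W, hW⟩) (z : Y) (hz : i z ∈ W) :
    ringKrullDim (Y.presheaf.stalk z) + rs.length = ringKrullDim (X.presheaf.stalk (i z)) := by
  letI : Algebra Γ(X, W) (X.presheaf.stalk (i z)) :=
    TopCat.Presheaf.algebra_section_stalk X.presheaf ⟨i z, hz⟩
  haveI hlocX : IsLocalization.AtPrime (X.presheaf.stalk (i z))
      (hW.primeIdealOf ⟨i z, hz⟩).asIdeal := hW.isLocalization_stalk ⟨i z, hz⟩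
  haveI : IsNoetherianRing Γ(X, W) := IsLocallyNoetherian.component_noetherian ⟨W, hW⟩
  haveI : IsNoetherianRing (X.presheaf.stalk (i z)) :=
    IsLocalization.isNoetherianRing (hW.primeIdealOf ⟨i z, hz⟩).asIdeal.primeCompl _ inferInstance
  have hreg : RingTheory.Sequence.IsRegular (X.presheaf.stalk (i z))
      (rs.map (algebraMap Γ(X, W) (X.presheaf.stalk (i z)))) :=
    hrs.toIsWeaklyRegular.isRegular_of_isLocalization_of_mem (X.presheaf.stalk (i z))
      (hW.primeIdealOf ⟨i z, hz⟩).asIdeal
      (fun r hr => mem_primeIdealOf_of_mem_ker i z W hW hz r (hI ▸ Ideal.subset_span hr))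
  have hker : RingHom.ker (i.stalkMap z).hom =
      Ideal.ofList (rs.map (algebraMap Γ(X, W) (X.presheaf.stalk (i z)))) := by
    rw [ker_stalkMap_eq i z W hW hz, ← hI, Ideal.map_ofList]
    rfl
  have h1 := ringKrullDim_add_length_eq_ringKrullDim_of_isRegular
    (rs.map (algebraMap Γ(X, W) (X.presheaf.stalk (i z)))) hreg
  rw [List.length_map] at h1
  rw [← h1, ← hker]
  congr 1
  exact (ringKrullDim_eq_of_ringEquiv
    (RingHom.quotientKerEquivOfSurjective (i.stalkMap_surjective z))).symm

end Groth.Agent.Lib.Helper25.CodimSmooth
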