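import Mathlib
import Groth.Agent.Lib.Helper25.CodimSmooth1

/-!
# Codimension of a smooth closed subscheme of a smooth scheme, relative to the base, II (helper25)
-/

set_option autoImplicit false
universe u

open CategoryTheory AlgebraicGeometry TopologicalSpace

namespace Groth.Agent.Lib.Helper25.CodimSmooth

open Groth.Agent.Helper19.RegNear Groth.Agent.Lib.Helper25.RegSmooth

theorem exists_stalk_dim_le_fiberStalk {X Y S : Scheme.{u}} [IsLocallyNoetherian X]
    [IsLocallyNoetherian S] (f : X ⟶ S) [Smooth f] (i : Y ⟶ X) [IsClosedImmersion i]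
    [Smooth (i ≫ f)] (y₀ : Y) :
    ∃ z : Y, ringKrullDim (X.presheaf.stalk (i z)) ≤ ringKrullDim (CInt.fiberStalk f (i y₀)) := by
  haveI : IsLocallyNoetherian Y := LocallyOfFiniteType.isLocallyNoetherian i
  have hsm : i y₀ ∈ f.smoothLocus := by
    rw [Scheme.Hom.smoothLocus_eq_top f]; trivial
  have hY : y₀ ∈ (i ≫ f).smoothLocus := by
    rw [Scheme.Hom.smoothLocus_eq_top (i ≫ f)]; trivial
  have hreg : CInt.IsRegularIdeal (RingHom.ker (i.stalkMap y₀).hom) :=
    (mem_smoothLocus_iff_isRegularIdeal f i y₀ hY).mp hsm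
  obtain ⟨W, hW, hyW, rs, hrs, hI⟩ := affReg_of_stalk i y₀ hreg
  -- a maximal point above `y₀`
  obtain ⟨n, hn⟩ := exists_nat_ringKrullDim_eq (Y.presheaf.stalk y₀)
  have hco : Order.coheight y₀ ≤ n := by
    have h1 := ringKrullDim_stalk_eq_coheight y₀
    rw [hn] at h1
    have h2 : ((n : ℕ∞) : WithBot ℕ∞) = ((Order.coheight y₀ : ℕ∞) : WithBot ℕ∞) := by
      exact_mod_cast h1
    exact le_of_eq (WithBot.coe_injective h2).symm
  obtain ⟨z, hz, hzmax⟩ := exists_isMax_ge n y₀ hco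
  have hzs : z ⤳ y₀ := Scheme.le_iff_specializes.mp hz
  have hzW : i z ∈ W := by
    have h1 : y₀ ∈ i ⁻¹ᵁ W := hyW
    exact hzs.mem_open (i ⁻¹ᵁ W).2 h1
  have hz0 : ringKrullDim (Y.presheaf.stalk z) = 0 := by
    rw [ringKrullDim_stalk_eq_coheight z, Order.coheight_eq_zero.mpr hzmax]
    rfl
  have e1 := ringKrullDim_stalk_add_length i W hW rs hrs hI z hzW
  have e2 := ringKrullDim_stalk_add_length i W hW rs hrs hI y₀ hyW
  rw [hz0, zero_add] at e1
  refine ⟨z, ?_⟩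
  rw [← e1]
  -- the flat dimension formulas
  have f1 := Groth.Agent.Lib.Helper21.BaseChg.ringKrullDim_stalk_eq_add_of_flat f (i y₀)
  rw [Groth.Agent.Lib.Helper21.EquiSub.ringKrullDim_quotient_map_maximalIdeal f (i y₀)] at f1
  have f2 := Groth.Agent.Lib.Helper21.BaseChg.ringKrullDim_stalk_eq_add_of_flat (i ≫ f) y₀
  rw [Groth.Agent.Lib.Helper21.EquiSub.ringKrullDim_quotient_map_maximalIdeal (i ≫ f) y₀] at f2
  haveI : IsNoetherianRing (CInt.fiberStalk f (i y₀)) :=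
    Groth.Agent.Lib.Helper21.FibStalkDepth.isNoetherianRing_fiberStalk f (i y₀)
  haveI : IsNoetherianRing (CInt.fiberStalk (i ≫ f) y₀) :=
    Groth.Agent.Lib.Helper21.FibStalkDepth.isNoetherianRing_fiberStalk (i ≫ f) y₀
  obtain ⟨dS, hdS⟩ := exists_nat_ringKrullDim_eq (S.presheaf.stalk (f (i y₀)))
  obtain ⟨dX, hdX⟩ := exists_nat_ringKrullDim_eq (X.presheaf.stalk (i y₀))
  obtain ⟨dFX, hdFX⟩ := exists_nat_ringKrullDim_eq (CInt.fiberStalk f (i y₀))
  obtain ⟨dFY, hdFY⟩ := exists_nat_ringKrullDim_eq (CInt.fiberStalk (i ≫ f) y₀)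
  have hdS' : ringKrullDim (S.presheaf.stalk ((i ≫ f) y₀)) = dS := hdS
  have hdFX' : ringKrullDim ((f.fiber (f (i y₀))).presheaf.stalk (f.asFiber (i y₀))) = dFX := hdFX
  have hdFY' : ringKrullDim (((i ≫ f).fiber ((i ≫ f) y₀)).presheaf.stalk ((i ≫ f).asFiber y₀)) =
      dFY := hdFY
  rw [hdX, hdS, hdFX'] at f1
  rw [hn, hdS', hdFY'] at f2
  rw [hn, hdX] at e2
  show ((rs.length : ℕ) : WithBot ℕ∞) ≤ ringKrullDim (CInt.fiberStalk f (i y₀))
  rw [hdFX]
  have g1 : dX = dS + dFX := by exact_mod_cast f1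
  have g2 : n = dS + dFY := by exact_mod_cast f2
  have g3 : n + rs.length = dX := by exact_mod_cast e2
  have g4 : rs.length ≤ dFX := by omega
  exact_mod_cast g4

end Groth.Agent.Lib.Helper25.CodimSmooth
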