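import Groth.Agent.Lib.Helper25.CoextHull
import Mathlib.Algebra.Module.Torsion.Basic
import Mathlib.RingTheory.SimpleModule.Basic

/-!
# Coextension of scalars along a finite (semilocal) algebra: decomposition into hulls
-/

set_option autoImplicit false
universe u v
namespace Groth.Agent.Lib.Helper25
open InjHull IsLocalRing CategoryTheory

section GeneralIdeal

variable {R : Type u} [CommRing R]

/-- the `I`-socle of an `I`-power torsion module is essential -/
theorem essIn_socle_of_isPowerTorsion_ideal (I : Ideal R) {M : Type v} [AddCommGroup M]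
    [Module R M] (hM : LocCoh.IsPowerTorsion I M) :
    EssIn (LocCoh.torsionBy I M) ⊤ := by
  classical
  refine ⟨le_top, fun x _ hx0 => ?_⟩
  have hex := hM x
  have hN0 : Nat.find hex ≠ 0 := by
    intro h0
    have := Nat.find_spec hex
    rw [h0, pow_zero] at this
    exact hx0 (by simpa using this 1 (by simp))
  obtain ⟨N, hN⟩ := Nat.exists_eq_succ_of_ne_zero hN0
  have hmin : ¬ ∀ a ∈ I ^ N, a • x = 0 :=
    Nat.find_min hex (by rw [hN]; exact Nat.lt_succ_self N)
  push Not at hmin
  obtain ⟨a, ha, hax⟩ := hmin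
  refine ⟨a, hax, ?_⟩
  rw [Submodule.mem_torsionBySet_iff]
  rintro ⟨b, hb⟩
  rw [smul_smul]
  have := Nat.find_spec hex
  rw [hN, pow_succ'] at this
  exact this _ (Ideal.mul_mem_mul hb ha)

/-- an injective `n`-power torsion module with simple `n`-socle is a hull of `R ⧸ n` -/
theorem exists_hull_of_socle_simple_ideal (n : Ideal R) [hn : n.IsMaximal] {M : Type u}
    [AddCommGroup M] [Module R M] (hinj : Module.Injective R M)
    (hpt : LocCoh.IsPowerTorsion n M)
    (hs : IsSimpleModule R (LocCoh.torsionBy n M)) :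
    ∃ f : (R ⧸ n) →ₗ[R] M, IsInjectiveHull f := by
  haveI : Nontrivial (LocCoh.torsionBy n M) := IsSimpleModule.nontrivial R _
  obtain ⟨s, hs0⟩ := exists_ne (0 : LocCoh.torsionBy n M)
  have hker : (n : Submodule R R) ≤ LinearMap.ker (LinearMap.toSpanSingleton R _ s) := by
    intro a ha
    rw [LinearMap.mem_ker, LinearMap.toSpanSingleton_apply]
    apply Subtype.ext
    exact (Submodule.mem_torsionBySet_iff _ _).1 s.2 ⟨a, ha⟩
  let e : (R ⧸ n) →ₗ[R] LocCoh.torsionBy n M :=
    Submodule.liftQ n (LinearMap.toSpanSingleton R _ s) hker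
  have he1 : e (Submodule.Quotient.mk 1) = s := by
    change LinearMap.toSpanSingleton R _ s 1 = s
    rw [LinearMap.toSpanSingleton_apply, one_smul]
  have he0 : e ≠ 0 := by
    intro h
    apply hs0
    rw [← he1, h, LinearMap.zero_apply]
  haveI : IsSimpleModule R (R ⧸ n) := by
    rw [isSimpleModule_iff_isCoatom]
    exact Ideal.isMaximal_def.1 hn
  have hbij : Function.Bijective e := LinearMap.bijective_of_ne_zero he0
  refine ⟨(LocCoh.torsionBy n M).subtype ∘ₗ e, ?_, hinj⟩
  exact essInj_comp (isEssentialInj_of_bijective hbij)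
    (essIn_top_iff.1 (essIn_socle_of_isPowerTorsion_ideal n hpt))

end GeneralIdeal

section FiniteSemilocal

variable {A B : Type u} [CommRing A] [IsLocalRing A] [IsNoetherianRing A] [CommRing B]
  [Algebra A B] [Module.Finite A B]

omit [IsNoetherianRing A] in
theorem algebraMap_mem_of_isMaximal (n : Ideal B) [hn : n.IsMaximal] {a : A}
    (ha : a ∈ maximalIdeal A) : algebraMap A B a ∈ n := by
  haveI : Algebra.IsIntegral A B := Algebra.IsIntegral.of_finite A B
  have h1 : (n.comap (algebraMap A B)).IsMaximal :=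
    Ideal.isMaximal_comap_of_isIntegral_of_isMaximal n
  have h2 := IsLocalRing.eq_maximalIdeal h1
  have h3 : a ∈ n.comap (algebraMap A B) := by rw [h2]; exact ha
  exact h3

end FiniteSemilocal

section CoextMax

variable {A B : Type u} [CommRing A] [IsLocalRing A] [IsNoetherianRing A] [CommRing B]
  [Algebra A B] [Module.Finite A B]
  {E : Type u} [AddCommGroup E] [Module A E]

omit [IsNoetherianRing A] in
/-- every element of `Hom_A(B, E)` is killed by the extension of a power of `m_A` -/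
theorem exists_map_pow_smul_eq_zero (hE : LocCoh.IsPowerTorsion (maximalIdeal A) E)
    (g : (ModuleCat.coextendScalars (algebraMap A B)).obj (ModuleCat.of A E)) :
    ∃ n : ℕ, ∀ c ∈ (maximalIdeal A ^ n).map (algebraMap A B), c • g = 0 := by
  classical
  obtain ⟨s, hs⟩ := (Module.Finite.fg_top : (⊤ : Submodule A B).FG)
  have hex : ∀ b : s, ∃ n : ℕ, ∀ a ∈ maximalIdeal A ^ n, a • coextToHom g b = 0 :=
    fun b => hE _
  choose N hN using hex
  let n : ℕ := s.attach.sup N
  have hkill : ∀ a ∈ maximalIdeal A ^ n, ∀ x : B, a • coextToHom g x = 0 := by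
    intro a ha x
    have hle : (⊤ : Submodule A B) ≤ LinearMap.ker (a • coextToHom g) := by
      rw [← hs, Submodule.span_le]
      intro b hb
      rw [SetLike.mem_coe, LinearMap.mem_ker, LinearMap.smul_apply]
      exact hN ⟨b, hb⟩ a (Ideal.pow_le_pow_right (Finset.le_sup (f := N)
        (Finset.mem_attach s ⟨b, hb⟩)) ha)
    exact hle (Submodule.mem_top : x ∈ ⊤)
  have hkill' : ∀ a ∈ maximalIdeal A ^ n, algebraMap A B a • g = 0 := by
    intro a ha
    apply coextToHom_injective
    apply LinearMap.ext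
    intro x
    rw [coextToHom_smul, coextToHom_zero, LinearMap.zero_apply, mul_comm, ← Algebra.smul_def,
      map_smul]
    exact hkill a ha x
  have hann : (maximalIdeal A ^ n).map (algebraMap A B) ≤ (Submodule.span B {g}).annihilator := by
    rw [Ideal.map, Ideal.span_le]
    rintro _ ⟨a, ha, rfl⟩
    rw [SetLike.mem_coe, Submodule.mem_annihilator_span_singleton]
    exact hkill' a ha
  exact ⟨n, fun c hc => (Submodule.mem_annihilator_span_singleton _ _).1 (hann hc)⟩

variable (f : ResidueField A →ₗ[A] E) (hf : IsInjectiveHull f) (n : Ideal B) [hn : n.IsMaximal]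

include hf in
theorem exists_mul_right_eq_hom_ideal (φ ψ : B →ₗ[A] E) (hφ : ∀ b ∈ n, φ b = 0)
    (hψ : ∀ b ∈ n, ψ b = 0) (hφ0 : φ ≠ 0) : ∃ b : B, ∀ x, ψ x = φ (x * b) := by
  let W : Submodule A B := n.restrictScalars A
  let Θ : B →ₗ[A] (B →ₗ[A] E) := (LinearMap.mul A B).compr₂ φ
  have hΘ : ∀ a x, Θ a x = φ (a * x) := fun a x => rfl
  let K : Submodule A (B →ₗ[A] E) := LinearMap.range (LinearMap.lcomp A E W.mkQ)
  have hK : ∀ χ : B →ₗ[A] E, (∀ w ∈ n, χ w = 0) → χ ∈ K := by
    intro χ hχ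
    have hle : W ≤ LinearMap.ker χ := fun w hw => hχ w hw
    exact ⟨W.liftQ χ hle, LinearMap.ext fun x => rfl⟩
  have hker : W = LinearMap.ker Θ := by
    ext a
    rw [LinearMap.mem_ker]
    constructor
    · intro ha
      apply LinearMap.ext
      intro x
      change φ (a * x) = 0
      exact hφ _ (Ideal.mul_mem_right x _ ha)
    · intro h
      by_contra ha
      have ha' : a ∉ n := ha
      obtain ⟨b, i, hi, hbi⟩ := hn.exists_inv ha'
      apply hφ0
      apply LinearMap.ext
      intro x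
      have h1 : Θ a (x * b) = 0 := by
        rw [h]; rfl
      rw [hΘ] at h1
      have h2 : x = a * (x * b) + x * i := by
        calc x = x * (b * a + i) := by rw [hbi, mul_one]
          _ = a * (x * b) + x * i := by ring
      rw [h2, map_add, h1, hφ _ (Ideal.mul_mem_left _ x hi), add_zero, LinearMap.zero_apply]
  let Θbar : (B ⧸ W) →ₗ[A] (B →ₗ[A] E) := W.liftQ Θ (le_of_eq hker)
  have hinj : Function.Injective Θbar := by
    rw [← LinearMap.ker_eq_bot]
    exact Submodule.ker_liftQ_eq_bot' _ _ hker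
  have hle : LinearMap.range Θbar ≤ K := by
    rintro _ ⟨q, rfl⟩
    obtain ⟨a, rfl⟩ := W.mkQ_surjective q
    apply hK
    intro w hw
    change φ (a * w) = 0
    exact hφ _ (Ideal.mul_mem_left _ a hw)
  have hpt : LocCoh.IsPowerTorsion (maximalIdeal A) (B ⧸ W) := by
    intro q
    refine ⟨1, fun a ha => ?_⟩
    rw [pow_one] at ha
    obtain ⟨b, rfl⟩ := W.mkQ_surjective q
    rw [Submodule.mkQ_apply, ← Submodule.Quotient.mk_smul, Submodule.Quotient.mk_eq_zero,
      Algebra.smul_def]
    exact Ideal.mul_mem_right _ _ (algebraMap_mem_of_isMaximal n ha)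
  have hfl : IsFiniteLength A (B ⧸ W) := isFiniteLength_of_finite_of_isPowerTorsion hpt
  have hlenK : Module.length A K = Module.length A (B ⧸ W) := by
    rw [← (LinearEquiv.ofInjective _
      (lcomp_injective_of_surjective (E := E) W.mkQ W.mkQ_surjective)).length_eq,
      length_hom_eq_length f hf hfl]
  have hflK : IsFiniteLength A K := by
    rw [← Module.length_ne_top_iff, hlenK, Module.length_ne_top_iff]
    exact hfl
  have heq : LinearMap.range Θbar = K := by
    apply eq_of_le_of_length_eq hle _ hflK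
    rw [hlenK, ← (LinearEquiv.ofInjective _ hinj).length_eq]
  have hψmem : ψ ∈ K := hK ψ hψ
  rw [← heq] at hψmem
  obtain ⟨q, hq⟩ := hψmem
  obtain ⟨a, rfl⟩ := W.mkQ_surjective q
  refine ⟨a, fun x => ?_⟩
  have h1 : Θ a = ψ := hq
  rw [← h1, hΘ, mul_comm]

omit [IsNoetherianRing A] [Module.Finite A B] in
include hf in
theorem exists_hom_ne_zero_killing_ideal : ∃ φ : B →ₗ[A] E, φ ≠ 0 ∧ ∀ b ∈ n, φ b = 0 := by
  let W : Submodule A B := n.restrictScalars A
  have h1 : (W.mkQ (1 : B)) ≠ 0 := by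
    rw [Ne, Submodule.mkQ_apply, Submodule.Quotient.mk_eq_zero]
    intro h
    exact hn.ne_top ((Ideal.eq_top_iff_one _).2 h)
  obtain ⟨χ, hχ⟩ := exists_hom_ne_zero f hf h1
  refine ⟨χ ∘ₗ W.mkQ, ?_, fun b hb => ?_⟩
  · intro h
    apply hχ
    exact LinearMap.congr_fun h 1
  · rw [LinearMap.comp_apply, Submodule.mkQ_apply, (Submodule.Quotient.mk_eq_zero W).2 hb,
      map_zero]

end CoextMax

section Main

variable {A B : Type u} [CommRing A] [IsLocalRing A] [IsNoetherianRing A] [CommRing B]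
  [Algebra A B] [Module.Finite A B]
  {E : Type u} [AddCommGroup E] [Module A E]

omit [IsLocalRing A] [IsNoetherianRing A] [Module.Finite A B] in
theorem iSupIndep_powTorsion_coext :
    iSupIndep (fun n : MaximalSpectrum B => powTorsion n.asIdeal
      ((ModuleCat.coextendScalars (algebraMap A B)).obj (ModuleCat.of A E))) := by
  rw [iSupIndep_def]
  intro i
  rw [Submodule.disjoint_def]
  intro x hxi hxs
  let T : Submodule B ((ModuleCat.coextendScalars (algebraMap A B)).obj (ModuleCat.of A E)) :=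
    { carrier := {y | ∃ c : B, c ∉ i.asIdeal ∧ c • y = 0}
      add_mem' := by
        rintro y z ⟨c, hc, hy⟩ ⟨d, hd, hz⟩
        refine ⟨c * d, fun h => ?_, ?_⟩
        · rcases i.isMaximal.isPrime.mem_or_mem h with h | h
          exacts [hc h, hd h]
        · rw [smul_add, mul_smul c d z, hz, smul_zero, mul_comm, mul_smul d c y, hy, smul_zero,
            add_zero]
      zero_mem' := ⟨1, fun h => i.isMaximal.ne_top ((Ideal.eq_top_iff_one _).2 h), smul_zero _⟩
      smul_mem' := by
        rintro b y ⟨c, hc, hy⟩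
        exact ⟨c, hc, by rw [smul_comm, hy, smul_zero]⟩ }
  have hT : (⨆ j, ⨆ (_ : j ≠ i), powTorsion j.asIdeal
      ((ModuleCat.coextendScalars (algebraMap A B)).obj (ModuleCat.of A E))) ≤ T := by
    refine iSup₂_le fun j hj => ?_
    intro y hy
    obtain ⟨k, hk⟩ := (mem_powTorsion_iff _ _).1 hy
    have hne : ¬ j.asIdeal ≤ i.asIdeal := by
      intro hle
      exact hj (MaximalSpectrum.ext (j.isMaximal.eq_of_le i.isMaximal.ne_top hle))
    obtain ⟨a, haj, hai⟩ := SetLike.not_le_iff_exists.1 hne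
    exact ⟨a ^ k, fun h => hai (i.isMaximal.isPrime.mem_of_pow_mem k h),
      hk _ (Ideal.pow_mem_pow haj k)⟩
  obtain ⟨c, hc, hcx⟩ := hT hxs
  obtain ⟨k, hk⟩ := (mem_powTorsion_iff _ _).1 hxi
  have hcop : Ideal.span {c} ⊔ i.asIdeal ^ k = ⊤ := by
    apply Ideal.sup_pow_eq_top
    obtain ⟨y, z, hz, hyz⟩ := i.isMaximal.exists_inv hc
    rw [Ideal.eq_top_iff_one, ← hyz]
    exact Submodule.add_mem_sup (Ideal.mem_span_singleton'.2 ⟨y, rfl⟩) hz
  have h1 : (1 : B) ∈ Ideal.span {c} ⊔ i.asIdeal ^ k := by rw [hcop]; trivial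
  obtain ⟨u, hu, v, hv, huv⟩ := Submodule.mem_sup.1 h1
  obtain ⟨r, rfl⟩ := Ideal.mem_span_singleton'.1 hu
  rw [← one_smul B x, ← huv, add_smul, mul_smul, hcx, smul_zero, hk v hv, add_zero]

variable (f : ResidueField A →ₗ[A] E) (hf : IsInjectiveHull f)

include hf in
theorem iSup_powTorsion_coext_eq_top :
    (⨆ n : MaximalSpectrum B, powTorsion n.asIdeal
      ((ModuleCat.coextendScalars (algebraMap A B)).obj (ModuleCat.of A E))) = ⊤ := by
  classical
  rw [eq_top_iff]
  intro x _
  obtain ⟨M, hM⟩ := exists_map_pow_smul_eq_zero (B := B)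
    (isPowerTorsion_of_isInjectiveHull f hf) x
  set 𝔟 : Ideal B := (maximalIdeal A ^ M).map (algebraMap A B) with h𝔟
  have hpt : LocCoh.IsPowerTorsion (maximalIdeal A) (B ⧸ 𝔟) := by
    intro q
    refine ⟨M, fun a ha => ?_⟩
    obtain ⟨b, rfl⟩ := Ideal.Quotient.mk_surjective q
    have h1 : a • (Ideal.Quotient.mk 𝔟) b = Ideal.Quotient.mk 𝔟 (a • b) := rfl
    rw [h1, Ideal.Quotient.eq_zero_iff_mem, Algebra.smul_def]
    exact Ideal.mul_mem_right _ _ (Ideal.mem_map_of_mem _ ha)
  have hfl := isFiniteLength_of_finite_of_isPowerTorsion hpt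
  obtain ⟨_, hart⟩ := isFiniteLength_iff_isNoetherian_isArtinian.1 hfl
  haveI : IsArtinianRing (B ⧸ 𝔟) := isArtinian_of_tower A hart
  obtain ⟨K, hK⟩ := IsArtinianRing.isNilpotent_nilradical (R := B ⧸ 𝔟)
  have hinf : (⨅ I : MaximalSpectrum (B ⧸ 𝔟), I.asIdeal ^ K) = ⊥ := by
    rw [← IsArtinianRing.nilradical_pow_eq_iInf, hK]
    rfl
  haveI : Fintype (MaximalSpectrum (B ⧸ 𝔟)) := Fintype.ofFinite _
  let P : MaximalSpectrum (B ⧸ 𝔟) → Ideal B :=
    fun I => (I.asIdeal ^ K).comap (Ideal.Quotient.mk 𝔟)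
  have hP : ((Finset.univ : Finset (MaximalSpectrum (B ⧸ 𝔟))) : Set _).Pairwise
      fun I I' => P I ⊔ P I' = ⊤ := by
    intro I _ I' _ hII'
    have hc : IsCoprime (I.asIdeal ^ K) (I'.asIdeal ^ K) :=
      (MaximalSpectrum.isCoprime_of_ne hII').pow
    obtain ⟨i, hi, j, hj, hij⟩ := Ideal.isCoprime_iff_exists.1 hc
    obtain ⟨i', rfl⟩ := Ideal.Quotient.mk_surjective i
    rw [Ideal.eq_top_iff_one]
    have h1 : (1 : B) = i' + (1 - i') := by ring
    rw [h1]
    refine Submodule.add_mem_sup hi ?_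
    change Ideal.Quotient.mk 𝔟 (1 - i') ∈ I'.asIdeal ^ K
    rw [map_sub, map_one, ← hij, add_sub_cancel_left]
    exact hj
  have hx : x ∈ Submodule.torsionBySet B
      ((ModuleCat.coextendScalars (algebraMap A B)).obj (ModuleCat.of A E))
      ↑(⨅ I ∈ (Finset.univ : Finset (MaximalSpectrum (B ⧸ 𝔟))), P I) := by
    rw [Submodule.mem_torsionBySet_iff]
    rintro ⟨c, hc⟩
    apply hM
    have hc' : ∀ I : MaximalSpectrum (B ⧸ 𝔟), Ideal.Quotient.mk 𝔟 c ∈ I.asIdeal ^ K := by
      intro I
      have h2 : c ∈ ⨅ I ∈ (Finset.univ : Finset (MaximalSpectrum (B ⧸ 𝔟))), P I := hc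
      simp only [Submodule.mem_iInf] at h2
      exact h2 I (Finset.mem_univ I)
    have h3 : Ideal.Quotient.mk 𝔟 c ∈ (⨅ I : MaximalSpectrum (B ⧸ 𝔟), I.asIdeal ^ K) := by
      rw [Submodule.mem_iInf]
      exact hc'
    rw [hinf] at h3
    exact Ideal.Quotient.eq_zero_iff_mem.1 h3
  rw [← Submodule.iSup_torsionBySet_ideal_eq_torsionBySet_iInf hP] at hx
  have hle : (⨆ I ∈ (Finset.univ : Finset (MaximalSpectrum (B ⧸ 𝔟))), Submodule.torsionBySet B
      ((ModuleCat.coextendScalars (algebraMap A B)).obj (ModuleCat.of A E)) ↑(P I)) ≤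
      (⨆ n : MaximalSpectrum B, powTorsion n.asIdeal
      ((ModuleCat.coextendScalars (algebraMap A B)).obj (ModuleCat.of A E))) := by
    refine iSup₂_le fun I _ => ?_
    let nI : MaximalSpectrum B :=
      ⟨I.asIdeal.comap (Ideal.Quotient.mk 𝔟),
        Ideal.comap_isMaximal_of_surjective _ Ideal.Quotient.mk_surjective (H := I.isMaximal)⟩
    refine le_trans ?_ (le_iSup _ nI)
    intro y hy
    rw [mem_powTorsion_iff]
    refine ⟨K, fun a ha => (Submodule.mem_torsionBySet_iff _ _).1 hy ⟨a, ?_⟩⟩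
    exact Ideal.le_comap_pow _ K ha
  exact hle hx

include hf in
theorem exists_hull_powTorsion_coext [IsNoetherianRing B] (n : MaximalSpectrum B) :
    ∃ g : (B ⧸ n.asIdeal) →ₗ[B] powTorsion n.asIdeal
      ((ModuleCat.coextendScalars (algebraMap A B)).obj (ModuleCat.of A E)),
      IsInjectiveHull g := by
  haveI := n.isMaximal
  have hEinj := hf.isInjective
  have hH : Module.Injective B
      ((ModuleCat.coextendScalars (algebraMap A B)).obj (ModuleCat.of A E)) :=
    injective_coextendScalars (algebraMap A B) E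
  have hJinj : Module.Injective B (powTorsion n.asIdeal
      ((ModuleCat.coextendScalars (algebraMap A B)).obj (ModuleCat.of A E))) :=
    injective_powTorsion hH _
  have hpt : LocCoh.IsPowerTorsion n.asIdeal (powTorsion n.asIdeal
      ((ModuleCat.coextendScalars (algebraMap A B)).obj (ModuleCat.of A E))) := by
    rintro ⟨x, hx⟩
    obtain ⟨k, hk⟩ := (mem_powTorsion_iff _ _).1 hx
    exact ⟨k, fun a ha => Subtype.ext (hk a ha)⟩
  have hform : ∀ g : (ModuleCat.coextendScalars (algebraMap A B)).obj (ModuleCat.of A E),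
      (∀ b ∈ n.asIdeal, b • g = 0) → ∀ b ∈ n.asIdeal, coextToHom g b = 0 := by
    intro g hg b hb
    have h1 : coextToHom (b • g) 1 = coextToHom g (1 * b) := coextToHom_smul b g 1
    rw [hg b hb, coextToHom_zero, LinearMap.zero_apply, one_mul] at h1
    exact h1.symm
  apply exists_hull_of_socle_simple_ideal n.asIdeal hJinj hpt
  rw [isSimpleModule_iff_toSpanSingleton_surjective]
  constructor
  · obtain ⟨φ, hφ0, hφm⟩ := exists_hom_ne_zero_killing_ideal (B := B) f hf n.asIdeal
    have hgm : ∀ b ∈ n.asIdeal, b • coextOfHom φ = 0 := by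
      intro b hb
      apply coextToHom_injective
      apply LinearMap.ext
      intro x
      rw [coextToHom_smul, coextToHom_coextOfHom, coextToHom_zero, LinearMap.zero_apply]
      exact hφm _ (Ideal.mul_mem_left _ x hb)
    have hmemJ : coextOfHom φ ∈ powTorsion n.asIdeal
        ((ModuleCat.coextendScalars (algebraMap A B)).obj (ModuleCat.of A E)) := by
      rw [mem_powTorsion_iff]
      refine ⟨1, fun a ha => ?_⟩
      rw [pow_one] at ha
      exact hgm a ha
    have hmem : (⟨coextOfHom φ, hmemJ⟩ : powTorsion n.asIdeal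
        ((ModuleCat.coextendScalars (algebraMap A B)).obj (ModuleCat.of A E))) ∈
        LocCoh.torsionBy n.asIdeal (powTorsion n.asIdeal
        ((ModuleCat.coextendScalars (algebraMap A B)).obj (ModuleCat.of A E))) := by
      rw [Submodule.mem_torsionBySet_iff]
      rintro ⟨b, hb⟩
      exact Subtype.ext (hgm b hb)
    refine ⟨⟨⟨⟨coextOfHom φ, hmemJ⟩, hmem⟩, 0, ?_⟩⟩
    intro h
    apply hφ0
    have h1 : coextOfHom φ = 0 := congrArg (fun z => z.1.1) h
    rw [← coextToHom_coextOfHom φ, h1, coextToHom_zero]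
  · rintro ⟨⟨g, hgJ⟩, hg⟩ hne ⟨⟨g', hg'J⟩, hg'⟩
    have hgm : ∀ b ∈ n.asIdeal, b • g = 0 := fun b hb =>
      congrArg Subtype.val ((Submodule.mem_torsionBySet_iff _ _).1 hg ⟨b, hb⟩)
    have hg'm : ∀ b ∈ n.asIdeal, b • g' = 0 := fun b hb =>
      congrArg Subtype.val ((Submodule.mem_torsionBySet_iff _ _).1 hg' ⟨b, hb⟩)
    have hg0 : coextToHom g ≠ 0 := by
      intro h
      apply hne
      have : g = 0 := coextToHom_injective (by rw [h, coextToHom_zero])
      exact Subtype.ext (Subtype.ext this)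
    obtain ⟨b, hb⟩ := exists_mul_right_eq_hom_ideal f hf n.asIdeal (coextToHom g) (coextToHom g')
      (hform g hgm) (hform g' hg'm) hg0
    refine ⟨b, Subtype.ext (Subtype.ext ?_)⟩
    apply coextToHom_injective
    apply LinearMap.ext
    intro x
    change coextToHom (b • g) x = coextToHom g' x
    rw [coextToHom_smul, hb]

end Main

end Groth.Agent.Lib.Helper25
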