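import Mathlib
import Groth.Agent.Helper19.Conormal2

set_option autoImplicit false
set_option linter.unusedSectionVars false
set_option linter.style.haveILetI false
universe u
open scoped TensorProduct
open KaehlerDifferential

/-! # The conormal module of a surjection `B → B'` of smooth `A`-algebras

`B' ⊗[B] ker(B → B')` is a finite projective `B'`-module and ranks add up. -/

namespace Groth.Agent.Lib.Helper25.ConormalRank

variable (A B B' : Type u) [CommRing A] [CommRing B] [CommRing B'] [Algebra A B] [Algebra B B']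
  [Algebra A B'] [IsScalarTower A B B']

/-- `x ↦ 1 ⊗ d x` is `B`-linear on the kernel of `B → B'`. -/
noncomputable def dKer : (RingHom.ker (algebraMap B B')) →ₗ[B] B' ⊗[B] Ω[B⁄A] where
  toFun x := (1 : B') ⊗ₜ[B] KaehlerDifferential.D A B x.1
  map_add' x y := by
    change (1 : B') ⊗ₜ[B] KaehlerDifferential.D A B (x.1 + y.1) = _
    rw [map_add, TensorProduct.tmul_add]
  map_smul' b x := by
    change (1 : B') ⊗ₜ[B] KaehlerDifferential.D A B (b * x.1) =
      b • ((1 : B') ⊗ₜ[B] KaehlerDifferential.D A B x.1)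
    rw [Derivation.leibniz, TensorProduct.tmul_add, TensorProduct.tmul_smul,
      TensorProduct.tmul_smul]
    have h0 : x.1 • ((1 : B') ⊗ₜ[B] KaehlerDifferential.D A B b) = 0 := by
      rw [TensorProduct.smul_tmul', Algebra.smul_def, mul_one, RingHom.mem_ker.mp x.2,
        TensorProduct.zero_tmul]
    rw [h0, add_zero]

/-- The conormal map `B' ⊗ ker → B' ⊗ Ω[B/A]`. -/
noncomputable def μ : B' ⊗[B] (RingHom.ker (algebraMap B B')) →ₗ[B'] B' ⊗[B] Ω[B⁄A] :=
  LinearMap.liftBaseChange B' (dKer A B B')

theorem μ_tmul (c : B') (x : RingHom.ker (algebraMap B B')) :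
    μ A B B' (c ⊗ₜ[B] x) = c ⊗ₜ[B] KaehlerDifferential.D A B x.1 := by
  rw [μ, LinearMap.liftBaseChange_tmul]
  change c • ((1 : B') ⊗ₜ[B] KaehlerDifferential.D A B x.1) = _
  rw [TensorProduct.smul_tmul', smul_eq_mul, mul_one]

variable {B B'}

theorem μ_injective (hsurj : Function.Surjective (algebraMap B B')) [Algebra.FormallySmooth A B'] :
    Function.Injective (μ A B B') :=
  Groth.Agent.Helper19.OmegaAlg.injective_of_kerCotangentToTensor_injective hsurj
    (μ A B B').toAddMonoidHom (fun x => μ_tmul A B B' 1 x)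
    (Groth.Agent.Helper19.OmegaAlg.kerCotangentToTensor_injective_of_formallySmooth hsurj)

theorem μ_exact (hsurj : Function.Surjective (algebraMap B B')) :
    Function.Exact (μ A B B') (KaehlerDifferential.mapBaseChange A B B') := by
  have hex := KaehlerDifferential.exact_kerCotangentToTensor_mapBaseChange A B B' hsurj
  intro m
  constructor
  · intro hm
    obtain ⟨z, rfl⟩ := (hex m).mp hm
    obtain ⟨x, rfl⟩ := Ideal.toCotangent_surjective _ z
    refine ⟨(1 : B') ⊗ₜ[B] x, ?_⟩
    rw [μ_tmul, KaehlerDifferential.kerCotangentToTensor_toCotangent]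
  · rintro ⟨t, rfl⟩
    obtain ⟨x, rfl⟩ := Groth.Agent.Helper19.OmegaAlg.exists_one_tmul hsurj t
    rw [μ_tmul]
    apply (hex _).mpr
    exact ⟨Ideal.toCotangent _ x, KaehlerDifferential.kerCotangentToTensor_toCotangent A B B' x⟩

/-- The conormal module of a surjection of smooth algebras is finite projective, and ranks add. -/
theorem conormal_finite_projective_rank (hsurj : Function.Surjective (algebraMap B B'))
    [Algebra.FormallySmooth A B'] [Module.Finite B Ω[B⁄A]] [Module.Projective B Ω[B⁄A]]
    [Module.Finite B' Ω[B'⁄A]] :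
    Module.Finite B' (B' ⊗[B] (RingHom.ker (algebraMap B B'))) ∧
    Module.Projective B' (B' ⊗[B] (RingHom.ker (algebraMap B B'))) ∧
    ∀ q' : PrimeSpectrum B', Module.rankAtStalk (Ω[B⁄A]) (q'.comap (algebraMap B B')) =
      Module.rankAtStalk (B' ⊗[B] (RingHom.ker (algebraMap B B'))) q' +
        Module.rankAtStalk (Ω[B'⁄A]) q' := by
  have hinj := μ_injective A hsurj
  have hex := μ_exact A hsurj
  have hsurj2 : Function.Surjective (KaehlerDifferential.mapBaseChange A B B') :=
    KaehlerDifferential.mapBaseChange_surjective A B B' hsurj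
  haveI : Module.Projective B' Ω[B'⁄A] := inferInstance
  obtain ⟨s, hs⟩ := Module.projective_lifting_property
    (KaehlerDifferential.mapBaseChange A B B') LinearMap.id hsurj2
  obtain ⟨e, he1, he2⟩ := hex.splitSurjectiveEquiv hinj ⟨s, hs⟩
  have hfst : ∀ n, (e (μ A B B' n)).1 = n := by
    intro n
    rw [he1]
    simp
  haveI hfin : Module.Finite B' (B' ⊗[B] (RingHom.ker (algebraMap B B'))) :=
    Module.Finite.of_surjective ((LinearMap.fst B' _ _) ∘ₗ e.toLinearMap)
      (fun n => ⟨μ A B B' n, hfst n⟩)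
  haveI hproj : Module.Projective B' (B' ⊗[B] (RingHom.ker (algebraMap B B'))) :=
    Module.Projective.of_split (μ A B B') ((LinearMap.fst B' _ _) ∘ₗ e.toLinearMap)
      (LinearMap.ext hfst)
  refine ⟨hfin, hproj, fun q' => ?_⟩
  have h1 := Module.rankAtStalk_baseChange (R := B) (M := Ω[B⁄A]) (S := B') q'
  have h2 := congrFun (Module.rankAtStalk_eq_of_equiv e) q'
  have h3 := congrFun (Module.rankAtStalk_prod (R := B')
    (M := B' ⊗[B] (RingHom.ker (algebraMap B B'))) (Ω[B'⁄A])) q'
  rw [← h1, h2, h3]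
  rfl

end Groth.Agent.Lib.Helper25.ConormalRank
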