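import Mathlib
import Groth.Agent.Lib.Helper25.ConormalRank1
import Groth.Agent.Lib.Helper25.FibreDimRank
import Groth.Agent.Helper19.Conormal7
import Groth.Agent.Lib.Helper29.QCohLocFree
import Groth.Agent.Lib.Helper29.QCohQcqsAss

set_option autoImplicit false
set_option linter.unusedSectionVars false
set_option linter.style.haveILetI false
universe u
open CategoryTheory CategoryTheory.Limits AlgebraicGeometry TopologicalSpace Opposite
open scoped TensorProduct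
open Groth.Agent.Lib.Helper29.QCoh Groth.Agent.Helper19.OmegaD Groth.Agent.Helper19.OmegaLocal
open Groth.Agent.Helper19.OmegaAlg Groth.Agent.Helper19.Conormal

/-! # The conormal sheaf of a smooth subscheme of a smooth scheme -/

namespace Groth.Agent.Lib.Helper25.ConormalRank

section basic

variable {X : Scheme.{u}}

/-- Prime ideal of a point, relative to a smaller affine open. -/
theorem primeIdealOf_res {V W : X.Opens} (hV : IsAffineOpen V) (hW : IsAffineOpen W)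
    (hWV : W ≤ V) (x : X) (hx : x ∈ W) :
    (hV.primeIdealOf ⟨x, hWV hx⟩).asIdeal =
      Ideal.comap (X.presheaf.map (homOfLE hWV).op).hom (hW.primeIdealOf ⟨x, hx⟩).asIdeal := by
  ext r
  rw [Ideal.mem_comap, ← not_iff_not, ← mem_basicOpen_iff_notMem_primeIdealOf hV x (hWV hx) r,
    ← mem_basicOpen_iff_notMem_primeIdealOf hW x hx, basicOpen_res_eq hWV]
  exact ⟨fun h => ⟨hx, h⟩, fun h => h.2⟩

/-- A quasi-coherent module with finite projective sections over an affine open `V` is free over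
a basic open neighbourhood of any point of `V`, of rank the local rank. -/
theorem exists_basicOpen_free_sections' (M : X.Modules) [M.IsQuasicoherent] {V : X.Opens}
    (hV : IsAffineOpen V) (x : X) (hx : x ∈ V)
    [Module.Finite Γ(X, V) Γ(M, V)] [Module.Projective Γ(X, V) Γ(M, V)] :
    ∃ r : Γ(X, V), x ∈ X.basicOpen r ∧
      Nonempty (Γ(M, X.basicOpen r) ≃ₗ[Γ(X, X.basicOpen r)]
        (Fin (Module.rankAtStalk Γ(M, V) (hV.primeIdealOf ⟨x, hx⟩)) →₀ Γ(X, X.basicOpen r))) := by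
  haveI : Module.Free (X.presheaf.stalk x) (M.presheaf.stalk x) :=
    free_stalk_of_projective_sections M hV x hx
  let _ := stalkModule M V x hx
  let _ : Algebra Γ(X, V) (X.presheaf.stalk x) :=
    TopCat.Presheaf.algebra_section_stalk X.presheaf ⟨x, hx⟩
  have hloc := hV.isLocalization_stalk ⟨x, hx⟩
  have : IsScalarTower Γ(X, V) (X.presheaf.stalk x) (M.presheaf.stalk x) :=
    IsScalarTower.of_algebraMap_smul fun a m => rfl
  have := isLocalizedModule_germ M hV x hx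
  have hfp : Module.FinitePresentation Γ(X, V) Γ(M, V) :=
    Module.finitePresentation_of_projective _ _
  obtain ⟨r, hr, hfr, -⟩ := Module.FinitePresentation.exists_free_localizedModule_powers
    (hV.primeIdealOf ⟨x, hx⟩).asIdeal.primeCompl (germₗ M V x hx) (X.presheaf.stalk x)
  have hxr : x ∈ X.basicOpen r := (mem_basicOpen_iff_notMem_primeIdealOf hV x hx r).mpr hr
  refine ⟨r, hxr, ?_⟩
  let _ : Algebra Γ(X, V) Γ(X, X.basicOpen r) :=
    (X.presheaf.map (homOfLE (X.basicOpen_le r)).op).hom.toAlgebra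
  let _ : Module Γ(X, V) Γ(M, X.basicOpen r) := sectionsModule M (X.basicOpen_le r)
  have : IsLocalization.Away r Γ(X, X.basicOpen r) := hV.isLocalization_basicOpen r
  have : IsScalarTower Γ(X, V) Γ(X, X.basicOpen r) Γ(M, X.basicOpen r) :=
    IsScalarTower.of_algebraMap_smul fun a m => rfl
  have hlocM := isLocalizedModule_res_basicOpen M hV r
  haveI hfree : Module.Free Γ(X, X.basicOpen r) Γ(M, X.basicOpen r) :=
    free_of_free_localizedModule (Submonoid.powers r) (resₗ M (X.basicOpen_le r))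
  haveI hfin : Module.Finite Γ(X, X.basicOpen r) Γ(M, X.basicOpen r) :=
    Module.Finite.of_isLocalizedModule (Submonoid.powers r) (Rₚ := Γ(X, X.basicOpen r))
      (resₗ M (X.basicOpen_le r))
  have hbc : IsBaseChange Γ(X, X.basicOpen r) (resₗ M (X.basicOpen_le r)) :=
    IsLocalizedModule.isBaseChange (Submonoid.powers r) Γ(X, X.basicOpen r)
      (resₗ M (X.basicOpen_le r))
  have h1 := Module.rankAtStalk_isBaseChange hbc ((hV.basicOpen r).primeIdealOf ⟨x, hxr⟩)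
  have hcomap : ((hV.basicOpen r).primeIdealOf ⟨x, hxr⟩).comap
      (algebraMap Γ(X, V) Γ(X, X.basicOpen r)) = hV.primeIdealOf ⟨x, hx⟩ := by
    apply PrimeSpectrum.ext
    exact (primeIdealOf_res hV (hV.basicOpen r) (X.basicOpen_le r) x hxr).symm
  rw [hcomap, Module.rankAtStalk_eq_finrank_of_free] at h1
  simp only [Pi.natCast_apply, Nat.cast_id] at h1
  haveI : Nontrivial Γ(X, X.basicOpen r) := nontrivial_sections_of_mem hxr
  rw [← h1]
  exact ⟨(Module.finBasis Γ(X, X.basicOpen r) Γ(M, X.basicOpen r)).repr⟩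

end basic

variable {X' X Y : Scheme.{u}} (f : X ⟶ Y) [Smooth f]
  (j : X' ⟶ X) [IsImmersion j] [QuasiCompact j] [Smooth (j ≫ f)]

theorem exists_free_conormal (x : X') :
    ∃ (U : X'.Opens) (n : ℕ), x ∈ U ∧
      Nonempty ((Omega.conormal j).restrict U.ι ≅ FlatMod.freeMod (↑U) n) ∧
      FlatMor.fibreDimAt f (j.base x) = FlatMor.fibreDimAt (j ≫ f) x + (n : WithBot ℕ∞) := by
  obtain ⟨W, hW, hyW, -⟩ :=
    exists_isAffineOpen_mem_and_subset (x := f.base (j.base x)) (U := ⊤) trivial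
  obtain ⟨U, hU, hUc, hUW, hxU, -⟩ := exists_cb j x ⊤ trivial (f ⁻¹ᵁ W) hyW
  have hU' : IsAffineOpen (j ⁻¹ᵁ U) := isAffineOpen_preimage_of_le_coborder j hU hUc
  have hUU : j ⁻¹ᵁ U ≤ j ⁻¹ᵁ U := le_rfl
  have hU'W := le_comp_preimage f j hUU hUW
  letI := algΓ f hUW
  letI := algΓ (j ≫ f) hU'W
  letI := algΓ j hUU
  haveI := isScalarTower_tri f j hUU hUW
  have hsurj := algebraMap_surjective_of_le_coborder j hU hUc
  haveI : Algebra.Smooth Γ(Y, W) Γ(X, U) :=
    HasRingHomProperty.appLE (P := @Smooth) f inferInstance ⟨W, hW⟩ ⟨U, hU⟩ hUW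
  haveI : Algebra.Smooth Γ(Y, W) Γ(X', j ⁻¹ᵁ U) :=
    HasRingHomProperty.appLE (P := @Smooth) (j ≫ f) inferInstance ⟨W, hW⟩ ⟨j ⁻¹ᵁ U, hU'⟩ hU'W
  obtain ⟨hfin, hproj, hrank⟩ := conormal_finite_projective_rank Γ(Y, W)
    (B := Γ(X, U)) (B' := Γ(X', j ⁻¹ᵁ U)) hsurj
  -- sections of the conormal sheaf
  have hIK : j.ker.ideal ⟨U, hU⟩ = RingHom.ker (algebraMap Γ(X, U) Γ(X', j ⁻¹ᵁ U)) :=
    (ker_algebraMap_eq j hU).symm
  let Q₀ := conormalSectionsEquiv j hU hU' hUU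
  let T : (j.ker.ideal ⟨U, hU⟩) ≃ₗ[Γ(X, U)]
      (RingHom.ker (algebraMap Γ(X, U) Γ(X', j ⁻¹ᵁ U))) := LinearEquiv.ofEq _ _ hIK
  let Q : Γ(Omega.conormal j, j ⁻¹ᵁ U) ≃ₗ[Γ(X', j ⁻¹ᵁ U)]
      Γ(X', j ⁻¹ᵁ U) ⊗[Γ(X, U)] (RingHom.ker (algebraMap Γ(X, U) Γ(X', j ⁻¹ᵁ U))) :=
    Q₀ ≪≫ₗ TensorProduct.AlgebraTensorModule.congr
      (LinearEquiv.refl Γ(X', j ⁻¹ᵁ U) Γ(X', j ⁻¹ᵁ U)) T
  haveI : Module.Finite Γ(X', j ⁻¹ᵁ U) Γ(Omega.conormal j, j ⁻¹ᵁ U) :=
    Module.Finite.equiv Q.symm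
  haveI : Module.Projective Γ(X', j ⁻¹ᵁ U) Γ(Omega.conormal j, j ⁻¹ᵁ U) :=
    Module.Projective.of_equiv Q.symm
  obtain ⟨r, hxr, ⟨e⟩⟩ := exists_basicOpen_free_sections' (Omega.conormal j) hU' x hxU
  refine ⟨X'.basicOpen r, Module.rankAtStalk Γ(Omega.conormal j, j ⁻¹ᵁ U)
    (hU'.primeIdealOf ⟨x, hxU⟩), hxr, ?_, ?_⟩
  · exact (isFreeAlong_iff_restrict _ _ _).mp
      (isFreeAlong_ι_of_linearEquiv (Omega.conormal j) (hU'.basicOpen r) e)
  · have h1 := Groth.Agent.Lib.Helper25.FibreDimRank.fibreDimAt_eq_rankAtStalk f hU hW hUW rfl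
      (j.base x) hxU
    have h2 := Groth.Agent.Lib.Helper25.FibreDimRank.fibreDimAt_eq_rankAtStalk (j ≫ f) hU' hW
      hU'W rfl x hxU
    have hp : hU.primeIdealOf ⟨j.base x, hxU⟩ =
        (hU'.primeIdealOf ⟨x, hxU⟩).comap (algebraMap Γ(X, U) Γ(X', j ⁻¹ᵁ U)) := by
      apply PrimeSpectrum.ext
      exact primeIdealOf_map_of_le j hU hU' hUU x hxU
    have h3 := hrank (hU'.primeIdealOf ⟨x, hxU⟩)
    rw [← hp] at h3
    have h4 := congrFun (Module.rankAtStalk_eq_of_equiv Q) (hU'.primeIdealOf ⟨x, hxU⟩)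
    rw [h1, h2, h3, h4]
    push_cast
    rw [add_comm]

end Groth.Agent.Lib.Helper25.ConormalRank
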