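import Mathlib.Topology.Spectral.Basic
import Mathlib.Topology.Spectral.Hom
import Mathlib.Topology.Spectral.ConstructibleTopology

/-! Helper lemmas on the constructible topology of a spectral space. -/

set_option autoImplicit false
universe u

namespace Groth.Agent.Lib.Helper25

open Topology TopologicalSpace

theorem compactSpace_constructibleTopology (X : Type u) [TopologicalSpace X] [SpectralSpace X] :
    @CompactSpace X (constructibleTopology X) :=
  @Function.Surjective.compactSpace _ _ _ (constructibleTopology X) _
    (WithTopology.continuous_ofTopology (constructibleTopology X)) inferInstance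
    (WithTopology.ofTopology_surjective (constructibleTopology X))

theorem constructibleTopology_le (X : Type u) [t : TopologicalSpace X] [PrespectralSpace X] :
    constructibleTopology X ≤ t := by
  intro U hU
  rw [PrespectralSpace.isTopologicalBasis.open_eq_sUnion' hU]
  apply @isOpen_sUnion X (constructibleTopology X)
  rintro s ⟨⟨hs1, hs2⟩, -⟩
  exact hs2.isOpen_constructibleTopology_of_isOpen hs1

theorem t2Space_constructibleTopology (X : Type u) [TopologicalSpace X] [T0Space X]
    [PrespectralSpace X] : @T2Space X (constructibleTopology X) := by
  refine @T2Space.mk X (constructibleTopology X) ?_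
  intro x y hxy
  have hni : ¬ Inseparable x y := fun h => hxy h.eq
  rw [inseparable_iff_forall_isOpen] at hni
  simp only [not_forall] at hni
  obtain ⟨W, hW, hxyW⟩ := hni
  -- wlog x ∈ W, y ∉ W
  have key : ∀ a b : X, a ∈ W → b ∉ W → ∃ u v : Set X, IsOpen[constructibleTopology X] u ∧
      IsOpen[constructibleTopology X] v ∧ a ∈ u ∧ b ∈ v ∧ Disjoint u v := by
    intro a b ha hb
    obtain ⟨U, ⟨hU1, hU2⟩, haU, hUW⟩ :=
      PrespectralSpace.isTopologicalBasis.exists_subset_of_mem_open ha hW
    refine ⟨U, Uᶜ, hU2.isOpen_constructibleTopology_of_isOpen hU1,
      IsCompact.isOpen_constructibleTopology_of_isClosed (by rwa [compl_compl])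
        hU1.isClosed_compl, haU, fun hbU => hb (hUW hbU), disjoint_compl_right⟩
  by_cases hx : x ∈ W
  · have hy : y ∉ W := fun hy => hxyW ⟨fun _ => hy, fun _ => hx⟩ |>.elim
    exact key x y hx hy
  · have hy : y ∈ W := by
      by_contra hy
      exact hxyW ⟨fun h => absurd h hx, fun h => absurd h hy⟩
    obtain ⟨u, v, hu, hv, hyu, hxv, huv⟩ := key y x hy hx
    exact ⟨v, u, hv, hu, hxv, hyu, huv.symm⟩

theorem continuous_constructibleTopology_of_isSpectralMap {X Y : Type u} [TopologicalSpace X]
    [TopologicalSpace Y] (f : X → Y) (hf : IsSpectralMap f) :
    @Continuous X Y (constructibleTopology X) (constructibleTopology Y) f := by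
  apply continuous_generateFrom_iff.mpr
  rintro s (⟨hs1, hs2⟩ | ⟨hs1, hs2⟩)
  · exact (hf.isCompact_preimage_of_isOpen hs1 hs2).isOpen_constructibleTopology_of_isOpen
      (hs1.preimage hf.continuous)
  · refine IsCompact.isOpen_constructibleTopology_of_isClosed ?_ (hs1.preimage hf.continuous)
    rw [← Set.preimage_compl]
    exact hf.isCompact_preimage_of_isOpen hs1.isOpen_compl hs2

/-- compact for the constructible topology implies compact for the original one. -/
theorem isCompact_of_isCompact_constructibleTopology {X : Type u} [t : TopologicalSpace X]
    [PrespectralSpace X] {s : Set X} (hs : @IsCompact X (constructibleTopology X) s) :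
    IsCompact s := by
  have := @IsCompact.image X X (constructibleTopology X) t s id hs
    (continuous_id_of_le (constructibleTopology_le X))
  simpa using this

/-- closed for the constructible topology implies compact for the original one. -/
theorem isCompact_of_isClosed_constructibleTopology {X : Type u} [TopologicalSpace X]
    [SpectralSpace X] {s : Set X} (hs : @IsClosed X (constructibleTopology X) s) :
    IsCompact s := by
  apply isCompact_of_isCompact_constructibleTopology
  have := compactSpace_constructibleTopology X
  exact @IsClosed.isCompact X (constructibleTopology X) s this hs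

end Groth.Agent.Lib.Helper25
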