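import Mathlib

set_option autoImplicit false
universe u
open scoped TensorProduct
open KaehlerDifferential

/-! # Differential of a map between "curves": commutative algebra

`R → A → B → L` with `L` a field containing `B`.  The map
`B ⊗[A] Ω[A/R] → Ω[B/R]` is zero or injective according to whether `d (A) = 0` in `Ω[L/R]`,
as soon as the generic ranks are at most one. -/

namespace Groth.Agent.Lib.Helper25.CurveDiff

section tower

variable (R A B L : Type u) [CommRing R] [CommRing A] [CommRing B] [CommRing L]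
  [Algebra R A] [Algebra A B] [Algebra R B] [IsScalarTower R A B]
  [Algebra B L] [Algebra A L] [Algebra R L] [IsScalarTower A B L] [IsScalarTower R A L]
  [IsScalarTower R B L]

/-- The comparison `B ⊗ Ω[A/R] → L ⊗ Ω[A/R]`. -/
noncomputable def ιL : B ⊗[A] Ω[A⁄R] →ₗ[A] L ⊗[A] Ω[A⁄R] :=
  LinearMap.rTensor Ω[A⁄R] (IsScalarTower.toAlgHom A B L).toLinearMap

theorem map_map (ω : Ω[A⁄R]) :
    KaehlerDifferential.map R R B L (KaehlerDifferential.map R R A B ω) =
      KaehlerDifferential.map R R A L ω := by
  have hω : ω ∈ Submodule.span A (Set.range (KaehlerDifferential.D R A)) := by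
    rw [KaehlerDifferential.span_range_derivation]; trivial
  induction hω using Submodule.span_induction with
  | mem x hx =>
    obtain ⟨a, rfl⟩ := hx
    simp only [KaehlerDifferential.map_D]
    rw [← IsScalarTower.algebraMap_apply]
  | zero => simp
  | add x y _ _ hx hy => simp only [map_add, hx, hy]
  | smul a x _ hx =>
    simp only [map_smul, LinearMap.map_smul_of_tower, hx]

theorem mapBaseChange_ιL (x : B ⊗[A] Ω[A⁄R]) :
    KaehlerDifferential.mapBaseChange R A L (ιL R A B L x) =
      KaehlerDifferential.map R R B L (KaehlerDifferential.mapBaseChange R A B x) := by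
  induction x using TensorProduct.induction_on with
  | zero => simp
  | add x y hx hy => simp only [map_add, hx, hy]
  | tmul b ω =>
    simp only [ιL, LinearMap.rTensor_tmul, AlgHom.toLinearMap_apply,
      IsScalarTower.coe_toAlgHom', KaehlerDifferential.mapBaseChange_tmul]
    rw [map_smul, map_map, algebraMap_smul]

theorem map_eq_zero_of_forall_D_eq_zero
    (h0 : ∀ a : A, KaehlerDifferential.D R L (algebraMap A L a) = 0) (ω : Ω[A⁄R]) :
    KaehlerDifferential.map R R A L ω = 0 := by
  have hω : ω ∈ Submodule.span A (Set.range (KaehlerDifferential.D R A)) := by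
    rw [KaehlerDifferential.span_range_derivation]; trivial
  induction hω using Submodule.span_induction with
  | mem x hx =>
    obtain ⟨a, rfl⟩ := hx
    rw [KaehlerDifferential.map_D, h0]
  | zero => simp
  | add x y _ _ hx hy => rw [map_add, hx, hy, add_zero]
  | smul a x _ hx => rw [map_smul, hx, smul_zero]

/-- If `d` kills the image of `A` in `Ω[L/R]` and `Ω[B/R] → Ω[L/R]` is injective, then
`B ⊗ Ω[A/R] → Ω[B/R]` is zero. -/
theorem mapBaseChange_eq_zero_of_forall_D_eq_zero
    (hmap : Function.Injective (KaehlerDifferential.map R R B L))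
    (h0 : ∀ a : A, KaehlerDifferential.D R L (algebraMap A L a) = 0) (x : B ⊗[A] Ω[A⁄R]) :
    KaehlerDifferential.mapBaseChange R A B x = 0 := by
  apply hmap
  rw [map_zero, ← mapBaseChange_ιL]
  have : ∀ y : L ⊗[A] Ω[A⁄R], KaehlerDifferential.mapBaseChange R A L y = 0 := by
    intro y
    induction y using TensorProduct.induction_on with
    | zero => simp
    | add x y hx hy => rw [map_add, hx, hy, add_zero]
    | tmul l ω =>
      rw [KaehlerDifferential.mapBaseChange_tmul, map_eq_zero_of_forall_D_eq_zero R A L h0,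
        smul_zero]
  exact this _

/-- `Ω[B/R] → Ω[L/R]` is injective when `Ω[B/R]` is flat over the domain `B` and `L` is its
fraction field. -/
theorem map_injective_of_flat [IsDomain B] [IsFractionRing B L] [Module.Flat B Ω[B⁄R]] :
    Function.Injective (KaehlerDifferential.map R R B L) := by
  have : IsLocalizedModule (nonZeroDivisors B) (KaehlerDifferential.map R R B L) :=
    KaehlerDifferential.isLocalizedModule_map R B L (nonZeroDivisors B)
  rw [injective_iff_map_eq_zero]
  intro x hx
  rw [IsLocalizedModule.eq_zero_iff (nonZeroDivisors B)] at hx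
  obtain ⟨s, hs⟩ := hx
  have hreg : IsSMulRegular Ω[B⁄R] (s : B) := Module.Flat.isSMulRegular_of_nonZeroDivisors s.2
  apply hreg
  change (s : B) • x = (s : B) • (0 : Ω[B⁄R])
  rw [smul_zero]
  exact hs

end tower

section field

theorem injective_of_finrank_le_one {K V W : Type*} [Field K] [AddCommGroup V] [Module K V]
    [AddCommGroup W] [Module K W] [Module.Finite K V] (h : Module.finrank K V ≤ 1)
    (φ : V →ₗ[K] W) (v : V) (hv : φ v ≠ 0) : Function.Injective φ := by
  rw [finrank_le_one_iff] at h
  obtain ⟨v₀, hv₀⟩ := h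
  rw [injective_iff_map_eq_zero]
  intro w hw
  obtain ⟨c, rfl⟩ := hv₀ w
  obtain ⟨c', rfl⟩ := hv₀ v
  rw [map_smul] at hw hv
  have h1 : φ v₀ ≠ 0 := fun h => hv (by rw [h, smul_zero])
  rcases smul_eq_zero.mp hw with h | h
  · rw [h, zero_smul]
  · exact absurd h h1

variable (R A B L : Type u) [CommRing R] [CommRing A] [CommRing B] [Field L]
  [Algebra R A] [Algebra A B] [Algebra R B] [IsScalarTower R A B]
  [Algebra B L] [Algebra A L] [Algebra R L] [IsScalarTower A B L] [IsScalarTower R A L]
  [IsScalarTower R B L]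

/-- If some `d a ≠ 0` in `Ω[L/R]` and `L ⊗ Ω[A/R]` has dimension at most one, then
`B ⊗ Ω[A/R] → Ω[B/R]` is injective. -/
theorem mapBaseChange_injective_of_D_ne_zero [Module.Flat A Ω[A⁄R]]
    (hinj : Function.Injective (algebraMap B L))
    [Module.Finite L (L ⊗[A] Ω[A⁄R])] (hrank : Module.finrank L (L ⊗[A] Ω[A⁄R]) ≤ 1)
    (a : A) (ha : KaehlerDifferential.D R L (algebraMap A L a) ≠ 0) :
    Function.Injective (KaehlerDifferential.mapBaseChange R A B) := by
  have hL : Function.Injective (KaehlerDifferential.mapBaseChange R A L) :=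
    injective_of_finrank_le_one hrank _ ((1 : L) ⊗ₜ KaehlerDifferential.D R A a) (by
      rw [KaehlerDifferential.mapBaseChange_tmul, one_smul, KaehlerDifferential.map_D]
      exact ha)
  have hι : Function.Injective (ιL R A B L) :=
    Module.Flat.rTensor_preserves_injective_linearMap _ hinj
  intro x y hxy
  apply hι
  apply hL
  rw [mapBaseChange_ιL, mapBaseChange_ιL, hxy]

/-- The cokernel of `B ⊗ Ω[A/R] → Ω[B/R]` is killed by a nonzero element. -/
theorem exists_ne_zero_smul_mem_range [IsDomain B] [IsFractionRing B L]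
    [Module.Finite B Ω[B⁄R]]
    (hmap : Function.Injective (KaehlerDifferential.map R R B L))
    [Module.Finite L Ω[L⁄R]] (hrank : Module.finrank L Ω[L⁄R] ≤ 1)
    (a : A) (ha : KaehlerDifferential.D R L (algebraMap A L a) ≠ 0) :
    ∃ f : B, f ≠ 0 ∧ ∀ ω : Ω[B⁄R],
      f • ω ∈ LinearMap.range (KaehlerDifferential.mapBaseChange R A B) := by
  have step1 : ∀ ω : Ω[B⁄R], ∃ s : B, s ≠ 0 ∧
      s • ω ∈ LinearMap.range (KaehlerDifferential.mapBaseChange R A B) := by
    intro ω
    rw [finrank_le_one_iff] at hrank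
    obtain ⟨v₀, hv₀⟩ := hrank
    obtain ⟨c₀, hc₀⟩ := hv₀ (KaehlerDifferential.D R L (algebraMap A L a))
    obtain ⟨c, hc⟩ := hv₀ (KaehlerDifferential.map R R B L ω)
    have hc₀0 : c₀ ≠ 0 := by
      rintro rfl
      rw [zero_smul] at hc₀
      exact ha hc₀.symm
    obtain ⟨b, s, hs, hbs⟩ := IsFractionRing.div_surjective (A := B) (c / c₀)
    have hs0 : s ≠ 0 := nonZeroDivisors.ne_zero hs
    have hsL : algebraMap B L s ≠ 0 := by
      rwa [Ne, map_eq_zero_iff _ (IsFractionRing.injective B L)]
    refine ⟨s, hs0, b ⊗ₜ KaehlerDifferential.D R A a, ?_⟩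
    apply hmap
    rw [KaehlerDifferential.mapBaseChange_tmul, KaehlerDifferential.map_D, map_smul, map_smul,
      KaehlerDifferential.map_D, ← IsScalarTower.algebraMap_apply, ← hc, ← hc₀,
      ← algebraMap_smul L b, ← algebraMap_smul L s, smul_smul, smul_smul]
    congr 1
    have h2 : algebraMap B L b = c / c₀ * algebraMap B L s := by
      rw [← hbs, div_mul_cancel₀ _ hsL]
    rw [h2]
    field_simp
  choose s hs0 hsr using step1
  obtain ⟨S, hS⟩ := (Module.finite_def.mp (inferInstance : Module.Finite B Ω[B⁄R]))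
  classical
  refine ⟨∏ ω ∈ S, s ω, Finset.prod_ne_zero_iff.mpr (fun ω _ => hs0 ω), fun ω => ?_⟩
  have hω : ω ∈ Submodule.span B (S : Set Ω[B⁄R]) := by rw [hS]; trivial
  induction hω using Submodule.span_induction with
  | mem x hx =>
    rw [← Finset.mul_prod_erase S s hx, mul_comm, mul_smul]
    exact Submodule.smul_mem _ _ (hsr x)
  | zero => rw [smul_zero]; exact zero_mem _
  | add x y _ _ hx hy => rw [smul_add]; exact add_mem hx hy
  | smul b x _ hx => rw [smul_comm]; exact Submodule.smul_mem _ _ hx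

/-- Generic rank of `L ⊗ Ω[A/R]`. -/
theorem finrank_tensor_eq_one [Module.Flat A Ω[A⁄R]] [Module.Finite A Ω[A⁄R]]
    (hA : ∀ q : PrimeSpectrum A, Module.rankAtStalk (Ω[A⁄R]) q = 1) :
    Module.finrank L (L ⊗[A] Ω[A⁄R]) = 1 := by
  obtain ⟨p⟩ : Nonempty (PrimeSpectrum L) := inferInstance
  have h1 := Module.rankAtStalk_baseChange (R := A) (M := Ω[A⁄R]) (S := L) p
  rw [hA, Module.rankAtStalk_eq_finrank_of_free] at h1
  simpa using h1

/-- Generic rank of `Ω[L/R]` for `L = Frac B`. -/
theorem finrank_kaehler_fractionRing_eq_one [IsDomain B] [IsFractionRing B L]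
    [Module.Flat B Ω[B⁄R]] [Module.Finite B Ω[B⁄R]]
    (hB : ∀ q : PrimeSpectrum B, Module.rankAtStalk (Ω[B⁄R]) q = 1) :
    Module.Finite L Ω[L⁄R] ∧ Module.finrank L Ω[L⁄R] = 1 := by
  have : Algebra.FormallyEtale B L :=
    Algebra.FormallyEtale.of_isLocalization (Rₘ := L) (nonZeroDivisors B)
  have hbc := KaehlerDifferential.isBaseChange_of_formallyEtale R B L
  have : Module.Finite L Ω[L⁄R] := Module.Finite.equiv hbc.equiv
  refine ⟨inferInstance, ?_⟩
  obtain ⟨p⟩ : Nonempty (PrimeSpectrum L) := inferInstance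
  have h1 := Module.rankAtStalk_isBaseChange hbc p
  rw [hB, Module.rankAtStalk_eq_finrank_of_free] at h1
  simpa using h1

end field

end Groth.Agent.Lib.Helper25.CurveDiff
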