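import Mathlib
import Groth.Agent.Lib.Helper25.CurveDiff1
import Groth.Agent.Lib.Helper25.DomSepOmega
import Groth.Agent.Lib.Helper25.SmoothRelDimRank

set_option autoImplicit false
set_option linter.unusedSectionVars false
set_option linter.style.haveILetI false
universe u
open CategoryTheory CategoryTheory.Limits AlgebraicGeometry TopologicalSpace
open scoped TensorProduct
open Groth.Agent.Lib.Helper29.QCoh Groth.Agent.Helper19.OmegaD Groth.Agent.Helper19.OmegaLocal
open Groth.Agent.Helper19.OmegaAlg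

/-! # Differential of a map between smooth curves: chart level -/

namespace Groth.Agent.Lib.Helper25.CurveDiff

variable {X Y S : Scheme.{u}} (g : Y ⟶ S) (f : X ⟶ Y)

theorem leTop (V : Y.Opens) : V ≤ g ⁻¹ᵁ ⊤ := fun _ _ => trivial

variable [IsIntegral X]

/-- The function field of `X` as an algebra over the global sections of the base. -/
@[reducible] noncomputable def algRL : Algebra Γ(S, ⊤) X.functionField :=
  ((f ≫ g).appTop ≫ X.presheaf.germ ⊤ (genericPoint X) trivial).hom.toAlgebra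

/-- The chart-independent condition: some function on `Y` near the image of the generic point
has nonzero differential in `Ω[K(X)/R]`. -/
def Tcond : Prop :=
  letI := algRL g f
  ∃ t : Y.presheaf.stalk (f.base (genericPoint X)),
    KaehlerDifferential.D Γ(S, ⊤) X.functionField ((f.stalkMap (genericPoint X)).hom t) ≠ 0

variable [IsAffine S] [IsIntegral Y] [SmoothOfRelativeDimension 1 g]
  [SmoothOfRelativeDimension 1 (f ≫ g)]

theorem chart_dichotomy {U : X.Opens} (hU : IsAffineOpen U) {V : Y.Opens} (hV : IsAffineOpen V)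
    (hUV : U ≤ f ⁻¹ᵁ V) (hη : genericPoint X ∈ U) :
    letI := algΓ g (leTop g V)
    letI := algΓ (f ≫ g) (le_comp_preimage g f hUV (leTop g V))
    letI := algΓ f hUV
    haveI := isScalarTower_tri g f hUV (leTop g V)
    (¬ Tcond g f → ∀ x, KaehlerDifferential.mapBaseChange Γ(S, ⊤) Γ(Y, V) Γ(X, U) x = 0) ∧
    (Tcond g f →
      Function.Injective (KaehlerDifferential.mapBaseChange Γ(S, ⊤) Γ(Y, V) Γ(X, U)) ∧
      ∃ b : Γ(X, U), b ≠ 0 ∧ ∀ ω : Ω[Γ(X, U)⁄Γ(S, ⊤)],
        b • ω ∈ LinearMap.range (KaehlerDifferential.mapBaseChange Γ(S, ⊤) Γ(Y, V) Γ(X, U))) := by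
  have hVW := leTop g V
  have hUW := le_comp_preimage g f hUV hVW
  have hW : IsAffineOpen (⊤ : S.Opens) := isAffineOpen_top S
  letI := algΓ g hVW
  letI := algΓ (f ≫ g) hUW
  letI := algΓ f hUV
  haveI := isScalarTower_tri g f hUV hVW
  haveI : Nonempty U := ⟨⟨_, hη⟩⟩
  haveI : IsFractionRing Γ(X, U) X.functionField := functionField_isFractionRing_of_isAffineOpen X U hU
  letI algAL : Algebra Γ(Y, V) X.functionField :=
    ((algebraMap Γ(X, U) X.functionField).comp (algebraMap Γ(Y, V) Γ(X, U))).toAlgebra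
  letI := algRL g f
  haveI : IsScalarTower Γ(Y, V) Γ(X, U) X.functionField := IsScalarTower.of_algebraMap_eq' rfl
  haveI : IsScalarTower Γ(S, ⊤) Γ(X, U) X.functionField := by
    apply IsScalarTower.of_algebraMap_eq'
    change ((f ≫ g).appTop ≫ X.presheaf.germ ⊤ (genericPoint X) trivial).hom =
      (X.germToFunctionField U).hom.comp ((f ≫ g).appLE ⊤ U hUW).hom
    rw [← CommRingCat.hom_comp]
    congr 1
    rw [Scheme.Hom.appLE, Category.assoc, X.presheaf.germ_res]
    rfl
  haveI : IsScalarTower Γ(S, ⊤) Γ(Y, V) X.functionField := by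
    apply IsScalarTower.of_algebraMap_eq'
    rw [IsScalarTower.algebraMap_eq Γ(S, ⊤) Γ(X, U) X.functionField,
      IsScalarTower.algebraMap_eq Γ(S, ⊤) Γ(Y, V) Γ(X, U), ← RingHom.comp_assoc]
    rfl
  haveI : Smooth g := SmoothOfRelativeDimension.smooth 1 g
  haveI : Smooth (f ≫ g) := SmoothOfRelativeDimension.smooth 1 (f ≫ g)
  haveI : Algebra.Smooth Γ(S, ⊤) Γ(Y, V) :=
    HasRingHomProperty.appLE (P := @Smooth) g inferInstance ⟨⊤, hW⟩ ⟨V, hV⟩ hVW
  haveI : Algebra.Smooth Γ(S, ⊤) Γ(X, U) :=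
    HasRingHomProperty.appLE (P := @Smooth) (f ≫ g) inferInstance ⟨⊤, hW⟩ ⟨U, hU⟩ hUW
  have hlocA : RingHom.Locally (RingHom.IsStandardSmoothOfRelativeDimension 1)
      (algebraMap Γ(S, ⊤) Γ(Y, V)) :=
    HasRingHomProperty.appLE (P := @SmoothOfRelativeDimension 1) g inferInstance
      ⟨⊤, hW⟩ ⟨V, hV⟩ hVW
  have hlocB : RingHom.Locally (RingHom.IsStandardSmoothOfRelativeDimension 1)
      (algebraMap Γ(S, ⊤) Γ(X, U)) :=
    HasRingHomProperty.appLE (P := @SmoothOfRelativeDimension 1) (f ≫ g) inferInstance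
      ⟨⊤, hW⟩ ⟨U, hU⟩ hUW
  have hA := fun q => Groth.Agent.Lib.Helper25.SmoothRelDimRank.rankAtStalk_of_locally_isStandardSmoothOfRelativeDimension
    (A := Γ(S, ⊤)) (B := Γ(Y, V)) 1 hlocA q
  have hB := fun q => Groth.Agent.Lib.Helper25.SmoothRelDimRank.rankAtStalk_of_locally_isStandardSmoothOfRelativeDimension
    (A := Γ(S, ⊤)) (B := Γ(X, U)) 1 hlocB q
  have hmap := map_injective_of_flat Γ(S, ⊤) Γ(X, U) X.functionField
  have hinj : Function.Injective (algebraMap Γ(X, U) X.functionField) :=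
    IsFractionRing.injective Γ(X, U) X.functionField
  obtain ⟨hfinL, hrankL⟩ := finrank_kaehler_fractionRing_eq_one Γ(S, ⊤) Γ(X, U) X.functionField hB
  have hrankA := finrank_tensor_eq_one Γ(S, ⊤) Γ(Y, V) X.functionField hA
  have hy : f.base (genericPoint X) ∈ V := hUV hη
  have hρ : ∀ a : Γ(Y, V), algebraMap Γ(Y, V) X.functionField a =
      (f.stalkMap (genericPoint X)).hom (Y.presheaf.germ V (f.base (genericPoint X)) hy a) := by
    intro a
    change (X.germToFunctionField U).hom ((f.appLE V U hUV).hom a) = _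
    rw [Scheme.Hom.germ_stalkMap_apply]
    have h1 : f.appLE V U hUV ≫ X.germToFunctionField U =
        f.app V ≫ X.presheaf.germ (f ⁻¹ᵁ V) (genericPoint X) hy := by
      rw [Scheme.Hom.appLE, Category.assoc, X.presheaf.germ_res]
    exact congrArg (fun k => k.hom a) h1
  constructor
  · intro hT x
    apply mapBaseChange_eq_zero_of_forall_D_eq_zero Γ(S, ⊤) Γ(Y, V) Γ(X, U) X.functionField hmap _ x
    intro a
    rw [hρ]
    by_contra h
    exact hT ⟨_, h⟩
  · rintro ⟨t, ht⟩
    obtain ⟨a, ha⟩ : ∃ a : Γ(Y, V),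
        KaehlerDifferential.D Γ(S, ⊤) X.functionField (algebraMap Γ(Y, V) X.functionField a) ≠ 0 := by
      by_contra hcon
      push Not at hcon
      letI := TopCat.Presheaf.algebra_section_stalk Y.presheaf (U := V) ⟨_, hy⟩
      haveI := hV.isLocalization_stalk ⟨_, hy⟩
      obtain ⟨⟨a, s⟩, hst⟩ := IsLocalization.surj
        (hV.primeIdealOf ⟨_, hy⟩).asIdeal.primeCompl t
      have hst' : t * Y.presheaf.germ V (f.base (genericPoint X)) hy (s : Γ(Y, V)) =
          Y.presheaf.germ V (f.base (genericPoint X)) hy a := hst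
      have hsu : IsUnit (Y.presheaf.germ V (f.base (genericPoint X)) hy (s : Γ(Y, V))) :=
        IsLocalization.map_units (M := (hV.primeIdealOf ⟨_, hy⟩).asIdeal.primeCompl)
          (Y.presheaf.stalk (f.base (genericPoint X))) s
      have h1 := congrArg (fun z => KaehlerDifferential.D Γ(S, ⊤) X.functionField
        ((f.stalkMap (genericPoint X)).hom z)) hst'
      simp only [map_mul, Derivation.leibniz] at h1
      rw [← hρ, ← hρ, hcon, hcon, smul_zero, zero_add] at h1
      have hne : algebraMap Γ(Y, V) X.functionField (s : Γ(Y, V)) ≠ 0 := by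
        rw [hρ]
        exact (hsu.map (f.stalkMap (genericPoint X)).hom).ne_zero
      rcases smul_eq_zero.mp h1 with h | h
      · exact hne h
      · exact ht h
    exact ⟨mapBaseChange_injective_of_D_ne_zero Γ(S, ⊤) Γ(Y, V) Γ(X, U) X.functionField hinj
        hrankA.le a ha,
      exists_ne_zero_smul_mem_range Γ(S, ⊤) Γ(Y, V) Γ(X, U) X.functionField hmap hrankL.le a ha⟩

end Groth.Agent.Lib.Helper25.CurveDiff
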