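import Mathlib
import Groth.Agent.Lib.Helper25.CurveDiff2

set_option autoImplicit false
set_option linter.unusedSectionVars false
set_option linter.style.haveILetI false
universe u
open CategoryTheory CategoryTheory.Limits AlgebraicGeometry TopologicalSpace
open scoped TensorProduct
open Groth.Agent.Lib.Helper29.QCoh Groth.Agent.Helper19.OmegaD Groth.Agent.Helper19.OmegaLocal
open Groth.Agent.Helper19.OmegaAlg

/-! # Differential of a map between smooth curves: the dichotomy -/

namespace Groth.Agent.Lib.Helper25.CurveDiff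

variable {X Y S : Scheme.{u}} (g : Y ⟶ S) (f : X ⟶ Y) [IsIntegral X] [IsAffine S] [IsIntegral Y]
  [SmoothOfRelativeDimension 1 g] [SmoothOfRelativeDimension 1 (f ≫ g)]
  (ΩY : Y.Modules) (dY : OmegaSh.Der g ΩY) (hY : OmegaSh.IsUniversal dY)
  (ΩX : X.Modules) (dX : OmegaSh.Der (f ≫ g) ΩX) (hX : OmegaSh.IsUniversal dX)
  (c : (Scheme.Modules.pullback f).obj ΩY ⟶ ΩX) (hc : OmegaSh.IsDiffCompat f dY dX c)

include hY hX hc in
theorem chart_transport {U : X.Opens} (hU : IsAffineOpen U) {V : Y.Opens} (hV : IsAffineOpen V)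
    (hUV : U ≤ f ⁻¹ᵁ V) (hη : genericPoint X ∈ U) :
    (¬ Tcond g f → ∀ m, c.app U m = 0) ∧
    (Tcond g f → Function.Injective (c.app U) ∧
      ∃ b : Γ(X, U), b ≠ 0 ∧ ∀ n : Γ(ΩX, U), ∃ m, c.app U m = b • n) := by
  have hVW := leTop g V
  have hUW := le_comp_preimage g f hUV hVW
  have hW : IsAffineOpen (⊤ : S.Opens) := isAffineOpen_top S
  have hchart := chart_dichotomy g f hU hV hUV hη
  letI := algΓ g hVW
  letI := algΓ (f ≫ g) hUW
  letI := algΓ f hUV
  haveI := isScalarTower_tri g f hUV hVW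
  obtain ⟨P, EX, -, hPE⟩ :=
    exists_local_diffCompat' g (f ≫ g) f dY hY dX hX c hc hV hW hVW hU hW hUW hUV
  let κ₁ : Γ(X, U) ⊗[Γ(Y, V)] Ω[Γ(Y, V)⁄Γ(S, ⊤)] →ₗ[Γ(X, U)] Ω[Γ(X, U)⁄Γ(S, ⊤)] :=
    EX.toLinearMap ∘ₗ (appₗ c U) ∘ₗ P.symm.toLinearMap
  have hκ₁ : κ₁ = KaehlerDifferential.mapBaseChange Γ(S, ⊤) Γ(Y, V) Γ(X, U) :=
    eq_mapBaseChange _ _ _ κ₁ (fun b' b => hPE b' b)
  have hκ : ∀ m, EX (c.app U m) = κ₁ (P m) := by
    intro m
    change EX (c.app U m) = EX (c.app U (P.symm (P m)))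
    rw [LinearEquiv.symm_apply_apply]
  constructor
  · intro hT m
    apply EX.injective
    rw [hκ, hκ₁, hchart.1 hT, map_zero]
  · intro hT
    obtain ⟨hinj, b, hb0, hb⟩ := hchart.2 hT
    refine ⟨?_, b, hb0, fun n => ?_⟩
    · intro m₁ m₂ hm
      apply P.injective
      apply hinj
      rw [← hκ₁, ← hκ, ← hκ, hm]
    · obtain ⟨x, hx⟩ := hb (EX n)
      refine ⟨P.symm x, ?_⟩
      apply EX.injective
      rw [hκ, LinearEquiv.apply_symm_apply, hκ₁, hx, map_smul]

theorem subsingleton_stalk_cokernel {M N : X.Modules} [N.IsQuasicoherent] (φ : M ⟶ N)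
    {U : X.Opens} (hU : IsAffineOpen U) (b : Γ(X, U))
    (hb : ∀ n : Γ(N, U), ∃ m, φ.app U m = b • n) (x : X) (hxb : x ∈ X.basicOpen b) :
    Subsingleton ((cokernel φ).presheaf.stalk x) := by
  have hxU : x ∈ U := X.basicOpen_le b hxb
  suffices h : ∀ t : (cokernel φ).presheaf.stalk x, t = 0 from
    ⟨fun t₁ t₂ => by rw [h t₁, h t₂]⟩
  intro t
  have hepi : Epi (cokernel.π φ) := inferInstance
  obtain ⟨nx, rfl⟩ := (epi_iff_stalkMap_surjective (cokernel.π φ)).mp hepi x t
  obtain ⟨r, n₀, hr, hrn⟩ := exists_smul_germ_eq N hU x hxU nx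
  obtain ⟨m, hm⟩ := hb n₀
  have hex : (ShortComplex.mk φ (cokernel.π φ) (cokernel.condition φ)).Exact :=
    ShortComplex.exact_cokernel φ
  rw [exact_iff_stalk_function_exact] at hex
  have h1 : stalkMap (cokernel.π φ) x (stalkMap φ x (M.presheaf.germ U x hxU m)) = 0 :=
    (hex x).apply_apply_eq_zero _
  have hu : IsUnit (X.presheaf.germ U x hxU b * X.presheaf.germ U x hxU r) :=
    (isUnit_germ_of_mem_basicOpen b x hxU hxb).mul (isUnit_germ_of_mem_basicOpen r x hxU hr)
  apply eq_zero_of_isUnit_smul hu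
  rw [mul_smul, ← stalkMap_smul, ← stalkMap_smul, hrn, ← germ_smul, ← hm, ← stalkMap_germ, h1]

include hY hX hc in
theorem dichotomy :
    c = 0 ∨ (Mono c ∧ ∃ U' : X.Opens, (U' : Set X).Nonempty ∧
      IsZero ((Scheme.Modules.pullback U'.ι).obj (cokernel c))) := by
  have hηmem : ∀ U : X.Opens, (U : Set X).Nonempty → genericPoint X ∈ U := fun U hne =>
    ((genericPoint_spec X).mem_open_set_iff U.isOpen).mpr (by simpa using hne)
  have hsub : ∀ (U : X.Opens) (M : X.Modules), ¬ (U : Set X).Nonempty → Subsingleton Γ(M, U) := by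
    intro U M hne
    haveI : Subsingleton Γ(X, U) := by
      have : U = ⊥ := by
        ext x
        simp only [Opens.coe_bot, Set.mem_empty_iff_false, iff_false]
        exact fun hx => hne ⟨x, hx⟩
      subst this
      infer_instance
    exact Module.subsingleton Γ(X, U) _
  by_cases hT : Tcond g f
  · right
    refine ⟨?_, ?_⟩
    · apply mono_of_injective_on_basis c (triOpens g f) (isBasis_triOpens g f)
      rintro U ⟨hU, V, W, hV, hW, hUV, hVW⟩
      by_cases hne : (U : Set X).Nonempty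
      · exact ((chart_transport g f ΩY dY hY ΩX dX hX c hc hU hV hUV (hηmem U hne)).2 hT).1
      · haveI := hsub U ((Scheme.Modules.pullback f).obj ΩY) hne
        exact Function.injective_of_subsingleton _
    · obtain ⟨U₀, V₀, W₀, hU₀, hV₀, hW₀, hηU₀, -, hUV₀, -⟩ :=
        exists_tri g f (genericPoint X) ⊤ trivial
      obtain ⟨-, b, hb0, hb⟩ :=
        (chart_transport g f ΩY dY hY ΩX dX hX c hc hU₀ hV₀ hUV₀ hηU₀).2 hT
      haveI : ΩX.IsQuasicoherent := isQuasicoherent_of_universal (f ≫ g) dX hX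
      refine ⟨X.basicOpen b, ⟨genericPoint X, ?_⟩, ?_⟩
      · rw [SetLike.mem_coe, Scheme.mem_basicOpen X b (genericPoint X) hηU₀]
        have hne : X.presheaf.germ U₀ (genericPoint X) hηU₀ b ≠ 0 := by
          intro h0
          apply hb0
          apply germ_injective_of_isIntegral X (genericPoint X) hηU₀
          rw [h0, map_zero]
        exact (isUnit_iff_ne_zero (G₀ := X.functionField)).mpr hne
      · refine IsZero.of_iso ?_
          ((Scheme.Modules.restrictFunctorIsoPullback (X.basicOpen b).ι).app (cokernel c)).symm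
        change IsZero ((cokernel c).restrict (X.basicOpen b).ι)
        rw [isZero_iff_stalk_subsingleton]
        intro v
        have hv : (X.basicOpen b).ι.base v ∈ X.basicOpen b := v.2
        haveI := subsingleton_stalk_cokernel c hU₀ b hb _ hv
        exact (restrictStalkIso (X.basicOpen b).ι (cokernel c)
          v).addCommGroupIsoToAddEquiv.toEquiv.subsingleton
  · left
    apply hom_ext_of_basis (triOpens g f) (isBasis_triOpens g f)
    rintro U ⟨hU, V, W, hV, hW, hUV, hVW⟩ m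
    by_cases hne : (U : Set X).Nonempty
    · rw [(chart_transport g f ΩY dY hY ΩX dX hX c hc hU hV hUV (hηmem U hne)).1 hT m]
      rfl
    · haveI := hsub U ΩX hne
      exact Subsingleton.elim _ _

end Groth.Agent.Lib.Helper25.CurveDiff
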