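import Groth.Agent.Lib.Helper25.DeltaFEff
import Mathlib.Algebra.Homology.ShortComplex.Ab
import Mathlib.Algebra.Category.Grp.EpiMono

/-!
# Delta-functors with values in abelian groups: element-wise diagram chases
-/

namespace Groth.Agent.Lib.Helper25.DeltaFAb

open CategoryTheory CategoryTheory.Limits DeltaF
open Groth.Agent.Lib.Helper25.DeltaFEff

universe w v u
variable {C : Type u} [Category.{v} C] [Abelian C]
variable {T T' : DeltaF.CohDeltaFunctor C AddCommGrpCat.{w} ℕ} (φ : T ⟶ T')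

lemma exists_δ_eq (T : DeltaF.CohDeltaFunctor C AddCommGrpCat.{w} ℕ) (S : ShortComplex C)
    (hS : S.ShortExact) (n : ℕ) (x : (T.F (n + 1)).obj S.X₁) (hx : (T.F (n + 1)).map S.f x = 0) :
    ∃ y : (T.F n).obj S.X₃, T.δ S hS n (n + 1) rfl y = x :=
  (ShortComplex.ab_exact_iff _).1 (T.exact₁ S hS n (n + 1) rfl) x hx

lemma exists_map_g_eq (T : DeltaF.CohDeltaFunctor C AddCommGrpCat.{w} ℕ) (S : ShortComplex C)
    (hS : S.ShortExact) (n : ℕ) (x : (T.F n).obj S.X₃) (hx : T.δ S hS n (n + 1) rfl x = 0) :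
    ∃ y : (T.F n).obj S.X₂, (T.F n).map S.g y = x :=
  (ShortComplex.ab_exact_iff _).1 (T.exact₃ S hS n (n + 1) rfl) x hx

lemma exists_map_f_eq (T : DeltaF.CohDeltaFunctor C AddCommGrpCat.{w} ℕ) (S : ShortComplex C)
    (hS : S.ShortExact) (n : ℕ) (x : (T.F n).obj S.X₂) (hx : (T.F n).map S.g x = 0) :
    ∃ y : (T.F n).obj S.X₁, (T.F n).map S.f y = x :=
  (ShortComplex.ab_exact_iff _).1 (T.exact₂ S hS n) x hx

lemma δ_map_g (T : DeltaF.CohDeltaFunctor C AddCommGrpCat.{w} ℕ) (S : ShortComplex C)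
    (hS : S.ShortExact) (n : ℕ) (y : (T.F n).obj S.X₂) :
    T.δ S hS n (n + 1) rfl ((T.F n).map S.g y) = 0 := by
  have := ConcreteCategory.congr_hom (T.comp_δ S hS n (n + 1) rfl) y
  rwa [ConcreteCategory.comp_apply] at this

lemma map_f_δ (T : DeltaF.CohDeltaFunctor C AddCommGrpCat.{w} ℕ) (S : ShortComplex C)
    (hS : S.ShortExact) (n : ℕ) (y : (T.F n).obj S.X₃) :
    (T.F (n + 1)).map S.f (T.δ S hS n (n + 1) rfl y) = 0 := by
  have := ConcreteCategory.congr_hom (T.δ_comp S hS n (n + 1) rfl) y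
  rwa [ConcreteCategory.comp_apply] at this

lemma map_g_map_f (T : DeltaF.CohDeltaFunctor C AddCommGrpCat.{w} ℕ) (S : ShortComplex C)
    (n : ℕ) (y : (T.F n).obj S.X₁) :
    (T.F n).map S.g ((T.F n).map S.f y) = 0 := by
  rw [← ConcreteCategory.comp_apply, ← Functor.map_comp, S.zero, Functor.map_zero]
  rfl

lemma comm_apply (S : ShortComplex C) (hS : S.ShortExact) (n : ℕ) (y : (T.F n).obj S.X₃) :
    (φ.app (n + 1)).app S.X₁ (T.δ S hS n (n + 1) rfl y) =
      T'.δ S hS n (n + 1) rfl ((φ.app n).app S.X₃ y) := by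
  have := ConcreteCategory.congr_hom (φ.comm S hS n (n + 1) rfl) y
  rwa [ConcreteCategory.comp_apply, ConcreteCategory.comp_apply] at this

lemma nat_apply (n : ℕ) {X Y : C} (f : X ⟶ Y) (y : (T.F n).obj X) :
    (φ.app n).app Y ((T.F n).map f y) = (T'.F n).map f ((φ.app n).app X y) := by
  have := ConcreteCategory.congr_hom ((φ.app n).naturality f) y
  rwa [ConcreteCategory.comp_apply, ConcreteCategory.comp_apply] at this

/-- Injectivity step (element form). -/
lemma eq_zero_step (q : ℕ) {A M : C} (u : A ⟶ M) [Mono u] (α : (T.F (q + 1)).obj A)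
    (hα : (T.F (q + 1)).map u α = 0) (hφ : (φ.app (q + 1)).app A α = 0)
    (hsurj : Function.Surjective ((φ.app q).app M))
    (hinj : Function.Injective ((φ.app q).app (cokernel u))) : α = 0 := by
  have hS : (sesOf u).ShortExact := sesOf_shortExact u
  obtain ⟨β, rfl⟩ := exists_δ_eq T (sesOf u) hS q α hα
  rw [comm_apply φ (sesOf u) hS q β] at hφ
  obtain ⟨y', hy'⟩ := exists_map_g_eq T' (sesOf u) hS q _ hφ
  obtain ⟨y, rfl⟩ := hsurj y'
  rw [← nat_apply φ q (sesOf u).g y] at hy'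
  have := hinj hy'
  rw [← this]
  exact δ_map_g T (sesOf u) hS q y

/-- Surjectivity step from an effacement of the target element. -/
lemma exists_preimage_step (q : ℕ) {A M : C} (u : A ⟶ M) [Mono u] (α : (T'.F (q + 1)).obj A)
    (hα : (T'.F (q + 1)).map u α = 0)
    (hsurj : Function.Surjective ((φ.app q).app (cokernel u))) :
    ∃ β : (T.F (q + 1)).obj A, (φ.app (q + 1)).app A β = α := by
  have hS : (sesOf u).ShortExact := sesOf_shortExact u
  obtain ⟨γ', rfl⟩ := exists_δ_eq T' (sesOf u) hS q α hα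
  obtain ⟨γ, rfl⟩ := hsurj γ'
  exact ⟨T.δ (sesOf u) hS q (q + 1) rfl γ, comm_apply φ (sesOf u) hS q γ⟩

/-- Surjectivity step by the four lemma. -/
lemma exists_preimage_four (q : ℕ) {A M : C} (u : A ⟶ M) [Mono u] (α : (T'.F (q + 1)).obj A)
    (hsurjQ : Function.Surjective ((φ.app q).app (cokernel u)))
    (hsurjM : Function.Surjective ((φ.app (q + 1)).app M))
    (hinjQ : Function.Injective ((φ.app (q + 1)).app (cokernel u))) :
    ∃ β : (T.F (q + 1)).obj A, (φ.app (q + 1)).app A β = α := by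
  have hS : (sesOf u).ShortExact := sesOf_shortExact u
  obtain ⟨m, hm⟩ := hsurjM ((T'.F (q + 1)).map u α)
  have h1 : (T.F (q + 1)).map (sesOf u).g m = 0 := by
    apply hinjQ
    rw [nat_apply φ (q + 1) (sesOf u).g m, hm, map_zero]
    exact map_g_map_f T' (sesOf u) (q + 1) α
  obtain ⟨a, ha⟩ := exists_map_f_eq T (sesOf u) hS (q + 1) m h1
  have h2 : (T'.F (q + 1)).map (sesOf u).f (α - (φ.app (q + 1)).app A a) = 0 := by
    rw [map_sub, ← nat_apply φ (q + 1) (sesOf u).f a, ha, hm]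
    exact sub_self _
  obtain ⟨β, hβ⟩ := exists_preimage_step φ q u _ h2 hsurjQ
  exact ⟨β + a, by rw [map_add, hβ]; abel⟩

/-- Degree zero: injectivity is inherited by subobjects. -/
lemma injective_zero_of_mono (hT0 : T.ZeroMono) {A M : C} (u : A ⟶ M) [Mono u]
    (hM : Function.Injective ((φ.app 0).app M)) : Function.Injective ((φ.app 0).app A) := by
  have hS : (sesOf u).ShortExact := sesOf_shortExact u
  have h1 : Mono ((T.F 0).map u) := hT0 (sesOf u) hS
  have h2 : Function.Injective ((T.F 0).map u) := (AddCommGrpCat.mono_iff_injective _).1 h1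
  intro x y hxy
  apply h2
  apply hM
  rw [nat_apply φ 0 u x, nat_apply φ 0 u y, hxy]

/-- Degree zero: surjectivity. -/
lemma surjective_zero (hT'0 : T'.ZeroMono) {A M : C} (u : A ⟶ M) [Mono u]
    (hM : Function.Surjective ((φ.app 0).app M))
    (hQ : Function.Injective ((φ.app 0).app (cokernel u))) :
    Function.Surjective ((φ.app 0).app A) := by
  have hS : (sesOf u).ShortExact := sesOf_shortExact u
  have h1 : Mono ((T'.F 0).map u) := hT'0 (sesOf u) hS
  have h2 : Function.Injective ((T'.F 0).map u) := (AddCommGrpCat.mono_iff_injective _).1 h1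
  intro a'
  obtain ⟨m, hm⟩ := hM ((T'.F 0).map u a')
  have h3 : (T.F 0).map (sesOf u).g m = 0 := by
    apply hQ
    rw [nat_apply φ 0 (sesOf u).g m, hm, map_zero]
    exact map_g_map_f T' (sesOf u) 0 a'
  obtain ⟨a, ha⟩ := exists_map_f_eq T (sesOf u) hS 0 m h3
  refine ⟨a, h2 ?_⟩
  rw [← nat_apply φ 0 u a]
  exact (congrArg _ ha).trans hm

end Groth.Agent.Lib.Helper25.DeltaFAb
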