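import Groth.Agent.Lib.Helper25.DeltaFEff
import Mathlib.CategoryTheory.Abelian.Refinements
import Mathlib.CategoryTheory.Limits.FunctorCategory.EpiMono

/-!
# Comparison of delta-functors: inductive mono / epi steps
-/

namespace Groth.Agent.Lib.Helper25.DeltaFIso

open CategoryTheory CategoryTheory.Limits DeltaF
open Groth.Agent.Lib.Helper25.DeltaFEff

universe v u v' u'
variable {A : Type u} [Category.{v} A] [Abelian A] {B : Type u'} [Category.{v'} B] [Abelian B]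
variable {T T' : DeltaF.CohDeltaFunctor A B ℕ} (φ : T ⟶ T')

/-- Generalized-element form of the injectivity step: an element of `T^{k+1}(X)` killed by an
embedding `u : X ⟶ Y` and by `φ^{k+1}` vanishes, if `φ^k` is epi at `Y` and mono at `coker u`. -/
lemma eq_zero_of_comp_eq_zero (k : ℕ) {X Y : A} (u : X ⟶ Y) [Mono u] {W : B}
    (x : W ⟶ (T.F (k + 1)).obj X) (hx : x ≫ (T.F (k + 1)).map u = 0)
    (hφ : x ≫ (φ.app (k + 1)).app X = 0)
    (hepi : Epi ((φ.app k).app Y)) (hmono : Mono ((φ.app k).app (cokernel u))) : x = 0 := by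
  have hS : (sesOf u).ShortExact := sesOf_shortExact u
  -- lift x through δ
  obtain ⟨W₁, π₁, hπ₁, q, hq⟩ := (T.exact₁ (sesOf u) hS k (k + 1) rfl).exact_up_to_refinements x hx
  dsimp at q hq
  -- q ≫ φ^k_Q ≫ δ' = 0
  have h1 : (q ≫ (φ.app k).app (cokernel u)) ≫ T'.δ (sesOf u) hS k (k + 1) rfl = 0 := by
    rw [Category.assoc, ← φ.comm (sesOf u) hS k (k + 1) rfl, ← Category.assoc, ← hq,
      Category.assoc, hφ, comp_zero]
  obtain ⟨W₂, π₂, hπ₂, y', hy'⟩ :=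
    (T'.exact₃ (sesOf u) hS k (k + 1) rfl).exact_up_to_refinements _ h1
  dsimp at y' hy'
  obtain ⟨W₃, π₃, hπ₃, y, hy⟩ := surjective_up_to_refinements_of_epi ((φ.app k).app Y) y'
  have h2 : (π₃ ≫ π₂ ≫ q) ≫ (φ.app k).app (cokernel u) =
      (y ≫ (T.F k).map (cokernel.π u)) ≫ (φ.app k).app (cokernel u) := by
    rw [Category.assoc, Category.assoc, hy', ← Category.assoc π₃, hy, Category.assoc,
      Category.assoc, (φ.app k).naturality]
  have h3 : π₃ ≫ π₂ ≫ q = y ≫ (T.F k).map (cokernel.π u) := (cancel_mono _).1 h2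
  have h4 : (π₃ ≫ π₂ ≫ π₁) ≫ x = 0 := by
    have h5 := T.comp_δ (sesOf u) hS k (k + 1) rfl
    dsimp at h5
    calc (π₃ ≫ π₂ ≫ π₁) ≫ x = (π₃ ≫ π₂ ≫ q) ≫ T.δ (sesOf u) hS k (k + 1) rfl := by
          simp only [Category.assoc, hq]
      _ = 0 := by rw [h3, Category.assoc, h5, comp_zero]
  have : Epi (π₃ ≫ π₂ ≫ π₁) := epi_comp' hπ₃ (epi_comp' hπ₂ hπ₁)
  exact (cancel_epi (π₃ ≫ π₂ ≫ π₁)).1 (h4.trans comp_zero.symm)

lemma mono_app_succ (k : ℕ) {X Y : A} (u : X ⟶ Y) [Mono u] (h0 : (T.F (k + 1)).map u = 0)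
    (hepi : Epi ((φ.app k).app Y)) (hmono : Mono ((φ.app k).app (cokernel u))) :
    Mono ((φ.app (k + 1)).app X) := by
  refine Preadditive.mono_of_cancel_zero _ (fun {W} x hx => ?_)
  exact eq_zero_of_comp_eq_zero φ k u x (by rw [h0, comp_zero]) hx hepi hmono

lemma epi_app_succ (k : ℕ) {X Y : A} (u : X ⟶ Y) [Mono u] (h0 : (T'.F (k + 1)).map u = 0)
    (hepi : Epi ((φ.app k).app (cokernel u))) : Epi ((φ.app (k + 1)).app X) := by
  have hS : (sesOf u).ShortExact := sesOf_shortExact u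
  have h1 : Epi (T'.δ (sesOf u) hS k (k + 1) rfl) := epi_δ T' (sesOf u) hS k h0
  have h2 := φ.comm (sesOf u) hS k (k + 1) rfl
  have h3 : Epi ((φ.app k).app (cokernel u) ≫ T'.δ (sesOf u) hS k (k + 1) rfl) :=
    epi_comp' hepi h1
  have h4 : Epi (T.δ (sesOf u) hS k (k + 1) rfl ≫ (φ.app (k + 1)).app X) := by
    rw [h2]; exact h3
  exact epi_of_epi (T.δ (sesOf u) hS k (k + 1) rfl) _

end Groth.Agent.Lib.Helper25.DeltaFIso
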