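import Mathlib.LinearAlgebra.Dual.Lemmas
import Mathlib.LinearAlgebra.FiniteDimensional.Lemmas
import Mathlib.RingTheory.Ideal.Maximal
import Mathlib.RingTheory.Ideal.Quotient.Operations

/-!
# Linear forms on an algebra killing a maximal ideal of finite residue degree
-/

set_option autoImplicit false

universe u v

namespace Groth.Agent.Lib.Helper25

section DualSocle

variable {k₀ : Type u} {A : Type v} [Field k₀] [CommRing A] [Algebra k₀ A] (m : Ideal A)
  [hm : m.IsMaximal] [Module.Finite k₀ (A ⧸ m)]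

/-- the forms killing `m` form a one-dimensional space over `A/m`: any one is a translate of
a nonzero one -/
theorem exists_mul_right_eq (φ ψ : A →ₗ[k₀] k₀) (hφ : ∀ a ∈ m, φ a = 0)
    (hψ : ∀ a ∈ m, ψ a = 0) (hφ0 : φ ≠ 0) : ∃ a : A, ∀ x, ψ x = φ (x * a) := by
  let W : Submodule k₀ A := m.restrictScalars k₀
  let Θ : A →ₗ[k₀] Module.Dual k₀ A := (LinearMap.mul k₀ A).compr₂ φ
  have hΘ : ∀ a x, Θ a x = φ (a * x) := fun a x => rfl
  have hΘmem : ∀ a, Θ a ∈ W.dualAnnihilator := by
    intro a
    rw [Submodule.mem_dualAnnihilator]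
    intro w hw
    rw [hΘ]
    exact hφ _ (m.mul_mem_left a hw)
  have hker : W = LinearMap.ker Θ := by
    ext a
    rw [LinearMap.mem_ker]
    constructor
    · intro ha
      apply LinearMap.ext
      intro x
      change φ (a * x) = 0
      exact hφ _ (m.mul_mem_right x ha)
    · intro h
      by_contra ha
      have ha' : a ∉ m := ha
      obtain ⟨b, i, hi, hbi⟩ := hm.exists_inv ha'
      apply hφ0
      apply LinearMap.ext
      intro x
      have h1 : Θ a (x * b) = 0 := by
        rw [h]; rfl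
      rw [hΘ] at h1
      have h2 : x = a * (x * b) + x * i := by
        calc x = x * (b * a + i) := by rw [hbi, mul_one]
          _ = a * (x * b) + x * i := by ring
      rw [h2, map_add, h1, hφ _ (m.mul_mem_left x hi), add_zero, LinearMap.zero_apply]
  let Θbar : (A ⧸ W) →ₗ[k₀] Module.Dual k₀ A := W.liftQ Θ (le_of_eq hker)
  have hinj : Function.Injective Θbar := by
    rw [← LinearMap.ker_eq_bot]
    exact Submodule.ker_liftQ_eq_bot' _ _ hker
  have hfin : Module.Finite k₀ (A ⧸ W) :=
    Module.Finite.equiv (Submodule.Quotient.restrictScalarsEquiv k₀ m).symm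
  have hfin2 : Module.Finite k₀ W.dualAnnihilator :=
    Module.Finite.equiv (Submodule.dualQuotEquivDualAnnihilator W)
  have hle : LinearMap.range Θbar ≤ W.dualAnnihilator := by
    rintro _ ⟨q, rfl⟩
    obtain ⟨a, rfl⟩ := W.mkQ_surjective q
    exact hΘmem a
  have hrank : Module.finrank k₀ (LinearMap.range Θbar) =
      Module.finrank k₀ W.dualAnnihilator := by
    rw [LinearMap.finrank_range_of_inj hinj,
      ← (Submodule.dualQuotEquivDualAnnihilator W).finrank_eq, Subspace.dual_finrank_eq]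
  have heq : LinearMap.range Θbar = W.dualAnnihilator :=
    Submodule.eq_of_le_of_finrank_eq hle hrank
  have hψmem : ψ ∈ W.dualAnnihilator := by
    rw [Submodule.mem_dualAnnihilator]
    exact fun w hw => hψ w hw
  rw [← heq] at hψmem
  obtain ⟨q, hq⟩ := hψmem
  obtain ⟨a, rfl⟩ := W.mkQ_surjective q
  refine ⟨a, fun x => ?_⟩
  have h1 : Θ a = ψ := hq
  rw [← h1, hΘ, mul_comm]

omit [Module.Finite k₀ (A ⧸ m)] in
/-- there is a nonzero form killing `m` -/
theorem exists_form_ne_zero : ∃ φ : A →ₗ[k₀] k₀, φ ≠ 0 ∧ ∀ a ∈ m, φ a = 0 := by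
  let W : Submodule k₀ A := m.restrictScalars k₀
  have h1 : (W.mkQ (1 : A)) ≠ 0 := by
    rw [Ne, Submodule.mkQ_apply, Submodule.Quotient.mk_eq_zero]
    intro h
    exact hm.ne_top ((Ideal.eq_top_iff_one m).2 h)
  obtain ⟨φ, hφ⟩ : ∃ φ : Module.Dual k₀ (A ⧸ W), φ (W.mkQ 1) ≠ 0 := by
    by_contra hcon
    push Not at hcon
    exact h1 ((Module.forall_dual_apply_eq_zero_iff k₀ _).1 hcon)
  refine ⟨φ ∘ₗ W.mkQ, ?_, fun a ha => ?_⟩
  · intro h
    apply hφ
    have := LinearMap.congr_fun h 1
    simpa using this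
  · rw [LinearMap.comp_apply, Submodule.mkQ_apply, (Submodule.Quotient.mk_eq_zero W).2 ha,
      map_zero]

end DualSocle

end Groth.Agent.Lib.Helper25
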