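import Mathlib.RingTheory.Localization.Away.Basic
import Mathlib.RingTheory.Ideal.Operations
import Mathlib.RingTheory.Localization.Ideal
import Mathlib.Algebra.GroupWithZero.NonZeroDivisors
import Mathlib.Tactic.LinearCombination
import Mathlib.Tactic.Ring

/-!
# Algebra behind: if a product of ideals is principal generated by a nonzerodivisor, each factor
is locally principal generated by a nonzerodivisor
-/

namespace Groth.Agent.Lib.Helper25.EffCartierAlg

variable {A : Type*} [CommRing A] (I J : Ideal A) (f : A)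

lemma span_coeffs_eq_top (hf : f ∈ nonZeroDivisors A) (hIJ : I * J = Ideal.span {f}) :
    Ideal.span {c : A | ∃ a ∈ I, ∃ b ∈ J, a * b = c * f} = ⊤ := by
  have key : ∀ y ∈ I * J,
      ∃ c ∈ Ideal.span {c : A | ∃ a ∈ I, ∃ b ∈ J, a * b = c * f}, y = c * f := by
    intro y hy
    refine Submodule.mul_induction_on hy ?_ ?_
    · intro a ha b hb
      have h1 : a * b ∈ Ideal.span {f} := hIJ ▸ Ideal.mul_mem_mul ha hb
      obtain ⟨c, hc⟩ := Ideal.mem_span_singleton'.1 h1
      exact ⟨c, Ideal.subset_span ⟨a, ha, b, hb, hc.symm⟩, hc.symm⟩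
    · rintro x y ⟨c, hc, rfl⟩ ⟨d, hd, rfl⟩
      exact ⟨c + d, Ideal.add_mem _ hc hd, (add_mul c d f).symm⟩
  have hfm : f ∈ I * J := hIJ ▸ Ideal.mem_span_singleton_self f
  obtain ⟨c, hc, hfc⟩ := key f hfm
  have h1 : c = 1 := by
    have h2 : (c - 1) * f = 0 := by rw [sub_mul, one_mul, ← hfc, sub_self]
    have h3 := (mem_nonZeroDivisors_iff.1 hf).2 _ h2
    exact sub_eq_zero.1 h3
  rw [Ideal.eq_top_iff_one, ← h1]
  exact hc

variable {I J f}

lemma map_eq_span_and_mem_nonZeroDivisors (hf : f ∈ nonZeroDivisors A)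
    (hIJ : I * J = Ideal.span {f}) {a b g : A} (ha : a ∈ I) (hb : b ∈ J) (hab : a * b = g * f)
    (B : Type*) [CommRing B] [Algebra A B] [IsLocalization.Away g B] :
    I.map (algebraMap A B) = Ideal.span {algebraMap A B a} ∧
      algebraMap A B a ∈ nonZeroDivisors B := by
  have hg : IsUnit (algebraMap A B g) := IsLocalization.Away.algebraMap_isUnit g
  constructor
  · apply le_antisymm
    · rw [Ideal.map_le_iff_le_comap]
      intro a' ha'
      rw [Ideal.mem_comap]
      have h1 : a' * b ∈ Ideal.span {f} := hIJ ▸ Ideal.mul_mem_mul ha' hb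
      obtain ⟨c, hc⟩ := Ideal.mem_span_singleton'.1 h1
      have h2 : (g * a' - a * c) * f = 0 := by
        have : g * f * a' = a * (c * f) := by rw [← hab, hc]; ring
        linear_combination this
      have h3 : g * a' = a * c := sub_eq_zero.1 ((mem_nonZeroDivisors_iff.1 hf).2 _ h2)
      have h4 : algebraMap A B g * algebraMap A B a' = algebraMap A B a * algebraMap A B c := by
        rw [← map_mul, ← map_mul, h3]
      rw [Ideal.mem_span_singleton']
      refine ⟨hg.unit⁻¹ * algebraMap A B c, ?_⟩
      have h5 : algebraMap A B a' = ↑hg.unit⁻¹ * (algebraMap A B g * algebraMap A B a') := by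
        rw [← mul_assoc, IsUnit.val_inv_mul, one_mul]
      rw [h5, h4]
      ring
    · rw [Ideal.span_singleton_le_iff_mem]
      exact Ideal.mem_map_of_mem _ ha
  · have h1 : algebraMap A B f ∈ nonZeroDivisors B :=
      IsLocalization.map_nonZeroDivisors_le (Submonoid.powers g) B ⟨f, hf, rfl⟩
    have h2 : algebraMap A B a * algebraMap A B b ∈ nonZeroDivisors B := by
      rw [← map_mul, hab, map_mul]
      exact mul_mem hg.mem_nonZeroDivisors h1
    exact (mul_mem_nonZeroDivisors.1 h2).1

end Groth.Agent.Lib.Helper25.EffCartierAlg
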