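import Mathlib
import Groth.Agent.Lib.Helper25.PowRing3

/-!
Ring-level input for "a pointed morphism of smooth curve groups which is nonzero on cotangent spaces
is étale at the unit" (helper25): a local homomorphism of discrete valuation rings with rational
residue fields which does not send the maximal ideal into the square of the maximal ideal is
formally étale; conversely a formally unramified one does not.
-/

set_option autoImplicit false
universe u
open IsLocalRing TensorProduct

namespace Groth.Agent.Lib.Helper25.HomRing

open Groth.Agent.Lib.Helper25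

section dvr

variable {K R S : Type u} [Field K] [CommRing R] [CommRing S] [IsDomain R] [IsDomain S]
  [IsDiscreteValuationRing R] [IsDiscreteValuationRing S]
  [Algebra K R] [Algebra K S] (εR : R →ₐ[K] K) (εS : S →ₐ[K] K) (c : R →ₐ[K] S)

include εR εS in
theorem main_dvr [Algebra.EssFiniteType K S] (hc : ∀ x, εS (c x) = εR x) (x : R)
    (hx : x ∈ maximalIdeal R) (hcx : c x ∉ maximalIdeal S ^ 2) :
    (c : R →+* S).FormallySmooth ∧ (c : R →+* S).FormallyUnramified := by
  algebraize [(c : R →+* S)]
  have : IsScalarTower K R S := IsScalarTower.of_algebraMap_eq (fun k => (c.commutes k).symm)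
  have : Algebra.EssFiniteType R S := Algebra.EssFiniteType.of_comp K R S
  have hcm : ∀ y ∈ maximalIdeal R, c y ∈ maximalIdeal S :=
    fun y hy => PowRing.map_mem εR εS c hc hy
  have hle : (maximalIdeal R).map (algebraMap R S) ≤ maximalIdeal S := by
    rw [Ideal.map_le_iff_le_comap]
    exact hcm
  have hloc : IsLocalHom (algebraMap R S) :=
    ((local_hom_TFAE (algebraMap R S)).out 0 2 rfl rfl).mpr hle
  obtain ⟨ϖ, hϖ⟩ := IsDiscreteValuationRing.exists_irreducible S
  have hmS : maximalIdeal S = Ideal.span {ϖ} := hϖ.maximalIdeal_eq
  have hmap : (maximalIdeal R).map (algebraMap R S) = maximalIdeal S := by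
    apply le_antisymm hle
    have h1 : c x ∈ Ideal.span {ϖ} := hmS ▸ hcm x hx
    obtain ⟨s, hs⟩ := Ideal.mem_span_singleton'.mp h1
    have hsu : IsUnit s := by
      by_contra hns
      apply hcx
      have h2 : s ∈ maximalIdeal S := (mem_maximalIdeal s).mpr hns
      have h3 : ϖ ∈ maximalIdeal S := hmS ▸ Ideal.mem_span_singleton_self ϖ
      rw [pow_two, ← hs]
      exact Ideal.mul_mem_mul h2 h3
    rw [hmS, Ideal.span_singleton_le_iff_mem]
    obtain ⟨u, rfl⟩ := hsu
    have h4 : ϖ = (↑u⁻¹ : S) * c x := by
      rw [← hs, ← mul_assoc, Units.inv_mul, one_mul]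
    rw [h4]
    exact Ideal.mul_mem_left _ _ (Ideal.mem_map_of_mem _ hx)
  have hunr : Algebra.FormallyUnramified R S := by
    have : Algebra.IsSeparable (ResidueField R) (ResidueField S) := by
      refine ⟨fun y => ?_⟩
      obtain ⟨s, rfl⟩ := residue_surjective y
      have h1 : residue S s = algebraMap (ResidueField R) (ResidueField S)
          (residue R (algebraMap K R (εS s))) := by
        rw [DualPoint.residue_eq εS s]
        change _ = residue S (algebraMap R S (algebraMap K R (εS s)))
        rw [← IsScalarTower.algebraMap_apply]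
        rfl
      rw [h1]
      exact isSeparable_algebraMap _
    exact Algebra.FormallyUnramified.of_map_maximalIdeal hmap
  have hcx0 : c x ≠ 0 := fun h0 => hcx (h0 ▸ zero_mem _)
  have hinj : ∀ r : R, c r = 0 → r = 0 := by
    intro r hr
    by_contra hr0
    have hker : RingHom.ker (c : R →+* S) ≠ ⊥ := by
      intro hb
      have : r ∈ RingHom.ker (c : R →+* S) := hr
      rw [hb] at this
      exact hr0 this
    haveI : (RingHom.ker (c : R →+* S)).IsPrime := RingHom.ker_isPrime _
    have hmax : (RingHom.ker (c : R →+* S)).IsMaximal :=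
      Ideal.IsPrime.isMaximal inferInstance hker
    have h5 : RingHom.ker (c : R →+* S) = maximalIdeal R := eq_maximalIdeal hmax
    have h6 : x ∈ RingHom.ker (c : R →+* S) := h5 ▸ hx
    exact hcx0 h6
  have hflat : Module.Flat R S := by
    haveI : Module.IsTorsionFree R S := by
      apply Module.IsTorsionFree.of_smul_eq_zero
      intro r s hrs
      rw [Algebra.smul_def, mul_eq_zero] at hrs
      rcases hrs with h | h
      · exact Or.inl (hinj r h)
      · exact Or.inr h
    infer_instance
  have hsm : Algebra.FormallySmooth R S :=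
    LocalFlatUnram.formallySmooth_of_flat_of_formallyUnramified
  exact ⟨hsm, hunr⟩

end dvr

section unram

variable {K R S : Type u} [Field K] [CommRing R] [CommRing S] [IsLocalRing R] [IsLocalRing S]
  [Algebra K R] [Algebra K S] (εR : R →ₐ[K] K) (εS : S →ₐ[K] K) (c : R →ₐ[K] S)

include εR εS in
/-- A formally unramified local homomorphism does not send the maximal ideal into the square of the
maximal ideal, unless the target is a field. -/
theorem exists_not_mem_sq_of_unramified [IsNoetherianRing S] [Algebra.EssFiniteType K S]
    (hc : ∀ x, εS (c x) = εR x) (hu : (c : R →+* S).FormallyUnramified)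
    (hS : maximalIdeal S ≠ ⊥) : ∃ x ∈ maximalIdeal R, c x ∉ maximalIdeal S ^ 2 := by
  by_contra hcon
  push_neg at hcon
  apply hS
  algebraize [(c : R →+* S)]
  have : IsScalarTower K R S := IsScalarTower.of_algebraMap_eq (fun k => (c.commutes k).symm)
  have : Algebra.EssFiniteType R S := Algebra.EssFiniteType.of_comp K R S
  have hle : (maximalIdeal R).map (algebraMap R S) ≤ maximalIdeal S := by
    rw [Ideal.map_le_iff_le_comap]
    intro x hx
    exact PowRing.map_mem εR εS c hc hx
  have hloc : IsLocalHom (algebraMap R S) :=
    ((local_hom_TFAE (algebraMap R S)).out 0 2 rfl rfl).mpr hle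
  have hu' : Algebra.FormallyUnramified R S := hu
  have hmap : (maximalIdeal R).map (algebraMap R S) = maximalIdeal S :=
    Algebra.FormallyUnramified.map_maximalIdeal
  have hle2 : (maximalIdeal R).map (algebraMap R S) ≤ maximalIdeal S ^ 2 := by
    rw [Ideal.map_le_iff_le_comap]
    intro x hx
    exact hcon x hx
  have h3 : maximalIdeal S ≤ maximalIdeal S • maximalIdeal S := by
    rw [hmap] at hle2
    rw [smul_eq_mul, ← pow_two]
    exact hle2
  exact Submodule.eq_bot_of_le_smul_of_le_jacobson_bot (maximalIdeal S) (maximalIdeal S)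
    (IsNoetherian.noetherian _) h3 (by rw [jacobson_eq_maximalIdeal ⊥ bot_ne_top])

end unram

end Groth.Agent.Lib.Helper25.HomRing
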