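import Mathlib
import Groth.Agent.Lib.Helper25.PowTangent2

/-!
Pointed morphisms between monoid schemes over a field act on the local rings at the units; the
product of two pointed morphisms acts additively modulo `𝔪²` (helper25).
-/

set_option autoImplicit false
universe u
open CategoryTheory MonoidalCategory CartesianMonoidalCategory MonObj AlgebraicGeometry IsLocalRing

namespace Groth.Agent.Lib.Helper25.HomTangent

open Groth.Agent.Lib.Helper25.GrpTangent Groth.Agent.Lib.Helper25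
  Groth.Agent.Lib.Helper25.PowTangent

variable {K : Type u} [Field K] (G H : Over (Spec (CommRingCat.of K))) [MonObj G] [MonObj H]

/-- The map of local rings at the units induced by a pointed morphism. -/
theorem exists_stalkHom (f : G ⟶ H) (hf : η[G] ≫ f = η[H]) :
    ∃ (φ : A H ⟶ A G) (h : str H ≫ φ = str G),
      tau G ≫ f = pt H (str G) φ h ∧ φ ≫ aug G = aug H := by
  have h1 : (1 : Over.mk (Spec.map (𝟙 (CommRingCat.of K))) ⟶ G) ≫ f = 1 := by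
    rw [Hom.one_def, Category.assoc, hf, ← Hom.one_def]
  have hp : res (str G) (𝟙 _) (aug G) (str_aug G) ≫ (tau G ≫ f) = 1 := by
    rw [← Category.assoc, res_tau, pt_congr G _ _ (Category.comp_id (aug G)).symm, ← one_eq_pt, h1]
  obtain ⟨φ, hφ, hpφ⟩ := exists_pt H (str G) (tau G ≫ f)
    (closedPoint_eq_e H (str G) (aug G) (str_aug G) _ hp)
  refine ⟨φ, hφ, hpφ, ?_⟩
  rw [hpφ, res_pt, one_eq_pt] at hp
  have := pt_injective H _ _ _ _ _ hp
  rw [this]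
  exact Category.comp_id _

variable {M : Type u} [AddCommGroup M] [Module K M] [Module Kᵐᵒᵖ M] [IsCentralScalar K M]

variable {G H}

theorem isTan_comp (φ : A H ⟶ A G) (hφ : str H ≫ φ = str G) (hφa : φ ≫ aug G = aug H)
    {v : A G ⟶ dM K M} (hv : IsTan G M v) : IsTan H M (φ ≫ v) where
  str_comp := by rw [← Category.assoc, hφ, hv.str_comp]
  comp_fst := by rw [Category.assoc, hv.comp_fst, hφa]

theorem tq_comp (f : G ⟶ H) (φ : A H ⟶ A G) (hφ : str H ≫ φ = str G)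
    (hpφ : tau G ≫ f = pt H (str G) φ hφ) {v : A G ⟶ dM K M} (hv : IsTan G M v) :
    tq G M v ≫ f = tq H M (φ ≫ v) := by
  have h' : str H ≫ φ ≫ v = inlM K M := by rw [← Category.assoc, hφ, hv.str_comp]
  rw [tq_eq G hv.str_comp, ← res_tau G (inlM K M) v hv.str_comp, Category.assoc, hpφ, res_pt,
    tq_eq H h']

/-- The product of two pointed morphisms acts additively on tangent vectors. -/
theorem snd_mul (f₁ f₂ : G ⟶ H) (φ₁ φ₂ φ₃ : A H ⟶ A G)
    (h₁ : str H ≫ φ₁ = str G) (h₂ : str H ≫ φ₂ = str G) (h₃ : str H ≫ φ₃ = str G)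
    (hp₁ : tau G ≫ f₁ = pt H (str G) φ₁ h₁) (hp₂ : tau G ≫ f₂ = pt H (str G) φ₂ h₂)
    (hp₃ : tau G ≫ (f₁ * f₂) = pt H (str G) φ₃ h₃)
    (ha₁ : φ₁ ≫ aug G = aug H) (ha₂ : φ₂ ≫ aug G = aug H)
    {v : A G ⟶ dM K M} (hv : IsTan G M v) (x : A H) :
    (v.hom (φ₃.hom x)).snd = (v.hom (φ₁.hom x)).snd + (v.hom (φ₂.hom x)).snd := by
  obtain ⟨χ, hχ, e1, e2⟩ := exists_mul H (φ₁ ≫ v) (φ₂ ≫ v) (isTan_comp φ₁ h₁ ha₁ hv)
    (isTan_comp φ₂ h₂ ha₂ hv)
  have e : tq G M v ≫ (f₁ * f₂) = tq H M (φ₃ ≫ v) := tq_comp (f₁ * f₂) φ₃ h₃ hp₃ hv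
  rw [MonObj.comp_mul, tq_comp f₁ φ₁ h₁ hp₁ hv, tq_comp f₂ φ₂ h₂ hp₂ hv, e1] at e
  have h' : str H ≫ φ₃ ≫ v = inlM K M := by rw [← Category.assoc, h₃, hv.str_comp]
  have := tq_injective H hχ.str_comp h' e
  have e3 := e2 x
  rw [this] at e3
  exact e3

/-- The key congruence: `φ₃ x ≡ φ₁ x + φ₂ x` modulo `𝔪²` for `x ∈ 𝔪`. -/
theorem mul_sub_mem (f₁ f₂ : G ⟶ H) (φ₁ φ₂ φ₃ : A H ⟶ A G)
    (h₁ : str H ≫ φ₁ = str G) (h₂ : str H ≫ φ₂ = str G) (h₃ : str H ≫ φ₃ = str G)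
    (hp₁ : tau G ≫ f₁ = pt H (str G) φ₁ h₁) (hp₂ : tau G ≫ f₂ = pt H (str G) φ₂ h₂)
    (hp₃ : tau G ≫ (f₁ * f₂) = pt H (str G) φ₃ h₃)
    (ha₁ : φ₁ ≫ aug G = aug H) (ha₂ : φ₂ ≫ aug G = aug H) (ha₃ : φ₃ ≫ aug G = aug H)
    (x : A H) (hx : x ∈ maximalIdeal (A H)) :
    φ₃.hom x - (φ₁.hom x + φ₂.hom x) ∈ maximalIdeal (A G) ^ 2 := by
  let _ := algA G
  let _ := algA H
  have hmem : ∀ (φ : A H ⟶ A G), φ ≫ aug G = aug H → φ.hom x ∈ maximalIdeal (A G) := by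
    intro φ ha
    rw [← DualPoint.ker_eq_maximalIdeal (augAlg G), RingHom.mem_ker]
    have h1 : (aug G).hom (φ.hom x) = (aug H).hom x := by
      have := congrArg (fun f => f.hom x) ha
      exact this
    change (aug G).hom (φ.hom x) = 0
    rw [h1]
    exact DualPoint.apply_eq_zero_of_mem (augAlg H) hx
  have hy : φ₃.hom x - (φ₁.hom x + φ₂.hom x) ∈ maximalIdeal (A G) :=
    sub_mem (hmem φ₃ ha₃) (add_mem (hmem φ₁ ha₁) (hmem φ₂ ha₂))
  rw [← Ideal.toCotangent_eq_zero _ ⟨_, hy⟩]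
  rw [← Module.forall_dual_apply_eq_zero_iff (ResidueField (A G))]
  intro ℓ
  let v0 := CommRingCat.ofHom (DualPoint.tangentHom (augAlg G) ℓ)
  let v : A G ⟶ dM K K := v0
  have hv : IsTan G K v := by
    constructor
    · apply CommRingCat.hom_ext
      refine RingHom.ext fun k => ?_
      exact DualPoint.tangentHom_algebraMap (augAlg G) ℓ k
    · apply CommRingCat.hom_ext
      refine RingHom.ext fun a => ?_
      exact DualPoint.fst_tangentHom (augAlg G) ℓ a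
  have h1 := snd_mul f₁ f₂ φ₁ φ₂ φ₃ h₁ h₂ h₃ hp₁ hp₂ hp₃ ha₁ ha₂ hv x
  rw [← DualPoint.snd_tangentHom_of_mem (augAlg G) ℓ hy]
  have h2 : (DualPoint.tangentHom (augAlg G) ℓ (φ₃.hom x - (φ₁.hom x + φ₂.hom x))).snd = 0 := by
    rw [map_sub, map_add, TrivSqZeroExt.snd_sub, TrivSqZeroExt.snd_add]
    rw [sub_eq_zero]
    exact h1
  rw [h2, map_zero]

end Groth.Agent.Lib.Helper25.HomTangent
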