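import Mathlib
import Groth.Agent.S7495

/-!
Group schemes locally of finite type over a field with a smooth point are smooth (helper25);
also the version where a smooth point is only known after base change to the algebraic closure,
and existence of reduced open neighbourhoods of points with reduced local ring.
-/

set_option autoImplicit false
universe u
open CategoryTheory MonoidalCategory CartesianMonoidalCategory MonObj AlgebraicGeometry

namespace Groth.Agent.Lib.Helper25.GrpSmoothNonempty

variable (K : Type u) [Field K] (G : Over (Spec (CommRingCat.of K))) [GrpObj G]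
  [LocallyOfFiniteType G.hom]

/-- The base change morphism to the algebraic closure. -/
noncomputable abbrev gbar : Spec (CommRingCat.of (AlgebraicClosure K)) ⟶ Spec (CommRingCat.of K) :=
  Spec.map (CommRingCat.ofHom <| algebraMap K (AlgebraicClosure K))

omit [GrpObj G] [LocallyOfFiniteType G.hom] in
/-- Smoothness descends from the algebraic closure. -/
theorem smooth_of_smooth_pullback (h : Smooth (Limits.pullback.snd G.hom (gbar K))) :
    Smooth G.hom := by
  apply MorphismProperty.of_pullback_snd_of_descendsAlong
    (Q := @Surjective ⊓ @Flat ⊓ @QuasiCompact) (g := gbar K)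
  · exact ⟨⟨inferInstance, inferInstance⟩, inferInstance⟩
  · exact h

/-- A group scheme locally of finite type over a field which has a smooth point after base change
to the algebraic closure is smooth. -/
theorem smooth_of_nonempty_smoothLocus_pullback
    (hne : ((Limits.pullback.snd G.hom (gbar K)).smoothLocus :
      Set ↥(Limits.pullback G.hom (gbar K))).Nonempty) : Smooth G.hom := by
  apply smooth_of_smooth_pullback
  let _ : GrpObj (Over.mk G.hom) := inferInstanceAs (GrpObj G)
  let _ : GrpObj (Over.mk (Limits.pullback.snd G.hom (gbar K))) := Over.grpObjMkPullbackSnd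
  exact Groth.Agent.S7495.smooth_of_grpObj_of_isAlgClosed' _ hne

/-- A group scheme locally of finite type over a field with a smooth point is smooth. -/
theorem smooth_of_nonempty_smoothLocus
    (hne : (G.hom.smoothLocus : Set G.left).Nonempty) : Smooth G.hom := by
  apply smooth_of_nonempty_smoothLocus_pullback
  let g := gbar K
  let U : G.left.Opens := G.hom.smoothLocus
  have hUs : Smooth (U.ι ≫ G.hom) := by
    rw [← Scheme.Hom.smoothLocus_eq_top_iff, ← Scheme.Hom.preimage_smoothLocus_eq]
    exact U.ι_preimage_self
  let i' : Limits.pullback (U.ι ≫ G.hom) g ⟶ Limits.pullback G.hom g :=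
    Limits.pullback.map _ _ _ _ U.ι (𝟙 _) (𝟙 _) (by simp) (by simp)
  have : IsOpenImmersion i' := inferInstance
  have hi' : i' ≫ Limits.pullback.snd G.hom g = Limits.pullback.snd (U.ι ≫ G.hom) g := by
    dsimp only [i']
    rw [Limits.pullback.lift_snd, Category.comp_id]
  obtain ⟨u, hu⟩ := hne
  obtain ⟨z, hz⟩ := (Limits.pullback.fst (U.ι ≫ G.hom) g).surjective ⟨u, hu⟩
  refine ⟨i' z, ?_⟩
  rw [SetLike.mem_coe, ← Scheme.Hom.mem_preimage, Scheme.Hom.preimage_smoothLocus_eq]
  have : Smooth (i' ≫ Limits.pullback.snd G.hom g) := by rw [hi']; infer_instance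
  rw [Scheme.Hom.smoothLocus_eq_top]
  trivial

end Groth.Agent.Lib.Helper25.GrpSmoothNonempty
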