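import Mathlib
import Groth.Agent.Lib.Helper25.HomTangent1
import Groth.Agent.Lib.Helper25.HomRing1
import Groth.Agent.Lib.Helper25.PowTangent3
import Groth.Agent.Lib.Helper25.AbVarPow1
import Groth.Agent.S7822

/-!
Pointed morphisms of one-dimensional smooth group schemes over a field: étaleness at the unit is
detected on cotangent spaces (helper25).
-/

set_option autoImplicit false
set_option linter.style.haveILetI false
universe u
open CategoryTheory MonoidalCategory CartesianMonoidalCategory MonObj AlgebraicGeometry IsLocalRing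

namespace Groth.Agent.Lib.Helper25.HomTangent

open Groth.Agent.Lib.Helper25.GrpTangent Groth.Agent.Lib.Helper25
  Groth.Agent.Lib.Helper25.PowTangent

variable {K : Type u} [Field K] {G H : Over (Spec (CommRingCat.of K))} [MonObj G] [MonObj H]

theorem spec_rel (f : G ⟶ H) (φ : A H ⟶ A G) (hφ : str H ≫ φ = str G)
    (hpφ : tau G ≫ f = pt H (str G) φ hφ) :
    Spec.map φ ≫ H.left.fromSpecStalk (e H) = G.left.fromSpecStalk (e G) ≫ f.left := by
  have h2 := congrArg (fun p => p.left) hpφ
  simp only [Over.comp_left, pt_left, tau_left] at h2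
  exact h2.symm

theorem map_e (f : G ⟶ H) (hf : η[G] ≫ f = η[H]) : f.left (e G) = e H := by
  have := congrArg (fun p => p.left (closedPoint K)) hf
  exact this

theorem lfp_left [LocallyOfFiniteType G.hom] [LocallyOfFiniteType H.hom] (f : G ⟶ H) :
    LocallyOfFinitePresentation f.left := by
  haveI : IsLocallyNoetherian (Spec (CommRingCat.of K)) := inferInstance
  haveI : IsLocallyNoetherian H.left := LocallyOfFiniteType.isLocallyNoetherian H.hom
  haveI : LocallyOfFiniteType f.left := by
    have h1 : f.left ≫ H.hom = G.hom := Over.w f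
    have : LocallyOfFiniteType (f.left ≫ H.hom) := by rw [h1]; infer_instance
    exact locallyOfFiniteType_of_comp f.left H.hom
  exact lfp_of_lft f.left

/-- A pointed morphism which is nonzero on cotangent spaces of DVR local rings is étale near the
unit. -/
theorem exists_etale_nhd_of_not_mem_sq [LocallyOfFiniteType G.hom] [LocallyOfFiniteType H.hom]
    [IsDomain (A G)] [IsDomain (A H)] [IsDiscreteValuationRing (A G)]
    [IsDiscreteValuationRing (A H)]
    (f : G ⟶ H) (hf : η[G] ≫ f = η[H]) (φ : A H ⟶ A G) (hφ : str H ≫ φ = str G)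
    (hpφ : tau G ≫ f = pt H (str G) φ hφ) (hφa : φ ≫ aug G = aug H)
    (x : A H) (hx : x ∈ maximalIdeal (A H)) (hcx : φ.hom x ∉ maximalIdeal (A G) ^ 2) :
    ∃ U : G.left.Opens, e G ∈ U ∧ Etale (U.ι ≫ f.left) := by
  haveI := lfp_left f
  rw [NhdStalk.exists_etale_nhd_iff f.left (e G)]
  refine stalkMap_props f.left (e G) (e H) (map_e f hf) φ (spec_rel f φ hφ hpφ) ?_
  letI := algA G
  letI := algA H
  haveI : Algebra.EssFiniteType K (A G) := essFiniteType_str G
  let φA : A H →ₐ[K] A G :=
    { φ.hom with commutes' := fun k => congrArg (fun g => g.hom k) hφ }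
  exact HomRing.main_dvr (augAlg H) (augAlg G) φA (fun y => congrArg (fun g => g.hom y) hφa)
    x hx hcx

/-- An étale pointed morphism is nonzero on cotangent spaces. -/
theorem exists_not_mem_sq_of_etale [LocallyOfFiniteType G.hom] [LocallyOfFiniteType H.hom]
    (f : G ⟶ H) (hf : η[G] ≫ f = η[H]) (φ : A H ⟶ A G) (hφ : str H ≫ φ = str G)
    (hpφ : tau G ≫ f = pt H (str G) φ hφ) (hφa : φ ≫ aug G = aug H)
    (hE : Etale f.left) (hG : maximalIdeal (A G) ≠ ⊥) :
    ∃ x ∈ maximalIdeal (A H), φ.hom x ∉ maximalIdeal (A G) ^ 2 := by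
  haveI : IsLocallyNoetherian (Spec (CommRingCat.of K)) := inferInstance
  haveI : IsLocallyNoetherian G.left := LocallyOfFiniteType.isLocallyNoetherian G.hom
  haveI : LocallyOfFinitePresentation f.left := inferInstance
  have hst := (NhdStalk.exists_etale_nhd_iff f.left (e G)).mp ⟨⊤, trivial, inferInstance⟩
  have hu := AbVarPow.formallyUnramified_of_stalkMap f.left (e G) (e H) (map_e f hf) φ
    (spec_rel f φ hφ hpφ) hst.2
  letI := algA G
  letI := algA H
  haveI : IsNoetherianRing (A G) := inferInstance
  haveI : Algebra.EssFiniteType K (A G) := essFiniteType_str G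
  let φA : A H →ₐ[K] A G :=
    { φ.hom with commutes' := fun k => congrArg (fun g => g.hom k) hφ }
  exact HomRing.exists_not_mem_sq_of_unramified (augAlg H) (augAlg G) φA
    (fun y => congrArg (fun g => g.hom y) hφa) hu hG

/-- The local ring at the unit of a smooth integral one-dimensional group scheme is a DVR. -/
theorem isDVR_of_smooth_dim_one (E : Over (Spec (CommRingCat.of K))) [GrpObj E] [Smooth E.hom]
    [IsIntegral E.left] (hE : topologicalKrullDim E.left = 1) :
    IsDiscreteValuationRing (A E) := by
  haveI : LocallyOfFiniteType E.hom := inferInstance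
  haveI : IsLocallyNoetherian (Spec (CommRingCat.of K)) := inferInstance
  haveI : IsLocallyNoetherian E.left := LocallyOfFiniteType.isLocallyNoetherian E.hom
  have h := (Groth.Agent.S7822.result K E).2.1.mp inferInstance
  rw [hE] at h
  have h1 : Module.finrank (ResidueField (A E)) (CotangentSpace (A E)) = 1 := by
    have h2 := h.symm
    exact_mod_cast h2
  exact IsLocalRing.finrank_CotangentSpace_eq_one_iff.mp h1

end Groth.Agent.Lib.Helper25.HomTangent
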