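import Mathlib
import Groth.Agent.Lib.Helper25.HomTangent2
import Groth.Agent.Lib.Helper10.RigidAA4
import Groth.Agent.Lib.Helper10.RigidAA8
import Groth.Agent.Lib.Helper14.EtaleLQF
import Groth.Agent.Lib.Helper26.NearB

/-!
The sum of a separable isogeny and a non-étale homomorphism of elliptic curves is a separable
isogeny (helper25).
-/

set_option autoImplicit false
set_option linter.style.haveILetI false
universe u
open CategoryTheory CategoryTheory.Limits MonoidalCategory CartesianMonoidalCategory MonObj GrpObj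
  AlgebraicGeometry IsLocalRing

namespace Groth.Agent.Lib.Helper25.EllSum

open Groth.Agent.Lib.Helper25.GrpTangent Groth.Agent.Lib.Helper25
  Groth.Agent.Lib.Helper25.PowTangent Groth.Agent.Lib.Helper25.HomTangent

theorem main (k : Type u) [Field k] [IsAlgClosed k]
    (E₁ E₂ : Over (Spec (CommRingCat.of k)))
    [GrpObj E₁] [IsProper E₁.hom] [Smooth E₁.hom] [IsIntegral E₁.left]
    (hE₁ : topologicalKrullDim E₁.left = 1)
    [GrpObj E₂] [IsProper E₂.hom] [Smooth E₂.hom] [IsIntegral E₂.left]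
    (hE₂ : topologicalKrullDim E₂.left = 1)
    (φ φ' : E₁ ⟶ E₂) [IsMonHom φ] [IsMonHom φ'] [Etale φ.left]
    (hφ' : ¬ Etale φ'.left) :
    IsFinite (φ * φ').left ∧ Surjective (φ * φ').left ∧ Etale (φ * φ').left := by
  haveI : LocallyOfFiniteType E₁.hom := inferInstance
  haveI : LocallyOfFiniteType E₂.hom := inferInstance
  haveI : QuasiCompact E₂.hom := inferInstance
  haveI : Flat E₁.hom := inferInstance
  haveI : IsCommMonObj E₂ :=
    Groth.Agent.Lib.Helper10.RigidAA.isCommMonObj_of_antiAffine E₂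
      (Groth.Agent.Lib.Helper10.RigidAA.bijective_of_universallyClosed E₂)
  haveI : IsMonHom (φ * φ') := by
    rw [Hom.mul_def]
    infer_instance
  haveI := isDVR_of_smooth_dim_one E₁ hE₁
  haveI := isDVR_of_smooth_dim_one E₂ hE₂
  have hf1 : η[E₁] ≫ φ = η[E₂] := IsMonHom.one_hom φ
  have hf2 : η[E₁] ≫ φ' = η[E₂] := IsMonHom.one_hom φ'
  have hf3 : η[E₁] ≫ (φ * φ') = η[E₂] := IsMonHom.one_hom (φ * φ')
  obtain ⟨a, ha, hpa, haa⟩ := exists_stalkHom E₁ E₂ φ hf1
  obtain ⟨b, hb, hpb, hba⟩ := exists_stalkHom E₁ E₂ φ' hf2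
  obtain ⟨c, hc, hpc, hca⟩ := exists_stalkHom E₁ E₂ (φ * φ') hf3
  have hG : maximalIdeal (A E₁) ≠ ⊥ := IsDiscreteValuationRing.not_a_field (A E₁)
  obtain ⟨x, hx, hax⟩ := exists_not_mem_sq_of_etale φ hf1 a ha hpa haa inferInstance hG
  have hbm : ∀ y ∈ maximalIdeal (A E₂), b.hom y ∈ maximalIdeal (A E₁) ^ 2 := by
    intro y hy
    by_contra hby
    obtain ⟨U, hU, hE⟩ := exists_etale_nhd_of_not_mem_sq φ' hf2 b hb hpb hba y hy hby
    exact hφ' ((Groth.Agent.Lib.Helper26.NearB.main_5337 k E₁ E₂ φ' U ⟨_, hU⟩).2.2.2 hE)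
  have hcx : c.hom x ∉ maximalIdeal (A E₁) ^ 2 := by
    intro hcx
    have h1 := mul_sub_mem φ φ' a b c ha hb hc hpa hpb hpc haa hba hca x hx
    apply hax
    have h2 : a.hom x = c.hom x - (c.hom x - (a.hom x + b.hom x)) - b.hom x := by ring
    rw [h2]
    exact sub_mem (sub_mem hcx h1) (hbm x hx)
  obtain ⟨U, hU, hE⟩ := exists_etale_nhd_of_not_mem_sq (φ * φ') hf3 c hc hpc hca x hx hcx
  haveI hEt : Etale (φ * φ').left :=
    (Groth.Agent.Lib.Helper26.NearB.main_5337 k E₁ E₂ (φ * φ') U ⟨_, hU⟩).2.2.2 hE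
  haveI : LocallyQuasiFinite (φ * φ').left :=
    Groth.Agent.Lib.Helper14.AS.etale_locallyQuasiFinite _
  haveI : IsProper ((φ * φ').left ≫ E₂.hom) := by
    rw [Over.w]
    infer_instance
  haveI : IsProper (φ * φ').left := IsProper.of_comp _ E₂.hom
  haveI hfin : IsFinite (φ * φ').left := IsFinite.of_isProper_of_locallyQuasiFinite _
  refine ⟨hfin, ?_, hEt⟩
  have hopen : IsOpen (Set.range (φ * φ').left) := (φ * φ').left.isOpenMap.isOpen_range
  have hclosed : IsClosed (Set.range (φ * φ').left) := (φ * φ').left.isClosedMap.isClosed_range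
  have hne : (Set.range (φ * φ').left).Nonempty := Set.range_nonempty _
  have huniv := IsClopen.eq_univ ⟨hclosed, hopen⟩ hne
  refine ⟨fun y => ?_⟩
  have hy : y ∈ Set.range (φ * φ').left := by rw [huniv]; exact Set.mem_univ y
  exact hy

end Groth.Agent.Lib.Helper25.EllSum
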