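import Mathlib

set_option autoImplicit false
universe u
open TensorProduct KaehlerDifferential

namespace Groth.Agent.Lib.Helper25.EtaEtale

/-- Uniform exponent for a finite module killed elementwise by powers of `f`. -/
theorem exists_pow_smul_eq_zero {R M : Type*} [CommRing R] [AddCommGroup M] [Module R M]
    [Module.Finite R M] (f : R) (h : ∀ m : M, ∃ k : ℕ, f ^ k • m = 0) :
    ∃ N : ℕ, ∀ m : M, f ^ N • m = 0 := by
  classical
  obtain ⟨s, hs⟩ := (Module.Finite.fg_top : (⊤ : Submodule R M).FG)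
  choose k hk using h
  refine ⟨s.sup k, fun m => ?_⟩
  have hm : m ∈ Submodule.span R (s : Set M) := by rw [hs]; trivial
  induction hm using Submodule.span_induction with
  | mem x hx =>
    have hle : k x ≤ s.sup k := Finset.le_sup hx
    obtain ⟨j, hj⟩ := Nat.exists_eq_add_of_le hle
    rw [hj, pow_add, mul_comm, mul_smul, hk, smul_zero]
  | zero => simp
  | add x y _ _ hx hy => rw [smul_add, hx, hy, add_zero]
  | smul r x _ hx => rw [smul_comm, hx, smul_zero]

variable {A R : Type u} [CommRing A] [CommRing R] [Algebra A R]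

/-- Part 1 core: if `R[1/(aϖ)]` is formally unramified over `A`, `(a) + (ϖ) = R`, `ϖ ∣ p` and
`Ω_{R/A}` is finite, then `p^n Ω ⊆ ϖ p^n Ω` for some `n`. -/
theorem exists_pow_smul_le [Module.Finite R Ω[R⁄A]] (a π p : R)
    (hcop : Ideal.span {a} ⊔ Ideal.span {π} = ⊤) (hdvd : π ∣ p)
    (hunr : Subsingleton Ω[Localization.Away (a * π)⁄A]) :
    ∃ n : ℕ, Ideal.span {p ^ n} • (⊤ : Submodule R (Ω[R⁄A])) ≤
        Ideal.span {π * p ^ n} • (⊤ : Submodule R (Ω[R⁄A])) := by
  have hloc : IsLocalizedModule (Submonoid.powers (a * π))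
      (KaehlerDifferential.map A A R (Localization.Away (a * π))) := inferInstance
  have h1 : ∀ ω : Ω[R⁄A], ∃ k : ℕ, (a * π) ^ k • ω = 0 := by
    intro ω
    obtain ⟨r, ⟨k, rfl⟩, hr⟩ := (IsLocalizedModule.subsingleton_iff (Submonoid.powers (a * π))
      (KaehlerDifferential.map A A R (Localization.Away (a * π)))).mp hunr ω
    exact ⟨k, hr⟩
  obtain ⟨N, hN⟩ := exists_pow_smul_eq_zero (a * π) h1
  obtain ⟨c, hc⟩ := hdvd
  refine ⟨N, ?_⟩
  have hcop' : IsCoprime (a ^ N) π := by
    have : IsCoprime a π := by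
      rw [← Ideal.isCoprime_span_singleton_iff, Ideal.isCoprime_iff_sup_eq]
      exact hcop
    exact this.pow_left
  obtain ⟨u, v, huv⟩ := hcop'
  rw [Submodule.ideal_span_singleton_smul, Submodule.ideal_span_singleton_smul]
  rintro x ⟨ω, -, rfl⟩
  refine ⟨v • ω, trivial, ?_⟩
  have hkill : a ^ N • p ^ N • ω = 0 := by
    rw [hc, mul_pow, ← mul_smul, ← mul_assoc, ← mul_pow, mul_comm, mul_smul, hN, smul_zero]
  show (π * p ^ N) • (v • ω) = p ^ N • ω
  calc (π * p ^ N) • (v • ω) = (v * π) • (p ^ N • ω) := by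
        rw [← mul_smul, ← mul_smul]; congr 1; ring
    _ = (u * a ^ N + v * π) • (p ^ N • ω) := by
        rw [add_smul, mul_smul u, hkill, smul_zero, zero_add]
    _ = p ^ N • ω := by rw [huv, one_smul]

end Groth.Agent.Lib.Helper25.EtaEtale
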