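import Mathlib
import Groth.Agent.Lib.Helper4.SmoothTower

set_option autoImplicit false
universe u
open TensorProduct KaehlerDifferential

namespace Groth.Agent.Lib.Helper25.EtaleTowerRank

variable (K A T : Type u) [CommRing K] [CommRing A] [CommRing T] [Algebra K A] [Algebra A T]
  [Algebra K T] [IsScalarTower K A T]

/-- **Rank criterion**: in a tower `K → A → T` with `T` formally smooth over `K`, `Ω_{A/K}` and
`Ω_{T/K}` finite projective of the same rank at corresponding primes and `Ω_{T/A} = 0`, the algebra
`T` is formally étale over `A`. -/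
theorem formallyEtale_of_rankAtStalk_eq [Algebra.FormallySmooth K T]
    [Module.Finite A Ω[A⁄K]] [Module.Projective A Ω[A⁄K]]
    [Module.Finite T Ω[T⁄K]] [Module.Projective T Ω[T⁄K]]
    [Subsingleton Ω[T⁄A]]
    (h : ∀ (m : Ideal T) [m.IsMaximal],
      Module.rankAtStalk (Ω[A⁄K]) ((⟨m, inferInstance⟩ : PrimeSpectrum T).comap (algebraMap A T)) =
        Module.rankAtStalk (Ω[T⁄K]) ⟨m, inferInstance⟩) :
    Algebra.FormallyEtale A T := by
  have hex := KaehlerDifferential.exact_mapBaseChange_map K A T
  have hsurj : Function.Surjective (mapBaseChange K A T) := by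
    intro y
    exact (hex y).mp (Subsingleton.elim _ _)
  have hbij : Function.Bijective (mapBaseChange K A T) := by
    refine Module.bijective_of_surjective_of_rankAtStalk_eq hsurj fun m _ => ?_
    rw [Module.rankAtStalk_baseChange]
    exact h m
  let e := LinearEquiv.ofBijective (mapBaseChange K A T) hbij
  have hsm : Algebra.FormallySmooth A T := by
    rw [Groth.Agent.Lib.Helper4.formallySmooth_iff_split_mapBaseChange K A T]
    refine ⟨e.symm.toLinearMap, ?_⟩
    apply LinearMap.ext
    intro x
    exact e.symm_apply_apply x
  haveI : Algebra.FormallyUnramified A T := ⟨inferInstance⟩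
  exact Algebra.FormallyEtale.of_formallyUnramified_and_formallySmooth

end Groth.Agent.Lib.Helper25.EtaleTowerRank
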