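import Mathlib
import Groth.Agent.Lib.Helper25.EtaleTowerRank

set_option autoImplicit false
universe u
open TensorProduct KaehlerDifferential

namespace Groth.Agent.Lib.Helper25.EtaEtale

/-- **Lemma E**: tower `K → A' → R' → T` with `A'`, `R'` smooth over `K` of the same rank `d`
everywhere, `T` formally étale over `R'` and `Ω_{T/A'} = 0`: then `T` is formally étale over `A'`. -/
theorem formallyEtale_of_tower (K A' R' T : Type u) [CommRing K] [CommRing A'] [CommRing R']
    [CommRing T] [Algebra K A'] [Algebra K R'] [Algebra K T] [Algebra A' T]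
    [Algebra R' T] [IsScalarTower K A' T] [IsScalarTower K R' T]
    [Algebra.Smooth K A'] [Algebra.Smooth K R'] [Algebra.FormallyEtale R' T]
    [Subsingleton Ω[T⁄A']] (d : ℕ)
    (hA : ∀ q : PrimeSpectrum A', Module.rankAtStalk (Ω[A'⁄K]) q = d)
    (hR : ∀ q : PrimeSpectrum R', Module.rankAtStalk (Ω[R'⁄K]) q = d) :
    Algebra.FormallyEtale A' T := by
  haveI : Algebra.FormallySmooth K T := Algebra.FormallySmooth.comp K R' T
  have hbc := KaehlerDifferential.isBaseChange_of_formallyEtale K R' T
  haveI : Module.Finite T Ω[T⁄K] := Module.Finite.equiv hbc.equiv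
  haveI : Module.Projective T Ω[T⁄K] := Module.Projective.of_equiv hbc.equiv
  refine Groth.Agent.Lib.Helper25.EtaleTowerRank.formallyEtale_of_rankAtStalk_eq K A' T
    fun m _ => ?_
  rw [hA, Module.rankAtStalk_isBaseChange hbc, hR]

attribute [local instance] Algebra.TensorProduct.rightAlgebra

variable (V : Type u) [CommRing V] [IsDomain V]
  (A : Type u) [CommRing A] [Algebra V A]
  (R : Type u) [CommRing R] [Algebra V R] [Algebra A R] [IsScalarTower V A R]

/-- Main abstract step: `T` an `R`-algebra, formally étale over `R`, in which all nonzero elements of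
`V` are invertible, with `Ω_{T/A} = 0`; generic fibres smooth of the same rank. Then `T` is formally
étale over `A`. -/
theorem formallyEtale_of_generic_smooth (T : Type u) [CommRing T] [Algebra R T] [Algebra A T]
    [IsScalarTower A R T] [Algebra.FormallyEtale R T]
    (hunit : ∀ v : V, v ≠ 0 → IsUnit (algebraMap R T (algebraMap V R v)))
    [Subsingleton Ω[T⁄A]]
    [Algebra.Smooth (FractionRing V) (FractionRing V ⊗[V] A)]
    [Algebra.Smooth (FractionRing V) (FractionRing V ⊗[V] R)] (d : ℕ)
    (hA : ∀ q : PrimeSpectrum (FractionRing V ⊗[V] A),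
      Module.rankAtStalk (Ω[(FractionRing V ⊗[V] A)⁄(FractionRing V)]) q = d)
    (hR : ∀ q : PrimeSpectrum (FractionRing V ⊗[V] R),
      Module.rankAtStalk (Ω[(FractionRing V ⊗[V] R)⁄(FractionRing V)]) q = d) :
    Algebra.FormallyEtale A T := by
  let K := FractionRing V
  let A' := K ⊗[V] A
  let R' := K ⊗[V] R
  -- `R'` is a localization of `R`
  haveI hlocR : IsLocalization (Algebra.algebraMapSubmonoid R (nonZeroDivisors V)) R' :=
    IsLocalization.tensorRight K (nonZeroDivisors V)
  haveI hlocA : IsLocalization (Algebra.algebraMapSubmonoid A (nonZeroDivisors V)) A' :=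
    IsLocalization.tensorRight K (nonZeroDivisors V)
  haveI : Algebra.FormallyEtale R R' :=
    Algebra.FormallyEtale.of_isLocalization (Algebra.algebraMapSubmonoid R (nonZeroDivisors V))
  haveI : Algebra.FormallyEtale A A' :=
    Algebra.FormallyEtale.of_isLocalization (Algebra.algebraMapSubmonoid A (nonZeroDivisors V))
  -- the map `R' → T`
  have hunit' : ∀ y : Algebra.algebraMapSubmonoid R (nonZeroDivisors V),
      IsUnit ((Algebra.ofId R T) (y : R)) := by
    rintro ⟨_, v, hv, rfl⟩
    exact hunit v (nonZeroDivisors.ne_zero hv)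
  let ρ : R' →ₐ[R] T := IsLocalization.liftAlgHom
    (M := Algebra.algebraMapSubmonoid R (nonZeroDivisors V)) (f := Algebra.ofId R T) hunit'
  letI algR'T : Algebra R' T := ρ.toRingHom.toAlgebra
  haveI : IsScalarTower R R' T := IsScalarTower.of_algebraMap_eq fun x => (ρ.commutes x).symm
  haveI : Algebra.FormallyEtale R' T := Algebra.FormallyEtale.of_restrictScalars (R := R) (A := R') (B := T)
  -- the map `A' → R'`
  let φ : A' →ₐ[K] R' := Algebra.TensorProduct.map (AlgHom.id K K) (IsScalarTower.toAlgHom V A R)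
  letI algA'T : Algebra A' T := (ρ.toRingHom.comp φ.toRingHom).toAlgebra
  letI algKT : Algebra K T := ((algebraMap R' T).comp (algebraMap K R')).toAlgebra
  haveI : IsScalarTower K R' T := by
    exact IsScalarTower.of_algebraMap_eq (R := K) (S := R') (A := T) fun x => rfl
  haveI : IsScalarTower K A' T := by
    refine IsScalarTower.of_algebraMap_eq (R := K) (S := A') (A := T) fun x => ?_
    show ρ (algebraMap K R' x) = ρ (φ (algebraMap K A' x))
    rw [φ.commutes]
  haveI : IsScalarTower A A' T := IsScalarTower.of_algebraMap_eq fun x => by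
    show algebraMap A T x = ρ (φ (1 ⊗ₜ x))
    have h1 : φ (1 ⊗ₜ x) = algebraMap R R' (algebraMap A R x) := by
      rw [Algebra.TensorProduct.right_algebraMap_apply]
      simp only [φ]
      rfl
    rw [h1, ρ.commutes, IsScalarTower.algebraMap_apply A R T]
  haveI : Subsingleton Ω[T⁄A'] := by
    have hs := KaehlerDifferential.map_surjective A A' T
    exact hs.subsingleton
  haveI : Algebra.FormallyEtale A' T := formallyEtale_of_tower K A' R' T d hA hR
  exact Algebra.FormallyEtale.comp A A' T


/-- Part 2 of `S14383`. -/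
theorem exists_etale_of_pow_smul_le [IsDiscreteValuationRing V] (ϖ : V) (hϖ : Irreducible ϖ)
    [Algebra.FiniteType V A] [Algebra.FiniteType V R] (pV : V) (hpV : pV ≠ 0)
    [Algebra.Smooth (FractionRing V) (FractionRing V ⊗[V] A)]
    [Algebra.Smooth (FractionRing V) (FractionRing V ⊗[V] R)] (d : ℕ)
    (hA : ∀ q : PrimeSpectrum (FractionRing V ⊗[V] A),
      Module.rankAtStalk (Ω[(FractionRing V ⊗[V] A)⁄(FractionRing V)]) q = d)
    (hR : ∀ q : PrimeSpectrum (FractionRing V ⊗[V] R),
      Module.rankAtStalk (Ω[(FractionRing V ⊗[V] R)⁄(FractionRing V)]) q = d)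
    (n : ℕ)
    (hn : Ideal.span {(algebraMap V R pV) ^ n} • (⊤ : Submodule R (Ω[R⁄A])) ≤
      Ideal.span {algebraMap V R ϖ * (algebraMap V R pV) ^ n} • (⊤ : Submodule R (Ω[R⁄A]))) :
    ∃ a : R, Ideal.span {a} ⊔ Ideal.span {algebraMap V R ϖ} = ⊤ ∧
      Algebra.Etale A (Localization.Away (a * algebraMap V R ϖ)) := by
  haveI : IsNoetherianRing R := Algebra.FiniteType.isNoetherianRing V R
  haveI : IsNoetherianRing A := Algebra.FiniteType.isNoetherianRing V A
  haveI : Algebra.FiniteType A R := Algebra.FiniteType.of_restrictScalars_finiteType V A R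
  haveI : Module.Finite R Ω[R⁄A] := inferInstance
  set π : R := algebraMap V R ϖ with hπ
  set p : R := algebraMap V R pV with hp
  set M : Submodule R (Ω[R⁄A]) := Ideal.span {p ^ n} • ⊤ with hM
  have hMfg : M.FG := IsNoetherian.noetherian M
  have hle : M ≤ Ideal.span {π} • M := by
    rw [hM, ← Submodule.mul_smul, Ideal.span_singleton_mul_span_singleton]
    exact hn
  obtain ⟨a, ha1, haM⟩ := Submodule.exists_sub_one_mem_and_smul_eq_zero_of_fg_of_le_smul
    (Ideal.span {π}) M hMfg hle
  refine ⟨a, ?_, ?_⟩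
  · rw [Ideal.eq_top_iff_one, Submodule.mem_sup]
    refine ⟨a, Ideal.mem_span_singleton_self a, -(a - 1), neg_mem ha1, by ring⟩
  set T := Localization.Away (a * π) with hT
  have haπ : IsUnit (algebraMap R T (a * π)) := IsLocalization.Away.algebraMap_isUnit (a * π)
  rw [map_mul] at haπ
  have hπT : IsUnit (algebraMap R T π) := isUnit_of_mul_isUnit_right haπ
  have haT : IsUnit (algebraMap R T a) := isUnit_of_mul_isUnit_left haπ
  -- decomposition of nonzero elements of `V`
  have hdec : ∀ v : V, v ≠ 0 → ∃ (k : ℕ) (u : R), IsUnit u ∧ algebraMap V R v = u * π ^ k := by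
    intro v hv
    obtain ⟨k, u, rfl⟩ := IsDiscreteValuationRing.eq_unit_mul_pow_irreducible hv hϖ
    exact ⟨k, algebraMap V R (u : V), (u.isUnit.map (algebraMap V R)), by rw [map_mul, map_pow]⟩
  have hunit : ∀ v : V, v ≠ 0 → IsUnit (algebraMap R T (algebraMap V R v)) := by
    intro v hv
    obtain ⟨k, u, hu, hvk⟩ := hdec v hv
    rw [hvk, map_mul, map_pow]
    exact (hu.map (algebraMap R T)).mul (hπT.pow k)
  haveI : Subsingleton Ω[T⁄A] := by
    rw [IsLocalizedModule.subsingleton_iff (Submonoid.powers (a * π))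
      (KaehlerDifferential.map A A R T)]
    intro ω
    obtain ⟨k, u, hu, hpk⟩ := hdec pV hpV
    have h1 : a • (p ^ n • ω) = 0 := haM _ (by
      rw [hM, Submodule.ideal_span_singleton_smul]
      exact ⟨ω, trivial, rfl⟩)
    have h2 : (a * π ^ (k * n)) • ω = 0 := by
      obtain ⟨u', rfl⟩ := hu
      have h3 : p ^ n = (u' : R) ^ n * π ^ (k * n) := by
        rw [hp, hpk, mul_pow, ← pow_mul]
      rw [h3, ← mul_smul] at h1
      have h4 : ((u'⁻¹ : Rˣ) : R) ^ n • ((a * ((u' : R) ^ n * π ^ (k * n))) • ω) = 0 := by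
        rw [h1, smul_zero]
      rw [← mul_smul] at h4
      have h5 : ((u'⁻¹ : Rˣ) : R) ^ n * (a * ((u' : R) ^ n * π ^ (k * n))) = a * π ^ (k * n) := by
        have : ((u'⁻¹ : Rˣ) : R) ^ n * (u' : R) ^ n = 1 := by
          rw [← mul_pow, Units.inv_mul, one_pow]
        calc ((u'⁻¹ : Rˣ) : R) ^ n * (a * ((u' : R) ^ n * π ^ (k * n)))
            = (((u'⁻¹ : Rˣ) : R) ^ n * (u' : R) ^ n) * (a * π ^ (k * n)) := by ring
          _ = a * π ^ (k * n) := by rw [this, one_mul]
      rwa [h5] at h4
    refine ⟨(a * π) ^ (k * n + 1), ⟨k * n + 1, rfl⟩, ?_⟩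
    have h6 : (a * π) ^ (k * n + 1) = (a ^ (k * n) * π) * (a * π ^ (k * n)) := by ring
    rw [h6, mul_smul, h2, smul_zero]
  haveI : Algebra.FormallyEtale A T := formallyEtale_of_generic_smooth V A R T hunit d hA hR
  haveI : Algebra.FinitePresentation A R := Algebra.FinitePresentation.of_finiteType.mp inferInstance
  haveI : Algebra.FinitePresentation A T := Algebra.FinitePresentation.trans A R T
  exact {}

end Groth.Agent.Lib.Helper25.EtaEtale
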