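import Mathlib
import Groth.Agent.Lib.Helper25.EtaleAtPoly
import Groth.Agent.Lib.Helper25.AdaptedGerms
import Groth.Agent.Lib.Helper23.FieldSep3

/-!
EGA IV 17.15-type criterion: étale at `p` over `k[T_1..T_n]` iff the first `r = dim A_p` coordinates
generate the maximal ideal and the differentials of the residues of the others span `Ω_{κ(p)/k}`.
(helper25)
-/

set_option autoImplicit false
set_option linter.unusedSectionVars false
universe u
open TensorProduct KaehlerDifferential IsLocalRing

namespace Groth.Agent.Lib.Helper25.EtaleAtPoly

/-- A family spanning a module spans the fibre. -/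
theorem span_tmul_eq_top_of_span_eq_top {B : Type*} [CommRing B] [IsLocalRing B]
    {M : Type*} [AddCommGroup M] [Module B M] {ι : Type*} (ω : ι → M)
    (h : Submodule.span B (Set.range ω) = ⊤) :
    Submodule.span (ResidueField B) (Set.range fun i => (1 : ResidueField B) ⊗ₜ[B] ω i) = ⊤ := by
  rw [eq_top_iff]
  rintro z -
  induction z using TensorProduct.induction_on with
  | zero => exact Submodule.zero_mem _
  | add x y hx hy => exact Submodule.add_mem _ hx hy
  | tmul c m =>
    have hm : m ∈ Submodule.span B (Set.range ω) := by rw [h]; trivial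
    induction hm using Submodule.span_induction with
    | mem y hy =>
      obtain ⟨i, rfl⟩ := hy
      have : c ⊗ₜ[B] ω i = c • ((1 : ResidueField B) ⊗ₜ[B] ω i) := by
        rw [TensorProduct.smul_tmul', smul_eq_mul, mul_one]
      rw [this]
      exact Submodule.smul_mem _ _ (Submodule.subset_span ⟨i, rfl⟩)
    | zero => rw [TensorProduct.tmul_zero]; exact Submodule.zero_mem _
    | add y z _ _ hy hz => rw [TensorProduct.tmul_add]; exact Submodule.add_mem _ hy hz
    | smul b y _ hy =>
      rw [TensorProduct.tmul_smul, ← algebraMap_smul (ResidueField B) b]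
      exact Submodule.smul_mem _ _ hy

variable (k A : Type u) [Field k] [CommRing A] [Algebra k A] [Algebra.FiniteType k A] (n r : ℕ)
  [Algebra (MvPolynomial (Fin n) k) A] [IsScalarTower k (MvPolynomial (Fin n) k) A]
  (p : Ideal A) [p.IsPrime]

theorem isEtaleAt_iff_parameters
    (hn : FlatMor.localDim (PrimeSpectrum A) ⟨p, inferInstance⟩ = (n : WithBot ℕ∞))
    (hr : ringKrullDim (Localization.AtPrime p) = (r : WithBot ℕ∞))
    (hg : ∀ i : Fin n, (i : ℕ) < r → algebraMap (MvPolynomial (Fin n) k) A (MvPolynomial.X i) ∈ p) :
    Algebra.IsEtaleAt (MvPolynomial (Fin n) k) p ↔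
      Ideal.span ((fun i : Fin n =>
          algebraMap A (Localization.AtPrime p) (algebraMap (MvPolynomial (Fin n) k) A (MvPolynomial.X i))) ''
            {i : Fin n | (i : ℕ) < r}) = IsLocalRing.maximalIdeal (Localization.AtPrime p) ∧
        Submodule.span p.ResidueField ((fun i : Fin n =>
          KaehlerDifferential.D k p.ResidueField
            (IsLocalRing.residue (Localization.AtPrime p)
              (algebraMap A (Localization.AtPrime p) (algebraMap (MvPolynomial (Fin n) k) A (MvPolynomial.X i))))) ''
            {i : Fin n | r ≤ (i : ℕ)}) = ⊤ := by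
  have : IsNoetherianRing A := Algebra.FiniteType.isNoetherianRing k A
  have : IsNoetherianRing (Localization.AtPrime p) :=
    IsLocalization.isNoetherianRing p.primeCompl _ inferInstance
  have hess : Algebra.EssFiniteType k (Localization.AtPrime p) := Algebra.EssFiniteType.comp k A _
  obtain ⟨a, ha⟩ := Groth.Agent.Lib.Helper25.FieldKaehlerSep.exists_nat_trdeg k p.ResidueField
  have hnar : n = a + r := by
    have h := Groth.Agent.Lib.Helper25.LocalDimRing.localDim_eq_add k A p a r ha hr
    rw [hn] at h
    exact_mod_cast h
  set g : Fin n → Localization.AtPrime p := fun i =>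
    algebraMap A (Localization.AtPrime p) (algebraMap (MvPolynomial (Fin n) k) A (MvPolynomial.X i))
    with hgdef
  have hgm : ∀ i : Fin n, (i : ℕ) < r → g i ∈ maximalIdeal (Localization.AtPrime p) := by
    intro i hi
    exact (IsLocalization.AtPrime.to_map_mem_maximal_iff (Localization.AtPrime p) p _).mpr (hg i hi)
  rw [isEtaleAt_iff_span_eq_top k A p n hn]
  change Submodule.span (Localization.AtPrime p) (Set.range fun i : Fin n =>
      D k (Localization.AtPrime p) (g i)) = ⊤ ↔
    Ideal.span (g '' {i : Fin n | (i : ℕ) < r}) = maximalIdeal (Localization.AtPrime p) ∧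
      Submodule.span (ResidueField (Localization.AtPrime p)) ((fun i : Fin n =>
        D k (ResidueField (Localization.AtPrime p)) (residue (Localization.AtPrime p) (g i))) ''
          {i : Fin n | r ≤ (i : ℕ)}) = ⊤
  constructor
  · intro hspan
    refine ⟨?_, Groth.Agent.Lib.Helper25.LocalKaehler.span_D_residue_eq_top k
      (Localization.AtPrime p) g hgm hspan⟩
    -- `A_p` is formally smooth over `k`, hence regular
    have het : Algebra.IsEtaleAt (MvPolynomial (Fin n) k) p :=
      (isEtaleAt_iff_span_eq_top k A p n hn).mpr hspan
    have het' : Algebra.FormallyEtale (MvPolynomial (Fin n) k) (Localization.AtPrime p) := het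
    have hfsP : Algebra.FormallySmooth k (MvPolynomial (Fin n) k) := inferInstance
    have hfs : Algebra.FormallySmooth k (Localization.AtPrime p) :=
      Algebra.FormallySmooth.comp k (MvPolynomial (Fin n) k) (Localization.AtPrime p)
    have hreg : IsRegularLocalRing (Localization.AtPrime p) :=
      Groth.Agent.Lib.Helper23.FieldSep.isRegularLocalRing_of_formallySmooth_field k _
    have hcot : Module.finrank (ResidueField (Localization.AtPrime p))
        (CotangentSpace (Localization.AtPrime p)) = r := by
      have := (IsRegularLocalRing.iff_finrank_cotangentSpace (Localization.AtPrime p)).mp hreg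
      rw [hr] at this
      exact_mod_cast this
    -- the fibre of `Ω` has dimension `n`
    have hsm : Algebra.IsSmoothAt k p := hfs
    have h2 := Groth.Agent.Lib.Helper25.SmoothLocalDim.finrank_eq_localDim_of_isSmoothAt k A p hsm
    rw [hn] at h2
    have h3 : Module.finrank p.ResidueField (p.ResidueField ⊗[A] Ω[A⁄k]) = n := by
      exact_mod_cast h2
    rw [← finrank_fibre_eq] at h3
    have hsp := span_tmul_eq_top_of_span_eq_top (B := Localization.AtPrime p)
      (fun i : Fin n => D k (Localization.AtPrime p) (g i)) hspan
    have hli : LinearIndependent (ResidueField (Localization.AtPrime p))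
        fun i : Fin n => (1 : ResidueField (Localization.AtPrime p)) ⊗ₜ[Localization.AtPrime p]
          D k (Localization.AtPrime p) (g i) :=
      linearIndependent_of_top_le_span_of_card_eq_finrank hsp.ge
        (by rw [Fintype.card_fin]; exact h3.symm)
    exact Groth.Agent.Lib.Helper25.LocalKaehler.span_eq_maximalIdeal_of_linearIndependent k
      (Localization.AtPrime p) (by omega) g hgm hcot hli
  · rintro ⟨h1, h2⟩
    have h3 := Groth.Agent.Lib.Helper25.LocalKaehler.span_tmul_D_eq_top k
      (Localization.AtPrime p) g h1 h2
    exact Groth.Agent.Lib.Helper25.LocalKaehler.span_eq_top_of_span_tmul_eq_top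
      (Localization.AtPrime p) (fun i : Fin n => D k (Localization.AtPrime p) (g i)) h3

end Groth.Agent.Lib.Helper25.EtaleAtPoly
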