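import Mathlib
import Groth.Agent.Lib.Helper25.EtaleCoord
import Groth.Agent.Lib.Helper25.JacobianCrit4

/-!
# Étale coordinates vanishing along a section (helper25)

`exists_etale_coordinates_of_section`: `B` a finitely presented `A`-algebra, `J` an ideal with
`A → B ⧸ J` surjective, `q` a prime at which `B` is smooth over `A`.  Then there are `g ∉ q` and
finitely many `b i ∈ J` such that `A[T_i] → B_g, T_i ↦ b i` is étale.
-/

set_option autoImplicit false
universe u

open TensorProduct KaehlerDifferential IsLocalRing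

namespace Groth.Agent.Lib.Helper25.SectionEtale

open Groth.Agent.Lib.Helper25.JacobianCrit

theorem exists_etale_coordinates_of_section {A B : Type u} [CommRing A] [CommRing B] [Algebra A B]
    [Algebra.FinitePresentation A B] (J : Ideal B)
    (hsurj : Function.Surjective ((Ideal.Quotient.mk J).comp (algebraMap A B)))
    (q : Ideal B) [q.IsPrime] [Algebra.IsSmoothAt A q] :
    ∃ (g : B) (n : ℕ) (b : ULift.{u} (Fin n) → B), g ∉ q ∧ (∀ i, b i ∈ J) ∧
      ∀ (B' : Type u) [CommRing B'] [Algebra B B'] [IsLocalization.Away g B'] [Algebra A B']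
        [IsScalarTower A B B'],
        (MvPolynomial.aeval (fun i => algebraMap B B' (b i)) :
          MvPolynomial (ULift.{u} (Fin n)) A →ₐ[A] B').toRingHom.Etale := by
  classical
  have hspan := span_one_tmul_D_eq_top A q.ResidueField J hsurj
  obtain ⟨n, b₀, hb₀J, hli₀, hsp₀⟩ := exists_fin_basis_of_span_image
    (fun x : B => (1 : q.ResidueField) ⊗ₜ[B] D A B x) (J : Set B) hspan
  set b : ULift.{u} (Fin n) → B := fun i => b₀ i.down with hb
  have hbJ : ∀ i, b i ∈ J := fun i => hb₀J i.down
  have hli : LinearIndependent q.ResidueField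
      fun i : ULift.{u} (Fin n) => (1 : q.ResidueField) ⊗ₜ[B] D A B (b i) :=
    hli₀.comp _ Equiv.ulift.injective
  have hsp : Submodule.span q.ResidueField
      (Set.range fun i : ULift.{u} (Fin n) => (1 : q.ResidueField) ⊗ₜ[B] D A B (b i)) = ⊤ := by
    rw [← hsp₀]
    congr 1
    ext v
    constructor
    · rintro ⟨i, rfl⟩
      exact ⟨i.down, rfl⟩
    · rintro ⟨i, rfl⟩
      exact ⟨⟨i⟩, rfl⟩
  letI algP : Algebra (MvPolynomial (ULift.{u} (Fin n)) A) B := (MvPolynomial.aeval b).toAlgebra
  haveI : IsScalarTower A (MvPolynomial (ULift.{u} (Fin n)) A) B :=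
    IsScalarTower.of_algebraMap_eq' (MvPolynomial.aeval b).comp_algebraMap.symm
  have hX : ∀ i, algebraMap (MvPolynomial (ULift.{u} (Fin n)) A) B (MvPolynomial.X i) = b i :=
    fun i => MvPolynomial.aeval_X b i
  haveI : Algebra.IsEtaleAt (MvPolynomial (ULift.{u} (Fin n)) A) q :=
    isEtaleAt_mvPolynomial_of_basis A b hX q hli hsp
  haveI : Algebra.FinitePresentation (MvPolynomial (ULift.{u} (Fin n)) A) B :=
    Algebra.FinitePresentation.of_restrict_scalars_finitePresentation A _ _
  obtain ⟨g, hgq, hEt⟩ :=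
    Algebra.exists_etale_of_isEtaleAt (R := MvPolynomial (ULift.{u} (Fin n)) A) q
  refine ⟨g, n, b, hgq, hbJ, ?_⟩
  intro B' _ _ _ _ _
  letI algPB' : Algebra (MvPolynomial (ULift.{u} (Fin n)) A) B' :=
    ((algebraMap B B').comp (algebraMap (MvPolynomial (ULift.{u} (Fin n)) A) B)).toAlgebra
  haveI : IsScalarTower (MvPolynomial (ULift.{u} (Fin n)) A) B B' :=
    IsScalarTower.of_algebraMap_eq' rfl
  let e' : Localization.Away g ≃ₐ[B] B' := IsLocalization.algEquiv (Submonoid.powers g) _ _
  haveI : Algebra.Etale (MvPolynomial (ULift.{u} (Fin n)) A) B' :=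
    Algebra.Etale.of_equiv (e'.restrictScalars (MvPolynomial (ULift.{u} (Fin n)) A))
  have h := RingHom.etale_algebraMap.mpr
    (inferInstance : Algebra.Etale (MvPolynomial (ULift.{u} (Fin n)) A) B')
  convert h using 1
  apply MvPolynomial.ringHom_ext
  · intro a
    rw [AlgHom.toRingHom_eq_coe, RingHom.coe_coe, MvPolynomial.aeval_C,
      IsScalarTower.algebraMap_apply (MvPolynomial (ULift.{u} (Fin n)) A) B B',
      IsScalarTower.algebraMap_apply A B B']
    congr 1
    change _ = (MvPolynomial.aeval b) (MvPolynomial.C a)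
    rw [MvPolynomial.aeval_C]
  · intro i
    rw [AlgHom.toRingHom_eq_coe, RingHom.coe_coe, MvPolynomial.aeval_X,
      IsScalarTower.algebraMap_apply (MvPolynomial (ULift.{u} (Fin n)) A) B B', hX]

end Groth.Agent.Lib.Helper25.SectionEtale
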