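import Mathlib

/-!
# Étale morphisms to affine space over an affine base (helper25)

`etale_homOfVector_of_etale`: for affine `X`, `S`, a morphism `g : X ⟶ S` and functions `v i` on `X`,
the morphism `X ⟶ 𝔸(n; S)` is étale as soon as the ring map `Γ(S)[T_i] → Γ(X)` is.
-/

set_option autoImplicit false
universe u

open CategoryTheory AlgebraicGeometry

namespace Groth.Agent.Lib.Helper25.SectionEtale

theorem etale_homOfVector_of_etale {n : Type u} {S X : Scheme.{u}} [IsAffine S] [IsAffine X]
    (g : X ⟶ S) (v : n → Γ(X, ⊤))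
    (h : (MvPolynomial.eval₂Hom g.appTop.hom v).Etale) : Etale (AffineSpace.homOfVector g v) := by
  rw [← MorphismProperty.cancel_right_of_respectsIso @Etale _ (AffineSpace.isoOfIsAffine n S).hom,
    HasRingHomProperty.iff_of_isAffine (P := @Etale)]
  rw [Scheme.Hom.comp_appTop, AffineSpace.isoOfIsAffine_hom_appTop, Category.assoc,
    CommRingCat.hom_comp, RingHom.Etale.respectsIso.cancel_left_isIso]
  have heq : (CommRingCat.ofHom (MvPolynomial.eval₂Hom ((𝔸(n; S) ↘ S).appTop).hom
      (AffineSpace.coord S)) ≫ (AffineSpace.homOfVector g v).appTop).hom =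
      MvPolynomial.eval₂Hom g.appTop.hom v := by
    apply MvPolynomial.ringHom_ext
    · intro r
      simp only [CommRingCat.hom_comp, CommRingCat.hom_ofHom, RingHom.comp_apply,
        MvPolynomial.coe_eval₂Hom, MvPolynomial.eval₂_C]
      rw [← CommRingCat.comp_apply, ← Scheme.Hom.comp_appTop, AffineSpace.homOfVector_over]
    · intro i
      simp only [CommRingCat.hom_comp, CommRingCat.hom_ofHom, RingHom.comp_apply,
        MvPolynomial.coe_eval₂Hom, MvPolynomial.eval₂_X]
      exact AffineSpace.homOfVector_appTop_coord g v i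
  rw [heq]
  exact h

end Groth.Agent.Lib.Helper25.SectionEtale
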