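import Mathlib
import Groth.Prelude.Def_Mor2
import Groth.Agent.Lib.Helper25.SectionRegular
import Groth.Agent.Helper19.RegNear

/-!
# A section of a smooth morphism which is a closed immersion is a regular closed immersion (helper25)
-/

set_option autoImplicit false
universe u

open CategoryTheory CategoryTheory.Limits AlgebraicGeometry TopologicalSpace

namespace Groth.Agent.Lib.Helper25.SectionRegular

theorem bijective_mk_ker_comp {A B C : Type*} [CommRing A] [CommRing B] [CommRing C]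
    (φ : A →+* B) (π : B →+* C) (_hπ : Function.Surjective π)
    (hcomp : Function.Bijective (π.comp φ)) :
    Function.Bijective ((Ideal.Quotient.mk (RingHom.ker π)).comp φ) := by
  constructor
  · rw [injective_iff_map_eq_zero]
    intro a ha
    rw [RingHom.comp_apply, Ideal.Quotient.eq_zero_iff_mem, RingHom.mem_ker] at ha
    exact (injective_iff_map_eq_zero _).mp hcomp.1 a ha
  · intro y
    obtain ⟨b, rfl⟩ := Ideal.Quotient.mk_surjective y
    obtain ⟨a, ha⟩ := hcomp.2 (π b)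
    refine ⟨a, ?_⟩
    rw [RingHom.comp_apply, Ideal.Quotient.eq, RingHom.mem_ker, map_sub]
    rw [RingHom.comp_apply] at ha
    rw [ha, sub_self]

/-- the identity restricted to equal opens is bijective on sections -/
theorem bijective_appLE_of_eq_id {S : Scheme.{u}} (h : S ⟶ S) (hh : h = 𝟙 S) (V W : S.Opens)
    (hVW : W = V) (e : W ≤ h ⁻¹ᵁ V) : Function.Bijective (h.appLE V W e).hom := by
  subst hh
  subst hVW
  have : (𝟙 S : S ⟶ S).appLE W W e = 𝟙 _ := by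
    simp only [Scheme.Hom.appLE, Scheme.Hom.id_app]
    exact S.presheaf.map_id _
  rw [this]
  exact Function.bijective_id

theorem isRegularClosedImmersion_of_section {X S : Scheme.{u}} (f : X ⟶ S) [Smooth f] (σ : S ⟶ X)
    (hσ : σ ≫ f = 𝟙 S) [IsClosedImmersion σ] : Mor2.IsRegularClosedImmersion σ := by
  refine ⟨inferInstance, fun z => ?_⟩
  have hpt : ∀ w : S, f (σ w) = w := fun w => by
    rw [← Scheme.Hom.comp_apply, hσ]; rfl
  -- affine open `V ∋ z`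
  obtain ⟨_, ⟨V, hV, rfl⟩, hzV, -⟩ :=
    S.isBasis_affineOpens.exists_subset_of_mem_open (Set.mem_univ z) isOpen_univ
  have hV' : IsAffineOpen V := hV
  -- affine open `U₀ ∋ σ z` inside `f ⁻¹ V`
  have hx0 : σ z ∈ f ⁻¹ᵁ V := by
    show f (σ z) ∈ V
    rw [hpt]; exact hzV
  obtain ⟨_, ⟨U₀, hU₀, rfl⟩, hxU₀, hle₀⟩ :=
    X.isBasis_affineOpens.exists_subset_of_mem_open hx0 (f ⁻¹ᵁ V).2
  have hU₀' : IsAffineOpen U₀ := hU₀
  have hle₀' : U₀ ≤ f ⁻¹ᵁ V := hle₀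
  -- basic open `D(a) ⊆ σ⁻¹ U₀`
  obtain ⟨a, haW, hza⟩ := hV'.exists_basicOpen_le (V := σ ⁻¹ᵁ U₀) ⟨z, hxU₀⟩ hzV
  set V' : S.Opens := S.basicOpen a with hV'def
  have hV'aff : IsAffineOpen V' := hV'.basicOpen a
  set U₁ : X.Opens := X.basicOpen ((f.appLE V U₀ hle₀').hom a) with hU₁def
  have hU₁aff : IsAffineOpen U₁ := hU₀'.basicOpen _
  have hU₁eq : U₁ = U₀ ⊓ f ⁻¹ᵁ V' := Scheme.basicOpen_appLE f U₀ V hle₀' a
  have hle₁ : U₁ ≤ f ⁻¹ᵁ V' := by rw [hU₁eq]; exact inf_le_right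
  have hpre : σ ⁻¹ᵁ U₁ = V' := by
    ext w
    rw [hU₁eq]
    constructor
    · rintro ⟨-, h2⟩
      have h3 : f (σ w) ∈ V' := h2
      rwa [hpt] at h3
    · intro hw
      refine ⟨haW hw, ?_⟩
      show f (σ w) ∈ V'
      rwa [hpt]
  have hxU₁ : σ z ∈ U₁ := by
    have : z ∈ σ ⁻¹ᵁ U₁ := by rw [hpre]; exact hza
    exact this
  -- the algebra
  let φ : Γ(S, V') →+* Γ(X, U₁) := (f.appLE V' U₁ hle₁).hom
  let π : Γ(X, U₁) →+* Γ(S, σ ⁻¹ᵁ U₁) := (σ.app U₁).hom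
  have hφ : φ.Smooth := HasRingHomProperty.appLE (P := @Smooth) f inferInstance ⟨V', hV'aff⟩
    ⟨U₁, hU₁aff⟩ hle₁
  have hπ : Function.Surjective π := σ.app_surjective U₁ hU₁aff
  have hcomp : Function.Bijective (π.comp φ) := by
    have h1 : f.appLE V' U₁ hle₁ ≫ σ.app U₁ =
        (σ ≫ f).appLE V' (σ ⁻¹ᵁ U₁) (by rw [hσ, hpre]; exact le_rfl) := by
      rw [Scheme.Hom.app_eq_appLE, Scheme.Hom.appLE_comp_appLE]
    have h2 : π.comp φ = (f.appLE V' U₁ hle₁ ≫ σ.app U₁).hom := rfl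
    rw [h2, h1]
    exact bijective_appLE_of_eq_id (σ ≫ f) hσ V' (σ ⁻¹ᵁ U₁) hpre _
  letI : Algebra Γ(S, V') Γ(X, U₁) := φ.toAlgebra
  haveI : Algebra.Smooth Γ(S, V') Γ(X, U₁) := hφ
  have hker : σ.ker.ideal ⟨U₁, hU₁aff⟩ = RingHom.ker π := by
    rw [Scheme.Hom.ker_apply]
  have hbij : Function.Bijective ((Ideal.Quotient.mk (σ.ker.ideal ⟨U₁, hU₁aff⟩)).comp
      (algebraMap Γ(S, V') Γ(X, U₁))) := by
    rw [hker]
    exact bijective_mk_ker_comp φ π hπ hcomp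
  have hJq : σ.ker.ideal ⟨U₁, hU₁aff⟩ ≤ (hU₁aff.primeIdealOf ⟨σ z, hxU₁⟩).asIdeal := fun a ha =>
    Groth.Agent.Helper19.RegNear.mem_primeIdealOf_of_mem_ker σ z U₁ hU₁aff hxU₁ a ha
  obtain ⟨g, n, b, hgq, hbJ, hmain⟩ := exists_regular_of_section (σ.ker.ideal ⟨U₁, hU₁aff⟩) hbij
    (hU₁aff.primeIdealOf ⟨σ z, hxU₁⟩).asIdeal hJq
  have hxg : σ z ∈ X.basicOpen g := by
    by_contra hn
    exact hgq ((Groth.Agent.Helper19.QuasiRegScheme.mem_primeIdealOf_iff hU₁aff (σ z) hxU₁ g).mpr hn)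
  haveI hloc : IsLocalization.Away g Γ(X, X.basicOpen g) := hU₁aff.isLocalization_basicOpen g
  obtain ⟨hreg, hideal⟩ := hmain Γ(X, X.basicOpen g)
  have h2 : Ideal.map (algebraMap Γ(X, U₁) Γ(X, X.basicOpen g)) (σ.ker.ideal ⟨U₁, hU₁aff⟩) =
      σ.ker.ideal (X.affineBasicOpen g) := σ.ker.map_ideal_basicOpen ⟨U₁, hU₁aff⟩ g
  refine ⟨X.basicOpen g, hU₁aff.basicOpen g, hxg,
    List.ofFn fun i => algebraMap Γ(X, U₁) Γ(X, X.basicOpen g) (b i), ⟨hreg, ?_⟩, ?_⟩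
  · intro htop
    have h1 : σ.ker.ideal (X.affineBasicOpen g) = ⊤ := by
      rw [← h2, hideal]
      have h3 : (Ideal.ofList (List.ofFn fun i => algebraMap Γ(X, U₁) Γ(X, X.basicOpen g) (b i)) • ⊤ :
          Submodule Γ(X, X.basicOpen g) Γ(X, X.basicOpen g)) =
          Ideal.ofList (List.ofFn fun i => algebraMap Γ(X, U₁) Γ(X, X.basicOpen g) (b i)) := by
        rw [smul_eq_mul, Ideal.mul_top]
      rw [← h3]
      exact htop.symm
    have h3 : (1 : Γ(X, X.basicOpen g)) ∈ σ.ker.ideal (X.affineBasicOpen g) := by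
      rw [h1]; trivial
    rw [Scheme.Hom.ker_apply] at h3
    have h3' : (σ.app (X.basicOpen g)).hom 1 = 0 := RingHom.mem_ker.mp h3
    rw [map_one] at h3'
    have h4 : z ∈ S.basicOpen (1 : Γ(S, σ ⁻¹ᵁ X.basicOpen g)) := by
      rw [Scheme.basicOpen_of_isUnit _ isUnit_one]
      exact hxg
    rw [h3', Scheme.basicOpen_zero] at h4
    exact h4
  · show σ.ker.ideal (X.affineBasicOpen g) = _
    rw [← h2, hideal]

end Groth.Agent.Lib.Helper25.SectionRegular
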