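import Mathlib
import Groth.Agent.Lib.Helper25.SectionEtale1
import Groth.Agent.Lib.Helper25.SectionEtale2
import Groth.Agent.Lib.Helper25.SectionRegularScheme
import Groth.Agent.Lib.Helper21.WittGrpLib

/-!
# Smoothness at a point of a section and étale charts carrying the section to the zero section
(helper25)
-/

set_option autoImplicit false
universe u

open CategoryTheory CategoryTheory.Limits AlgebraicGeometry TopologicalSpace

namespace Groth.Agent.Lib.Helper25.SectionEtale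

open Groth.Agent.Lib.Helper25.SectionRegular

theorem isOpenImmersion_affineSpace_map (n : Type u) {S T : Scheme.{u}} (f : S ⟶ T)
    [IsOpenImmersion f] : IsOpenImmersion (AffineSpace.map n f) :=
  MorphismProperty.of_isPullback (P := @IsOpenImmersion) (AffineSpace.isPullback_map f).flip inferInstance

/-- the easy direction -/
theorem mem_smoothLocus_of_etale_chart {X Y : Scheme.{u}} (f : X ⟶ Y)
    [LocallyOfFinitePresentation f] (i : Y ⟶ X) (y : Y)
    (U : Y.Opens) (V : X.Opens) (hyU : y ∈ U) (hUV : U ≤ i ⁻¹ᵁ V) (hVU : V ≤ f ⁻¹ᵁ U) (m : ℕ)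
    (v : ULift.{u} (Fin m) → Γ(V, ⊤))
    (hEt : Etale (AffineSpace.homOfVector (f.resLE U V hVU) v)) : i y ∈ f.smoothLocus := by
  haveI := hEt
  haveI : Smooth (𝔸(ULift.{u} (Fin m); (U : Scheme.{u})) ↘ (U : Scheme.{u})) :=
    Groth.Agent.Lib.Helper21.WG.smooth_affineSpace_over _ _
  haveI hsm : Smooth (f.resLE U V hVU) := by
    rw [← AffineSpace.homOfVector_over (f.resLE U V hVU) v]
    infer_instance
  haveI hsm2 : Smooth (V.ι ≫ f) := by
    rw [← Scheme.Hom.resLE_comp_ι f hVU]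
    infer_instance
  have hiyV : i y ∈ V := hUV hyU
  have h0 := Scheme.Hom.preimage_smoothLocus_eq V.ι f
  rw [Scheme.Hom.smoothLocus_eq_top (V.ι ≫ f)] at h0
  have h1 : (⟨i y, hiyV⟩ : V) ∈ V.ι ⁻¹ᵁ f.smoothLocus := by rw [h0]; trivial
  exact h1

/-- the hard direction -/
theorem exists_etale_chart_of_mem_smoothLocus {X Y : Scheme.{u}} (f : X ⟶ Y)
    [LocallyOfFinitePresentation f] (i : Y ⟶ X) (hi : i ≫ f = 𝟙 Y) (y : Y)
    (hx : i y ∈ f.smoothLocus) :
    ∃ (U : Y.Opens) (V : X.Opens) (_ : y ∈ U) (hUV : U ≤ i ⁻¹ᵁ V) (hVU : V ≤ f ⁻¹ᵁ U) (m : ℕ)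
      (v : ULift.{u} (Fin m) → Γ(V, ⊤)),
      Etale (AffineSpace.homOfVector (f.resLE U V hVU) v) ∧
        ∀ j, (i.resLE V U hUV).appTop (v j) = 0 := by
  have hpt : ∀ w : Y, f (i w) = w := fun w => by
    rw [← Scheme.Hom.comp_apply, hi]; rfl
  -- affine open `W ∋ y`
  obtain ⟨_, ⟨W, hW, rfl⟩, hyW, -⟩ :=
    Y.isBasis_affineOpens.exists_subset_of_mem_open (Set.mem_univ y) isOpen_univ
  have hW' : IsAffineOpen W := hW
  have hx0 : i y ∈ f ⁻¹ᵁ W := by
    show f (i y) ∈ W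
    rw [hpt]; exact hyW
  obtain ⟨_, ⟨U₀, hU₀, rfl⟩, hxU₀, hle₀⟩ :=
    X.isBasis_affineOpens.exists_subset_of_mem_open hx0 (f ⁻¹ᵁ W).2
  have hU₀' : IsAffineOpen U₀ := hU₀
  have hle₀' : U₀ ≤ f ⁻¹ᵁ W := hle₀
  obtain ⟨a, haW, hza⟩ := hW'.exists_basicOpen_le (V := i ⁻¹ᵁ U₀) ⟨y, hxU₀⟩ hyW
  set W₁ : Y.Opens := Y.basicOpen a with hW₁def
  have hW₁aff : IsAffineOpen W₁ := hW'.basicOpen a
  set U₁ : X.Opens := X.basicOpen ((f.appLE W U₀ hle₀').hom a) with hU₁def
  have hU₁aff : IsAffineOpen U₁ := hU₀'.basicOpen _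
  have hU₁eq : U₁ = U₀ ⊓ f ⁻¹ᵁ W₁ := Scheme.basicOpen_appLE f U₀ W hle₀' a
  have hle₁ : U₁ ≤ f ⁻¹ᵁ W₁ := by rw [hU₁eq]; exact inf_le_right
  have hpre : i ⁻¹ᵁ U₁ = W₁ := by
    ext w
    rw [hU₁eq]
    constructor
    · rintro ⟨-, h2⟩
      have h3 : f (i w) ∈ W₁ := h2
      rwa [hpt] at h3
    · intro hw
      refine ⟨haW hw, ?_⟩
      show f (i w) ∈ W₁
      rwa [hpt]
  have hxU₁ : i y ∈ U₁ := by
    have : y ∈ i ⁻¹ᵁ U₁ := by rw [hpre]; exact hza
    exact this
  -- the algebra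
  let φ : Γ(Y, W₁) →+* Γ(X, U₁) := (f.appLE W₁ U₁ hle₁).hom
  let π : Γ(X, U₁) →+* Γ(Y, i ⁻¹ᵁ U₁) := (i.app U₁).hom
  have hcomp : Function.Bijective (π.comp φ) := by
    have h1 : f.appLE W₁ U₁ hle₁ ≫ i.app U₁ =
        (i ≫ f).appLE W₁ (i ⁻¹ᵁ U₁) (by rw [hi, hpre]; exact le_rfl) := by
      rw [Scheme.Hom.app_eq_appLE, Scheme.Hom.appLE_comp_appLE]
    have h2 : π.comp φ = (f.appLE W₁ U₁ hle₁ ≫ i.app U₁).hom := rfl
    rw [h2, h1]
    exact bijective_appLE_of_eq_id (i ≫ f) hi W₁ (i ⁻¹ᵁ U₁) hpre _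
  have hπ : Function.Surjective π := Function.Surjective.of_comp hcomp.2
  letI algAB : Algebra Γ(Y, W₁) Γ(X, U₁) := φ.toAlgebra
  haveI hfp : Algebra.FinitePresentation Γ(Y, W₁) Γ(X, U₁) :=
    f.finitePresentation_appLE hW₁aff hU₁aff hle₁
  set q := (hU₁aff.primeIdealOf ⟨i y, hxU₁⟩).asIdeal with hq
  haveI hsmq : Algebra.IsSmoothAt Γ(Y, W₁) q :=
    (formallySmooth_stalkMap_iff W₁ hW₁aff U₁ hU₁aff hle₁ hxU₁).mp hx
  have hsurj : Function.Surjective ((Ideal.Quotient.mk (RingHom.ker π)).comp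
      (algebraMap Γ(Y, W₁) Γ(X, U₁))) := (bijective_mk_ker_comp φ π hπ hcomp).2
  obtain ⟨g, n, b, hgq, hbJ, hmain⟩ :=
    exists_etale_coordinates_of_section (A := Γ(Y, W₁)) (RingHom.ker π) hsurj q
  -- the basic open `D`
  set D : X.Opens := X.basicOpen g with hDdef
  have hDaff : IsAffineOpen D := hU₁aff.basicOpen g
  have hDle : D ≤ U₁ := X.basicOpen_le g
  have hxD : i y ∈ D := by
    by_contra hn
    exact hgq ((Groth.Agent.Helper19.QuasiRegScheme.mem_primeIdealOf_iff hU₁aff (i y) hxU₁ g).mpr hn)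
  haveI hloc : IsLocalization.Away g Γ(X, D) := hU₁aff.isLocalization_basicOpen g
  letI algAD : Algebra Γ(Y, W₁) Γ(X, D) :=
    ((algebraMap Γ(X, U₁) Γ(X, D)).comp φ).toAlgebra
  haveI : IsScalarTower Γ(Y, W₁) Γ(X, U₁) Γ(X, D) := IsScalarTower.of_algebraMap_eq' rfl
  have hΦ := hmain Γ(X, D)
  have hDW : D ≤ f ⁻¹ᵁ W₁ := hDle.trans hle₁
  haveI : IsAffine (W₁ : Scheme.{u}) := hW₁aff
  haveI : IsAffine (D : Scheme.{u}) := hDaff
  let v₁ : ULift.{u} (Fin n) → Γ(D, ⊤) := fun j =>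
    D.topIso.inv (algebraMap Γ(X, U₁) Γ(X, D) (b j))
  have hEt₁ : Etale (AffineSpace.homOfVector (f.resLE W₁ D hDW) v₁) := by
    apply etale_homOfVector_of_etale
    have heq : MvPolynomial.eval₂Hom (f.resLE W₁ D hDW).appTop.hom v₁ =
        (D.topIso.inv.hom.comp
          (MvPolynomial.aeval (R := Γ(Y, W₁)) (fun j => algebraMap Γ(X, U₁) Γ(X, D) (b j))).toRingHom).comp
          (MvPolynomial.map W₁.topIso.hom.hom) := by
      apply MvPolynomial.ringHom_ext
      · intro r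
        simp only [MvPolynomial.coe_eval₂Hom, MvPolynomial.eval₂_C, RingHom.comp_apply,
          MvPolynomial.map_C, AlgHom.toRingHom_eq_coe, RingHom.coe_coe, MvPolynomial.aeval_C]
        have h1 : (f.resLE W₁ D hDW).appTop = W₁.topIso.hom ≫ f.appLE W₁ D hDW ≫ D.topIso.inv :=
          Scheme.Hom.resLE_app_top f hDW
        rw [h1]
        have h2 : f.appLE W₁ D hDW = f.appLE W₁ U₁ hle₁ ≫ X.presheaf.map (homOfLE hDle).op :=
          (Scheme.Hom.appLE_map f hle₁ (homOfLE hDle).op).symm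
        rw [h2]
        rfl
      · intro j
        simp only [MvPolynomial.coe_eval₂Hom, MvPolynomial.eval₂_X, RingHom.comp_apply,
          MvPolynomial.map_X, AlgHom.toRingHom_eq_coe, RingHom.coe_coe, MvPolynomial.aeval_X]
        rfl
    rw [heq]
    have hμ : (MvPolynomial.map (σ := ULift.{u} (Fin n)) W₁.topIso.hom.hom).Etale := by
      apply RingHom.Etale.of_bijective
      constructor
      · exact MvPolynomial.map_injective _
          (ConcreteCategory.bijective_of_isIso W₁.topIso.hom).1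
      · exact MvPolynomial.map_surjective _
          (ConcreteCategory.bijective_of_isIso W₁.topIso.hom).2
    have hβ : D.topIso.inv.hom.Etale :=
      RingHom.Etale.of_bijective (ConcreteCategory.bijective_of_isIso D.topIso.inv)
    exact RingHom.Etale.stableUnderComposition _ _
      hμ (RingHom.Etale.stableUnderComposition _ _ hΦ hβ)
  -- the restricted chart
  set U : Y.Opens := i ⁻¹ᵁ D with hUdef
  have hyU : y ∈ U := hxD
  have hUW : U ≤ W₁ := by
    intro u hu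
    have h1 : u ∈ i ⁻¹ᵁ U₁ := hDle hu
    rwa [hpre] at h1
  set V : X.Opens := D ⊓ f ⁻¹ᵁ U with hVdef
  have hUV : U ≤ i ⁻¹ᵁ V := by
    intro u hu
    refine ⟨hu, ?_⟩
    show f (i u) ∈ U
    rw [hpt]
    exact hu
  have hVU : V ≤ f ⁻¹ᵁ U := inf_le_right
  have hVD : V ≤ D := inf_le_left
  let v : ULift.{u} (Fin n) → Γ(V, ⊤) := fun j => (X.homOfLE hVD).appTop (v₁ j)
  refine ⟨U, V, hyU, hUV, hVU, n, v, ?_, ?_⟩
  · -- étale
    have hclaim : AffineSpace.homOfVector (f.resLE U V hVU) v ≫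
        AffineSpace.map (ULift.{u} (Fin n)) (Y.homOfLE hUW) =
        X.homOfLE hVD ≫ AffineSpace.homOfVector (f.resLE W₁ D hDW) v₁ := by
      apply AffineSpace.hom_ext
      · rw [Category.assoc, AffineSpace.map_over, AffineSpace.homOfVector_over_assoc,
          Category.assoc, AffineSpace.homOfVector_over, Scheme.Hom.resLE_map,
          Scheme.Hom.map_resLE]
      · intro j
        rw [Scheme.Hom.comp_appTop, Scheme.Hom.comp_appTop, CommRingCat.comp_apply,
          CommRingCat.comp_apply, AffineSpace.map_appTop_coord,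
          AffineSpace.homOfVector_appTop_coord, AffineSpace.homOfVector_appTop_coord]
    haveI : Etale (AffineSpace.homOfVector (f.resLE W₁ D hDW) v₁) := hEt₁
    haveI : IsOpenImmersion (AffineSpace.map (ULift.{u} (Fin n)) (Y.homOfLE hUW)) :=
      isOpenImmersion_affineSpace_map _ _
    haveI : Etale (AffineSpace.homOfVector (f.resLE U V hVU) v ≫
        AffineSpace.map (ULift.{u} (Fin n)) (Y.homOfLE hUW)) := by
      rw [hclaim]
      infer_instance
    exact Etale.of_comp _ (AffineSpace.map (ULift.{u} (Fin n)) (Y.homOfLE hUW))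
  · -- vanishing
    intro j
    have hDU : U ≤ i ⁻¹ᵁ D := le_rfl
    have h1 : (i.resLE V U hUV).appTop ((X.homOfLE hVD).appTop (v₁ j)) =
        (i.resLE D U hDU).appTop (v₁ j) := by
      rw [← CommRingCat.comp_apply, ← Scheme.Hom.comp_appTop, Scheme.Hom.resLE_map]
    show (i.resLE V U hUV).appTop ((X.homOfLE hVD).appTop (v₁ j)) = 0
    rw [h1]
    have h2 : (i.resLE D U hDU).appTop = D.topIso.hom ≫ i.appLE D U hDU ≫ U.topIso.inv :=
      Scheme.Hom.resLE_app_top i hDU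
    rw [h2]
    show U.topIso.inv ((i.appLE D U hDU) (D.topIso.hom (D.topIso.inv
      (algebraMap Γ(X, U₁) Γ(X, D) (b j))))) = 0
    have h3 : D.topIso.hom (D.topIso.inv (algebraMap Γ(X, U₁) Γ(X, D) (b j))) =
        algebraMap Γ(X, U₁) Γ(X, D) (b j) := by
      rw [← CommRingCat.comp_apply, Iso.inv_hom_id]
      rfl
    rw [h3]
    have h4 : (i.appLE D U hDU) (algebraMap Γ(X, U₁) Γ(X, D) (b j)) =
        (i.appLE U₁ U (hDU.trans (i.preimage_mono hDle))) (b j) := by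
      have := Scheme.Hom.map_appLE i hDU (homOfLE hDle).op
      rw [← this]
      rfl
    rw [h4]
    have h5 : (i.appLE U₁ U (hDU.trans (i.preimage_mono hDle))) (b j) =
        (Y.presheaf.map (homOfLE (hDU.trans (i.preimage_mono hDle))).op) ((i.app U₁) (b j)) := rfl
    rw [h5]
    have h6 : (i.app U₁) (b j) = 0 := RingHom.mem_ker.mp (hbJ j)
    rw [h6, map_zero, map_zero]

end Groth.Agent.Lib.Helper25.SectionEtale
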