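import Mathlib
import Groth.Agent.Lib.Helper25.SectionEtale3

/-!
# From an étale chart to ring-level étale coordinates at a point (helper25)
-/

set_option autoImplicit false
universe u

open CategoryTheory CategoryTheory.Limits AlgebraicGeometry TopologicalSpace

namespace Groth.Agent.Lib.Helper25.KummerSmooth

open Groth.Agent.Lib.Helper25.SectionEtale

theorem etale_homOfVector_iff {n : Type u} {S X : Scheme.{u}} [IsAffine S] [IsAffine X]
    (g : X ⟶ S) (v : n → Γ(X, ⊤)) :
    Etale (AffineSpace.homOfVector g v) ↔ (MvPolynomial.eval₂Hom g.appTop.hom v).Etale := by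
  rw [← MorphismProperty.cancel_right_of_respectsIso @Etale _ (AffineSpace.isoOfIsAffine n S).hom,
    HasRingHomProperty.iff_of_isAffine (P := @Etale)]
  rw [Scheme.Hom.comp_appTop, AffineSpace.isoOfIsAffine_hom_appTop, Category.assoc,
    CommRingCat.hom_comp, RingHom.Etale.respectsIso.cancel_left_isIso]
  have heq : (CommRingCat.ofHom (MvPolynomial.eval₂Hom ((𝔸(n; S) ↘ S).appTop).hom
      (AffineSpace.coord S)) ≫ (AffineSpace.homOfVector g v).appTop).hom =
      MvPolynomial.eval₂Hom g.appTop.hom v := by
    apply MvPolynomial.ringHom_ext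
    · intro r
      simp only [CommRingCat.hom_comp, CommRingCat.hom_ofHom, RingHom.comp_apply,
        MvPolynomial.coe_eval₂Hom, MvPolynomial.eval₂_C]
      rw [← CommRingCat.comp_apply, ← Scheme.Hom.comp_appTop, AffineSpace.homOfVector_over]
    · intro i
      simp only [CommRingCat.hom_comp, CommRingCat.hom_ofHom, RingHom.comp_apply,
        MvPolynomial.coe_eval₂Hom, MvPolynomial.eval₂_X]
      exact AffineSpace.homOfVector_appTop_coord g v i
  rw [heq]

/-- ring-level étale coordinates at a point from an étale chart on an open. -/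
theorem formallySmooth_eval₂Hom_germ_of_etale {X S : Scheme.{u}} (f : X ⟶ S) (W : X.Opens) (x : X)
    (hxW : x ∈ W) (d : ℕ) (v : ULift.{u} (Fin d) → Γ(W, ⊤))
    (hEt : Etale (AffineSpace.homOfVector (W.ι ≫ f) v))
    (U : S.Opens) (hU : IsAffineOpen U) (V : X.Opens) (hV : IsAffineOpen V) (hVU : V ≤ f ⁻¹ᵁ U)
    (hVW : V ≤ W) (hxV : x ∈ V) :
    (MvPolynomial.eval₂Hom ((X.presheaf.germ V x hxV).hom.comp (f.appLE U V hVU).hom)
      (fun j => (X.presheaf.germ W x hxW).hom (W.topIso.hom.hom (v j)))).FormallySmooth := by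
  haveI : IsAffine (U : Scheme.{u}) := hU
  haveI : IsAffine (V : Scheme.{u}) := hV
  let v' : ULift.{u} (Fin d) → Γ(V, ⊤) := fun j => (X.homOfLE hVW).appTop (v j)
  have hclaim : AffineSpace.homOfVector (f.resLE U V hVU) v' ≫
      AffineSpace.map (ULift.{u} (Fin d)) U.ι =
      X.homOfLE hVW ≫ AffineSpace.homOfVector (W.ι ≫ f) v := by
    apply AffineSpace.hom_ext
    · rw [Category.assoc, AffineSpace.map_over, AffineSpace.homOfVector_over_assoc,
        Category.assoc, AffineSpace.homOfVector_over, Scheme.Hom.resLE_comp_ι,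
        Scheme.homOfLE_ι_assoc]
    · intro j
      rw [Scheme.Hom.comp_appTop, Scheme.Hom.comp_appTop, CommRingCat.comp_apply,
        CommRingCat.comp_apply, AffineSpace.map_appTop_coord,
        AffineSpace.homOfVector_appTop_coord, AffineSpace.homOfVector_appTop_coord]
  haveI : Etale (AffineSpace.homOfVector (W.ι ≫ f) v) := hEt
  haveI : IsOpenImmersion (AffineSpace.map (ULift.{u} (Fin d)) U.ι) :=
    isOpenImmersion_affineSpace_map _ _
  haveI : Etale (AffineSpace.homOfVector (f.resLE U V hVU) v' ≫
      AffineSpace.map (ULift.{u} (Fin d)) U.ι) := by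
    rw [hclaim]
    infer_instance
  have hEt' : Etale (AffineSpace.homOfVector (f.resLE U V hVU) v') :=
    Etale.of_comp _ (AffineSpace.map (ULift.{u} (Fin d)) U.ι)
  have hring : (MvPolynomial.eval₂Hom (f.resLE U V hVU).appTop.hom v').Etale :=
    (etale_homOfVector_iff _ _).mp hEt'
  have heq : MvPolynomial.eval₂Hom ((X.presheaf.germ V x hxV).hom.comp (f.appLE U V hVU).hom)
      (fun j => (X.presheaf.germ W x hxW).hom (W.topIso.hom.hom (v j))) =
      ((X.presheaf.germ V x hxV).hom.comp V.topIso.hom.hom).comp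
        ((MvPolynomial.eval₂Hom (f.resLE U V hVU).appTop.hom v').comp
          (MvPolynomial.map U.topIso.inv.hom)) := by
    apply MvPolynomial.ringHom_ext
    · intro r
      simp only [MvPolynomial.coe_eval₂Hom, MvPolynomial.eval₂_C, RingHom.comp_apply,
        MvPolynomial.map_C]
      have h1 : (f.resLE U V hVU).appTop = U.topIso.hom ≫ f.appLE U V hVU ≫ V.topIso.inv :=
        Scheme.Hom.resLE_app_top f hVU
      rw [h1]
      simp only [CommRingCat.hom_comp, RingHom.comp_apply]
      have h2 : U.topIso.hom.hom (U.topIso.inv.hom r) = r := by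
        show (U.topIso.inv ≫ U.topIso.hom) r = r
        rw [Iso.inv_hom_id]; rfl
      have h3 : ∀ s, V.topIso.hom.hom (V.topIso.inv.hom s) = s := by
        intro s
        show (V.topIso.inv ≫ V.topIso.hom) s = s
        rw [Iso.inv_hom_id]; rfl
      rw [h2, h3]
    · intro j
      simp only [MvPolynomial.coe_eval₂Hom, MvPolynomial.eval₂_X, RingHom.comp_apply,
        MvPolynomial.map_X]
      show (X.presheaf.germ W x hxW) (W.topIso.hom (v j)) =
        (X.presheaf.germ V x hxV) (V.topIso.hom ((X.homOfLE hVW).appTop (v j)))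
      rw [Scheme.homOfLE_appTop, Scheme.Opens.topIso_hom, Scheme.Opens.topIso_hom]
      erw [TopCat.Presheaf.germ_res_apply', TopCat.Presheaf.germ_res_apply',
        TopCat.Presheaf.germ_res_apply']
  rw [heq]
  have hμ : (MvPolynomial.map (σ := ULift.{u} (Fin d)) U.topIso.inv.hom).FormallySmooth := by
    apply RingHom.FormallySmooth.of_bijective
    constructor
    · exact MvPolynomial.map_injective _
        (ConcreteCategory.bijective_of_isIso U.topIso.inv).1
    · exact MvPolynomial.map_surjective _
        (ConcreteCategory.bijective_of_isIso U.topIso.inv).2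
  have hβ : V.topIso.hom.hom.FormallySmooth :=
    RingHom.FormallySmooth.of_bijective (ConcreteCategory.bijective_of_isIso V.topIso.hom)
  have hγ : (X.presheaf.germ V x hxV).hom.FormallySmooth := by
    letI algBL : Algebra Γ(X, V) (X.presheaf.stalk x) :=
      TopCat.Presheaf.algebra_section_stalk X.presheaf ⟨x, hxV⟩
    haveI hloc : IsLocalization.AtPrime (X.presheaf.stalk x) (hV.primeIdealOf ⟨x, hxV⟩).asIdeal :=
      hV.isLocalization_stalk ⟨x, hxV⟩
    have : Algebra.FormallySmooth Γ(X, V) (X.presheaf.stalk x) :=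
      Algebra.FormallySmooth.of_isLocalization (hV.primeIdealOf ⟨x, hxV⟩).asIdeal.primeCompl
    exact this
  have hring' : (MvPolynomial.eval₂Hom (f.resLE U V hVU).appTop.hom v').FormallySmooth :=
    ((RingHom.etale_iff_formallyUnramified_and_smooth _).mp hring).2.formallySmooth
  exact ((hμ.comp hring').comp (hβ.comp hγ))

end Groth.Agent.Lib.Helper25.KummerSmooth
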