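import Mathlib
import Groth.Agent.Lib.Helper25.KummerSmooth2

/-!
# Étale charts of a smooth morphism at a point (helper25)
-/

set_option autoImplicit false
universe u

open CategoryTheory CategoryTheory.Limits AlgebraicGeometry TopologicalSpace

namespace Groth.Agent.Lib.Helper25.SmoothChart

open Groth.Agent.Lib.Helper25.SectionEtale Groth.Agent.Lib.Helper25.KummerSmooth

/-- A smooth morphism `q : Y ⟶ S` has, around every point, an affine open `W` together with an
étale chart `W ⟶ 𝔸ⁿ_S`. -/
theorem exists_etale_chart {Y S : Scheme.{u}} (q : Y ⟶ S) [Smooth q] (y : Y) :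
    ∃ (W : Y.Opens) (_ : IsAffineOpen W) (_ : y ∈ W) (n : ℕ)
      (w : ULift.{u} (Fin n) → Γ(W, ⊤)),
      Etale (AffineSpace.homOfVector (W.ι ≫ q) w) := by
  obtain ⟨T, hT, W, hW, hyW, e, hss⟩ := Smooth.exists_isStandardSmooth q y
  obtain ⟨n, γ, hγC, hγ⟩ := hss.exists_etale_mvPolynomial
  haveI : IsAffine (T : Scheme.{u}) := hT
  haveI : IsAffine (W : Scheme.{u}) := hW
  let w : ULift.{u} (Fin n) → Γ(W, ⊤) := fun j => W.topIso.inv (γ (MvPolynomial.X j.down))
  refine ⟨W, hW, hyW, n, w, ?_⟩
  have hEt₁ : Etale (AffineSpace.homOfVector (q.resLE T W e) w) := by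
    rw [etale_homOfVector_iff]
    have heq : MvPolynomial.eval₂Hom (q.resLE T W e).appTop.hom w =
        ((W.topIso.inv.hom.comp γ).comp
          (MvPolynomial.rename (R := Γ(S, T)) (ULift.down : ULift.{u} (Fin n) → Fin n)).toRingHom).comp
          (MvPolynomial.map T.topIso.hom.hom) := by
      apply MvPolynomial.ringHom_ext
      · intro r
        simp only [MvPolynomial.coe_eval₂Hom, MvPolynomial.eval₂_C, RingHom.comp_apply,
          MvPolynomial.map_C, AlgHom.toRingHom_eq_coe, RingHom.coe_coe, MvPolynomial.rename_C]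
        have h1 : (q.resLE T W e).appTop = T.topIso.hom ≫ q.appLE T W e ≫ W.topIso.inv :=
          Scheme.Hom.resLE_app_top q e
        rw [h1]
        have h2 : γ (MvPolynomial.C (T.topIso.hom.hom r)) = (q.appLE T W e).hom (T.topIso.hom.hom r) := by
          rw [← hγC]; rfl
        rw [h2]
        rfl
      · intro j
        simp only [MvPolynomial.coe_eval₂Hom, MvPolynomial.eval₂_X, RingHom.comp_apply,
          MvPolynomial.map_X, AlgHom.toRingHom_eq_coe, RingHom.coe_coe, MvPolynomial.rename_X]
        rfl
    rw [heq]
    have hμ : (MvPolynomial.map (σ := ULift.{u} (Fin n)) T.topIso.hom.hom).Etale := by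
      apply RingHom.Etale.of_bijective
      constructor
      · exact MvPolynomial.map_injective _
          (ConcreteCategory.bijective_of_isIso T.topIso.hom).1
      · exact MvPolynomial.map_surjective _
          (ConcreteCategory.bijective_of_isIso T.topIso.hom).2
    have hρ : (MvPolynomial.rename (R := Γ(S, T))
        (ULift.down : ULift.{u} (Fin n) → Fin n)).toRingHom.Etale := by
      apply RingHom.Etale.of_bijective
      exact (MvPolynomial.renameEquiv Γ(S, T) (Equiv.ulift (α := Fin n))).bijective
    have hβ : W.topIso.inv.hom.Etale :=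
      RingHom.Etale.of_bijective (ConcreteCategory.bijective_of_isIso W.topIso.inv)
    exact RingHom.Etale.stableUnderComposition _ _ hμ
      (RingHom.Etale.stableUnderComposition _ _ hρ
        (RingHom.Etale.stableUnderComposition _ _ hγ hβ))
  have hclaim : AffineSpace.homOfVector (q.resLE T W e) w ≫
      AffineSpace.map (ULift.{u} (Fin n)) T.ι =
      AffineSpace.homOfVector (W.ι ≫ q) w := by
    apply AffineSpace.hom_ext
    · rw [Category.assoc, AffineSpace.map_over, AffineSpace.homOfVector_over_assoc,
        AffineSpace.homOfVector_over, Scheme.Hom.resLE_comp_ι]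
    · intro j
      rw [Scheme.Hom.comp_appTop, CommRingCat.comp_apply, AffineSpace.map_appTop_coord,
        AffineSpace.homOfVector_appTop_coord, AffineSpace.homOfVector_appTop_coord]
  haveI : Etale (AffineSpace.homOfVector (q.resLE T W e) w) := hEt₁
  haveI : IsOpenImmersion (AffineSpace.map (ULift.{u} (Fin n)) T.ι) :=
    isOpenImmersion_affineSpace_map _ _
  rw [← hclaim]
  infer_instance

end Groth.Agent.Lib.Helper25.SmoothChart
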