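import Mathlib
import Groth.Agent.Lib.Helper25.SmoothChart1

/-!
# Étale-local extension of morphisms to smooth targets across a closed immersion (helper25)
-/

set_option autoImplicit false
universe u

open CategoryTheory CategoryTheory.Limits AlgebraicGeometry TopologicalSpace

namespace Groth.Agent.Lib.Helper25.EtaleExt

open Groth.Agent.Lib.Helper25.SmoothChart

theorem exists_etale_nhd_extending {S S₀ X Y : Scheme.{u}} (i : S₀ ⟶ S) [IsClosedImmersion i]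
    (p : X ⟶ S) (q : Y ⟶ S) [Smooth q] (f₀ : Limits.pullback p i ⟶ Y)
    (hf₀ : f₀ ≫ q = Limits.pullback.fst p i ≫ p) (x₀ : ↥(Limits.pullback p i)) :
    ∃ (U : Scheme.{u}) (e : U ⟶ X) (f : U ⟶ Y), Etale e ∧ f ≫ q = e ≫ p ∧
      IsOpenImmersion (Limits.pullback.snd e (Limits.pullback.fst p i)) ∧
      x₀ ∈ Set.range (Limits.pullback.snd e (Limits.pullback.fst p i)).base ∧
      Limits.pullback.snd e (Limits.pullback.fst p i) ≫ f₀ =
        Limits.pullback.fst e (Limits.pullback.fst p i) ≫ f := by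
  set pr := Limits.pullback.fst p i with hpr
  haveI : IsClosedImmersion pr := inferInstance
  obtain ⟨W, hW, hyW, n, w, hEt⟩ := exists_etale_chart q (f₀ x₀)
  haveI : IsAffine (W : Scheme.{u}) := hW
  -- an open of `X` cutting out `f₀ ⁻¹ W`
  have hind : Topology.IsInducing pr.base := pr.isClosedEmbedding.isInducing
  obtain ⟨V'', hV''open, hV''eq⟩ := hind.isOpen_iff.mp (f₀ ⁻¹ᵁ W).2
  have hx₀V'' : pr x₀ ∈ V'' := by
    have : x₀ ∈ pr.base ⁻¹' V'' := by rw [hV''eq]; exact hyW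
    exact this
  suffices key : ∀ (V : X.Opens), IsAffineOpen V → pr x₀ ∈ V → (V : Set X) ⊆ V'' →
      ∃ (U : Scheme.{u}) (e : U ⟶ X) (f : U ⟶ Y), Etale e ∧ f ≫ q = e ≫ p ∧
        IsOpenImmersion (Limits.pullback.snd e pr) ∧
        x₀ ∈ Set.range (Limits.pullback.snd e pr).base ∧
        Limits.pullback.snd e pr ≫ f₀ = Limits.pullback.fst e pr ≫ f by
    obtain ⟨_, ⟨V, hV, rfl⟩, hxV, hVle⟩ :=
      X.isBasis_affineOpens.exists_subset_of_mem_open hx₀V'' hV''open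
    exact key V hV hxV hVle
  intro V hV' hxV hVle
  haveI : IsAffine (V : Scheme.{u}) := hV'
  set V₀ : (Limits.pullback p i).Opens := pr ⁻¹ᵁ V with hV₀def
  have hx₀V₀ : x₀ ∈ V₀ := hxV
  have hV₀W : V₀ ≤ f₀ ⁻¹ᵁ W := by
    intro z hz
    have h1 : z ∈ pr.base ⁻¹' V'' := hVle hz
    rw [hV''eq] at h1
    exact h1
  let prV : (V₀ : Scheme.{u}) ⟶ (V : Scheme.{u}) := pr ∣_ V
  haveI : IsClosedImmersion prV := inferInstance
  obtain ⟨hV₀aff, hsurj⟩ := IsClosedImmersion.isAffine_surjective_of_isAffine (f := prV)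
  let fV : (V₀ : Scheme.{u}) ⟶ (W : Scheme.{u}) := f₀.resLE W V₀ hV₀W
  choose b hb using fun j => hsurj (fV.appTop (w j))
  let a : (V : Scheme.{u}) ⟶ 𝔸(ULift.{u} (Fin n); S) := AffineSpace.homOfVector (V.ι ≫ p) b
  let g : (W : Scheme.{u}) ⟶ 𝔸(ULift.{u} (Fin n); S) := AffineSpace.homOfVector (W.ι ≫ q) w
  haveI : Etale g := hEt
  have hag : prV ≫ a = fV ≫ g := by
    apply AffineSpace.hom_ext
    · rw [Category.assoc, Category.assoc, AffineSpace.homOfVector_over,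
        AffineSpace.homOfVector_over, morphismRestrict_ι_assoc, Scheme.Hom.resLE_comp_ι_assoc, hf₀]
    · intro j
      rw [Scheme.Hom.comp_appTop, Scheme.Hom.comp_appTop, CommRingCat.comp_apply,
        CommRingCat.comp_apply, AffineSpace.homOfVector_appTop_coord,
        AffineSpace.homOfVector_appTop_coord, hb]
  -- the étale neighbourhood before shrinking
  let e' : Limits.pullback a g ⟶ (V : Scheme.{u}) := Limits.pullback.fst a g
  let f' : Limits.pullback a g ⟶ (W : Scheme.{u}) := Limits.pullback.snd a g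
  haveI : Etale e' := MorphismProperty.pullback_fst (P := @Etale) _ _ ‹_›
  let σ : (V₀ : Scheme.{u}) ⟶ Limits.pullback a g := Limits.pullback.lift prV fV hag
  have hσe : σ ≫ e' = prV := Limits.pullback.lift_fst _ _ _
  have hσf : σ ≫ f' = fV := Limits.pullback.lift_snd _ _ _
  let π₁ : Limits.pullback e' prV ⟶ Limits.pullback a g := Limits.pullback.fst e' prV
  let π₂ : Limits.pullback e' prV ⟶ (V₀ : Scheme.{u}) := Limits.pullback.snd e' prV
  haveI : Etale π₂ := MorphismProperty.pullback_snd (P := @Etale) _ _ ‹_›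
  haveI : IsClosedImmersion π₁ := inferInstance
  let σ' : (V₀ : Scheme.{u}) ⟶ Limits.pullback e' prV :=
    Limits.pullback.lift σ (𝟙 _) (by rw [hσe, Category.id_comp])
  have hσ'₁ : σ' ≫ π₁ = σ := Limits.pullback.lift_fst _ _ _
  have hσ'₂ : σ' ≫ π₂ = 𝟙 _ := Limits.pullback.lift_snd _ _ _
  haveI : Etale (σ' ≫ π₂) := by rw [hσ'₂]; infer_instance
  haveI : Etale σ' := Etale.of_comp σ' π₂
  haveI : Mono σ' := mono_of_mono_fac hσ'₂
  haveI : IsOpenImmersion σ' := IsOpenImmersion.of_flat_of_mono σ'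
  -- shrink
  have hind₁ : Topology.IsInducing π₁.base := π₁.isClosedEmbedding.isInducing
  obtain ⟨Us, hUsopen, hUseq⟩ := hind₁.isOpen_iff.mp σ'.opensRange.2
  let Uh : (Limits.pullback a g).Opens := ⟨Us, hUsopen⟩
  have hrange : Set.range σ'.base = Set.range (π₁ ⁻¹ᵁ Uh).ι.base := by
    rw [Scheme.Opens.range_ι]
    exact hUseq.symm
  let θ : (V₀ : Scheme.{u}) ≅ ((π₁ ⁻¹ᵁ Uh : (Limits.pullback e' prV).Opens) : Scheme.{u}) :=
    IsOpenImmersion.isoOfRangeEq σ' (π₁ ⁻¹ᵁ Uh).ι hrange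
  have hθ : θ.hom ≫ (π₁ ⁻¹ᵁ Uh).ι = σ' := IsOpenImmersion.isoOfRangeEq_hom_fac _ _ _
  have h1 : IsPullback (π₁ ∣_ Uh) (π₁ ⁻¹ᵁ Uh).ι Uh.ι π₁ := isPullback_morphismRestrict π₁ Uh
  have h2 : IsPullback π₁ π₂ e' prV := IsPullback.of_hasPullback e' prV
  have h3 : IsPullback prV V₀.ι V.ι pr := isPullback_morphismRestrict pr V
  have h123 := (h1.paste_vert h2).paste_vert h3
  let e : (Uh : Scheme.{u}) ⟶ X := (Uh.ι ≫ e') ≫ V.ι
  let f : (Uh : Scheme.{u}) ⟶ Y := Uh.ι ≫ f' ≫ W.ι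
  let κ := h123.isoPullback
  have hκ₁ : κ.hom ≫ Limits.pullback.fst e pr = π₁ ∣_ Uh := h123.isoPullback_hom_fst
  have hκ₂ : κ.hom ≫ Limits.pullback.snd e pr = ((π₁ ⁻¹ᵁ Uh).ι ≫ π₂) ≫ V₀.ι :=
    h123.isoPullback_hom_snd
  have hθinv : (π₁ ⁻¹ᵁ Uh).ι ≫ π₂ = θ.inv := by
    rw [← cancel_epi θ.hom, ← Category.assoc, hθ, hσ'₂, Iso.hom_inv_id]
  have hsnd : Limits.pullback.snd e pr = κ.inv ≫ θ.inv ≫ V₀.ι := by
    rw [← cancel_epi κ.hom, hκ₂, hθinv, Iso.hom_inv_id_assoc]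
  haveI : Etale e := by
    show Etale ((Uh.ι ≫ e') ≫ V.ι)
    infer_instance
  refine ⟨(Uh : Scheme.{u}), e, f, inferInstance, ?_, ?_, ?_, ?_⟩
  · -- compatibility with the structure maps
    show (Uh.ι ≫ f' ≫ W.ι) ≫ q = ((Uh.ι ≫ e') ≫ V.ι) ≫ p
    have hgq : g ≫ (𝔸(ULift.{u} (Fin n); S) ↘ S) = W.ι ≫ q := AffineSpace.homOfVector_over _ _
    have hap : a ≫ (𝔸(ULift.{u} (Fin n); S) ↘ S) = V.ι ≫ p := AffineSpace.homOfVector_over _ _
    have hcond : e' ≫ a = f' ≫ g := Limits.pullback.condition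
    simp only [Category.assoc]
    rw [← hgq, ← hap, ← Category.assoc f', ← hcond, Category.assoc]
  · rw [hsnd]
    infer_instance
  · have hcomp : θ.hom ≫ κ.hom ≫ Limits.pullback.snd e pr = V₀.ι := by
      rw [hκ₂, hθinv, Iso.hom_inv_id_assoc]
    refine ⟨κ.hom (θ.hom ⟨x₀, hx₀V₀⟩), ?_⟩
    have h5 : (θ.hom ≫ κ.hom ≫ Limits.pullback.snd e pr) ⟨x₀, hx₀V₀⟩ = x₀ := by
      rw [hcomp]; rfl
    exact h5
  · rw [← cancel_epi κ.hom, ← cancel_epi θ.hom]
    rw [← Category.assoc κ.hom, hκ₂, ← Category.assoc κ.hom, hκ₁, hθinv]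
    show θ.hom ≫ (θ.inv ≫ V₀.ι) ≫ f₀ = θ.hom ≫ (π₁ ∣_ Uh) ≫ Uh.ι ≫ f' ≫ W.ι
    rw [morphismRestrict_ι_assoc, ← Category.assoc θ.hom (π₁ ⁻¹ᵁ Uh).ι, hθ,
      ← Category.assoc σ', hσ'₁, ← Category.assoc σ, hσf, Scheme.Hom.resLE_comp_ι]
    simp only [Category.assoc, Iso.hom_inv_id_assoc]

end Groth.Agent.Lib.Helper25.EtaleExt
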