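import Mathlib
import Groth.Agent.S2818
import Groth.Agent.Lib.Helper25.RegSmooth3

/-!
# Étale coordinates adapted to a smooth closed subscheme: algebra (helper25)

`B` finitely presented over `A` and smooth at `q`, `J ≤ q` finitely generated with `B_q ⧸ J B_q`
formally smooth over `A`.  Then on a basic open neighbourhood `D(f)` of `q` there are étale
coordinates `t_1, …, t_m, h_1, …, h_n` with `h_b ∈ J` generating `J`.
-/

set_option autoImplicit false
universe u

open TensorProduct KaehlerDifferential IsLocalRing

namespace Groth.Agent.Lib.Helper25.EtaleLocalStr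

open Groth.Agent.Lib.Helper25.JacobianCrit Groth.Agent.Lib.Helper25.SectionRegular
  Groth.Agent.Lib.Helper25.RegSmooth

variable {A B : Type u} [CommRing A] [CommRing B] [Algebra A B]

theorem exists_etale_coordinates_of_smooth_quotient [Algebra.FinitePresentation A B] (J : Ideal B)
    (hJ : J.FG) (q : Ideal B) [q.IsPrime] (hJq : J ≤ q) [Algebra.IsSmoothAt A q]
    [Algebra.FormallySmooth A
      (Localization.AtPrime q ⧸ J.map (algebraMap B (Localization.AtPrime q)))] :
    ∃ (f : B) (m n : ℕ) (t : Fin m → Localization.Away f) (h : Fin n → B), f ∉ q ∧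
      (∀ b, h b ∈ J) ∧
      (MvPolynomial.aeval (fun j : ULift.{u} (Fin m ⊕ Fin n) =>
          Sum.elim t (fun b => algebraMap B (Localization.Away f) (h b)) j.down) :
        MvPolynomial (ULift.{u} (Fin m ⊕ Fin n)) A →ₐ[A] Localization.Away f).toRingHom.Etale ∧
      J.map (algebraMap B (Localization.Away f)) =
        Ideal.span (Set.range fun b => algebraMap B (Localization.Away f) (h b)) := by
  classical
  have hmks : Function.Surjective (Ideal.Quotient.mk J) := Ideal.Quotient.mk_surjective
  set Q : Ideal (B ⧸ J) := q.map (Ideal.Quotient.mk J) with hQdef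
  haveI : Q.IsPrime := Ideal.map_isPrime_of_surjective hmks (by rwa [Ideal.mk_ker])
  have hQ : Q.comap (Ideal.Quotient.mk J) = q := by
    rw [hQdef, Ideal.comap_map_of_surjective _ hmks, ← RingHom.ker_eq_comap_bot, Ideal.mk_ker]
    exact sup_eq_left.mpr hJq
  haveI : Algebra.IsSmoothAt A Q := (isSmoothAt_quotient_iff' J Q q hQ).mpr inferInstance
  haveI : Module.Finite B J := Module.Finite.iff_fg.mpr hJ
  obtain ⟨r, g, -, hli, hsp⟩ := exists_fin_basis_of_span_image
    (fun m : J => (1 : q.ResidueField) ⊗ₜ[B] m) Set.univ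
    (by rw [Set.image_univ]; exact span_one_tmul_eq_top q J)
  have hmin : r = Module.finrank q.ResidueField (q.ResidueField ⊗[B] J) := by
    have := Module.finrank_eq_card_basis (Module.Basis.mk hli (le_of_eq hsp.symm))
    rw [this, Fintype.card_fin]
  obtain ⟨s, hsq, hs⟩ := exists_notMem_smul_mem_span q g hsp
  have hgen : J.map (algebraMap B (Localization.AtPrime q)) =
      Ideal.span (Set.range fun i => algebraMap B (Localization.AtPrime q) (g i : B)) := by
    apply le_antisymm
    · rw [Ideal.map_le_iff_le_comap]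
      intro j hj
      rw [Ideal.mem_comap]
      have h1 := hs ⟨j, hj⟩
      have h2 : s * j ∈ Ideal.span (Set.range fun i => (g i : B)) := by
        have h3 := Submodule.mem_map_of_mem (f := J.subtype) h1
        rw [Submodule.map_span, ← Set.range_comp] at h3
        exact h3
      have h4 := Ideal.mem_map_of_mem (algebraMap B (Localization.AtPrime q)) h2
      rw [Ideal.map_span, ← Set.range_comp, map_mul] at h4
      have hu : IsUnit (algebraMap B (Localization.AtPrime q) s) :=
        IsLocalization.map_units (Localization.AtPrime q) (⟨s, hsq⟩ : q.primeCompl)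
      exact (Ideal.unit_mul_mem_iff_mem _ hu).mp h4
    · rw [Ideal.span_le]
      rintro _ ⟨i, rfl⟩
      exact Ideal.mem_map_of_mem _ (g i).2
  obtain ⟨f, hfq, m, g', hEt, hJf⟩ := Groth.Agent.S2818.result A B J hJ q hJq Q hQ r
    (fun i => (g i : B)) (fun i => (g i).2) hgen hmin
  refine ⟨f, m, r, g', fun i => (g i : B), hfq, fun i => (g i).2, ?_, hJf⟩
  -- swap the two blocks of variables
  let e : ULift.{u} (Fin m ⊕ Fin r) ≃ Fin r ⊕ Fin m := Equiv.ulift.trans (Equiv.sumComm _ _)
  have heq : (MvPolynomial.aeval (fun j : ULift.{u} (Fin m ⊕ Fin r) =>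
          Sum.elim g' (fun b => algebraMap B (Localization.Away f) ((g b : B))) j.down) :
        MvPolynomial (ULift.{u} (Fin m ⊕ Fin r)) A →ₐ[A] Localization.Away f).toRingHom =
      (MvPolynomial.aeval (Sum.elim (fun i => algebraMap B (Localization.Away f) (g i : B)) g') :
          MvPolynomial (Fin r ⊕ Fin m) A →ₐ[A] Localization.Away f).toRingHom.comp
        (MvPolynomial.rename e : MvPolynomial (ULift.{u} (Fin m ⊕ Fin r)) A →ₐ[A]
          MvPolynomial (Fin r ⊕ Fin m) A).toRingHom := by
    apply MvPolynomial.ringHom_ext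
    · intro a
      simp only [AlgHom.toRingHom_eq_coe, RingHom.coe_coe, RingHom.comp_apply,
        MvPolynomial.aeval_C, MvPolynomial.rename_C]
    · intro j
      simp only [AlgHom.toRingHom_eq_coe, RingHom.coe_coe, RingHom.comp_apply,
        MvPolynomial.aeval_X, MvPolynomial.rename_X]
      obtain ⟨j | j⟩ := j <;> rfl
  rw [heq]
  have hren : (MvPolynomial.rename e : MvPolynomial (ULift.{u} (Fin m ⊕ Fin r)) A →ₐ[A]
      MvPolynomial (Fin r ⊕ Fin m) A).toRingHom.Etale :=
    RingHom.Etale.of_bijective (MvPolynomial.renameEquiv A e).bijective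
  exact RingHom.Etale.stableUnderComposition _ _ hren hEt

end Groth.Agent.Lib.Helper25.EtaleLocalStr
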