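import Mathlib
import Groth.Agent.Lib.Helper25.EtaleLocalStr1

/-!
# Étale coordinates adapted to a smooth closed subscheme: algebra, II (helper25)

The same statement for an arbitrary localization `L` of `B` at `q` and arbitrary `Away f`
localizations `B'`.
-/

set_option autoImplicit false
universe u

open TensorProduct KaehlerDifferential IsLocalRing

namespace Groth.Agent.Lib.Helper25.EtaleLocalStr

variable {A B : Type u} [CommRing A] [CommRing B] [Algebra A B]

theorem exists_etale_coordinates_of_smooth_quotient' [Algebra.FinitePresentation A B]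
    (J : Ideal B) (hJ : J.FG) (q : Ideal B) [q.IsPrime] (hJq : J ≤ q) (L : Type u) [CommRing L]
    [Algebra B L] [IsLocalization.AtPrime L q] [Algebra A L] [IsScalarTower A B L]
    [Algebra.FormallySmooth A L] [Algebra.FormallySmooth A (L ⧸ J.map (algebraMap B L))] :
    ∃ (f : B) (m n : ℕ) (h : Fin n → B), f ∉ q ∧ (∀ b, h b ∈ J) ∧
      ∀ (B' : Type u) [CommRing B'] [Algebra B B'] [IsLocalization.Away f B'] [Algebra A B']
        [IsScalarTower A B B'],
        ∃ t : Fin m → B',
          (MvPolynomial.aeval (fun j : ULift.{u} (Fin m ⊕ Fin n) =>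
              Sum.elim t (fun b => algebraMap B B' (h b)) j.down) :
            MvPolynomial (ULift.{u} (Fin m ⊕ Fin n)) A →ₐ[A] B').toRingHom.Etale ∧
          J.map (algebraMap B B') = Ideal.span (Set.range fun b => algebraMap B B' (h b)) := by
  let e : L ≃ₐ[B] Localization.AtPrime q := IsLocalization.algEquiv q.primeCompl _ _
  haveI h1 : Algebra.IsSmoothAt A q :=
    Algebra.FormallySmooth.of_equiv (e.restrictScalars A)
  have hmap : J.map (algebraMap B (Localization.AtPrime q)) =
      (J.map (algebraMap B L)).map ((e.restrictScalars A : L ≃ₐ[A] Localization.AtPrime q) :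
        L →+* Localization.AtPrime q) := by
    rw [Ideal.map_map]
    congr 1
    refine RingHom.ext fun b => ?_
    exact (e.commutes b).symm
  haveI h2 : Algebra.FormallySmooth A
      (Localization.AtPrime q ⧸ J.map (algebraMap B (Localization.AtPrime q))) :=
    Algebra.FormallySmooth.of_equiv
      (Ideal.quotientEquivAlg (J.map (algebraMap B L)) _ (e.restrictScalars A) hmap)
  obtain ⟨f, m, n, t, h, hfq, hhJ, hEt, hJf⟩ :=
    exists_etale_coordinates_of_smooth_quotient (A := A) J hJ q hJq
  refine ⟨f, m, n, h, hfq, hhJ, ?_⟩
  intro B' _ _ _ _ _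
  let e' : Localization.Away f ≃ₐ[B] B' := IsLocalization.algEquiv (Submonoid.powers f) _ _
  refine ⟨fun a => e' (t a), ?_, ?_⟩
  · have heq : (MvPolynomial.aeval (fun j : ULift.{u} (Fin m ⊕ Fin n) =>
          Sum.elim (fun a => e' (t a)) (fun b => algebraMap B B' (h b)) j.down) :
        MvPolynomial (ULift.{u} (Fin m ⊕ Fin n)) A →ₐ[A] B').toRingHom =
        ((e'.restrictScalars A : Localization.Away f ≃ₐ[A] B') : Localization.Away f →+* B').comp
          (MvPolynomial.aeval (fun j : ULift.{u} (Fin m ⊕ Fin n) =>
            Sum.elim t (fun b => algebraMap B (Localization.Away f) (h b)) j.down) :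
          MvPolynomial (ULift.{u} (Fin m ⊕ Fin n)) A →ₐ[A] Localization.Away f).toRingHom := by
      apply MvPolynomial.ringHom_ext
      · intro a
        simp only [AlgHom.toRingHom_eq_coe, RingHom.coe_coe, RingHom.comp_apply,
          MvPolynomial.aeval_C]
        exact ((e'.restrictScalars A).commutes a).symm
      · intro j
        simp only [AlgHom.toRingHom_eq_coe, RingHom.coe_coe, RingHom.comp_apply,
          MvPolynomial.aeval_X]
        obtain ⟨j | j⟩ := j
        · rfl
        · exact (e'.commutes (h j)).symm
    rw [heq]
    have he' : ((e'.restrictScalars A : Localization.Away f ≃ₐ[A] B') :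
        Localization.Away f →+* B').Etale :=
      RingHom.Etale.of_bijective (e'.restrictScalars A).bijective
    exact RingHom.Etale.stableUnderComposition _ _ hEt he'
  · have h3 : J.map (algebraMap B B') =
        (J.map (algebraMap B (Localization.Away f))).map (e' : Localization.Away f →+* B') := by
      rw [Ideal.map_map]
      congr 1
      refine RingHom.ext fun b => ?_
      exact (e'.commutes b).symm
    rw [h3, hJf, Ideal.map_span, ← Set.range_comp]
    congr 2
    funext b
    exact e'.commutes (h b)

end Groth.Agent.Lib.Helper25.EtaleLocalStr
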