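import Mathlib

/-!
# A closed subscheme cut out by coordinates is the pullback of a coordinate subspace (helper25)
-/

set_option autoImplicit false
universe u

open CategoryTheory CategoryTheory.Limits AlgebraicGeometry TopologicalSpace

namespace Groth.Agent.Lib.Helper25.EtaleLocalStr

/-- the coordinate subspace `𝔸^m ⟶ 𝔸^{m+n}` (last `n` coordinates zero). -/
noncomputable abbrev coordEmb (S : Scheme.{u}) (m n : ℕ) :
    𝔸(ULift.{u} (Fin m); S) ⟶ 𝔸(ULift.{u} (Fin m ⊕ Fin n); S) :=
  AffineSpace.homOfVector (𝔸(ULift.{u} (Fin m); S) ↘ S)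
    (fun j : ULift.{u} (Fin m ⊕ Fin n) =>
      Sum.elim (fun a => AffineSpace.coord S (ULift.up a)) (fun _ => 0) j.down)

theorem isPullback_of_ker_eq_span {S U Z : Scheme.{u}} [IsAffine U] (j : Z ⟶ U)
    [IsClosedImmersion j] (g : U ⟶ S) (m n : ℕ) (v : ULift.{u} (Fin m ⊕ Fin n) → Γ(U, ⊤))
    (hK : RingHom.ker j.appTop.hom =
      Ideal.span (Set.range fun b : Fin n => v (ULift.up (Sum.inr b)))) :
    IsPullback
      (AffineSpace.homOfVector (j ≫ g)
        (fun a : ULift.{u} (Fin m) => j.appTop (v (ULift.up (Sum.inl a.down)))))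
      j (coordEmb S m n) (AffineSpace.homOfVector g v) := by
  have hvK : ∀ b : Fin n, j.appTop (v (ULift.up (Sum.inr b))) = 0 := by
    intro b
    have : v (ULift.up (Sum.inr b)) ∈ RingHom.ker j.appTop.hom := by
      rw [hK]; exact Ideal.subset_span ⟨b, rfl⟩
    exact this
  have w' : AffineSpace.homOfVector (j ≫ g)
        (fun a : ULift.{u} (Fin m) => j.appTop (v (ULift.up (Sum.inl a.down)))) ≫
      coordEmb S m n = j ≫ AffineSpace.homOfVector g v := by
    apply AffineSpace.hom_ext
    · rw [Category.assoc, AffineSpace.homOfVector_over, AffineSpace.homOfVector_over,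
        Category.assoc, AffineSpace.homOfVector_over]
    · intro k
      rw [Scheme.Hom.comp_appTop, Scheme.Hom.comp_appTop, CommRingCat.comp_apply,
        CommRingCat.comp_apply, AffineSpace.homOfVector_appTop_coord,
        AffineSpace.homOfVector_appTop_coord]
      obtain ⟨k | k⟩ := k
      · exact AffineSpace.homOfVector_appTop_coord _ _ _
      · show (AffineSpace.homOfVector (j ≫ g) _).appTop 0 = _
        rw [map_zero, hvK]
  refine IsPullback.of_isLimit (c := PullbackCone.mk _ _ w') ?_
  have hH : ∀ s : PullbackCone (coordEmb S m n) (AffineSpace.homOfVector g v),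
      j.ker ≤ s.snd.ker := by
    intro s
    rw [Scheme.ker_of_isAffine j, Scheme.ker_of_isAffine s.snd]
    apply Scheme.IdealSheafData.le_of_isAffine
    rw [Scheme.IdealSheafData.ofIdealTop_ideal, Scheme.IdealSheafData.ofIdealTop_ideal]
    apply Ideal.map_mono
    rw [hK, Ideal.span_le]
    rintro _ ⟨b, rfl⟩
    rw [SetLike.mem_coe, RingHom.mem_ker]
    have h1 : s.snd.appTop (v (ULift.up (Sum.inr b))) =
        (s.snd ≫ AffineSpace.homOfVector g v).appTop (AffineSpace.coord S (ULift.up (Sum.inr b))) := by
      rw [Scheme.Hom.comp_appTop, CommRingCat.comp_apply, AffineSpace.homOfVector_appTop_coord]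
    show s.snd.appTop (v (ULift.up (Sum.inr b))) = 0
    rw [h1, ← s.condition, Scheme.Hom.comp_appTop, CommRingCat.comp_apply,
      AffineSpace.homOfVector_appTop_coord]
    exact map_zero _
  refine PullbackCone.IsLimit.mk w' (fun s => IsClosedImmersion.lift j s.snd (hH s)) ?_ ?_ ?_
  · intro s
    apply AffineSpace.hom_ext
    · rw [Category.assoc, AffineSpace.homOfVector_over, ← Category.assoc,
        IsClosedImmersion.lift_fac]
      have h1 := congrArg (fun φ => φ ≫ (𝔸(ULift.{u} (Fin m ⊕ Fin n); S) ↘ S)) s.condition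
      simp only [Category.assoc, AffineSpace.homOfVector_over] at h1
      exact h1.symm
    · intro a
      rw [Scheme.Hom.comp_appTop, CommRingCat.comp_apply, AffineSpace.homOfVector_appTop_coord,
        ← CommRingCat.comp_apply, ← Scheme.Hom.comp_appTop, IsClosedImmersion.lift_fac]
      have h1 : s.snd.appTop (v (ULift.up (Sum.inl a.down))) =
          (s.snd ≫ AffineSpace.homOfVector g v).appTop
            (AffineSpace.coord S (ULift.up (Sum.inl a.down))) := by
        rw [Scheme.Hom.comp_appTop, CommRingCat.comp_apply, AffineSpace.homOfVector_appTop_coord]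
      rw [h1, ← s.condition, Scheme.Hom.comp_appTop, CommRingCat.comp_apply,
        AffineSpace.homOfVector_appTop_coord]
      rfl
  · intro s
    exact IsClosedImmersion.lift_fac j s.snd (hH s)
  · intro s l _ hl
    rw [← cancel_mono j, hl, IsClosedImmersion.lift_fac]

end Groth.Agent.Lib.Helper25.EtaleLocalStr
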