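import Mathlib
import Groth.Agent.Lib.Helper25.EtaleLocalStr2
import Groth.Agent.Lib.Helper25.EtaleLocalStr3
import Groth.Agent.Lib.Helper25.RegSmooth4
import Groth.Agent.Lib.Helper25.SectionEtale3

/-!
# Étale local structure of a smooth closed subscheme of a smooth scheme (helper25)
-/

set_option autoImplicit false
universe u

open CategoryTheory CategoryTheory.Limits AlgebraicGeometry TopologicalSpace

namespace Groth.Agent.Lib.Helper25.EtaleLocalStr

open Groth.Agent.Helper19.RegNear Groth.Agent.Lib.Helper25.RegSmooth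
  Groth.Agent.Lib.Helper25.SectionEtale

theorem etale_local_structure {S X Y : Scheme.{u}} (pX : X ⟶ S) [Smooth pX]
    (i : Y ⟶ X) [IsClosedImmersion i] [Smooth (i ≫ pX)] (y : Y) :
    ∃ (U : X.Opens) (m n : ℕ) (π : (U : Scheme.{u}) ⟶ 𝔸(ULift.{u} (Fin m ⊕ Fin n); S))
      (ρ : (↑(i ⁻¹ᵁ U) : Scheme.{u}) ⟶ 𝔸(ULift.{u} (Fin m); S)),
      i y ∈ U ∧ Etale π ∧ π ≫ (𝔸(ULift.{u} (Fin m ⊕ Fin n); S) ↘ S) = U.ι ≫ pX ∧
      IsPullback ρ (i ∣_ U) (coordEmb S m n) π := by
  -- charts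
  obtain ⟨_, ⟨U₀, hU₀, rfl⟩, hxU₀, -⟩ :=
    S.isBasis_affineOpens.exists_subset_of_mem_open (Set.mem_univ (pX (i y))) isOpen_univ
  obtain ⟨_, ⟨V, hV, rfl⟩, hxV, hVU⟩ :=
    X.isBasis_affineOpens.exists_subset_of_mem_open hxU₀ (U₀.2.preimage pX.continuous)
  have hU' : IsAffineOpen U₀ := hU₀
  have hV0 : IsAffineOpen V := hV
  have hV' : IsAffineOpen (i ⁻¹ᵁ V) := hV0.preimage i
  have hxV' : y ∈ i ⁻¹ᵁ V := hxV
  have hVU' : V ≤ pX ⁻¹ᵁ U₀ := hVU
  have hle : i ⁻¹ᵁ V ≤ (i ≫ pX) ⁻¹ᵁ U₀ := fun z hz => hVU hz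
  have hsmX : i y ∈ pX.smoothLocus := by
    rw [Scheme.Hom.smoothLocus_eq_top pX]; trivial
  have hY : y ∈ (i ≫ pX).smoothLocus := by
    rw [Scheme.Hom.smoothLocus_eq_top (i ≫ pX)]; trivial
  -- algebra structures
  letI algAB : Algebra Γ(S, U₀) Γ(X, V) := (pX.appLE U₀ V hVU').hom.toAlgebra
  haveI hfp : Algebra.FinitePresentation Γ(S, U₀) Γ(X, V) :=
    pX.finitePresentation_appLE hU' hV0 hVU'
  letI algBL : Algebra Γ(X, V) (X.presheaf.stalk (i y)) :=
    TopCat.Presheaf.algebra_section_stalk X.presheaf ⟨i y, hxV⟩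
  haveI hloc : IsLocalization.AtPrime (X.presheaf.stalk (i y))
      (hV0.primeIdealOf ⟨i y, hxV⟩).asIdeal := hV0.isLocalization_stalk ⟨i y, hxV⟩
  letI algAL : Algebra Γ(S, U₀) (X.presheaf.stalk (i y)) :=
    ((X.presheaf.germ V (i y) hxV).hom.comp (pX.appLE U₀ V hVU').hom).toAlgebra
  haveI : IsScalarTower Γ(S, U₀) Γ(X, V) (X.presheaf.stalk (i y)) :=
    IsScalarTower.of_algebraMap_eq' rfl
  set q := (hV0.primeIdealOf ⟨i y, hxV⟩).asIdeal with hq
  set J := i.ker.ideal ⟨V, hV0⟩ with hJ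
  have hker : RingHom.ker (i.stalkMap y).hom =
      J.map (algebraMap Γ(X, V) (X.presheaf.stalk (i y))) := ker_stalkMap_eq i y V hV0 hxV
  have hJq : J ≤ q := fun a ha => mem_primeIdealOf_of_mem_ker i y V hV0 hxV a ha
  have happ : (i ≫ pX).appLE U₀ (i ⁻¹ᵁ V) hle = pX.appLE U₀ V hVU' ≫ i.app V := by
    rw [← Scheme.Hom.appLE_comp_appLE i pX U₀ V (i ⁻¹ᵁ V) hVU' le_rfl, Scheme.Hom.appLE_eq_app]
  haveI hsmL : Algebra.FormallySmooth Γ(S, U₀) (X.presheaf.stalk (i y)) := by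
    have h1 := (formallySmooth_stalkMap_iff_germ pX (i y) U₀ hU' V hV0 hVU' hxV).mp
      ((Scheme.Hom.mem_smoothLocus).mp hsmX)
    exact h1
  haveI hsmY : Algebra.FormallySmooth Γ(S, U₀)
      (X.presheaf.stalk (i y) ⧸ J.map (algebraMap Γ(X, V) (X.presheaf.stalk (i y)))) := by
    have h1 := (formallySmooth_stalkMap_iff_germ (i ≫ pX) y U₀ hU' (i ⁻¹ᵁ V) hV' hle hxV').mp
      ((Scheme.Hom.mem_smoothLocus).mp hY)
    have hρ : (Y.presheaf.germ (i ⁻¹ᵁ V) y hxV').hom.comp ((i ≫ pX).appLE U₀ (i ⁻¹ᵁ V) hle).hom =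
        (i.stalkMap y).hom.comp (algebraMap Γ(S, U₀) (X.presheaf.stalk (i y))) := by
      rw [happ]
      refine RingHom.ext fun a => ?_
      simp only [RingHom.comp_apply, CommRingCat.hom_comp]
      exact (Scheme.Hom.germ_stalkMap_apply i V y hxV ((pX.appLE U₀ V hVU').hom a)).symm
    rw [hρ] at h1
    letI algAL' : Algebra Γ(S, U₀) (Y.presheaf.stalk y) :=
      ((i.stalkMap y).hom.comp (algebraMap Γ(S, U₀) (X.presheaf.stalk (i y)))).toAlgebra
    haveI hsmL' : Algebra.FormallySmooth Γ(S, U₀) (Y.presheaf.stalk y) := h1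
    let σA : X.presheaf.stalk (i y) →ₐ[Γ(S, U₀)] Y.presheaf.stalk y :=
      { (i.stalkMap y).hom with commutes' := fun a => rfl }
    have hσ : Function.Surjective σA := i.stalkMap_surjective y
    let e1 := Ideal.quotientKerAlgEquivOfSurjective hσ
    have hkerσ : J.map (algebraMap Γ(X, V) (X.presheaf.stalk (i y))) = RingHom.ker σA := by
      rw [← hker]
      rfl
    let e2 := Ideal.quotientEquivAlgOfEq Γ(S, U₀) hkerσ
    exact Algebra.FormallySmooth.of_equiv (e2.trans e1).symm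
  have hJfg : J.FG := by
    letI algAC : Algebra Γ(S, U₀) Γ(Y, i ⁻¹ᵁ V) :=
      ((i.app V).hom.comp (pX.appLE U₀ V hVU').hom).toAlgebra
    haveI : Algebra.FinitePresentation Γ(S, U₀) Γ(Y, i ⁻¹ᵁ V) := by
      have h1 := (i ≫ pX).finitePresentation_appLE hU' hV' hle
      rw [happ] at h1
      exact h1
    let ψA : Γ(X, V) →ₐ[Γ(S, U₀)] Γ(Y, i ⁻¹ᵁ V) :=
      { (i.app V).hom with commutes' := fun a => rfl }
    have hψ : Function.Surjective ψA := i.app_surjective V hV0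
    have h2 := Algebra.FinitePresentation.ker_fG_of_surjective ψA hψ
    have h3 : RingHom.ker ψA.toRingHom = J := by
      rw [hJ, Scheme.Hom.ker_apply]
    rwa [h3] at h2
  obtain ⟨f, m, n, h, hfq, hhJ, H⟩ :=
    exists_etale_coordinates_of_smooth_quotient' (A := Γ(S, U₀)) J hJfg q hJq
      (X.presheaf.stalk (i y))
  -- the basic open `D`
  set D : X.Opens := X.basicOpen f with hDdef
  have hDaff : IsAffineOpen D := hV0.basicOpen f
  have hDle : D ≤ V := X.basicOpen_le f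
  have hxD : i y ∈ D := by
    by_contra hn
    exact hfq ((Groth.Agent.Helper19.QuasiRegScheme.mem_primeIdealOf_iff hV0 (i y) hxV f).mpr hn)
  haveI hlocD : IsLocalization.Away f Γ(X, D) := hV0.isLocalization_basicOpen f
  letI algAD : Algebra Γ(S, U₀) Γ(X, D) :=
    ((algebraMap Γ(X, V) Γ(X, D)).comp (algebraMap Γ(S, U₀) Γ(X, V))).toAlgebra
  haveI : IsScalarTower Γ(S, U₀) Γ(X, V) Γ(X, D) := IsScalarTower.of_algebraMap_eq' rfl
  obtain ⟨t, hEt, hJD⟩ := H Γ(X, D)
  have hDU : D ≤ pX ⁻¹ᵁ U₀ := hDle.trans hVU'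
  haveI : IsAffine (U₀ : Scheme.{u}) := hU'
  haveI : IsAffine (D : Scheme.{u}) := hDaff
  let W : ULift.{u} (Fin m ⊕ Fin n) → Γ(X, D) := fun j =>
    Sum.elim t (fun b => algebraMap Γ(X, V) Γ(X, D) (h b)) j.down
  let v : ULift.{u} (Fin m ⊕ Fin n) → Γ(D, ⊤) := fun j => D.topIso.inv (W j)
  -- étaleness
  have hEt₁ : Etale (AffineSpace.homOfVector (pX.resLE U₀ D hDU) v) := by
    apply etale_homOfVector_of_etale
    have heq : MvPolynomial.eval₂Hom (pX.resLE U₀ D hDU).appTop.hom v =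
        (D.topIso.inv.hom.comp
          (MvPolynomial.aeval (R := Γ(S, U₀)) W).toRingHom).comp
          (MvPolynomial.map (Scheme.Opens.topIso U₀).hom.hom) := by
      apply MvPolynomial.ringHom_ext
      · intro r
        simp only [MvPolynomial.coe_eval₂Hom, MvPolynomial.eval₂_C, RingHom.comp_apply,
          MvPolynomial.map_C, AlgHom.toRingHom_eq_coe, RingHom.coe_coe, MvPolynomial.aeval_C]
        have h1 : (pX.resLE U₀ D hDU).appTop = (Scheme.Opens.topIso U₀).hom ≫ pX.appLE U₀ D hDU ≫ D.topIso.inv :=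
          Scheme.Hom.resLE_app_top pX hDU
        rw [h1]
        have h2 : pX.appLE U₀ D hDU = pX.appLE U₀ V hVU' ≫ X.presheaf.map (homOfLE hDle).op :=
          (Scheme.Hom.appLE_map pX hVU' (homOfLE hDle).op).symm
        rw [h2]
        rfl
      · intro j
        simp only [MvPolynomial.coe_eval₂Hom, MvPolynomial.eval₂_X, RingHom.comp_apply,
          MvPolynomial.map_X, AlgHom.toRingHom_eq_coe, RingHom.coe_coe, MvPolynomial.aeval_X]
        rfl
    rw [heq]
    have hμ : (MvPolynomial.map (σ := ULift.{u} (Fin m ⊕ Fin n)) (Scheme.Opens.topIso U₀).hom.hom).Etale := by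
      apply RingHom.Etale.of_bijective
      constructor
      · exact MvPolynomial.map_injective _
          (ConcreteCategory.bijective_of_isIso (Scheme.Opens.topIso U₀).hom).1
      · exact MvPolynomial.map_surjective _
          (ConcreteCategory.bijective_of_isIso (Scheme.Opens.topIso U₀).hom).2
    have hβ : D.topIso.inv.hom.Etale :=
      RingHom.Etale.of_bijective (ConcreteCategory.bijective_of_isIso D.topIso.inv)
    exact RingHom.Etale.stableUnderComposition _ _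
      hμ (RingHom.Etale.stableUnderComposition _ _ hEt hβ)
  have hclaim : AffineSpace.homOfVector (pX.resLE U₀ D hDU) v ≫
      AffineSpace.map (ULift.{u} (Fin m ⊕ Fin n)) (Scheme.Opens.ι U₀) =
      AffineSpace.homOfVector (D.ι ≫ pX) v := by
    apply AffineSpace.hom_ext
    · rw [Category.assoc, AffineSpace.map_over, AffineSpace.homOfVector_over_assoc,
        AffineSpace.homOfVector_over, Scheme.Hom.resLE_comp_ι]
    · intro j
      rw [Scheme.Hom.comp_appTop, CommRingCat.comp_apply, AffineSpace.map_appTop_coord,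
        AffineSpace.homOfVector_appTop_coord, AffineSpace.homOfVector_appTop_coord]
  have hEtπ : Etale (AffineSpace.homOfVector (D.ι ≫ pX) v) := by
    haveI : Etale (AffineSpace.homOfVector (pX.resLE U₀ D hDU) v) := hEt₁
    haveI : IsOpenImmersion (AffineSpace.map (ULift.{u} (Fin m ⊕ Fin n)) (Scheme.Opens.ι U₀)) :=
      isOpenImmersion_affineSpace_map _ _
    rw [← hclaim]
    infer_instance
  -- the kernel of the restricted closed immersion
  have hK : RingHom.ker (i ∣_ D).appTop.hom =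
      Ideal.span (Set.range fun b : Fin n => v (ULift.up (Sum.inr b))) := by
    have h1 : RingHom.ker (i ∣_ D).appTop.hom =
        (i ∣_ D).ker.ideal ⟨⊤, isAffineOpen_top (D : Scheme.{u})⟩ :=
      (Scheme.Hom.ker_apply (i ∣_ D) ⟨⊤, isAffineOpen_top (D : Scheme.{u})⟩).symm
    rw [h1, ker_ideal_restrict i D ⊤ (isAffineOpen_top (D : Scheme.{u}))]
    have h2 := i.ker.map_ideal' (U := ⟨D.ι ''ᵁ ⊤, (isAffineOpen_top (D : Scheme.{u})).image_of_isOpenImmersion D.ι⟩)
      (V := ⟨D, hDaff⟩) (eqToHom (by simp)).op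
    rw [← h2]
    have h3 : i.ker.ideal ⟨D, hDaff⟩ = J.map (algebraMap Γ(X, V) Γ(X, D)) :=
      (i.ker.map_ideal_basicOpen ⟨V, hV0⟩ f).symm
    rw [h3, hJD, Ideal.map_span, ← Set.range_comp]
    rfl
  refine ⟨D, m, n, AffineSpace.homOfVector (D.ι ≫ pX) v,
    AffineSpace.homOfVector ((i ∣_ D) ≫ D.ι ≫ pX)
      (fun a : ULift.{u} (Fin m) => (i ∣_ D).appTop (v (ULift.up (Sum.inl a.down)))),
    hxD, hEtπ, AffineSpace.homOfVector_over _ _, ?_⟩
  exact isPullback_of_ker_eq_span (i ∣_ D) (D.ι ≫ pX) m n v hK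

end Groth.Agent.Lib.Helper25.EtaleLocalStr
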