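import Mathlib
import Groth.Agent.Lib.Helper25.EtaleSlice

/-!
# Étale slices containing a closed subscheme which is unramified over the base (helper25)

* `span_one_tmul_D_eq_top_of_formallyUnramified_quotient`: if `B ⧸ J` is formally unramified over `C`
  and `J` dies in the field `K`, then the `1 ⊗ db`, `b ∈ J`, span `K ⊗_B Ω_{B/C}`.
* `exists_etale_away_quotient_of_formallyUnramified_quotient`: the étale slice, spread out.
* `awayQuotientEquiv'`: `(B ⧸ I)_{f̄} ≃ P ⧸ I P` for any localisation `P` of `B` away from `f`.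
-/

set_option autoImplicit false
universe u v

open TensorProduct KaehlerDifferential IsLocalRing

namespace Groth.Agent.Lib.Helper25.JacobianCrit

section Span

variable (C : Type u) {B : Type v} [CommRing C] [CommRing B] [Algebra C B]

theorem span_one_tmul_D_eq_top_of_formallyUnramified_quotient (K : Type*) [Field K] [Algebra B K]
    (J : Ideal B) [Algebra.FormallyUnramified C (B ⧸ J)]
    (hJK : ∀ b ∈ J, algebraMap B K b = 0) :
    Submodule.span K ((fun b : B => (1 : K) ⊗ₜ[B] D C B b) '' (J : Set B)) = ⊤ := by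
  have key : ∀ ω : Ω[B⁄C], ∃ b ∈ J, (1 : K) ⊗ₜ[B] ω = (1 : K) ⊗ₜ[B] D C B b := by
    intro ω
    have hsurj : Function.Surjective (algebraMap B (B ⧸ J)) := Ideal.Quotient.mk_surjective
    have hex := KaehlerDifferential.exact_kerCotangentToTensor_mapBaseChange C B (B ⧸ J) hsurj
    have h0 : KaehlerDifferential.mapBaseChange C B (B ⧸ J) ((1 : B ⧸ J) ⊗ₜ[B] ω) = 0 :=
      Subsingleton.elim _ _
    obtain ⟨y, hy⟩ := (hex _).mp h0
    obtain ⟨b, rfl⟩ := Ideal.toCotangent_surjective _ y
    rw [KaehlerDifferential.kerCotangentToTensor_toCotangent] at hy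
    let φ : B ⧸ J →ₗ[B] K :=
      (Ideal.Quotient.liftₐ J (Algebra.ofId B K) (fun a ha => hJK a ha)).toLinearMap
    have h1 := congrArg (LinearMap.rTensor Ω[B⁄C] φ) hy
    have hφ1 : φ 1 = 1 := by simp [φ]
    rw [LinearMap.rTensor_tmul, LinearMap.rTensor_tmul, hφ1] at h1
    refine ⟨b.1, ?_, h1.symm⟩
    have hb : Ideal.Quotient.mk J b.1 = 0 := b.2
    exact Ideal.Quotient.eq_zero_iff_mem.mp hb
  rw [eq_top_iff]
  rintro v -
  induction v using TensorProduct.induction_on with
  | zero => exact zero_mem _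
  | add x y hx hy => exact add_mem hx hy
  | tmul k ω =>
    obtain ⟨b, hb, hω⟩ := key ω
    have h1 : k ⊗ₜ[B] ω = k • ((1 : K) ⊗ₜ[B] ω) := by
      rw [TensorProduct.smul_tmul', smul_eq_mul, _root_.mul_one]
    rw [h1, hω]
    exact Submodule.smul_mem _ _ (Submodule.subset_span ⟨b, hb, rfl⟩)

end Span

section Main

variable (C : Type u) {B : Type v} [CommRing C] [CommRing B] [Algebra C B]

/-- If `B ⧸ J` is formally unramified over `C` and `B` is smooth over `C` at the prime `𝔓 ⊇ J`, there are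
`g₁, …, g_c ∈ J` and `f ∉ 𝔓` such that `(B ⧸ (g))_f` is étale over `C`. -/
theorem exists_etale_away_quotient_of_formallyUnramified_quotient
    [Algebra.FinitePresentation C B] (J : Ideal B) [Algebra.FormallyUnramified C (B ⧸ J)]
    (𝔓 : Ideal B) [𝔓.IsPrime] (hJ𝔓 : J ≤ 𝔓) [Algebra.IsSmoothAt C 𝔓] :
    ∃ (c : ℕ) (g : Fin c → B) (f : B), (∀ i, g i ∈ J) ∧ f ∉ 𝔓 ∧
      Algebra.Etale C (Localization.Away (Ideal.Quotient.mk (Ideal.span (Set.range g)) f)) := by
  classical
  have hspan := span_one_tmul_D_eq_top_of_formallyUnramified_quotient C 𝔓.ResidueField J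
    (fun b hb => by
      have : b ∈ RingHom.ker (algebraMap B 𝔓.ResidueField) := by
        rw [Ideal.ker_algebraMap_residueField]; exact hJ𝔓 hb
      exact this)
  obtain ⟨c, g, hgJ, hli, hsp⟩ := exists_fin_basis_of_span_image
    (fun b : B => (1 : 𝔓.ResidueField) ⊗ₜ[B] D C B b) (J : Set B) hspan
  set I := Ideal.span (Set.range g) with hI
  have hIJ : I ≤ J := Ideal.span_le.mpr (by rintro _ ⟨i, rfl⟩; exact hgJ i)
  have hI𝔓 : I ≤ 𝔓 := hIJ.trans hJ𝔓
  let q : Ideal (B ⧸ I) := 𝔓.map (Ideal.Quotient.mk I)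
  have hq : q.comap (Ideal.Quotient.mk I) = 𝔓 := by
    rw [Ideal.comap_map_of_surjective _ Ideal.Quotient.mk_surjective, ← RingHom.ker_eq_comap_bot,
      Ideal.mk_ker, sup_eq_left.mpr hI𝔓]
  have : q.IsPrime := by
    apply Ideal.map_isPrime_of_surjective Ideal.Quotient.mk_surjective
    rw [Ideal.mk_ker]; exact hI𝔓
  have hE : Algebra.IsEtaleAt C q :=
    isEtaleAt_quotient_of_linearIndependent_of_span_eq_top C g q 𝔓 hq hli hsp
  have : Algebra.FinitePresentation C (B ⧸ I) :=
    Algebra.FinitePresentation.quotient ⟨Finset.univ.image g, by simp [hI]⟩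
  obtain ⟨f', hf', hEt⟩ := Algebra.exists_etale_of_isEtaleAt (R := C) q
  obtain ⟨f, rfl⟩ := Ideal.Quotient.mk_surjective f'
  refine ⟨c, g, f, hgJ, ?_, hEt⟩
  intro hf
  exact hf' (Ideal.mem_map_of_mem _ hf)

/-- The `R`-algebra isomorphism `(B ⧸ I)_{f̄} ≃ P ⧸ I P`, `P` any localisation of `B` away from `f`. -/
noncomputable def awayQuotientEquiv' (I : Ideal B) (f : B) (P : Type*) [CommRing P] [Algebra B P]
    [Algebra C P] [IsScalarTower C B P] [IsLocalization.Away f P] :
    Localization.Away (Ideal.Quotient.mk I f) ≃ₐ[C] (P ⧸ I.map (algebraMap B P)) := by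
  haveI : IsScalarTower C (B ⧸ I) (P ⧸ I.map (algebraMap B P)) :=
    IsScalarTower.of_algebraMap_eq fun r => by
      rw [IsScalarTower.algebraMap_apply C B (B ⧸ I), IsScalarTower.algebraMap_apply C P (P ⧸ _),
        IsScalarTower.algebraMap_apply C B P]
      rfl
  have h : IsLocalization (Algebra.algebraMapSubmonoid (B ⧸ I) (Submonoid.powers f))
      (P ⧸ I.map (algebraMap B P)) := inferInstance
  have hpow : Algebra.algebraMapSubmonoid (B ⧸ I) (Submonoid.powers f) =
      Submonoid.powers (Ideal.Quotient.mk I f) := by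
    rw [Algebra.algebraMapSubmonoid, Submonoid.map_powers]
    rfl
  rw [hpow] at h
  let e : Localization.Away (Ideal.Quotient.mk I f) ≃ₐ[B ⧸ I] (P ⧸ I.map (algebraMap B P)) :=
    IsLocalization.algEquiv (Submonoid.powers (Ideal.Quotient.mk I f)) _ _
  exact e.restrictScalars C

end Main

end Groth.Agent.Lib.Helper25.JacobianCrit
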