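import Mathlib
import Groth.Agent.Lib.Helper25.EtaleSliceZ1

set_option autoImplicit false
universe u
open AlgebraicGeometry CategoryTheory

namespace Groth.Agent.Lib.Helper25.EtaleSliceZ

theorem mem_basicOpen_iff_notMem_primeIdealOf {Y : Scheme.{u}} {V : Y.Opens} (hV : IsAffineOpen V)
    (y : Y) (hy : y ∈ V) (c : Γ(Y, V)) :
    y ∈ Y.basicOpen c ↔ c ∉ (hV.primeIdealOf ⟨y, hy⟩).asIdeal := by
  have h1 : hV.fromSpec (hV.primeIdealOf ⟨y, hy⟩) = y := hV.fromSpec_primeIdealOf ⟨y, hy⟩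
  have h2 := hV.fromSpec_preimage_basicOpen c
  constructor
  · intro h
    have : hV.primeIdealOf ⟨y, hy⟩ ∈ hV.fromSpec ⁻¹ᵁ Y.basicOpen c := by
      change hV.fromSpec (hV.primeIdealOf ⟨y, hy⟩) ∈ Y.basicOpen c
      rw [h1]; exact h
    rw [h2] at this
    exact this
  · intro h
    have : hV.primeIdealOf ⟨y, hy⟩ ∈ hV.fromSpec ⁻¹ᵁ Y.basicOpen c := by
      rw [h2]; exact h
    have h3 : hV.fromSpec (hV.primeIdealOf ⟨y, hy⟩) ∈ Y.basicOpen c := this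
    rw [h1] at h3
    exact h3

theorem exists_etale_closed_slice {X Y Z : Scheme.{u}} (f : X ⟶ Y) [Smooth f] (i : Z ⟶ X)
    [IsClosedImmersion i] [IsClosedImmersion (i ≫ f)] (z : Z) :
    ∃ (U : X.Opens) (_ : i z ∈ U) (W : Scheme.{u}) (j : W ⟶ (U : Scheme.{u}))
      (_ : IsClosedImmersion j) (_ : Etale (j ≫ U.ι ≫ f))
      (g : ((i ⁻¹ᵁ U : Z.Opens) : Scheme.{u}) ⟶ W), g ≫ j = i ∣_ U := by
  classical
  set x := i z with hx
  obtain ⟨V, hV, hfxV, -⟩ := exists_isAffineOpen_mem_and_subset (x := f x) (U := ⊤) (Set.mem_univ _)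
  obtain ⟨U₀, hU₀, hxU₀, e₀'⟩ := exists_isAffineOpen_mem_and_subset (x := x) (U := f ⁻¹ᵁ V) hfxV
  have e₀ : U₀ ≤ f ⁻¹ᵁ V := e₀'
  clear e₀'
  have hsm := f.smooth_appLE hV hU₀ e₀
  have hZ₀ : IsAffineOpen (i ⁻¹ᵁ U₀) := hU₀.preimage i
  have e₁ : i ⁻¹ᵁ U₀ ≤ (i ≫ f) ⁻¹ᵁ V := fun a ha => e₀ ha
  have : FormallyUnramified (i ≫ f) := inferInstance
  have hfu : ((i ≫ f).appLE V (i ⁻¹ᵁ U₀) e₁).hom.FormallyUnramified :=
    HasRingHomProperty.appLE (P := @FormallyUnramified) _ inferInstance ⟨V, hV⟩ ⟨_, hZ₀⟩ e₁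
  have hcomp : (i ≫ f).appLE V (i ⁻¹ᵁ U₀) e₁ = f.appLE V U₀ e₀ ≫ i.app U₀ := by
    rw [← Scheme.Hom.appLE_eq_app i, Scheme.Hom.appLE_comp_appLE]
  algebraize [(f.appLE V U₀ e₀).hom]
  set ψ : Γ(X, U₀) →+* Γ(Z, i ⁻¹ᵁ U₀) := (i.app U₀).hom with hψ
  have hψs : Function.Surjective ψ := i.app_surjective U₀ hU₀
  set J := RingHom.ker ψ with hJ
  haveI : Algebra.FormallyUnramified Γ(Y, V) (Γ(X, U₀) ⧸ J) := by
    let eq : (Γ(X, U₀) ⧸ J) ≃+* Γ(Z, i ⁻¹ᵁ U₀) := RingHom.quotientKerEquivOfSurjective hψs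
    have hc : algebraMap Γ(Y, V) (Γ(X, U₀) ⧸ J) =
        eq.symm.toRingHom.comp ((i ≫ f).appLE V (i ⁻¹ᵁ U₀) e₁).hom := by
      ext r
      simp only [RingHom.comp_apply]
      rw [RingEquiv.toRingHom_eq_coe, RingHom.coe_coe, RingEquiv.eq_symm_apply, hcomp]
      rfl
    rw [← RingHom.formallyUnramified_algebraMap, hc]
    exact RingHom.FormallyUnramified.comp hfu
      (RingHom.FormallyUnramified.of_surjective eq.symm.surjective)
  set 𝔓 := hU₀.primeIdealOf ⟨x, hxU₀⟩ with h𝔓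
  have hJ𝔓 : J ≤ 𝔓.asIdeal := by
    intro b hb
    by_contra hb'
    have h1 : x ∈ X.basicOpen b := (mem_basicOpen_iff_notMem_primeIdealOf hU₀ x hxU₀ b).mpr hb'
    have h2 : z ∈ i ⁻¹ᵁ X.basicOpen b := h1
    rw [Scheme.preimage_basicOpen] at h2
    have hb0 : (i.app U₀).hom b = 0 := hb
    rw [hb0, Scheme.basicOpen_zero] at h2
    exact h2
  haveI : Algebra.IsSmoothAt Γ(Y, V) 𝔓.asIdeal := by
    have h : 𝔓 ∈ Algebra.smoothLocus Γ(Y, V) Γ(X, U₀) := by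
      rw [Algebra.smoothLocus_eq_univ]; trivial
    exact h
  obtain ⟨c, g, h, hgJ, hh, hEt⟩ :=
    JacobianCrit.exists_etale_away_quotient_of_formallyUnramified_quotient Γ(Y, V) J 𝔓.asIdeal hJ𝔓
  set I := Ideal.span (Set.range g) with hI
  have hIJ : I ≤ J := Ideal.span_le.mpr (by rintro _ ⟨k, rfl⟩; exact hgJ k)
  -- the open `U`
  obtain ⟨U, hUdef⟩ : ∃ U : X.Opens, U = X.basicOpen h := ⟨_, rfl⟩
  have hU : IsAffineOpen U := hUdef ▸ hU₀.basicOpen h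
  have hxU : x ∈ U := hUdef ▸ (mem_basicOpen_iff_notMem_primeIdealOf hU₀ x hxU₀ h).mpr hh
  have hUU₀ : U ≤ U₀ := hUdef ▸ X.basicOpen_le h
  have eU : U ≤ f ⁻¹ᵁ V := hUU₀.trans e₀
  letI : Algebra Γ(X, U₀) Γ(X, U) := (X.presheaf.map (homOfLE hUU₀).op).hom.toAlgebra
  haveI : IsLocalization.Away h Γ(X, U) := hU₀.isLocalization_of_eq_basicOpen h _ hUdef
  letI : Algebra Γ(Y, V) Γ(X, U) := (f.appLE V U eU).hom.toAlgebra
  haveI : IsScalarTower Γ(Y, V) Γ(X, U₀) Γ(X, U) := IsScalarTower.of_algebraMap_eq' (by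
    rw [RingHom.algebraMap_toAlgebra, RingHom.algebraMap_toAlgebra, RingHom.algebraMap_toAlgebra,
      ← CommRingCat.hom_comp, Scheme.Hom.appLE_map])
  set I' := I.map (algebraMap Γ(X, U₀) Γ(X, U)) with hI'
  have hEt' : Algebra.Etale Γ(Y, V) (Γ(X, U) ⧸ I') :=
    Algebra.Etale.of_equiv (JacobianCrit.awayQuotientEquiv' Γ(Y, V) I h Γ(X, U))
  let W : Scheme.{u} := Spec (CommRingCat.of (Γ(X, U) ⧸ I'))
  let j : W ⟶ (U : Scheme.{u}) :=
    Spec.map (CommRingCat.ofHom (Ideal.Quotient.mk I')) ≫ hU.isoSpec.inv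
  have hjcl : IsClosedImmersion j := by
    haveI : IsClosedImmersion (Spec.map (CommRingCat.ofHom (Ideal.Quotient.mk I'))) :=
      IsClosedImmersion.spec_of_surjective _ Ideal.Quotient.mk_surjective
    infer_instance
  have hjet : Etale (j ≫ U.ι ≫ f) := by
    have h1 : j ≫ U.ι ≫ f =
        Spec.map (CommRingCat.ofHom (algebraMap Γ(Y, V) (Γ(X, U) ⧸ I'))) ≫ hV.fromSpec := by
      change (Spec.map (CommRingCat.ofHom (Ideal.Quotient.mk I')) ≫ hU.isoSpec.inv) ≫ U.ι ≫ f = _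
      rw [Category.assoc, ← Category.assoc hU.isoSpec.inv, IsAffineOpen.isoSpec_inv_ι,
        ← IsAffineOpen.SpecMap_appLE_fromSpec f hV hU eU, ← Category.assoc, ← Spec.map_comp]
      congr 2
    rw [h1]
    haveI : Etale (Spec.map (CommRingCat.ofHom (algebraMap Γ(Y, V) (Γ(X, U) ⧸ I')))) := by
      rw [HasRingHomProperty.Spec_iff (P := @Etale)]
      exact RingHom.etale_algebraMap.mpr hEt'
    infer_instance
  -- the lift
  have hZU : IsAffineOpen (i ⁻¹ᵁ U) := hU.preimage i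
  have hker : ∀ a ∈ I', (i.app U).hom a = 0 := by
    have hle : I' ≤ RingHom.ker (i.app U).hom := by
      rw [hI', Ideal.map_le_iff_le_comap]
      intro b hb
      have hbJ : (i.app U₀).hom b = 0 := hIJ hb
      rw [Ideal.mem_comap, RingHom.mem_ker, RingHom.algebraMap_toAlgebra]
      have hnat := i.naturality (homOfLE hUU₀).op
      have h2 := congrArg (fun t => t.hom b) hnat
      simp only [CommRingCat.hom_comp, RingHom.comp_apply] at h2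
      rw [h2, hbJ, map_zero]
    exact fun a ha => hle ha
  let φ : Γ(X, U) ⧸ I' →+* Γ(Z, i ⁻¹ᵁ U) := Ideal.Quotient.lift I' (i.app U).hom hker
  let gg : ((i ⁻¹ᵁ U : Z.Opens) : Scheme.{u}) ⟶ W :=
    hZU.isoSpec.hom ≫ Spec.map (CommRingCat.ofHom φ)
  refine ⟨U, hxU, W, j, hjcl, hjet, gg, ?_⟩
  rw [← cancel_mono U.ι]
  change (hZU.isoSpec.hom ≫ Spec.map (CommRingCat.ofHom φ)) ≫
    (Spec.map (CommRingCat.ofHom (Ideal.Quotient.mk I')) ≫ hU.isoSpec.inv) ≫ U.ι = _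
  rw [morphismRestrict_ι]
  simp only [Category.assoc]
  rw [IsAffineOpen.isoSpec_inv_ι, ← Spec.map_comp_assoc, ← CommRingCat.ofHom_comp]
  have hφ : φ.comp (Ideal.Quotient.mk I') = (i.app U).hom := Ideal.Quotient.lift_comp_mk _ _ _
  rw [hφ, CommRingCat.ofHom_hom, ← Scheme.Hom.appLE_eq_app i,
    IsAffineOpen.SpecMap_appLE_fromSpec i hU hZU le_rfl, IsAffineOpen.isoSpec_hom_fromSpec_assoc]

end Groth.Agent.Lib.Helper25.EtaleSliceZ
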