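import Mathlib

/-!
# Flatness of `expand p` on polynomial rings (helper25)

* `flat_polynomial_expand`: `Polynomial.expand R p` is a flat ring map (`p ≠ 0`), via
  `R[Y][X]/(X^p - Y) ≃ R[X]`.
* `flat_mapRingHom`: `Polynomial.mapRingHom f` is flat when `f` is.
* `flat_mvPolynomial_expand`: `MvPolynomial.expand p` is flat on `MvPolynomial σ k`, `σ` finite.
-/

set_option autoImplicit false
universe u

namespace Groth.Agent.Lib.Helper25.ExpandFlat

open Polynomial

section One

variable (R : Type u) [CommRing R] (p : ℕ)

/-- the polynomial `X^p - Y` over `R[Y]` -/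
noncomputable abbrev gpoly : R[X][X] := X ^ p - C (X : R[X])

noncomputable def fwd : AdjoinRoot (gpoly R p) →+* R[X] :=
  AdjoinRoot.lift ((expand R p : R[X] →ₐ[R] R[X]) : R[X] →+* R[X]) X (by
    simp [gpoly, eval₂_sub, eval₂_pow])

noncomputable def bwd : R[X] →+* AdjoinRoot (gpoly R p) :=
  eval₂RingHom ((AdjoinRoot.of (gpoly R p)).comp (C : R →+* R[X])) (AdjoinRoot.root (gpoly R p))

theorem fwd_of (q : R[X]) : fwd R p (AdjoinRoot.of (gpoly R p) q) = expand R p q := by
  simp [fwd]

theorem fwd_root : fwd R p (AdjoinRoot.root (gpoly R p)) = X := by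
  simp [fwd]

theorem bwd_C (r : R) : bwd R p (C r) = AdjoinRoot.of (gpoly R p) (C r) := by
  simp [bwd]

theorem bwd_X : bwd R p X = AdjoinRoot.root (gpoly R p) := by
  simp [bwd]

theorem root_pow : (AdjoinRoot.root (gpoly R p)) ^ p = AdjoinRoot.of (gpoly R p) X := by
  have h := AdjoinRoot.eval₂_root (gpoly R p)
  simp only [gpoly, eval₂_sub, eval₂_pow, eval₂_X, eval₂_C] at h
  exact sub_eq_zero.mp h

theorem fwd_bwd : (fwd R p).comp (bwd R p) = RingHom.id _ := by
  apply Polynomial.ringHom_ext
  · intro r
    simp [bwd_C, fwd_of]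
  · simp [bwd_X, fwd_root]

theorem bwd_fwd_of (q : R[X]) :
    bwd R p (fwd R p (AdjoinRoot.of (gpoly R p) q)) = AdjoinRoot.of (gpoly R p) q := by
  have : ((bwd R p).comp (fwd R p)).comp (AdjoinRoot.of (gpoly R p)) = AdjoinRoot.of (gpoly R p) := by
    apply Polynomial.ringHom_ext
    · intro r
      simp [fwd_of, bwd_C]
    · simp only [RingHom.comp_apply, fwd_of, expand_X, map_pow, bwd_X, root_pow]
  exact congrArg (fun f => f q) this

theorem bwd_fwd : (bwd R p).comp (fwd R p) = RingHom.id _ := by
  have h2 : ((bwd R p).comp (fwd R p)).comp (AdjoinRoot.mk (gpoly R p)) = AdjoinRoot.mk (gpoly R p) := by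
    apply Polynomial.ringHom_ext
    · intro a
      simp only [RingHom.comp_apply, AdjoinRoot.mk_C]
      exact bwd_fwd_of R p a
    · simp only [RingHom.comp_apply, AdjoinRoot.mk_X, fwd_root, bwd_X]
  refine RingHom.ext fun z => ?_
  obtain ⟨q, rfl⟩ := AdjoinRoot.mk_surjective z
  exact congrArg (fun f => f q) h2

/-- `R[Y][X]/(X^p - Y) ≃ R[X]` -/
noncomputable def adjoinRootEquiv : AdjoinRoot (gpoly R p) ≃+* R[X] :=
  RingEquiv.ofRingHom (fwd R p) (bwd R p) (fwd_bwd R p) (bwd_fwd R p)

/-- the ring hom underlying `Polynomial.expand R p` -/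
noncomputable def polyExpand : R[X] →+* R[X] := ((expand R p : R[X] →ₐ[R] R[X]) : R[X] →+* R[X])

theorem polyExpand_apply (q : R[X]) : polyExpand R p q = expand R p q := rfl

theorem flat_polynomial_expand (hp : p ≠ 0) : (polyExpand R p).Flat := by
  show ((expand R p : R[X] →ₐ[R] R[X]) : R[X] →+* R[X]).Flat
  have hm : (gpoly R p).Monic := monic_X_pow_sub_C _ hp
  have h1 : (AdjoinRoot.of (gpoly R p)).Flat := by
    rw [← AdjoinRoot.algebraMap_eq, RingHom.flat_algebraMap_iff]
    have : Module.Free R[X] (AdjoinRoot (gpoly R p)) :=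
      Module.Free.of_basis (AdjoinRoot.powerBasis' hm).basis
    infer_instance
  have h2 : ((adjoinRootEquiv R p : AdjoinRoot (gpoly R p) →+* R[X])).Flat :=
    RingHom.Flat.of_bijective (adjoinRootEquiv R p).bijective
  have h3 : ((expand R p : R[X] →ₐ[R] R[X]) : R[X] →+* R[X]) =
      ((adjoinRootEquiv R p : AdjoinRoot (gpoly R p) →+* R[X])).comp (AdjoinRoot.of (gpoly R p)) := by
    refine RingHom.ext fun q => ?_
    exact (fwd_of R p q).symm
  rw [h3]
  exact RingHom.Flat.comp h1 h2

end One

section Map

variable {A B : Type u} [CommRing A] [CommRing B]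

attribute [local instance] Polynomial.algebra in
theorem flat_mapRingHom (f : A →+* B) (hf : f.Flat) : (Polynomial.mapRingHom f).Flat := by
  algebraize [f]
  have h := RingHom.Flat.isStableUnderBaseChange A B A[X] B[X] hf
  exact h

end Map

section Mv

open MvPolynomial

/-- the ring hom underlying `MvPolynomial.expand p` -/
noncomputable abbrev mvExpand (σ : Type u) (k : Type u) [CommRing k] (p : ℕ) :
    MvPolynomial σ k →+* MvPolynomial σ k :=
  ((MvPolynomial.expand p : MvPolynomial σ k →ₐ[k] MvPolynomial σ k) : _ →+* _)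

theorem mvExpand_option (σ : Type u) (k : Type u) [CommRing k] (p : ℕ) :
    ((optionEquivLeft k σ : MvPolynomial (Option σ) k →+* Polynomial (MvPolynomial σ k))).comp
        (mvExpand (Option σ) k p) =
      ((polyExpand (MvPolynomial σ k) p).comp
        (Polynomial.mapRingHom (mvExpand σ k p))).comp
        (optionEquivLeft k σ : MvPolynomial (Option σ) k →+* Polynomial (MvPolynomial σ k)) := by
  apply MvPolynomial.ringHom_ext
  · intro r
    simp [mvExpand, optionEquivLeft_C, polyExpand_apply]
  · intro i
    cases i with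
    | none => simp [mvExpand, optionEquivLeft_X_none, polyExpand_apply]
    | some j => simp [mvExpand, optionEquivLeft_X_some, polyExpand_apply]

theorem flat_mvExpand (p : ℕ) (hp : p ≠ 0) (σ : Type u) [Finite σ] :
    ∀ (k : Type u) [CommRing k], (mvExpand σ k p).Flat := by
  refine Finite.induction_empty_option (P := fun σ : Type u =>
    ∀ (k : Type u) [CommRing k], (mvExpand σ k p).Flat) ?_ ?_ ?_ σ
  · -- equivalence invariance
    intro α β e h k _
    have h1 : mvExpand β k p =
        (((renameEquiv k e : MvPolynomial α k ≃ₐ[k] MvPolynomial β k) : _ →+* _).comp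
          (mvExpand α k p)).comp
          ((renameEquiv k e).symm : MvPolynomial β k →+* MvPolynomial α k) := by
      apply MvPolynomial.ringHom_ext
      · intro r
        simp [mvExpand]
      · intro i
        simp [mvExpand]
    rw [h1]
    exact RingHom.Flat.comp (RingHom.Flat.of_bijective (renameEquiv k e).symm.bijective)
      (RingHom.Flat.comp (h k) (RingHom.Flat.of_bijective (renameEquiv k e).bijective))
  · -- empty
    intro k _
    have h1 : mvExpand PEmpty.{u+1} k p = RingHom.id _ := by
      apply MvPolynomial.ringHom_ext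
      · intro r
        simp [mvExpand]
      · intro i
        exact i.elim
    rw [h1]
    exact RingHom.Flat.id _
  · -- option
    intro α _ h k _
    have hcomp := mvExpand_option α k p
    have hA : (polyExpand (MvPolynomial α k) p).Flat :=
      flat_polynomial_expand (MvPolynomial α k) p hp
    have hB : (Polynomial.mapRingHom (mvExpand α k p)).Flat := flat_mapRingHom _ (h k)
    have he : ((optionEquivLeft k α : MvPolynomial (Option α) k →+*
        Polynomial (MvPolynomial α k))).Flat :=
      RingHom.Flat.of_bijective (optionEquivLeft k α).bijective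
    have he' : (((optionEquivLeft k α).symm : Polynomial (MvPolynomial α k) →+*
        MvPolynomial (Option α) k)).Flat :=
      RingHom.Flat.of_bijective (optionEquivLeft k α).symm.bijective
    have h1 : mvExpand (Option α) k p =
        (((optionEquivLeft k α).symm : Polynomial (MvPolynomial α k) →+*
            MvPolynomial (Option α) k)).comp
          (((optionEquivLeft k α : MvPolynomial (Option α) k →+*
              Polynomial (MvPolynomial α k))).comp
            (mvExpand (Option α) k p)) := by
      refine RingHom.ext fun x => ?_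
      simp
    rw [h1, hcomp]
    exact RingHom.Flat.comp (RingHom.Flat.comp he (RingHom.Flat.comp hB hA)) he'

end Mv

end Groth.Agent.Lib.Helper25.ExpandFlat
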