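import Mathlib
import Groth.Agent.Lib.Helper25.GenFibreRed

/-!
# Geometrically reduced fibre through the generic point: the non-dominant case (helper25)
-/

set_option autoImplicit false
universe u
open CategoryTheory CategoryTheory.Limits AlgebraicGeometry TopologicalSpace
open scoped TensorProduct
open Groth.Agent.Helper19.OmegaLocal

namespace Groth.Agent.Lib.Helper25.GenFibreRed

/-- If every element of the field `K` is a fraction of elements coming from `A`, then scalars
from `K` can be moved across `⊗[A]`. -/
theorem compatibleSMul_of_frac (A K M N : Type u) [CommRing A] [Field K] [Algebra A K]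
    [AddCommGroup M] [AddCommGroup N] [Module A M] [Module K M] [IsScalarTower A K M]
    [Module A N] [Module K N] [IsScalarTower A K N]
    (hfrac : ∀ x : K, ∃ a s : A, algebraMap A K s ≠ 0 ∧ x * algebraMap A K s = algebraMap A K a) :
    TensorProduct.CompatibleSMul A K M N := by
  refine ⟨fun r m n => ?_⟩
  obtain ⟨a, s, hs, hrs⟩ := hfrac r
  set σ := algebraMap A K s with hσ
  have hr : r = algebraMap A K a * σ⁻¹ := by
    rw [← hrs, mul_assoc, mul_inv_cancel₀ hs, mul_one]
  have h1 : n = s • (σ⁻¹ • n) := by
    rw [← algebraMap_smul K s (σ⁻¹ • n), smul_smul, mul_inv_cancel₀ hs, one_smul]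
  have e2 : (r • m) ⊗ₜ[A] (s • (σ⁻¹ • n)) = (s • (r • m)) ⊗ₜ[A] (σ⁻¹ • n) := by
    rw [TensorProduct.tmul_smul s (r • m) (σ⁻¹ • n), TensorProduct.smul_tmul' s (r • m) (σ⁻¹ • n)]
  have e3 : s • (r • m) = a • m := by
    rw [← algebraMap_smul K s (r • m), ← algebraMap_smul K a m, smul_smul, mul_comm, hrs]
  have e4 : (a • m) ⊗ₜ[A] (σ⁻¹ • n) = m ⊗ₜ[A] (a • (σ⁻¹ • n)) := by
    rw [TensorProduct.tmul_smul a m (σ⁻¹ • n), TensorProduct.smul_tmul' a m (σ⁻¹ • n)]
  have e5 : a • (σ⁻¹ • n) = r • n := by
    rw [← algebraMap_smul K a (σ⁻¹ • n), smul_smul, ← hr]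
  calc (r • m) ⊗ₜ[A] n = (r • m) ⊗ₜ[A] (s • (σ⁻¹ • n)) := congrArg _ h1
    _ = (s • (r • m)) ⊗ₜ[A] (σ⁻¹ • n) := e2
    _ = (a • m) ⊗ₜ[A] (σ⁻¹ • n) := by rw [e3]
    _ = m ⊗ₜ[A] (a • (σ⁻¹ • n)) := e4
    _ = m ⊗ₜ[A] (r • n) := by rw [e5]

/-- Variant of `isReduced_tensor_of_isLocalization` where `K` is only assumed to have
compatible scalar action across `⊗[A]`. -/
theorem isReduced_tensor_of_isLocalization' (A B K L Lb : Type u) [CommRing A] [CommRing B]
    [CommRing K] [CommRing L] [CommRing Lb]
    [Algebra A B] [Algebra A K] [Algebra K L] [Algebra B L] [Algebra A L] [Algebra K Lb]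
    [Algebra A Lb]
    [IsScalarTower A K L] [IsScalarTower A B L] [IsScalarTower A K Lb]
    (N : Submonoid B) [IsLocalization N L] [TensorProduct.CompatibleSMul A K Lb L]
    (h : IsReduced (B ⊗[A] Lb)) : IsReduced (Lb ⊗[K] L) := by
  have h1 : IsReduced (Lb ⊗[A] B) :=
    isReduced_of_injective (Algebra.TensorProduct.comm A Lb B).toRingHom
      (Algebra.TensorProduct.comm A Lb B).injective
  letI : Algebra (Lb ⊗[A] B) (Lb ⊗[A] L) :=
    (Algebra.TensorProduct.map (AlgHom.id Lb Lb) (IsScalarTower.toAlgHom A B L)).toRingHom.toAlgebra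
  haveI : IsScalarTower Lb (Lb ⊗[A] B) (Lb ⊗[A] L) := by
    apply IsScalarTower.of_algebraMap_eq'
    ext x
    simp [RingHom.algebraMap_toAlgebra]
  have H : (algebraMap (Lb ⊗[A] B) (Lb ⊗[A] L)).comp
      (Algebra.TensorProduct.includeRight (R := A) (A := Lb) (B := B)).toRingHom =
      (Algebra.TensorProduct.includeRight (R := A) (A := Lb) (B := L)).toRingHom.comp
        (algebraMap B L) := by
    ext x
    simp [RingHom.algebraMap_toAlgebra]
  haveI := IsLocalization.tensorProduct_tensorProduct_right A Lb N L H
  have h2 : IsReduced (Lb ⊗[A] L) :=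
    isReduced_localizationPreserves (N.map (Algebra.TensorProduct.includeRight (R := A) (A := Lb)))
      (Lb ⊗[A] L) h1
  let e : Lb ⊗[K] L ≃ₐ[Lb] Lb ⊗[A] L := Algebra.TensorProduct.equivOfCompatibleSMul A K Lb Lb L
  exact isReduced_of_injective e.toRingHom e.injective

/-- Every element of the residue field at a point of an affine open is a fraction of values of
sections over that open. -/
theorem exists_frac_evaluation {Z : Scheme.{u}} {V : Z.Opens} (hV : IsAffineOpen V) (z : Z)
    (hz : z ∈ V) (x : Z.residueField z) :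
    ∃ a s : Γ(Z, V), (Z.evaluation V z hz).hom s ≠ 0 ∧
      x * (Z.evaluation V z hz).hom s = (Z.evaluation V z hz).hom a := by
  letI := TopCat.Presheaf.algebra_section_stalk Z.presheaf (U := V) ⟨z, hz⟩
  haveI : IsLocalization (hV.primeIdealOf ⟨z, hz⟩).asIdeal.primeCompl (Z.presheaf.stalk z) :=
    hV.isLocalization_stalk ⟨z, hz⟩
  obtain ⟨t, rfl⟩ := Z.residue_surjective z x
  obtain ⟨⟨a, s⟩, hts⟩ := IsLocalization.surj (hV.primeIdealOf ⟨z, hz⟩).asIdeal.primeCompl t
  refine ⟨a, s.1, ?_, ?_⟩
  · have hu : IsUnit (algebraMap Γ(Z, V) (Z.presheaf.stalk z) s.1) :=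
      IsLocalization.map_units _ s
    have hu' : IsUnit ((Z.residue z).hom (algebraMap Γ(Z, V) (Z.presheaf.stalk z) s.1)) :=
      hu.map _
    exact hu'.ne_zero
  · have := congrArg (Z.residue z).hom hts
    rw [map_mul] at this
    exact this

open Groth.Agent.Lib.Helper25.DomSepOmega in
theorem isReduced_tensor_residueField_genericPoint' {X Z : Scheme.{u}} (f : X ⟶ Z)
    [IsIntegral X]
    (hsep : GeometricallyReduced
      (pullback.snd f (Z.fromSpecResidueField (f.base (genericPoint X)))))
    (Lb : Type u) [Field Lb] [Algebra (Z.residueField (f.base (genericPoint X))) Lb] :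
    letI := (f.residueFieldMap (genericPoint X)).hom.toAlgebra
    IsReduced (Lb ⊗[Z.residueField (f.base (genericPoint X))]
      (X.residueField (genericPoint X))) := by
  letI algKL := (f.residueFieldMap (genericPoint X)).hom.toAlgebra
  obtain ⟨V, hV, hz, -⟩ :=
    exists_isAffineOpen_mem_and_subset (x := f.base (genericPoint X)) (U := ⊤) trivial
  obtain ⟨U, hU, hξ, hUV⟩ :=
    exists_isAffineOpen_mem_and_subset (x := genericPoint X) (U := f ⁻¹ᵁ V) hz
  letI := algΓ f hUV
  letI algAK : Algebra Γ(Z, V) (Z.residueField (f.base (genericPoint X))) :=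
    (Z.evaluation V (f.base (genericPoint X)) (hUV hξ)).hom.toAlgebra
  letI algBL : Algebra Γ(X, U) (X.residueField (genericPoint X)) :=
    (X.evaluation U (genericPoint X) hξ).hom.toAlgebra
  letI algAL : Algebra Γ(Z, V) (X.residueField (genericPoint X)) :=
    ((algebraMap (Z.residueField (f.base (genericPoint X))) (X.residueField (genericPoint X))).comp
      (algebraMap Γ(Z, V) (Z.residueField (f.base (genericPoint X))))).toAlgebra
  letI algALb : Algebra Γ(Z, V) Lb :=
    ((algebraMap (Z.residueField (f.base (genericPoint X))) Lb).comp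
      (Z.evaluation V (f.base (genericPoint X)) (hUV hξ)).hom).toAlgebra
  haveI : IsScalarTower Γ(Z, V) (Z.residueField (f.base (genericPoint X)))
      (X.residueField (genericPoint X)) := IsScalarTower.of_algebraMap_eq' rfl
  haveI : IsScalarTower Γ(Z, V) (Z.residueField (f.base (genericPoint X))) Lb :=
    IsScalarTower.of_algebraMap_eq' rfl
  haveI : IsScalarTower Γ(Z, V) Γ(X, U) (X.residueField (genericPoint X)) := by
    apply IsScalarTower.of_algebraMap_eq'
    change (f.residueFieldMap (genericPoint X)).hom.comp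
      (Z.evaluation V (f.base (genericPoint X)) (hUV hξ)).hom =
      (X.evaluation U (genericPoint X) hξ).hom.comp (f.appLE V U hUV).hom
    have e0 : f.appLE V U hUV ≫ X.evaluation U (genericPoint X) hξ =
        Z.evaluation V (f.base (genericPoint X)) (hUV hξ) ≫
          f.residueFieldMap (genericPoint X) := by
      rw [Scheme.evaluation_naturality, Scheme.Hom.appLE, Category.assoc]
      congr 1
      rw [← Scheme.germ_residue, ← Category.assoc, X.presheaf.germ_res]
      rfl
    have e0' := congrArg CommRingCat.Hom.hom e0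
    simpa only [CommRingCat.hom_comp] using e0'.symm
  haveI : TensorProduct.CompatibleSMul Γ(Z, V) (Z.residueField (f.base (genericPoint X))) Lb
      (X.residueField (genericPoint X)) :=
    compatibleSMul_of_frac _ _ _ _ (fun x => exists_frac_evaluation hV _ (hUV hξ) x)
  haveI := isLocalization_residueField_of_isGenericPoint hU _ hξ (genericPoint_spec X)
  have h := isReduced_tensor_of_geometricallyReduced f (genericPoint X) hsep hU hV hUV hξ Lb
  exact isReduced_tensor_of_isLocalization' Γ(Z, V) Γ(X, U) _ _ _
    (hU.primeIdealOf ⟨_, hξ⟩).asIdeal.primeCompl h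

theorem isGeometricallyReduced_residueField_genericPoint' {X Z : Scheme.{u}} (f : X ⟶ Z)
    [IsIntegral X]
    (hsep : GeometricallyReduced
      (pullback.snd f (Z.fromSpecResidueField (f.base (genericPoint X))))) :
    letI := (f.residueFieldMap (genericPoint X)).hom.toAlgebra
    Algebra.IsGeometricallyReduced (Z.residueField (f.base (genericPoint X)))
      (X.residueField (genericPoint X)) := by
  letI algKL := (f.residueFieldMap (genericPoint X)).hom.toAlgebra
  exact (Algebra.isGeometricallyReduced_field_iff _ _).mpr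
    (isReduced_tensor_residueField_genericPoint' f hsep _)

/-- fibre through the generic point geometrically reduced and `f` locally of finite type: the
extension of residue fields at the generic point is formally smooth (no dominance needed). -/
theorem formallySmooth_residueFieldMap_genericPoint' {X Z : Scheme.{u}} (f : X ⟶ Z)
    [IsIntegral X] [LocallyOfFiniteType f]
    (hsep : GeometricallyReduced
      (pullback.snd f (Z.fromSpecResidueField (f.base (genericPoint X))))) :
    (f.residueFieldMap (genericPoint X)).hom.FormallySmooth := by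
  letI algKL := (f.residueFieldMap (genericPoint X)).hom.toAlgebra
  haveI := isGeometricallyReduced_residueField_genericPoint' f hsep
  haveI : Algebra.EssFiniteType (Z.residueField (f.base (genericPoint X)))
      (X.residueField (genericPoint X)) :=
    (LocallyOfFiniteType.stalkMap f (genericPoint X)).residueFieldMap
  exact Groth.Agent.Lib27.formallySmooth_of_isGeometricallyReduced _ _

end Groth.Agent.Lib.Helper25.GenFibreRed
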