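import Mathlib
import Groth.Agent.Lib.Helper25.GenFibreRed2
import Groth.Agent.Lib.Helper25.GenSmooth
import Groth.Agent.Lib.Helper25.GrpSmoothPt

/-!
# Generic smoothness from reducedness after base change to an algebraic closure (helper25)
-/

set_option autoImplicit false
universe u
open CategoryTheory CategoryTheory.Limits AlgebraicGeometry TopologicalSpace
open scoped TensorProduct
open Groth.Agent.Helper19.OmegaLocal

namespace Groth.Agent.Lib.Helper25.GenFibreRed

/-- Chart version: if the base change of `X` along `Spec Lb → Spec κ(f x) → Z` is reduced, then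
`Γ(X, U) ⊗ Lb` is reduced. -/
theorem isReduced_tensor_of_isReduced_pullback {X Z : Scheme.{u}} (f : X ⟶ Z) (x : X)
    {U : X.Opens} (hU : IsAffineOpen U) {V : Z.Opens} (hV : IsAffineOpen V) (hUV : U ≤ f ⁻¹ᵁ V)
    (hx : x ∈ U) (Lb : Type u) [Field Lb] [Algebra (Z.residueField (f.base x)) Lb]
    (h1 : IsReduced (pullback f
      (Spec.map (CommRingCat.ofHom (algebraMap (Z.residueField (f.base x)) Lb)) ≫
        Z.fromSpecResidueField (f.base x)))) :
    letI := algΓ f hUV
    letI : Algebra Γ(Z, V) Lb := ((algebraMap (Z.residueField (f.base x)) Lb).comp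
      (Z.evaluation V (f.base x) (hUV hx)).hom).toAlgebra
    IsReduced (Γ(X, U) ⊗[Γ(Z, V)] Lb) := by
  letI := algΓ f hUV
  letI : Algebra Γ(Z, V) Lb := ((algebraMap (Z.residueField (f.base x)) Lb).comp
      (Z.evaluation V (f.base x) (hUV hx)).hom).toAlgebra
  let g := Z.fromSpecResidueField (f.base x)
  let yK : Spec (CommRingCat.of Lb) ⟶ Spec (Z.residueField (f.base x)) :=
    Spec.map (CommRingCat.ofHom (algebraMap (Z.residueField (f.base x)) Lb))
  let y' : Spec (CommRingCat.of Lb) ⟶ Z := yK ≫ g
  have h1' : IsReduced (pullback f y') := h1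
  have h2 : Spec.map (CommRingCat.ofHom (algebraMap Γ(Z, V) Lb)) ≫ hV.fromSpec = y' := by
    have : CommRingCat.ofHom (algebraMap Γ(Z, V) Lb) =
        Z.evaluation V (f.base x) (hUV hx) ≫
          CommRingCat.ofHom (algebraMap (Z.residueField (f.base x)) Lb) := rfl
    rw [this, Spec.map_comp, Category.assoc, SpecMap_evaluation_fromSpec]
  have e₁ : Spec.map (CommRingCat.ofHom (algebraMap Γ(Z, V) Γ(X, U))) ≫ hV.fromSpec =
      hU.fromSpec ≫ f := IsAffineOpen.SpecMap_appLE_fromSpec f hV hU hUV
  have e₂ : Spec.map (CommRingCat.ofHom (algebraMap Γ(Z, V) Lb)) ≫ hV.fromSpec = 𝟙 _ ≫ y' := by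
    rw [h2, Category.id_comp]
  let j := pullback.map (Spec.map (CommRingCat.ofHom (algebraMap Γ(Z, V) Γ(X, U))))
    (Spec.map (CommRingCat.ofHom (algebraMap Γ(Z, V) Lb))) f y' hU.fromSpec (𝟙 _) hV.fromSpec e₁ e₂
  haveI : IsOpenImmersion j := inferInstance
  have h3 : IsReduced (pullback (Spec.map (CommRingCat.ofHom (algebraMap Γ(Z, V) Γ(X, U))))
      (Spec.map (CommRingCat.ofHom (algebraMap Γ(Z, V) Lb)))) := isReduced_of_isOpenImmersion j
  have h4 : IsReduced (Spec (CommRingCat.of (Γ(X, U) ⊗[Γ(Z, V)] Lb))) :=
    isReduced_of_isOpenImmersion (pullbackSpecIso Γ(Z, V) Γ(X, U) Lb).inv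
  exact (affine_isReduced_iff _).mp h4

open Groth.Agent.Lib.Helper25.DomSepOmega in
theorem isReduced_tensor_residueField_genericPoint'' {X Z : Scheme.{u}} (f : X ⟶ Z)
    [IsIntegral X]
    (Lb : Type u) [Field Lb] [Algebra (Z.residueField (f.base (genericPoint X))) Lb]
    (h1 : IsReduced (pullback f
      (Spec.map (CommRingCat.ofHom
        (algebraMap (Z.residueField (f.base (genericPoint X))) Lb)) ≫
        Z.fromSpecResidueField (f.base (genericPoint X))))) :
    letI := (f.residueFieldMap (genericPoint X)).hom.toAlgebra
    IsReduced (Lb ⊗[Z.residueField (f.base (genericPoint X))]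
      (X.residueField (genericPoint X))) := by
  letI algKL := (f.residueFieldMap (genericPoint X)).hom.toAlgebra
  obtain ⟨V, hV, hz, -⟩ :=
    exists_isAffineOpen_mem_and_subset (x := f.base (genericPoint X)) (U := ⊤) trivial
  obtain ⟨U, hU, hξ, hUV⟩ :=
    exists_isAffineOpen_mem_and_subset (x := genericPoint X) (U := f ⁻¹ᵁ V) hz
  letI := algΓ f hUV
  letI algAK : Algebra Γ(Z, V) (Z.residueField (f.base (genericPoint X))) :=
    (Z.evaluation V (f.base (genericPoint X)) (hUV hξ)).hom.toAlgebra
  letI algBL : Algebra Γ(X, U) (X.residueField (genericPoint X)) :=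
    (X.evaluation U (genericPoint X) hξ).hom.toAlgebra
  letI algAL : Algebra Γ(Z, V) (X.residueField (genericPoint X)) :=
    ((algebraMap (Z.residueField (f.base (genericPoint X))) (X.residueField (genericPoint X))).comp
      (algebraMap Γ(Z, V) (Z.residueField (f.base (genericPoint X))))).toAlgebra
  letI algALb : Algebra Γ(Z, V) Lb :=
    ((algebraMap (Z.residueField (f.base (genericPoint X))) Lb).comp
      (Z.evaluation V (f.base (genericPoint X)) (hUV hξ)).hom).toAlgebra
  haveI : IsScalarTower Γ(Z, V) (Z.residueField (f.base (genericPoint X)))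
      (X.residueField (genericPoint X)) := IsScalarTower.of_algebraMap_eq' rfl
  haveI : IsScalarTower Γ(Z, V) (Z.residueField (f.base (genericPoint X))) Lb :=
    IsScalarTower.of_algebraMap_eq' rfl
  haveI : IsScalarTower Γ(Z, V) Γ(X, U) (X.residueField (genericPoint X)) := by
    apply IsScalarTower.of_algebraMap_eq'
    change (f.residueFieldMap (genericPoint X)).hom.comp
      (Z.evaluation V (f.base (genericPoint X)) (hUV hξ)).hom =
      (X.evaluation U (genericPoint X) hξ).hom.comp (f.appLE V U hUV).hom
    have e0 : f.appLE V U hUV ≫ X.evaluation U (genericPoint X) hξ =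
        Z.evaluation V (f.base (genericPoint X)) (hUV hξ) ≫
          f.residueFieldMap (genericPoint X) := by
      rw [Scheme.evaluation_naturality, Scheme.Hom.appLE, Category.assoc]
      congr 1
      rw [← Scheme.germ_residue, ← Category.assoc, X.presheaf.germ_res]
      rfl
    have e0' := congrArg CommRingCat.Hom.hom e0
    simpa only [CommRingCat.hom_comp] using e0'.symm
  haveI : TensorProduct.CompatibleSMul Γ(Z, V) (Z.residueField (f.base (genericPoint X))) Lb
      (X.residueField (genericPoint X)) :=
    compatibleSMul_of_frac _ _ _ _ (fun x => exists_frac_evaluation hV _ (hUV hξ) x)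
  haveI := isLocalization_residueField_of_isGenericPoint hU _ hξ (genericPoint_spec X)
  have h := isReduced_tensor_of_isReduced_pullback f (genericPoint X) hU hV hUV hξ Lb h1
  exact isReduced_tensor_of_isLocalization' Γ(Z, V) Γ(X, U) _ _ _
    (hU.primeIdealOf ⟨_, hξ⟩).asIdeal.primeCompl h

/-- If the base change of `X` to an algebraic closure of the residue field of `f ξ` is reduced,
then the residue field extension at the generic point is formally smooth. -/
theorem formallySmooth_residueFieldMap_genericPoint'' {X Z : Scheme.{u}} (f : X ⟶ Z)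
    [IsIntegral X] [LocallyOfFiniteType f]
    (h1 : IsReduced (pullback f
      (Spec.map (CommRingCat.ofHom
        (algebraMap (Z.residueField (f.base (genericPoint X)))
          (AlgebraicClosure (Z.residueField (f.base (genericPoint X)))))) ≫
        Z.fromSpecResidueField (f.base (genericPoint X))))) :
    (f.residueFieldMap (genericPoint X)).hom.FormallySmooth := by
  letI algKL := (f.residueFieldMap (genericPoint X)).hom.toAlgebra
  haveI : Algebra.IsGeometricallyReduced (Z.residueField (f.base (genericPoint X)))
      (X.residueField (genericPoint X)) :=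
    (Algebra.isGeometricallyReduced_field_iff _ _).mpr
      (isReduced_tensor_residueField_genericPoint'' f _ h1)
  haveI : Algebra.EssFiniteType (Z.residueField (f.base (genericPoint X)))
      (X.residueField (genericPoint X)) :=
    (LocallyOfFiniteType.stalkMap f (genericPoint X)).residueFieldMap
  exact Groth.Agent.Lib27.formallySmooth_of_isGeometricallyReduced _ _


open Groth.Agent.Lib.Helper25.GrpTangent Groth.Agent.Lib.Helper25.GenSmooth in
/-- An integral scheme locally of finite type over a field `k` whose base change to every
algebraic closure of `k` is reduced is smooth at its generic point. -/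
theorem genericPoint_mem_smoothLocus_of_isReduced_algClosure (k : Type u) [Field k]
    {X : Scheme.{u}} (q : X ⟶ Spec (CommRingCat.of k)) [IsIntegral X]
    [LocallyOfFinitePresentation q]
    (hgr : ∀ (K : Type u) [Field K] [Algebra k K] [IsAlgClosure k K],
      IsReduced (pullback q (Spec.map (CommRingCat.ofHom (algebraMap k K))))) :
    genericPoint X ∈ q.smoothLocus := by
  let φ : CommRingCat.of k ⟶ (Spec (CommRingCat.of k)).residueField (q.base (genericPoint X)) :=
    τ (q.base (genericPoint X)) ≫ (Spec (CommRingCat.of k)).residue (q.base (genericPoint X))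
  have hφ : Function.Surjective φ.hom := by
    change Function.Surjective
      (((Spec (CommRingCat.of k)).residue (q.base (genericPoint X))).hom.comp
        (τ (q.base (genericPoint X))).hom)
    rw [RingHom.coe_comp]
    exact ((Spec (CommRingCat.of k)).residue_surjective _).comp (bijective_τ _).2
  letI algkκ : Algebra k ((Spec (CommRingCat.of k)).residueField (q.base (genericPoint X))) :=
    φ.hom.toAlgebra
  haveI : Algebra.IsIntegral k
      ((Spec (CommRingCat.of k)).residueField (q.base (genericPoint X))) :=
    Algebra.isIntegral_of_surjective hφ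
  haveI : IsAlgClosure k
      (AlgebraicClosure ((Spec (CommRingCat.of k)).residueField (q.base (genericPoint X)))) :=
    IsAlgClosure.ofAlgebraic k ((Spec (CommRingCat.of k)).residueField (q.base (genericPoint X))) _
  have h0 := hgr
    (AlgebraicClosure ((Spec (CommRingCat.of k)).residueField (q.base (genericPoint X))))
  have e : Spec.map (CommRingCat.ofHom (algebraMap k
      (AlgebraicClosure ((Spec (CommRingCat.of k)).residueField (q.base (genericPoint X)))))) =
      Spec.map (CommRingCat.ofHom
        (algebraMap ((Spec (CommRingCat.of k)).residueField (q.base (genericPoint X)))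
          (AlgebraicClosure ((Spec (CommRingCat.of k)).residueField
            (q.base (genericPoint X)))))) ≫
        (Spec (CommRingCat.of k)).fromSpecResidueField (q.base (genericPoint X)) := by
    have h1 : CommRingCat.ofHom (algebraMap k
        (AlgebraicClosure ((Spec (CommRingCat.of k)).residueField (q.base (genericPoint X))))) =
        φ ≫ CommRingCat.ofHom
          (algebraMap ((Spec (CommRingCat.of k)).residueField (q.base (genericPoint X)))
            (AlgebraicClosure ((Spec (CommRingCat.of k)).residueField
              (q.base (genericPoint X))))) := by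
      ext a
      exact congrFun (congrArg DFunLike.coe (IsScalarTower.algebraMap_eq k
        ((Spec (CommRingCat.of k)).residueField (q.base (genericPoint X)))
        (AlgebraicClosure ((Spec (CommRingCat.of k)).residueField
          (q.base (genericPoint X)))))) a
    rw [h1, Spec.map_comp]
    congr 1
    rw [Scheme.fromSpecResidueField, Spec.fromSpecStalk_eq, ← Spec.map_comp]
    rfl
  rw [e] at h0
  have hfs := formallySmooth_residueFieldMap_genericPoint'' q h0
  have hdr : DenseRange q.base := by
    intro y
    have : y = q.base (genericPoint X) := Subsingleton.elim _ _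
    rw [this]
    exact subset_closure ⟨_, rfl⟩
  exact genericPoint_mem_smoothLocus_of_formallySmooth q hdr hfs

end Groth.Agent.Lib.Helper25.GenFibreRed
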