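import Mathlib
import Groth.Agent.Lib.Helper25.DomSepOmega
import Groth.Agent.S9429

/-!
# Rank of the pulled back differentials at the generic point (helper25)

Algebraic core for "`f^*Ω_Z → Ω_X` has rank at least `dim (closure of image)`".
-/

set_option autoImplicit false
universe u
open scoped TensorProduct
open KaehlerDifferential

namespace Groth.Agent.Lib.Helper25.PullbackDiffRank

section field

variable (k A B K' K : Type u) [Field k] [CommRing A] [CommRing B] [Field K'] [Field K]
  [Algebra k B] [Algebra A B]
  [Algebra A K'] [Algebra B K] [Algebra K' K] [Algebra A K] [IsScalarTower A K' K]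
  [IsScalarTower A B K]
  [Algebra k K'] [Algebra k K] [IsScalarTower k B K] [IsScalarTower k K' K]

/-- From a finite family spanning (after extending scalars to `K`) at least the differentials of
the subfield `K'`, one can extract `m ≤ trdeg K'` members which are linearly independent over
`K`. -/
theorem exists_linearIndependent_map
    (hfrac : ∀ x : K', ∃ a s : A, algebraMap A K' s ≠ 0 ∧
      x * algebraMap A K' s = algebraMap A K' a)
    [Algebra.FormallySmooth K' K] [Algebra.EssFiniteType k K']
    (m : ℕ) (hm : (m : Cardinal.{u}) ≤ Algebra.trdeg k K')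
    {d : ℕ} (v : Fin d → Ω[B⁄k])
    (hv : ∀ a : A, D k B (algebraMap A B a) ∈ Submodule.span B (Set.range v)) :
    ∃ g : Fin m → Fin d, LinearIndependent K (fun i => map k k B K (v (g i))) := by
  classical
  set w : Fin d → Ω[K⁄k] := fun i => map k k B K (v i) with hw
  set T : Submodule K Ω[K⁄k] := Submodule.span K (Set.range w) with hT
  -- (a)
  have ha : ∀ a : A, D k K (algebraMap A K a) ∈ T := by
    intro a
    have h1 : ∀ x ∈ Submodule.span B (Set.range v), map k k B K x ∈ T := by
      intro x hx
      induction hx using Submodule.span_induction with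
      | mem x hx =>
        obtain ⟨i, rfl⟩ := hx
        exact Submodule.subset_span ⟨i, rfl⟩
      | zero => rw [map_zero]; exact T.zero_mem
      | add x y _ _ hx hy => rw [map_add]; exact T.add_mem hx hy
      | smul b x _ hx =>
        rw [map_smul, ← algebraMap_smul K b]
        exact T.smul_mem _ hx
    have h2 := h1 _ (hv a)
    rwa [map_D, ← IsScalarTower.algebraMap_apply A B K] at h2
  -- (b)
  have hb : ∀ x : K', D k K (algebraMap K' K x) ∈ T := by
    intro x
    obtain ⟨a, s, hs, hxs⟩ := hfrac x
    have hσ : algebraMap A K s ≠ 0 := by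
      rw [IsScalarTower.algebraMap_apply A K' K]
      exact (map_ne_zero (algebraMap K' K)).mpr hs
    have e : algebraMap K' K x * algebraMap A K s = algebraMap A K a := by
      rw [IsScalarTower.algebraMap_apply A K' K, IsScalarTower.algebraMap_apply A K' K, ← map_mul,
        hxs]
    have e2 := congrArg (D k K) e
    rw [Derivation.leibniz] at e2
    have e3 : D k K (algebraMap K' K x) = (algebraMap A K s)⁻¹ •
        (D k K (algebraMap A K a) - algebraMap K' K x • D k K (algebraMap A K s)) := by
      rw [← e2, add_sub_cancel_left, smul_smul, inv_mul_cancel₀ hσ, one_smul]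
    rw [e3]
    exact T.smul_mem _ (T.sub_mem (ha a) (T.smul_mem _ (ha s)))
  -- (c)
  have hc1 : ∀ ω : Ω[K'⁄k], map k k K' K ω ∈ T := by
    intro ω
    have hω : ω ∈ Submodule.span K' (Set.range (D k K')) := by
      rw [KaehlerDifferential.span_range_derivation]; trivial
    induction hω using Submodule.span_induction with
    | mem x hx =>
      obtain ⟨y, rfl⟩ := hx
      rw [map_D]
      exact hb y
    | zero => rw [map_zero]; exact T.zero_mem
    | add x y _ _ hx hy => rw [map_add]; exact T.add_mem hx hy
    | smul c x _ hx =>
      rw [map_smul, ← algebraMap_smul K c]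
      exact T.smul_mem _ hx
  have hc : ∀ z : K ⊗[K'] Ω[K'⁄k], mapBaseChange k K' K z ∈ T := by
    intro z
    induction z using TensorProduct.induction_on with
    | zero => rw [map_zero]; exact T.zero_mem
    | tmul y ω =>
      rw [mapBaseChange_tmul]
      exact T.smul_mem _ (hc1 ω)
    | add x y hx hy => rw [map_add]; exact T.add_mem hx hy
  -- (d)
  have hinj := Groth.Agent.Lib.Helper25.DomSepOmega.mapBaseChange_injective_of_formallySmooth k K' K
  have hrank : (m : Cardinal.{u}) ≤ Module.rank K T := by
    have h1 : Module.rank K (K ⊗[K'] Ω[K'⁄k]) ≤ Module.rank K T := by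
      refine LinearMap.rank_le_of_injective ((mapBaseChange k K' K).codRestrict T hc) ?_
      intro x y hxy
      apply hinj
      exact congrArg Subtype.val hxy
    rw [Module.rank_baseChange, Cardinal.lift_id] at h1
    exact hm.trans ((Groth.Agent.S9429.trdeg_le_rank_kaehler k K').trans h1)
  -- (e)
  obtain ⟨κ, a, ha_inj, hsp, hli⟩ := exists_linearIndependent' K w
  haveI : Finite κ := Finite.of_injective a ha_inj
  haveI : Fintype κ := Fintype.ofFinite κ
  have hcard : m ≤ Fintype.card κ := by
    have h1 : Module.finrank K T = Fintype.card κ := by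
      rw [hT, ← hsp]
      exact finrank_span_eq_card hli
    haveI : Module.Finite K T := by
      rw [hT]
      exact Module.Finite.span_of_finite K (Set.finite_range w)
    rw [← h1]
    have h2 : (m : Cardinal.{u}) ≤ (Module.finrank K T : Cardinal.{u}) := by
      rw [Module.finrank_eq_rank]
      exact hrank
    exact_mod_cast h2
  obtain ⟨ι⟩ : Nonempty (Fin m ↪ κ) := by
    rw [← Fintype.card_fin m] at hcard
    exact Function.Embedding.nonempty_of_card_le hcard
  exact ⟨fun i => a (ι i), hli.comp ι ι.injective⟩

end field

/-- Version over a ring which is a field (`IsField`). -/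
theorem exists_linearIndependent_map' (R A B K' K : Type u) [CommRing R] (hR : IsField R)
    [CommRing A] [CommRing B] [Field K'] [Field K]
    [Algebra R B] [Algebra A B]
    [Algebra A K'] [Algebra B K] [Algebra K' K] [Algebra A K] [IsScalarTower A K' K]
    [IsScalarTower A B K]
    [Algebra R K'] [Algebra R K] [IsScalarTower R B K] [IsScalarTower R K' K]
    (hfrac : ∀ x : K', ∃ a s : A, algebraMap A K' s ≠ 0 ∧
      x * algebraMap A K' s = algebraMap A K' a)
    [Algebra.FormallySmooth K' K] [Algebra.EssFiniteType R K']
    (m : ℕ) (hm : (m : Cardinal.{u}) ≤ Algebra.trdeg R K')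
    {d : ℕ} (v : Fin d → Ω[B⁄R])
    (hv : ∀ a : A, D R B (algebraMap A B a) ∈ Submodule.span B (Set.range v)) :
    ∃ g : Fin m → Fin d, LinearIndependent K (fun i => map R R B K (v (g i))) := by
  letI := hR.toField
  exact exists_linearIndependent_map R A B K' K hfrac m hm v hv

end Groth.Agent.Lib.Helper25.PullbackDiffRank
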