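import Mathlib
import Groth.Agent.Helper19.OmegaD8
import Groth.Agent.Lib.Helper5.LocBasisScheme
import Groth.Agent.Lib.Helper25.PullbackDiffRank
import Groth.Agent.Lib.Helper25.GenFibreRed2
import Groth.Agent.Lib.Helper21.FibDim4
import Groth.Agent.Lib.Helper18.DimFormula3
import Groth.Agent.Lib.Helper25.FieldKaehlerSep

set_option autoImplicit false
universe u
open CategoryTheory CategoryTheory.Limits AlgebraicGeometry TopologicalSpace Opposite
open scoped TensorProduct
open Groth.Agent.Lib.Helper29.QCoh Groth.Agent.Helper19.OmegaD Groth.Agent.Helper19.OmegaLocal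

namespace Groth.Agent.Lib.Helper25.PullbackDiffRank

open Groth.Agent.Lib.Helper5.LocBasisScheme in
/-- A morphism out of a module isomorphic to a finite free module has all its values in the span
of (the restrictions of) finitely many global sections. -/
theorem app_mem_span_of_free {X : Scheme.{u}} {M N : X.Modules} {d : ℕ}
    (θ : M ≅ FlatMod.freeMod X d) (c : M ⟶ N) :
    ∃ s' : Fin d → Γ(N, ⊤), ∀ (W : X.Opens) (t : Γ(M, W)),
      c.app W t ∈ Submodule.span Γ(X, W)
        (Set.range fun k => res N (le_top : W ≤ ⊤) (s' k)) := by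
  let a : Fin d → (unitM X ⟶ N) := fun k => Sigma.ι (fun _ : Fin d => unitM X) k ≫ θ.inv ≫ c
  let b : Fin d → (M ⟶ unitM X) := fun k => θ.hom ≫ proj (unitM X) k
  have hab : ∑ k, b k ≫ a k = c := by
    have h1 : ∀ k : Fin d, b k ≫ a k =
        θ.hom ≫ (proj (unitM X) k ≫ Sigma.ι (fun _ : Fin d => unitM X) k) ≫ θ.inv ≫ c := by
      intro k
      simp only [a, b, Category.assoc]
    rw [Finset.sum_congr rfl (fun k _ => h1 k), ← Preadditive.comp_sum, ← Preadditive.sum_comp,
      sum_proj_ι]
    simp
  refine ⟨fun k => (a k).app ⊤ (toUnit 1), fun W t => ?_⟩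
  have h2 := sum_app_apply Finset.univ (fun k => b k ≫ a k) W t
  rw [hab] at h2
  change c.app W t = _ at h2
  rw [h2]
  refine Submodule.sum_mem _ (fun k _ => ?_)
  have h3 : ((b k ≫ a k).app W).hom t = (a k).app W ((b k).app W t) := rfl
  rw [h3]
  obtain ⟨r, hr⟩ := toUnit_surjective ((b k).app W t)
  rw [← hr, toUnit_eq_smul_one r]
  have h4 : (a k).app W (r • toUnit (1 : Γ(X, W))) = r • (a k).app W (toUnit (1 : Γ(X, W))) :=
    (appₗ (a k) W).map_smul r _
  rw [h4]
  refine Submodule.smul_mem _ _ (Submodule.subset_span ⟨k, ?_⟩)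
  change res N le_top ((a k).app ⊤ (toUnit 1)) = _
  rw [← app_res, res_toUnit_one]

open Groth.Agent.Lib.Helper25.DomSepOmega Groth.Agent.Lib.Helper25.GenFibreRed in
theorem exists_linearIndependent_sections (k : Type u) [Field k] {X Z : Scheme.{u}}
    (g : Z ⟶ Spec (CommRingCat.of k)) (f : X ⟶ Z) [IsIntegral X] [LocallyOfFiniteType g]
    [LocallyOfFiniteType f]
    (m : ℕ) (hm : topologicalKrullDim (closure ({f.base (genericPoint X)} : Set Z)) = m)
    (hsep : GeometricallyReduced
      (pullback.snd f (Z.fromSpecResidueField (f.base (genericPoint X)))))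
    (ΩZ : Z.Modules) (dZ : OmegaSh.Der g ΩZ) (hdZ : OmegaSh.IsUniversal dZ)
    (ΩX : X.Modules) (dX : OmegaSh.Der (f ≫ g) ΩX) (hdX : OmegaSh.IsUniversal dX)
    (c : (Scheme.Modules.pullback f).obj ΩZ ⟶ ΩX) (hc : OmegaSh.IsDiffCompat f dZ dX c)
    {d : ℕ} (θ : (Scheme.Modules.pullback f).obj ΩZ ≅ FlatMod.freeMod X d) (U : X.Opens) :
    ∃ s : Fin m → Γ(ΩX, U), LinearIndependent Γ(X, U) s := by
  classical
  by_cases hne : (U : Set X).Nonempty
  swap
  · haveI : Subsingleton Γ(X, U) := by
      have : U = ⊥ := by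
        ext x
        simp only [Opens.coe_bot, Set.mem_empty_iff_false, iff_false]
        exact fun hx => hne ⟨x, hx⟩
      subst this
      infer_instance
    refine ⟨fun _ => 0, ?_⟩
    rw [linearIndependent_iff_injective_finsuppLinearCombination]
    exact Function.injective_of_subsingleton _
  have hξU : genericPoint X ∈ U :=
    ((genericPoint_spec X).mem_open_set_iff U.isOpen).mpr (by simpa using hne)
  obtain ⟨V, hV, hz, -⟩ :=
    exists_isAffineOpen_mem_and_subset (x := f.base (genericPoint X)) (U := ⊤) trivial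
  obtain ⟨W, hW, hξ, hWle⟩ :=
    exists_isAffineOpen_mem_and_subset (x := genericPoint X) (U := f ⁻¹ᵁ V ⊓ U) ⟨hz, hξU⟩
  have hWV : W ≤ f ⁻¹ᵁ V := hWle.trans inf_le_left
  have hWU : W ≤ U := hWle.trans inf_le_right
  have hT : IsAffineOpen (⊤ : (Spec (CommRingCat.of k)).Opens) := isAffineOpen_top _
  have hVT : V ≤ g ⁻¹ᵁ ⊤ := le_top
  have hWT := le_comp_preimage g f hWV hVT
  letI := algΓ g hVT
  letI := algΓ (f ≫ g) hWT
  letI := algΓ f hWV
  haveI := isScalarTower_tri g f hWV hVT
  obtain ⟨P, EX, hEX, hPE⟩ :=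
    exists_local_diffCompat' g (f ≫ g) f dZ hdZ dX hdX c hc hV hT hVT hW hT hWT hWV
  obtain ⟨s', hs'⟩ := app_mem_span_of_free θ c
  -- the finite family in `Ω[B⁄R]`
  let v : Fin d → Ω[Γ(X, W)⁄Γ(Spec (CommRingCat.of k), ⊤)] :=
    fun i => EX (res ΩX (le_top : W ≤ ⊤) (s' i))
  have hv : ∀ a : Γ(Z, V), KaehlerDifferential.D Γ(Spec (CommRingCat.of k), ⊤) Γ(X, W)
      (algebraMap Γ(Z, V) Γ(X, W) a) ∈ Submodule.span Γ(X, W) (Set.range v) := by
    intro a
    have h1 := hPE 1 a
    rw [one_smul] at h1
    rw [show algebraMap Γ(Z, V) Γ(X, W) a = f.appLE V W hWV a from rfl, ← h1]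
    have h2 := hs' W (P.symm (1 ⊗ₜ KaehlerDifferential.D Γ(Spec (CommRingCat.of k), ⊤) Γ(Z, V) a))
    have h3 : ∀ x ∈ Submodule.span Γ(X, W) (Set.range fun i => res ΩX (le_top : W ≤ ⊤) (s' i)),
        EX x ∈ Submodule.span Γ(X, W) (Set.range v) := by
      intro x hx
      induction hx using Submodule.span_induction with
      | mem x hx =>
        obtain ⟨i, rfl⟩ := hx
        exact Submodule.subset_span ⟨i, rfl⟩
      | zero => rw [map_zero]; exact Submodule.zero_mem _
      | add x y _ _ hx hy => rw [map_add]; exact Submodule.add_mem _ hx hy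
      | smul b x _ hx => rw [map_smul]; exact Submodule.smul_mem _ _ hx
    exact h3 _ h2
  -- fields
  letI algKL : Algebra (Z.residueField (f.base (genericPoint X)))
      (X.residueField (genericPoint X)) := (f.residueFieldMap (genericPoint X)).hom.toAlgebra
  letI algAK : Algebra Γ(Z, V) (Z.residueField (f.base (genericPoint X))) :=
    (Z.evaluation V (f.base (genericPoint X)) hz).hom.toAlgebra
  letI algBL : Algebra Γ(X, W) (X.residueField (genericPoint X)) :=
    (X.evaluation W (genericPoint X) hξ).hom.toAlgebra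
  letI algAL : Algebra Γ(Z, V) (X.residueField (genericPoint X)) :=
    ((algebraMap (Z.residueField (f.base (genericPoint X))) (X.residueField (genericPoint X))).comp
      (algebraMap Γ(Z, V) (Z.residueField (f.base (genericPoint X))))).toAlgebra
  haveI : IsScalarTower Γ(Z, V) (Z.residueField (f.base (genericPoint X)))
      (X.residueField (genericPoint X)) := IsScalarTower.of_algebraMap_eq' rfl
  haveI hABK : IsScalarTower Γ(Z, V) Γ(X, W) (X.residueField (genericPoint X)) := by
    apply IsScalarTower.of_algebraMap_eq'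
    change (f.residueFieldMap (genericPoint X)).hom.comp
      (Z.evaluation V (f.base (genericPoint X)) hz).hom =
      (X.evaluation W (genericPoint X) hξ).hom.comp (f.appLE V W hWV).hom
    have e0 : f.appLE V W hWV ≫ X.evaluation W (genericPoint X) hξ =
        Z.evaluation V (f.base (genericPoint X)) hz ≫
          f.residueFieldMap (genericPoint X) := by
      rw [Scheme.evaluation_naturality, Scheme.Hom.appLE, Category.assoc]
      congr 1
      rw [← Scheme.germ_residue, ← Category.assoc, X.presheaf.germ_res]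
      rfl
    have e0' := congrArg CommRingCat.Hom.hom e0
    simpa only [CommRingCat.hom_comp] using e0'.symm
  letI algRK' : Algebra Γ(Spec (CommRingCat.of k), ⊤) (Z.residueField (f.base (genericPoint X))) :=
    ((algebraMap Γ(Z, V) (Z.residueField (f.base (genericPoint X)))).comp
      (algebraMap Γ(Spec (CommRingCat.of k), ⊤) Γ(Z, V))).toAlgebra
  letI algRK : Algebra Γ(Spec (CommRingCat.of k), ⊤) (X.residueField (genericPoint X)) :=
    ((algebraMap Γ(X, W) (X.residueField (genericPoint X))).comp
      (algebraMap Γ(Spec (CommRingCat.of k), ⊤) Γ(X, W))).toAlgebra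
  haveI : IsScalarTower Γ(Spec (CommRingCat.of k), ⊤) Γ(X, W) (X.residueField (genericPoint X)) :=
    IsScalarTower.of_algebraMap_eq' rfl
  haveI : IsScalarTower Γ(Spec (CommRingCat.of k), ⊤) Γ(Z, V)
      (Z.residueField (f.base (genericPoint X))) := IsScalarTower.of_algebraMap_eq' rfl
  haveI : IsScalarTower Γ(Spec (CommRingCat.of k), ⊤) (Z.residueField (f.base (genericPoint X)))
      (X.residueField (genericPoint X)) := by
    apply IsScalarTower.of_algebraMap_eq'
    change (algebraMap Γ(X, W) (X.residueField (genericPoint X))).comp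
      (algebraMap Γ(Spec (CommRingCat.of k), ⊤) Γ(X, W)) =
      (algebraMap (Z.residueField (f.base (genericPoint X))) (X.residueField (genericPoint X))).comp
        ((algebraMap Γ(Z, V) (Z.residueField (f.base (genericPoint X)))).comp
          (algebraMap Γ(Spec (CommRingCat.of k), ⊤) Γ(Z, V)))
    rw [IsScalarTower.algebraMap_eq Γ(Spec (CommRingCat.of k), ⊤) Γ(Z, V) Γ(X, W),
      ← RingHom.comp_assoc, ← RingHom.comp_assoc]
    congr 1
    exact (IsScalarTower.algebraMap_eq Γ(Z, V) Γ(X, W) (X.residueField (genericPoint X))).symm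
  have hR : IsField Γ(Spec (CommRingCat.of k), ⊤) :=
    (Scheme.ΓSpecIso (.of k)).commRingCatIsoToRingEquiv.toMulEquiv.isField (Field.toIsField k)
  haveI : Algebra.FormallySmooth (Z.residueField (f.base (genericPoint X)))
      (X.residueField (genericPoint X)) :=
    formallySmooth_residueFieldMap_genericPoint' f hsep
  haveI : Algebra.FiniteType Γ(Spec (CommRingCat.of k), ⊤) Γ(Z, V) :=
    HasRingHomProperty.appLE (P := @LocallyOfFiniteType) g inferInstance ⟨⊤, hT⟩ ⟨V, hV⟩ hVT
  haveI : Algebra.EssFiniteType Γ(Z, V) (Z.residueField (f.base (genericPoint X))) := by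
    letI := TopCat.Presheaf.algebra_section_stalk Z.presheaf (U := V) ⟨f.base (genericPoint X), hz⟩
    haveI : IsLocalization (hV.primeIdealOf ⟨f.base (genericPoint X), hz⟩).asIdeal.primeCompl
        (Z.presheaf.stalk (f.base (genericPoint X))) := hV.isLocalization_stalk ⟨_, hz⟩
    haveI : Algebra.EssFiniteType Γ(Z, V) (Z.presheaf.stalk (f.base (genericPoint X))) :=
      Algebra.EssFiniteType.of_isLocalization _
        (hV.primeIdealOf ⟨f.base (genericPoint X), hz⟩).asIdeal.primeCompl
    letI : Algebra (Z.presheaf.stalk (f.base (genericPoint X)))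
        (Z.residueField (f.base (genericPoint X))) := (Z.residue _).hom.toAlgebra
    haveI : IsScalarTower Γ(Z, V) (Z.presheaf.stalk (f.base (genericPoint X)))
        (Z.residueField (f.base (genericPoint X))) := IsScalarTower.of_algebraMap_eq' rfl
    haveI : Algebra.FiniteType (Z.presheaf.stalk (f.base (genericPoint X)))
        (Z.residueField (f.base (genericPoint X))) :=
      Algebra.FiniteType.of_surjective (Algebra.ofId _ _) (Z.residue_surjective _)
    exact Algebra.EssFiniteType.comp Γ(Z, V) (Z.presheaf.stalk (f.base (genericPoint X))) _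
  haveI : Algebra.EssFiniteType Γ(Spec (CommRingCat.of k), ⊤)
      (Z.residueField (f.base (genericPoint X))) :=
    Algebra.EssFiniteType.comp _ Γ(Z, V) _
  -- the transcendence degree
  have hm' : (m : Cardinal.{u}) ≤
      Algebra.trdeg Γ(Spec (CommRingCat.of k), ⊤) (Z.residueField (f.base (genericPoint X))) := by
    letI : Z.Over (Spec (CommRingCat.of k)) := ⟨g⟩
    haveI : LocallyOfFiniteType (Z ↘ Spec (CommRingCat.of k)) := ‹LocallyOfFiniteType g›
    obtain ⟨n, hn⟩ : ∃ n : ℕ, Algebra.trdeg Γ(Spec (CommRingCat.of k), ⊤)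
        (Z.residueField (f.base (genericPoint X))) = n := by
      letI := hR.toField
      exact Groth.Agent.Lib.Helper25.FieldKaehlerSep.exists_nat_trdeg _ _
    have h5 : @Algebra.trdeg k (Z.residueField (f.base (genericPoint X))) _ _
        (Curv2.resAlgebra k Z (f.base (genericPoint X))) =
        Algebra.trdeg Γ(Spec (CommRingCat.of k), ⊤) (Z.residueField (f.base (genericPoint X))) := by
      refine @Groth.Agent.Lib.Helper18.DimFormula.trdeg_eq_of_base_ringEquiv k
        Γ(Spec (CommRingCat.of k), ⊤) (Z.residueField (f.base (genericPoint X))) _ _ _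
        (Curv2.resAlgebra k Z (f.base (genericPoint X))) algRK'
        (Scheme.ΓSpecIso (.of k)).symm.commRingCatIsoToRingEquiv ?_
      have e1 : g.appLE ⊤ V hVT ≫ Z.evaluation V (f.base (genericPoint X)) hz =
          g.appTop ≫ Z.presheaf.germ ⊤ (f.base (genericPoint X)) trivial ≫ Z.residue _ := by
        rw [← Scheme.germ_residue, Scheme.Hom.appLE, Category.assoc, ← Category.assoc
          (Z.presheaf.map _), Z.presheaf.germ_res]
        rfl
      have e1' := congrArg CommRingCat.Hom.hom e1
      simp only [CommRingCat.hom_comp] at e1'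
      change ((Z.evaluation V (f.base (genericPoint X)) hz).hom.comp (g.appLE ⊤ V hVT).hom).comp
        (Scheme.ΓSpecIso (.of k)).inv.hom = _
      rw [e1']
      rfl
    have h6 := Groth.Agent.Lib.Helper21.FibDim.topologicalKrullDim_closure_singleton k Z
      (f.base (genericPoint X)) n (h5.trans hn)
    rw [hm] at h6
    have : m = n := by exact_mod_cast h6
    rw [hn, this]
  obtain ⟨γ, hγ⟩ := exists_linearIndependent_map' Γ(Spec (CommRingCat.of k), ⊤) Γ(Z, V) Γ(X, W)
    (Z.residueField (f.base (genericPoint X))) (X.residueField (genericPoint X)) hR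
    (fun x => exists_frac_evaluation hV _ hz x) m hm' v hv
  refine ⟨fun i => res ΩX (le_top : U ≤ ⊤) (s' (γ i)), ?_⟩
  rw [Fintype.linearIndependent_iff]
  intro cf hcf i
  have h7 := congrArg (res ΩX hWU) hcf
  rw [map_sum, map_zero] at h7
  have h8 : ∀ j, res ΩX hWU (cf j • res ΩX (le_top : U ≤ ⊤) (s' (γ j))) =
      (X.presheaf.map (homOfLE hWU).op (cf j)) • res ΩX (le_top : W ≤ ⊤) (s' (γ j)) := fun j => by
    rw [res_smul, res_res]
  rw [Finset.sum_congr rfl (fun j _ => h8 j)] at h7
  have h9 := congrArg EX h7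
  rw [map_sum, map_zero] at h9
  have h10 := congrArg (KaehlerDifferential.map Γ(Spec (CommRingCat.of k), ⊤)
    Γ(Spec (CommRingCat.of k), ⊤) Γ(X, W) (X.residueField (genericPoint X))) h9
  rw [map_sum, map_zero] at h10
  have h11 : ∀ j, KaehlerDifferential.map Γ(Spec (CommRingCat.of k), ⊤)
      Γ(Spec (CommRingCat.of k), ⊤) Γ(X, W) (X.residueField (genericPoint X))
        (EX ((X.presheaf.map (homOfLE hWU).op (cf j)) • res ΩX (le_top : W ≤ ⊤) (s' (γ j)))) =
      algebraMap Γ(X, W) (X.residueField (genericPoint X)) (X.presheaf.map (homOfLE hWU).op (cf j)) •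
        KaehlerDifferential.map Γ(Spec (CommRingCat.of k), ⊤)
          Γ(Spec (CommRingCat.of k), ⊤) Γ(X, W) (X.residueField (genericPoint X)) (v (γ j)) := fun j => by
    rw [map_smul, map_smul, algebraMap_smul]
  rw [Finset.sum_congr rfl (fun j _ => h11 j)] at h10
  have h12 := (Fintype.linearIndependent_iff.mp hγ) _ h10 i
  have hinj : Function.Injective (algebraMap Γ(X, W) (X.residueField (genericPoint X))) := by
    change Function.Injective (X.presheaf.germ W (genericPoint X) hξ ≫ X.residue _).hom
    rw [CommRingCat.hom_comp, RingHom.coe_comp]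
    exact (residue_bijective_of_isGenericPoint _ (genericPoint_spec X)).1.comp
      (germ_injective_of_isIntegral X _ hξ)
  have h13 : X.presheaf.map (homOfLE hWU).op (cf i) = 0 := hinj (h12.trans (map_zero _).symm)
  haveI : Nonempty W := ⟨⟨genericPoint X, hξ⟩⟩
  exact map_injective_of_isIntegral X (homOfLE hWU) (h13.trans (map_zero _).symm)

end Groth.Agent.Lib.Helper25.PullbackDiffRank
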