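import Mathlib
import Groth.Agent.Helper19.OmegaD8
import Groth.Agent.Lib.Helper5.LocBasisScheme
import Groth.Agent.Lib.Helper25.PullbackDiffRank
import Groth.Agent.Lib.Helper25.GenFibreRed2
import Groth.Agent.Lib.Helper21.FibDim4
import Groth.Agent.Lib.Helper18.DimFormula3
import Groth.Agent.Lib.Helper25.FieldKaehlerSep
import Groth.Agent.Lib.Helper25.PullbackDiffRank2

set_option autoImplicit false
universe u
open CategoryTheory CategoryTheory.Limits AlgebraicGeometry TopologicalSpace Opposite
open scoped TensorProduct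
open Groth.Agent.Lib.Helper29.QCoh Groth.Agent.Helper19.OmegaD Groth.Agent.Helper19.OmegaLocal

namespace Groth.Agent.Lib.Helper25.PullbackDiffRank

/-- If a linear map into a vector space over a field `K` (an `R`-algebra) sends a family to a
`K`-linearly independent family, then the wedge of the family is nonzero. -/
theorem ιMulti_ne_zero_of_linearIndependent_map {R M K N : Type*} [CommRing R] [AddCommGroup M]
    [Module R M] [Field K] [Algebra R K] [AddCommGroup N] [Module K N] [Module R N]
    [IsScalarTower R K N] (ψ : M →ₗ[R] N) {m : ℕ} (s : Fin m → M)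
    (h : LinearIndependent K (fun j => ψ (s j))) : exteriorPower.ιMulti R m s ≠ 0 := by
  classical
  -- a `K`-linear left inverse of the linear combination map
  obtain ⟨g, hg⟩ := LinearMap.exists_leftInverse_of_injective
    (Finsupp.linearCombination K (fun j => ψ (s j))) (LinearMap.ker_eq_bot.mpr h)
  let ℓ : M →ₗ[R] (Fin m → K) :=
    ((Finsupp.linearEquivFunOnFinite K K (Fin m)).toLinearMap.comp g).restrictScalars R ∘ₗ ψ
  have hℓ : ∀ j, ℓ (s j) = Pi.single j 1 := by
    intro j
    have h1 : g (ψ (s j)) = Finsupp.single j 1 := by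
      have := LinearMap.congr_fun hg (Finsupp.single j 1)
      simpa using this
    change (Finsupp.linearEquivFunOnFinite K K (Fin m)) (g (ψ (s j))) = _
    rw [h1]
    ext i
    simp [Finsupp.single_apply, Pi.single_apply, eq_comm]
  let B : MultilinearMap R (fun _ : Fin m => M) K :=
    ((Matrix.detRowAlternating (R := K) (n := Fin m)).toMultilinearMap.restrictScalars R).compLinearMap
      (fun _ => ℓ)
  let A : M [⋀^Fin m]→ₗ[R] K :=
    { B with
      map_eq_zero_of_eq' := fun v i j hv hij =>
        (Matrix.detRowAlternating (R := K) (n := Fin m)).map_eq_zero_of_eq (fun a => ℓ (v a))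
          (congrArg ℓ hv) hij }
  intro h0
  have h1 : exteriorPower.alternatingMapLinearEquiv A (exteriorPower.ιMulti R m s) = A s :=
    exteriorPower.alternatingMapLinearEquiv_apply_ιMulti A s
  rw [h0, map_zero] at h1
  have h2 : A s = 1 := by
    change Matrix.detRowAlternating (fun a => ℓ (s a)) = 1
    have : (fun a => ℓ (s a)) = (1 : Matrix (Fin m) (Fin m) K) := by
      funext a
      rw [hℓ a]
      ext b
      simp [Matrix.one_apply, Pi.single_apply, eq_comm]
    rw [this]
    exact Matrix.det_one
  rw [h2] at h1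
  exact zero_ne_one h1


open Groth.Agent.Lib.Helper25.DomSepOmega Groth.Agent.Lib.Helper25.GenFibreRed in
theorem exists_sections_wedge_ne_zero (k : Type u) [Field k] {X Z : Scheme.{u}}
    (g : Z ⟶ Spec (CommRingCat.of k)) (f : X ⟶ Z) [IsIntegral X] [LocallyOfFiniteType g]
    [LocallyOfFiniteType f]
    (m : ℕ) (hm : topologicalKrullDim (closure ({f.base (genericPoint X)} : Set Z)) = m)
    (hsep : GeometricallyReduced
      (pullback.snd f (Z.fromSpecResidueField (f.base (genericPoint X)))))
    (ΩZ : Z.Modules) (dZ : OmegaSh.Der g ΩZ) (hdZ : OmegaSh.IsUniversal dZ)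
    (ΩX : X.Modules) (dX : OmegaSh.Der (f ≫ g) ΩX) (hdX : OmegaSh.IsUniversal dX)
    (c : (Scheme.Modules.pullback f).obj ΩZ ⟶ ΩX) (hc : OmegaSh.IsDiffCompat f dZ dX c)
    {d : ℕ} (θ : (Scheme.Modules.pullback f).obj ΩZ ≅ FlatMod.freeMod X d) (U : X.Opens)
    (hne : (U : Set X).Nonempty) :
    ∃ (s : Fin m → Γ(ΩX, U)) (W : X.Opens) (hWU : W ≤ U), IsAffineOpen W ∧ genericPoint X ∈ W ∧
      exteriorPower.ιMulti Γ(X, W) m (fun j => res ΩX hWU (s j)) ≠ 0 := by
  classical
  have hξU : genericPoint X ∈ U :=
    ((genericPoint_spec X).mem_open_set_iff U.isOpen).mpr (by simpa using hne)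
  obtain ⟨V, hV, hz, -⟩ :=
    exists_isAffineOpen_mem_and_subset (x := f.base (genericPoint X)) (U := ⊤) trivial
  obtain ⟨W, hW, hξ, hWle⟩ :=
    exists_isAffineOpen_mem_and_subset (x := genericPoint X) (U := f ⁻¹ᵁ V ⊓ U) ⟨hz, hξU⟩
  have hWV : W ≤ f ⁻¹ᵁ V := hWle.trans inf_le_left
  have hWU : W ≤ U := hWle.trans inf_le_right
  have hT : IsAffineOpen (⊤ : (Spec (CommRingCat.of k)).Opens) := isAffineOpen_top _
  have hVT : V ≤ g ⁻¹ᵁ ⊤ := le_top
  have hWT := le_comp_preimage g f hWV hVT
  letI := algΓ g hVT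
  letI := algΓ (f ≫ g) hWT
  letI := algΓ f hWV
  haveI := isScalarTower_tri g f hWV hVT
  obtain ⟨P, EX, hEX, hPE⟩ :=
    exists_local_diffCompat' g (f ≫ g) f dZ hdZ dX hdX c hc hV hT hVT hW hT hWT hWV
  obtain ⟨s', hs'⟩ := app_mem_span_of_free θ c
  -- the finite family in `Ω[B⁄R]`
  let v : Fin d → Ω[Γ(X, W)⁄Γ(Spec (CommRingCat.of k), ⊤)] :=
    fun i => EX (res ΩX (le_top : W ≤ ⊤) (s' i))
  have hv : ∀ a : Γ(Z, V), KaehlerDifferential.D Γ(Spec (CommRingCat.of k), ⊤) Γ(X, W)
      (algebraMap Γ(Z, V) Γ(X, W) a) ∈ Submodule.span Γ(X, W) (Set.range v) := by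
    intro a
    have h1 := hPE 1 a
    rw [one_smul] at h1
    rw [show algebraMap Γ(Z, V) Γ(X, W) a = f.appLE V W hWV a from rfl, ← h1]
    have h2 := hs' W (P.symm (1 ⊗ₜ KaehlerDifferential.D Γ(Spec (CommRingCat.of k), ⊤) Γ(Z, V) a))
    have h3 : ∀ x ∈ Submodule.span Γ(X, W) (Set.range fun i => res ΩX (le_top : W ≤ ⊤) (s' i)),
        EX x ∈ Submodule.span Γ(X, W) (Set.range v) := by
      intro x hx
      induction hx using Submodule.span_induction with
      | mem x hx =>
        obtain ⟨i, rfl⟩ := hx
        exact Submodule.subset_span ⟨i, rfl⟩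
      | zero => rw [map_zero]; exact Submodule.zero_mem _
      | add x y _ _ hx hy => rw [map_add]; exact Submodule.add_mem _ hx hy
      | smul b x _ hx => rw [map_smul]; exact Submodule.smul_mem _ _ hx
    exact h3 _ h2
  -- fields
  letI algKL : Algebra (Z.residueField (f.base (genericPoint X)))
      (X.residueField (genericPoint X)) := (f.residueFieldMap (genericPoint X)).hom.toAlgebra
  letI algAK : Algebra Γ(Z, V) (Z.residueField (f.base (genericPoint X))) :=
    (Z.evaluation V (f.base (genericPoint X)) hz).hom.toAlgebra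
  letI algBL : Algebra Γ(X, W) (X.residueField (genericPoint X)) :=
    (X.evaluation W (genericPoint X) hξ).hom.toAlgebra
  letI algAL : Algebra Γ(Z, V) (X.residueField (genericPoint X)) :=
    ((algebraMap (Z.residueField (f.base (genericPoint X))) (X.residueField (genericPoint X))).comp
      (algebraMap Γ(Z, V) (Z.residueField (f.base (genericPoint X))))).toAlgebra
  haveI : IsScalarTower Γ(Z, V) (Z.residueField (f.base (genericPoint X)))
      (X.residueField (genericPoint X)) := IsScalarTower.of_algebraMap_eq' rfl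
  haveI hABK : IsScalarTower Γ(Z, V) Γ(X, W) (X.residueField (genericPoint X)) := by
    apply IsScalarTower.of_algebraMap_eq'
    change (f.residueFieldMap (genericPoint X)).hom.comp
      (Z.evaluation V (f.base (genericPoint X)) hz).hom =
      (X.evaluation W (genericPoint X) hξ).hom.comp (f.appLE V W hWV).hom
    have e0 : f.appLE V W hWV ≫ X.evaluation W (genericPoint X) hξ =
        Z.evaluation V (f.base (genericPoint X)) hz ≫
          f.residueFieldMap (genericPoint X) := by
      rw [Scheme.evaluation_naturality, Scheme.Hom.appLE, Category.assoc]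
      congr 1
      rw [← Scheme.germ_residue, ← Category.assoc, X.presheaf.germ_res]
      rfl
    have e0' := congrArg CommRingCat.Hom.hom e0
    simpa only [CommRingCat.hom_comp] using e0'.symm
  letI algRK' : Algebra Γ(Spec (CommRingCat.of k), ⊤) (Z.residueField (f.base (genericPoint X))) :=
    ((algebraMap Γ(Z, V) (Z.residueField (f.base (genericPoint X)))).comp
      (algebraMap Γ(Spec (CommRingCat.of k), ⊤) Γ(Z, V))).toAlgebra
  letI algRK : Algebra Γ(Spec (CommRingCat.of k), ⊤) (X.residueField (genericPoint X)) :=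
    ((algebraMap Γ(X, W) (X.residueField (genericPoint X))).comp
      (algebraMap Γ(Spec (CommRingCat.of k), ⊤) Γ(X, W))).toAlgebra
  haveI : IsScalarTower Γ(Spec (CommRingCat.of k), ⊤) Γ(X, W) (X.residueField (genericPoint X)) :=
    IsScalarTower.of_algebraMap_eq' rfl
  haveI : IsScalarTower Γ(Spec (CommRingCat.of k), ⊤) Γ(Z, V)
      (Z.residueField (f.base (genericPoint X))) := IsScalarTower.of_algebraMap_eq' rfl
  haveI : IsScalarTower Γ(Spec (CommRingCat.of k), ⊤) (Z.residueField (f.base (genericPoint X)))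
      (X.residueField (genericPoint X)) := by
    apply IsScalarTower.of_algebraMap_eq'
    change (algebraMap Γ(X, W) (X.residueField (genericPoint X))).comp
      (algebraMap Γ(Spec (CommRingCat.of k), ⊤) Γ(X, W)) =
      (algebraMap (Z.residueField (f.base (genericPoint X))) (X.residueField (genericPoint X))).comp
        ((algebraMap Γ(Z, V) (Z.residueField (f.base (genericPoint X)))).comp
          (algebraMap Γ(Spec (CommRingCat.of k), ⊤) Γ(Z, V)))
    rw [IsScalarTower.algebraMap_eq Γ(Spec (CommRingCat.of k), ⊤) Γ(Z, V) Γ(X, W),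
      ← RingHom.comp_assoc, ← RingHom.comp_assoc]
    congr 1
    exact (IsScalarTower.algebraMap_eq Γ(Z, V) Γ(X, W) (X.residueField (genericPoint X))).symm
  have hR : IsField Γ(Spec (CommRingCat.of k), ⊤) :=
    (Scheme.ΓSpecIso (.of k)).commRingCatIsoToRingEquiv.toMulEquiv.isField (Field.toIsField k)
  haveI : Algebra.FormallySmooth (Z.residueField (f.base (genericPoint X)))
      (X.residueField (genericPoint X)) :=
    formallySmooth_residueFieldMap_genericPoint' f hsep
  haveI : Algebra.FiniteType Γ(Spec (CommRingCat.of k), ⊤) Γ(Z, V) :=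
    HasRingHomProperty.appLE (P := @LocallyOfFiniteType) g inferInstance ⟨⊤, hT⟩ ⟨V, hV⟩ hVT
  haveI : Algebra.EssFiniteType Γ(Z, V) (Z.residueField (f.base (genericPoint X))) := by
    letI := TopCat.Presheaf.algebra_section_stalk Z.presheaf (U := V) ⟨f.base (genericPoint X), hz⟩
    haveI : IsLocalization (hV.primeIdealOf ⟨f.base (genericPoint X), hz⟩).asIdeal.primeCompl
        (Z.presheaf.stalk (f.base (genericPoint X))) := hV.isLocalization_stalk ⟨_, hz⟩
    haveI : Algebra.EssFiniteType Γ(Z, V) (Z.presheaf.stalk (f.base (genericPoint X))) :=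
      Algebra.EssFiniteType.of_isLocalization _
        (hV.primeIdealOf ⟨f.base (genericPoint X), hz⟩).asIdeal.primeCompl
    letI : Algebra (Z.presheaf.stalk (f.base (genericPoint X)))
        (Z.residueField (f.base (genericPoint X))) := (Z.residue _).hom.toAlgebra
    haveI : IsScalarTower Γ(Z, V) (Z.presheaf.stalk (f.base (genericPoint X)))
        (Z.residueField (f.base (genericPoint X))) := IsScalarTower.of_algebraMap_eq' rfl
    haveI : Algebra.FiniteType (Z.presheaf.stalk (f.base (genericPoint X)))
        (Z.residueField (f.base (genericPoint X))) :=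
      Algebra.FiniteType.of_surjective (Algebra.ofId _ _) (Z.residue_surjective _)
    exact Algebra.EssFiniteType.comp Γ(Z, V) (Z.presheaf.stalk (f.base (genericPoint X))) _
  haveI : Algebra.EssFiniteType Γ(Spec (CommRingCat.of k), ⊤)
      (Z.residueField (f.base (genericPoint X))) :=
    Algebra.EssFiniteType.comp _ Γ(Z, V) _
  -- the transcendence degree
  have hm' : (m : Cardinal.{u}) ≤
      Algebra.trdeg Γ(Spec (CommRingCat.of k), ⊤) (Z.residueField (f.base (genericPoint X))) := by
    letI : Z.Over (Spec (CommRingCat.of k)) := ⟨g⟩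
    haveI : LocallyOfFiniteType (Z ↘ Spec (CommRingCat.of k)) := ‹LocallyOfFiniteType g›
    obtain ⟨n, hn⟩ : ∃ n : ℕ, Algebra.trdeg Γ(Spec (CommRingCat.of k), ⊤)
        (Z.residueField (f.base (genericPoint X))) = n := by
      letI := hR.toField
      exact Groth.Agent.Lib.Helper25.FieldKaehlerSep.exists_nat_trdeg _ _
    have h5 : @Algebra.trdeg k (Z.residueField (f.base (genericPoint X))) _ _
        (Curv2.resAlgebra k Z (f.base (genericPoint X))) =
        Algebra.trdeg Γ(Spec (CommRingCat.of k), ⊤) (Z.residueField (f.base (genericPoint X))) := by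
      refine @Groth.Agent.Lib.Helper18.DimFormula.trdeg_eq_of_base_ringEquiv k
        Γ(Spec (CommRingCat.of k), ⊤) (Z.residueField (f.base (genericPoint X))) _ _ _
        (Curv2.resAlgebra k Z (f.base (genericPoint X))) algRK'
        (Scheme.ΓSpecIso (.of k)).symm.commRingCatIsoToRingEquiv ?_
      have e1 : g.appLE ⊤ V hVT ≫ Z.evaluation V (f.base (genericPoint X)) hz =
          g.appTop ≫ Z.presheaf.germ ⊤ (f.base (genericPoint X)) trivial ≫ Z.residue _ := by
        rw [← Scheme.germ_residue, Scheme.Hom.appLE, Category.assoc, ← Category.assoc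
          (Z.presheaf.map _), Z.presheaf.germ_res]
        rfl
      have e1' := congrArg CommRingCat.Hom.hom e1
      simp only [CommRingCat.hom_comp] at e1'
      change ((Z.evaluation V (f.base (genericPoint X)) hz).hom.comp (g.appLE ⊤ V hVT).hom).comp
        (Scheme.ΓSpecIso (.of k)).inv.hom = _
      rw [e1']
      rfl
    have h6 := Groth.Agent.Lib.Helper21.FibDim.topologicalKrullDim_closure_singleton k Z
      (f.base (genericPoint X)) n (h5.trans hn)
    rw [hm] at h6
    have : m = n := by exact_mod_cast h6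
    rw [hn, this]
  obtain ⟨γ, hγ⟩ := exists_linearIndependent_map' Γ(Spec (CommRingCat.of k), ⊤) Γ(Z, V) Γ(X, W)
    (Z.residueField (f.base (genericPoint X))) (X.residueField (genericPoint X)) hR
    (fun x => exists_frac_evaluation hV _ hz x) m hm' v hv
  refine ⟨fun i => res ΩX (le_top : U ≤ ⊤) (s' (γ i)), W, hWU, hW, hξ, ?_⟩
  let ψ : Γ(ΩX, W) →ₗ[Γ(X, W)]
      Ω[X.residueField (genericPoint X)⁄Γ(Spec (CommRingCat.of k), ⊤)] :=
    (KaehlerDifferential.map Γ(Spec (CommRingCat.of k), ⊤)
      Γ(Spec (CommRingCat.of k), ⊤) Γ(X, W) (X.residueField (genericPoint X))) ∘ₗ EX.toLinearMap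
  apply ιMulti_ne_zero_of_linearIndependent_map (K := X.residueField (genericPoint X)) ψ
  have h7 : ∀ j, ψ (res ΩX hWU (res ΩX (le_top : U ≤ ⊤) (s' (γ j)))) =
      KaehlerDifferential.map Γ(Spec (CommRingCat.of k), ⊤)
        Γ(Spec (CommRingCat.of k), ⊤) Γ(X, W) (X.residueField (genericPoint X)) (v (γ j)) := by
    intro j
    rw [res_res]
    rfl
  simp only [h7]
  exact hγ

end Groth.Agent.Lib.Helper25.PullbackDiffRank
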