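import Mathlib
import Groth.Prelude.Def_ExtPow2
import Groth.Prelude.Def_Pi1
import Groth.Agent.Helper19.OmegaD8
import Groth.Agent.Lib.Helper25.PullbackDiffRank3
import Groth.Agent.Lib.Helper25.GenFibreRed3

set_option autoImplicit false
universe u
open CategoryTheory CategoryTheory.Limits AlgebraicGeometry TopologicalSpace Opposite
open Groth.Agent.Lib.Helper29.QCoh Groth.Agent.Helper19.OmegaD

namespace Groth.Agent.Lib.Helper25.ExtPowSection

/-- Glue the wedge of `m` sections of `E` over `U` to a section of an `m`-th exterior power of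
`E` over `U`; it is nonzero as soon as the wedge is nonzero over one affine open. -/
theorem exists_section_extPow_ne_zero {X : Scheme.{u}} (E L : X.Modules) (m : ℕ)
    (hL : ExtPow.IsExtPow m E L) (U : X.Opens) (s : Fin m → E.val.obj (op U))
    (W : X.Opens) (hWU : W ≤ U) (hW : IsAffineOpen W)
    (hne : exteriorPower.ιMulti Γ(X, W) m (fun j => res E hWU (s j)) ≠ 0) :
    ∃ t : L.val.obj (op U), t ≠ 0 := by
  obtain ⟨φ, hφ⟩ := hL
  let ι := {V : X.affineOpens // V.1 ≤ U}
  let sf : ∀ V : ι, Γ(L, V.1.1) := fun V =>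
    (φ V.1).symm (exteriorPower.ιMulti _ m (fun j => res E V.2 (s j)))
  have hres : ∀ (V : ι) (W' : X.affineOpens) (h : W'.1 ≤ V.1.1),
      res L h (sf V) = (φ W').symm (exteriorPower.ιMulti _ m
        (fun j => res E (h.trans V.2) (s j))) := by
    intro V W' h
    have h1 := hφ V.1 W' h (fun j => res E V.2 (s j))
    refine h1.trans ?_
    congr 2
    funext j
    exact res_res E V.2 h (s j)
  have hcover : U ≤ ⨆ V : ι, V.1.1 := by
    intro x hx
    obtain ⟨V, hV, hxV, hVU⟩ := exists_isAffineOpen_mem_and_subset (x := x) (U := U) hx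
    exact Opens.mem_iSup.mpr ⟨⟨⟨V, hV⟩, hVU⟩, hxV⟩
  obtain ⟨t, ht⟩ := exists_gluing L (fun V : ι => V.1.1) U (fun V => V.2) hcover sf (by
    intro V V'
    apply eq_of_res_basis_eq L _ (X.isBasis_affineOpens)
    intro W' hW' hW'V
    rw [res_res, res_res]
    rw [hres V ⟨W', hW'⟩ (hW'V.trans inf_le_left), hres V' ⟨W', hW'⟩ (hW'V.trans inf_le_right)])
  refine ⟨t, ?_⟩
  intro h0
  have h1 : sf ⟨⟨W, hW⟩, hWU⟩ = 0 :=
    (ht ⟨⟨W, hW⟩, hWU⟩).symm.trans (by rw [h0]; exact map_zero _)
  have h2 : exteriorPower.ιMulti Γ(X, W) m (fun j => res E hWU (s j)) = 0 := by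
    have h3 : (φ ⟨W, hW⟩).symm
        (exteriorPower.ιMulti Γ(X, W) m (fun j => res E hWU (s j))) = 0 := h1
    exact (φ ⟨W, hW⟩).symm.injective (h3.trans (LinearEquiv.map_zero _).symm)
  exact hne h2


open Groth.Agent.Lib.Helper25.PullbackDiffRank in
/-- Nonzero section of `Ω^m` over any open containing the generic point. -/
theorem exists_ne_zero_section_extPow (k : Type u) [Field k] {X Z : Scheme.{u}}
    (g : Z ⟶ Spec (CommRingCat.of k)) (f : X ⟶ Z) [IsIntegral X] [LocallyOfFiniteType g]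
    [LocallyOfFiniteType f]
    (m : ℕ) (hm : topologicalKrullDim (closure ({f.base (genericPoint X)} : Set Z)) = m)
    (hsep : GeometricallyReduced
      (pullback.snd f (Z.fromSpecResidueField (f.base (genericPoint X)))))
    (ΩZ : Z.Modules) (dZ : OmegaSh.Der g ΩZ) (hdZ : OmegaSh.IsUniversal dZ)
    (ΩX : X.Modules) (dX : OmegaSh.Der (f ≫ g) ΩX) (hdX : OmegaSh.IsUniversal dX)
    (c : (Scheme.Modules.pullback f).obj ΩZ ⟶ ΩX) (hc : OmegaSh.IsDiffCompat f dZ dX c)
    {d : ℕ} (θ : (Scheme.Modules.pullback f).obj ΩZ ≅ FlatMod.freeMod X d) (U : X.Opens)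
    (hξU : genericPoint X ∈ U) (Ωm : X.Modules) (hΩm : ExtPow.IsExtPow m ΩX Ωm) :
    ∃ s : Ωm.val.obj (op U), s ≠ 0 := by
  obtain ⟨s, W, hWU, hW, -, hne⟩ := exists_sections_wedge_ne_zero k g f m hm hsep ΩZ dZ hdZ
    ΩX dX hdX c hc θ U ⟨_, hξU⟩
  exact exists_section_extPow_ne_zero ΩX Ωm m hΩm U s W hWU hW hne

/-- A scheme all of whose local rings are domains is reduced. -/
theorem isReduced_of_isNormalScheme {X : Scheme.{u}} (h : Pi1.IsNormalScheme X) : IsReduced X := by
  haveI : ∀ x : X, _root_.IsReduced (X.presheaf.stalk x) := fun x => by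
    haveI := (h x).1
    infer_instance
  exact isReduced_of_isReduced_stalk X

end Groth.Agent.Lib.Helper25.ExtPowSection
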