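import Mathlib
import Groth.Agent.Lib.Helper9.SmoothDim
import Groth.Agent.Lib.Helper12.SmFibAlg

/-!
# Lower bound for the fibre rank of relative differentials at a closed point (algebra)
-/

set_option autoImplicit false
universe u

namespace Groth.Agent.Lib.Helper25.FibOmega

open TensorProduct KaehlerDifferential

/-- at a maximal ideal of a finite type algebra over a field, the fibre rank of the differentials
is at least the dimension of the local ring. -/
theorem ringKrullDim_le_finrank (k C : Type u) [Field k] [CommRing C] [Algebra k C]
    [Algebra.FiniteType k C] (m : Ideal C) [m.IsMaximal] :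
    ringKrullDim (Localization.AtPrime m) ≤
      ((Module.finrank m.ResidueField (m.ResidueField ⊗[C] Ω[C⁄k]) : ℕ) : WithBot ℕ∞) := by
  by_cases h : Algebra.IsSmoothAt k m
  · exact (Groth.Agent.Lib.Helper9.SmoothDim.ringKrullDim_eq_finrank k C m h).le
  · rw [Groth.Agent.Lib.Helper9.SmoothDim.isSmoothAt_iff_finrank_le k C m] at h
    exact (not_le.mp h).le

section Der

variable {k A C : Type u} [CommRing k] [CommRing A] [CommRing C] [Algebra k C] [Algebra A C]
  (hA : ∀ a : A, ∃ c : k, algebraMap A C a = algebraMap k C c)

/-- the universal `k`-derivation of `C` is `A`-linear when the image of `A` in `C` lies in the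
image of `k`. -/
noncomputable def derA : Derivation A C (Ω[C⁄k]) where
  toFun := D k C
  map_add' := map_add _
  map_smul' a c := by
    obtain ⟨c0, hc0⟩ := hA a
    simp only [RingHom.id_apply]
    rw [Algebra.smul_def, hc0, ← Algebra.smul_def, (D k C).map_smul]
    rw [← algebraMap_smul C a, ← algebraMap_smul C c0, hc0]
  map_one_eq_zero' := (D k C).map_one_eq_zero
  leibniz' := (D k C).leibniz

theorem liftA_surjective : Function.Surjective (derA hA).liftKaehlerDifferential := by
  rw [← LinearMap.range_eq_top, _root_.eq_top_iff, ← span_range_derivation, Submodule.span_le]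
  rintro _ ⟨x, rfl⟩
  exact ⟨D A C x, by rw [Derivation.liftKaehlerDifferential_comp_D]; rfl⟩

end Der

end Groth.Agent.Lib.Helper25.FibOmega
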