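import Mathlib
import Groth.Agent.Lib.Helper25.FibOmega1

/-!
# Lower bound for the fibre rank of relative differentials at a closed point (algebra, II)
-/

set_option autoImplicit false
universe u

namespace Groth.Agent.Lib.Helper25.FibOmega

open TensorProduct KaehlerDifferential

section Surj

variable {k A B C : Type u} [CommRing k] [CommRing A] [CommRing B] [CommRing C]
  [Algebra A B] [Algebra B C] [Algebra A C] [IsScalarTower A B C] [Algebra k C]
  (hsurj : Function.Surjective (algebraMap B C))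
  (hA : ∀ a : A, ∃ c : k, algebraMap A C a = algebraMap k C c)

include hsurj hA in
/-- the `C`-linear surjection `C ⊗[B] Ω[B⁄A] → Ω[C⁄k]`. -/
theorem exists_surjective :
    ∃ g : C ⊗[B] Ω[B⁄A] →ₗ[C] Ω[C⁄k], Function.Surjective g :=
  ⟨(derA hA).liftKaehlerDifferential ∘ₗ KaehlerDifferential.mapBaseChange A B C,
    (liftA_surjective hA).comp (KaehlerDifferential.mapBaseChange_surjective A B C hsurj)⟩

include hsurj hA in
theorem finrank_le_finrank (L : Type u) [Field L] [Algebra C L] [Algebra B L]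
    [IsScalarTower B C L] [Module.Finite B Ω[B⁄A]] :
    Module.finrank L (L ⊗[C] Ω[C⁄k]) ≤ Module.finrank L (L ⊗[B] Ω[B⁄A]) := by
  obtain ⟨g, hg⟩ := exists_surjective (k := k) hsurj hA
  have h1 : Function.Surjective (LinearMap.baseChange L g) :=
    LinearMap.lTensor_surjective L hg
  have e : L ⊗[C] (C ⊗[B] Ω[B⁄A]) ≃ₗ[L] L ⊗[B] Ω[B⁄A] :=
    AlgebraTensorModule.cancelBaseChange B C L L Ω[B⁄A]
  haveI : Module.Finite L (L ⊗[B] Ω[B⁄A]) := inferInstance
  haveI : Module.Finite L (L ⊗[C] (C ⊗[B] Ω[B⁄A])) := Module.Finite.equiv e.symm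
  rw [← e.finrank_eq]
  have h2 := LinearMap.finrank_range_le (LinearMap.baseChange L g)
  rwa [LinearMap.range_eq_top.mpr h1, finrank_top] at h2

end Surj

end Groth.Agent.Lib.Helper25.FibOmega
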