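import Mathlib
import Groth.Agent.Lib.Helper25.FibOmega2

/-!
# Lower bound for the fibre rank of relative differentials at a closed point (algebra, III)
-/

set_option autoImplicit false
universe u

namespace Groth.Agent.Lib.Helper25.FibOmega

open TensorProduct KaehlerDifferential

set_option maxHeartbeats 800000 in
theorem height_le_finrank {k A B : Type u} [Field k] [IsAlgClosed k] [CommRing A] [CommRing B]
    [Algebra k A] [Algebra A B] [Algebra k B] [IsScalarTower k A B] [Algebra.FiniteType k B]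
    (P₀ m : Ideal B) [P₀.IsPrime] [hm : m.IsMaximal] (hle : P₀ ≤ m)
    (hcomap : P₀.comap (algebraMap A B) = m.comap (algebraMap A B)) :
    ((m.map (Ideal.Quotient.mk P₀)).height : WithBot ℕ∞) ≤
      ((Module.finrank m.ResidueField (m.ResidueField ⊗[B] Ω[B⁄A]) : ℕ) : WithBot ℕ∞) := by
  haveI : Algebra.FiniteType k (B ⧸ P₀) :=
    Algebra.FiniteType.of_surjective (Ideal.Quotient.mkₐ k P₀) (Ideal.Quotient.mkₐ_surjective k P₀)
  have hsurj : Function.Surjective (algebraMap B (B ⧸ P₀)) := Ideal.Quotient.mk_surjective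
  have hφ : Function.Surjective (Ideal.Quotient.mk P₀) := Ideal.Quotient.mk_surjective
  have hker' : RingHom.ker (Ideal.Quotient.mk P₀) ≤ m := by rw [Ideal.mk_ker]; exact hle
  have hmprime : (m.map (Ideal.Quotient.mk P₀)).IsPrime :=
    Ideal.map_isPrime_of_surjective hφ hker'
  haveI hmC : (m.map (Ideal.Quotient.mk P₀)).IsMaximal :=
    (Ideal.map_eq_top_or_isMaximal_of_surjective _ hφ hm).resolve_left hmprime.ne_top
  have hcm : (m.map (Ideal.Quotient.mk P₀)).comap (Ideal.Quotient.mk P₀) = m := by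
    rw [Ideal.comap_map_of_surjective' _ hφ, Ideal.mk_ker, sup_eq_left]
    exact hle
  have hA : ∀ a : A, ∃ c : k, algebraMap A (B ⧸ P₀) a = algebraMap k (B ⧸ P₀) c := by
    intro a
    letI := Ideal.Quotient.field m
    haveI : Module.Finite k (B ⧸ m) := finite_of_finite_type_of_isJacobsonRing k (B ⧸ m)
    haveI : Algebra.IsIntegral k (B ⧸ m) := Algebra.IsIntegral.of_finite k _
    obtain ⟨c, hc⟩ := (IsAlgClosed.algebraMap_bijective_of_isIntegral (k := k) (K := B ⧸ m)).2
      (Ideal.Quotient.mk m (algebraMap A B a))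
    refine ⟨c, ?_⟩
    have h1 : algebraMap A B a - algebraMap k B c ∈ m := by
      rw [← Ideal.Quotient.eq]
      exact hc.symm
    have h2 : algebraMap A B (a - algebraMap k A c) ∈ m := by
      rwa [map_sub, ← IsScalarTower.algebraMap_apply]
    have h3 : a - algebraMap k A c ∈ P₀.comap (algebraMap A B) := by rw [hcomap]; exact h2
    have h4 : algebraMap A B a - algebraMap k B c ∈ P₀ := by
      have := Ideal.mem_comap.mp h3
      rwa [map_sub, ← IsScalarTower.algebraMap_apply] at this
    rw [IsScalarTower.algebraMap_apply A B (B ⧸ P₀), IsScalarTower.algebraMap_apply k B (B ⧸ P₀)]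
    exact (Ideal.Quotient.eq.mpr h4)
  have h1 := ringKrullDim_le_finrank k (B ⧸ P₀) (m.map (Ideal.Quotient.mk P₀))
  rw [IsLocalization.AtPrime.ringKrullDim_eq_height (m.map (Ideal.Quotient.mk P₀))
    (Localization.AtPrime (m.map (Ideal.Quotient.mk P₀)))] at h1
  refine h1.trans ?_
  letI algBL : Algebra B (m.map (Ideal.Quotient.mk P₀)).ResidueField :=
    ((algebraMap (B ⧸ P₀) (m.map (Ideal.Quotient.mk P₀)).ResidueField).comp
      (algebraMap B (B ⧸ P₀))).toAlgebra
  haveI : IsScalarTower B (B ⧸ P₀) (m.map (Ideal.Quotient.mk P₀)).ResidueField :=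
    IsScalarTower.of_algebraMap_eq (fun _ => rfl)
  haveI : Algebra.FiniteType A B := Algebra.FiniteType.of_restrictScalars_finiteType k A B
  haveI : Module.Finite B Ω[B⁄A] := inferInstance
  have h2 := finrank_le_finrank (k := k) (A := A) hsurj hA
    (m.map (Ideal.Quotient.mk P₀)).ResidueField
  have hker : RingHom.ker (algebraMap B (m.map (Ideal.Quotient.mk P₀)).ResidueField) = m := by
    change RingHom.ker ((algebraMap (B ⧸ P₀) (m.map (Ideal.Quotient.mk P₀)).ResidueField).comp
      (algebraMap B (B ⧸ P₀))) = m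
    rw [← RingHom.comap_ker, Ideal.ker_algebraMap_residueField]
    exact hcm
  have h3 := Groth.Agent.Lib.Helper12.H12SmFibAlg.finrank_tensor_field Ω[B⁄A]
    (m.map (Ideal.Quotient.mk P₀)).ResidueField m hker
  rw [h3] at h2
  exact_mod_cast h2

end Groth.Agent.Lib.Helper25.FibOmega
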