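import Mathlib
import Groth.Agent.Lib.Helper25.FibOmega3
import Groth.Agent.Lib.Helper18.JacDim8
import Groth.Agent.Lib.Helper18.DimFormula3
import Groth.Agent.Lib.Helper10.OrbitDim2

/-!
# Lower bound for the fibre rank of relative differentials at a closed point (charts)
-/

set_option autoImplicit false
set_option linter.style.haveILetI false
universe u
open CategoryTheory CategoryTheory.Limits AlgebraicGeometry TopologicalSpace
open scoped TensorProduct

namespace Groth.Agent.Lib.Helper25.FibOmega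

open Groth.Agent.Lib.Helper18.JacDim Groth.Agent.Lib.Helper10.OrbitDim
  Groth.Agent.Lib.Helper12.Codim

set_option maxHeartbeats 1600000 in
theorem le_finrank_kaehler (k : Type u) [Field k] [IsAlgClosed k]
    {X Y : Scheme.{u}} [X.Over (Spec (CommRingCat.of k))] [Y.Over (Spec (CommRingCat.of k))]
    [LocallyOfFiniteType (X ↘ Spec (CommRingCat.of k))]
    (f : X ⟶ Y) (hf : f ≫ (Y ↘ Spec (CommRingCat.of k)) = X ↘ Spec (CommRingCat.of k))
    (x : X) (hx : IsClosed ({x} : Set X)) (Z : Set X) (hZ : IsIrreducible Z) (hZc : IsClosed Z)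
    (hxZ : x ∈ Z) (hZf : Z ⊆ f.base ⁻¹' {f.base x}) (r : ℕ)
    (hr : topologicalKrullDim ↥Z = (r : WithBot ℕ∞))
    {U : Y.Opens} (hU : IsAffineOpen U) {V : X.Opens} (hV : IsAffineOpen V) (hVU : V ≤ f ⁻¹ᵁ U)
    (hxV : x ∈ V) :
    letI := (f.appLE U V hVU).hom.toAlgebra
    r ≤ Module.finrank (hV.primeIdealOf ⟨x, hxV⟩).asIdeal.ResidueField
      ((hV.primeIdealOf ⟨x, hxV⟩).asIdeal.ResidueField ⊗[Γ(X, V)] Ω[Γ(X, V)⁄Γ(Y, U)]) := by
  letI algAB : Algebra Γ(Y, U) Γ(X, V) := (f.appLE U V hVU).hom.toAlgebra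
  set gX : X ⟶ Spec (CommRingCat.of k) := X ↘ Spec (CommRingCat.of k) with hgX
  set gY : Y ⟶ Spec (CommRingCat.of k) := Y ↘ Spec (CommRingCat.of k) with hgY
  haveI : IsLocallyNoetherian X := isLocallyNoetherian_of_lft gX
  haveI : JacobsonSpace ↥X := jacobsonSpace_of_lft gX
  have h2X := isUniversallyCatenary_stalk_of_locallyOfFiniteType (field_h2 k) gX
  have h3X := equicodim_of_locallyOfFiniteType (field_h2 k) (field_h3 k) gX
  obtain ⟨ζ, hζ⟩ := QuasiSober.sober hZ hZc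
  have hζdef : closure ({ζ} : Set X) = Z := hζ.def
  have hζZ : ζ ∈ Z := hζdef ▸ subset_closure rfl
  have hζx : ζ ⤳ x := specializes_iff_mem_closure.2 (hζdef ▸ hxZ)
  have hζV : ζ ∈ V := hζx.mem_open V.2 hxV
  -- dimension
  have hdim : topologicalKrullDim ↥Z =
      ((cd (hV.primeIdealOf ⟨ζ, hζV⟩) (hV.primeIdealOf ⟨x, hxV⟩) : ℕ∞) : WithBot ℕ∞) := by
    rw [← hζdef, topologicalKrullDim_closure_eq_genDim h2X h3X ζ x hζx hx,
      genDim_eq_cd hV ζ x hxV hζV hζx]
  set P₀ := (hV.primeIdealOf ⟨ζ, hζV⟩).asIdeal with hP₀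
  set m := (hV.primeIdealOf ⟨x, hxV⟩).asIdeal with hm
  haveI hP₀prime : P₀.IsPrime := (hV.primeIdealOf ⟨ζ, hζV⟩).isPrime
  haveI hmmax : m.IsMaximal := hV.primeIdealOf_isMaximal_of_isClosed ⟨x, hxV⟩ hx
  have hle : P₀ ≤ m :=
    (Groth.Agent.Lib.Helper21.ChartPt.specializes_iff_primeIdealOf_le hV ⟨ζ, hζV⟩ ⟨x, hxV⟩).mp hζx
  have hcd := Groth.Agent.Lib.Helper18.DimFormula.cd_eq_height_map_mk P₀ m hle
  letI algkA : Algebra k Γ(Y, U) :=
    ((gY.appLE ⊤ U le_top).hom.comp (Scheme.ΓSpecIso (CommRingCat.of k)).inv.hom).toAlgebra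
  letI algkB : Algebra k Γ(X, V) :=
    ((gX.appLE ⊤ V le_top).hom.comp (Scheme.ΓSpecIso (CommRingCat.of k)).inv.hom).toAlgebra
  haveI : IsScalarTower k Γ(Y, U) Γ(X, V) := IsScalarTower.of_algebraMap_eq' (by
    change (gX.appLE ⊤ V le_top).hom.comp (Scheme.ΓSpecIso (CommRingCat.of k)).inv.hom =
      (f.appLE U V hVU).hom.comp
        ((gY.appLE ⊤ U le_top).hom.comp (Scheme.ΓSpecIso (CommRingCat.of k)).inv.hom)
    have h : (f.appLE U V hVU).hom.comp (gY.appLE ⊤ U le_top).hom =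
        (gX.appLE ⊤ V le_top).hom := by
      rw [← CommRingCat.hom_comp, Scheme.Hom.appLE_comp_appLE]
      congr 2
    rw [← RingHom.comp_assoc, h])
  have hbij : Function.Bijective (Scheme.ΓSpecIso (CommRingCat.of k)).inv.hom :=
    ConcreteCategory.bijective_of_isIso (Scheme.ΓSpecIso (CommRingCat.of k)).inv
  haveI : Algebra.FiniteType k Γ(X, V) := by
    have h1 : (gX.appLE ⊤ V le_top).hom.FiniteType :=
      gX.finiteType_appLE (isAffineOpen_top _) hV le_top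
    have h2 : ((Scheme.ΓSpecIso (CommRingCat.of k)).inv.hom).FiniteType :=
      RingHom.FiniteType.of_surjective _ hbij.2
    exact h1.comp h2
  have hcomap : P₀.comap (algebraMap Γ(Y, U) Γ(X, V)) = m.comap (algebraMap Γ(Y, U) Γ(X, V)) := by
    have h1 := IsAffineOpen.comap_primeIdealOf_appLE (f := f) U hU V hV hVU hζV
    have h2 := IsAffineOpen.comap_primeIdealOf_appLE (f := f) U hU V hV hVU hxV
    have h3 : f ζ = f x := hZf hζZ
    have h4 : hU.primeIdealOf ⟨f ζ, hVU hζV⟩ = hU.primeIdealOf ⟨f x, hVU hxV⟩ := by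
      congr 1
      exact Subtype.ext h3
    exact congr($(h1.trans (h4.trans h2.symm)).asIdeal)
  have hmain := height_le_finrank (k := k) (A := Γ(Y, U)) (B := Γ(X, V)) P₀ m hle hcomap
  rw [hr] at hdim
  have hcd' : cd (hV.primeIdealOf ⟨ζ, hζV⟩) (hV.primeIdealOf ⟨x, hxV⟩) =
      (m.map (Ideal.Quotient.mk P₀)).height := hcd
  rw [hcd'] at hdim
  rw [← hdim] at hmain
  exact_mod_cast hmain

end Groth.Agent.Lib.Helper25.FibOmega
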