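import Mathlib
import Groth.Agent.Lib.Helper12.SmFibAlg

/-!
# The fibre `M_x / m_x M_x` of a localized module, as a vector space over a coefficient field
-/

set_option autoImplicit false
set_option linter.style.haveILetI false
universe u

namespace Groth.Agent.Lib.Helper25.FibOmega

open TensorProduct IsLocalRing

set_option maxHeartbeats 800000 in
theorem finrank_fiber_eq {k B R : Type u} [Field k] [CommRing B] [CommRing R] [IsLocalRing R]
    [Algebra B R] (m : Ideal B) [m.IsPrime] [IsLocalization.AtPrime R m]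
    (φ : k →+* R) (hφ : Function.Bijective ((Ideal.Quotient.mk (maximalIdeal R)).comp φ))
    {N Nx : Type u} [AddCommGroup N] [Module B N] [AddCommGroup Nx] [Module R Nx] [Module B Nx]
    [IsScalarTower B R Nx] (ℓ : N →ₗ[B] Nx) [IsLocalizedModule m.primeCompl ℓ] :
    letI : Module k (Nx ⧸ (maximalIdeal R • (⊤ : Submodule R Nx))) := Module.compHom _ φ
    Module.finrank k (Nx ⧸ (maximalIdeal R • (⊤ : Submodule R Nx))) =
      Module.finrank m.ResidueField (m.ResidueField ⊗[B] N) := by
  letI modk : Module k (Nx ⧸ (maximalIdeal R • (⊤ : Submodule R Nx))) := Module.compHom _ φ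
  letI fld : Field (R ⧸ maximalIdeal R) := Ideal.Quotient.field (maximalIdeal R)
  -- Step 1
  have h1 : Module.finrank k (Nx ⧸ (maximalIdeal R • (⊤ : Submodule R Nx))) =
      Module.finrank (R ⧸ maximalIdeal R) ((R ⧸ maximalIdeal R) ⊗[R] Nx) := by
    let j : (Nx ⧸ (maximalIdeal R • (⊤ : Submodule R Nx))) ≃ₗ[R] (R ⧸ maximalIdeal R) ⊗[R] Nx :=
      (TensorProduct.quotTensorEquivQuotSMul Nx (maximalIdeal R)).symm
    have hr := rank_eq_of_equiv_equiv (R := k) (R' := R ⧸ maximalIdeal R)
      (M := Nx ⧸ (maximalIdeal R • (⊤ : Submodule R Nx))) (M₁ := (R ⧸ maximalIdeal R) ⊗[R] Nx)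
      ((Ideal.Quotient.mk (maximalIdeal R)).comp φ) j.toAddEquiv hφ (by
        intro c n
        change j (φ c • n) = (Ideal.Quotient.mk (maximalIdeal R) (φ c)) • j n
        rw [j.map_smul]
        exact (algebraMap_smul (R ⧸ maximalIdeal R) (φ c) (j n)).symm)
    exact congrArg Cardinal.toNat hr
  -- Step 2
  have hbc : IsBaseChange R ℓ := IsLocalizedModule.isBaseChange m.primeCompl R ℓ
  let e : R ⊗[B] N ≃ₗ[R] Nx := hbc.equiv
  have h2 : Module.finrank (R ⧸ maximalIdeal R) ((R ⧸ maximalIdeal R) ⊗[R] Nx) =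
      Module.finrank (R ⧸ maximalIdeal R) ((R ⧸ maximalIdeal R) ⊗[B] N) := by
    refine LinearEquiv.finrank_eq ?_
    exact (AlgebraTensorModule.congr
      (LinearEquiv.refl (R ⧸ maximalIdeal R) (R ⧸ maximalIdeal R)) e.symm) ≪≫ₗ
        AlgebraTensorModule.cancelBaseChange B R (R ⧸ maximalIdeal R) (R ⧸ maximalIdeal R) N
  -- Step 3
  have hker : RingHom.ker (algebraMap B (R ⧸ maximalIdeal R)) = m := by
    rw [IsScalarTower.algebraMap_eq B R (R ⧸ maximalIdeal R)]
    rw [← RingHom.comap_ker]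
    have : RingHom.ker (algebraMap R (R ⧸ maximalIdeal R)) = maximalIdeal R :=
      Ideal.mk_ker
    rw [this]
    exact IsLocalization.AtPrime.under_maximalIdeal R m
  rw [h1, h2, Groth.Agent.Lib.Helper12.H12SmFibAlg.finrank_tensor_field N
    (R ⧸ maximalIdeal R) m hker]

end Groth.Agent.Lib.Helper25.FibOmega
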