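import Mathlib
import Groth.Agent.Lib.Helper25.FibOmega5
import Groth.Agent.Helper19.OmegaLocal2
import Groth.Agent.Lib.Helper29.QCohBasic
import Groth.Prelude.Def_FixPt

/-!
# The fibre of `Ω_{X/Y}` at a closed point, in a chart
-/

set_option autoImplicit false
set_option linter.style.haveILetI false
universe u
open CategoryTheory CategoryTheory.Limits AlgebraicGeometry TopologicalSpace
open scoped TensorProduct

namespace Groth.Agent.Lib.Helper25.FibOmega

open Groth.Agent.Helper19.OmegaLocal Groth.Agent.Lib.Helper29.QCoh IsLocalRing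

/-- Nullstellensatz: the coefficient field maps isomorphically onto the residue field of the
localization at a maximal ideal. -/
theorem bijective_mk_comp {k B R : Type u} [Field k] [IsAlgClosed k] [CommRing B] [CommRing R]
    [IsLocalRing R] [Algebra k B] [Algebra.FiniteType k B] [Algebra B R] (m : Ideal B)
    [hm : m.IsMaximal] [IsLocalization.AtPrime R m] (φ : k →+* R)
    (hφ : ∀ c, φ c = algebraMap B R (algebraMap k B c)) :
    Function.Bijective ((Ideal.Quotient.mk (maximalIdeal R)).comp φ) := by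
  letI := Ideal.Quotient.field m
  haveI : Module.Finite k (B ⧸ m) := finite_of_finite_type_of_isJacobsonRing k (B ⧸ m)
  haveI : Algebra.IsIntegral k (B ⧸ m) := Algebra.IsIntegral.of_finite k _
  have h1 : Function.Bijective (algebraMap k (B ⧸ m)) :=
    IsAlgClosed.algebraMap_bijective_of_isIntegral (k := k) (K := B ⧸ m)
  have h2 : Function.Bijective (IsLocalization.AtPrime.equivQuotMaximalIdeal m R) :=
    (IsLocalization.AtPrime.equivQuotMaximalIdeal m R).bijective
  have h3 : ⇑((Ideal.Quotient.mk (maximalIdeal R)).comp φ) =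
      ⇑(IsLocalization.AtPrime.equivQuotMaximalIdeal m R) ∘ ⇑(algebraMap k (B ⧸ m)) := by
    funext c
    simp only [RingHom.comp_apply, Function.comp_apply, hφ]
    rw [IsScalarTower.algebraMap_apply k B (B ⧸ m), Ideal.Quotient.algebraMap_eq,
      IsLocalization.AtPrime.equivQuotMaximalIdeal_apply_mk]
  rw [h3]
  exact h2.comp h1

attribute [local instance] FixPt.fiberModule

set_option maxHeartbeats 1600000 in
theorem finrank_fiber_omega (k : Type u) [Field k] [IsAlgClosed k]
    {X Y : Scheme.{u}} [X.Over (Spec (CommRingCat.of k))]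
    [LocallyOfFiniteType (X ↘ Spec (CommRingCat.of k))]
    (f : X ⟶ Y) [QuasiSeparated f]
    (x : X) (hx : IsClosed ({x} : Set X))
    {U : Y.Opens} (hU : IsAffineOpen U) {V : X.Opens} (hV : IsAffineOpen V) (hVU : V ≤ f ⁻¹ᵁ U)
    (hxV : x ∈ V) :
    letI := (f.appLE U V hVU).hom.toAlgebra
    Module.finrank k (FixPt.fiber (Omega.sheaf f) x) =
      Module.finrank (hV.primeIdealOf ⟨x, hxV⟩).asIdeal.ResidueField
        ((hV.primeIdealOf ⟨x, hxV⟩).asIdeal.ResidueField ⊗[Γ(X, V)] Ω[Γ(X, V)⁄Γ(Y, U)]) := by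
  letI algAB : Algebra Γ(Y, U) Γ(X, V) := (f.appLE U V hVU).hom.toAlgebra
  set gX : X ⟶ Spec (CommRingCat.of k) := X ↘ Spec (CommRingCat.of k) with hgX
  set m := (hV.primeIdealOf ⟨x, hxV⟩).asIdeal with hm
  haveI hmmax : m.IsMaximal := hV.primeIdealOf_isMaximal_of_isClosed ⟨x, hxV⟩ hx
  letI algkB : Algebra k Γ(X, V) :=
    ((gX.appLE ⊤ V le_top).hom.comp (Scheme.ΓSpecIso (CommRingCat.of k)).inv.hom).toAlgebra
  have hbij : Function.Bijective (Scheme.ΓSpecIso (CommRingCat.of k)).inv.hom :=
    ConcreteCategory.bijective_of_isIso (Scheme.ΓSpecIso (CommRingCat.of k)).inv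
  haveI : Algebra.FiniteType k Γ(X, V) := by
    have h1 : (gX.appLE ⊤ V le_top).hom.FiniteType :=
      gX.finiteType_appLE (isAffineOpen_top _) hV le_top
    have h2 : ((Scheme.ΓSpecIso (CommRingCat.of k)).inv.hom).FiniteType :=
      RingHom.FiniteType.of_surjective _ hbij.2
    exact h1.comp h2
  letI algBR : Algebra Γ(X, V) (X.presheaf.stalk x) :=
    TopCat.Presheaf.algebra_section_stalk X.presheaf ⟨x, hxV⟩
  haveI : IsLocalization.AtPrime (X.presheaf.stalk x) m := hV.isLocalization_stalk ⟨x, hxV⟩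
  letI modBN : Module Γ(X, V) ((Omega.sheaf f).presheaf.stalk x) :=
    stalkModule (Omega.sheaf f) V x hxV
  haveI : IsScalarTower Γ(X, V) (X.presheaf.stalk x) ((Omega.sheaf f).presheaf.stalk x) :=
    ⟨fun b r n => by
      change ((X.presheaf.germ V x hxV).hom b * r) • n =
        (X.presheaf.germ V x hxV).hom b • (r • n)
      rw [mul_smul]⟩
  haveI := isLocalizedModule_germ (Omega.sheaf f) hV x hxV
  have hφ : ∀ c, Curv2.stalkMap k X x c =
      algebraMap Γ(X, V) (X.presheaf.stalk x) (algebraMap k Γ(X, V) c) := by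
    intro c
    change (X.presheaf.germ ⊤ x trivial).hom ((gX.appTop).hom
        ((Scheme.ΓSpecIso (CommRingCat.of k)).inv.hom c)) =
      (X.presheaf.germ V x hxV).hom ((gX.appLE ⊤ V le_top).hom
        ((Scheme.ΓSpecIso (CommRingCat.of k)).inv.hom c))
    rw [Scheme.Hom.appLE, CommRingCat.hom_comp, RingHom.comp_apply]
    exact (TopCat.Presheaf.germ_res_apply X.presheaf (homOfLE le_top) x hxV _).symm
  have hbij' := bijective_mk_comp (k := k) (B := Γ(X, V)) (R := X.presheaf.stalk x) m
    (Curv2.stalkMap k X x) hφ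
  have h1 := finrank_fiber_eq (k := k) (B := Γ(X, V)) (R := X.presheaf.stalk x) m
    (Curv2.stalkMap k X x) hbij' (germₗ (Omega.sheaf f) V x hxV)
  obtain ⟨E⟩ := nonempty_linearEquiv_sections_omega f hV hU hVU
  refine h1.trans ?_
  exact LinearEquiv.finrank_eq (TensorProduct.AlgebraTensorModule.congr
    (LinearEquiv.refl m.ResidueField m.ResidueField) E)

end Groth.Agent.Lib.Helper25.FibOmega
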