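import Mathlib
import Groth.Prelude.Def_ega3

set_option autoImplicit false
universe u

open CategoryTheory CategoryTheory.Limits AlgebraicGeometry

namespace Groth.Agent.Lib.Helper25.FiberSquare

variable {X Y S : Scheme.{u}}

theorem fiberMapOver_fiberι (f : X ⟶ Y) (h : X ⟶ S) (g : Y ⟶ S) (w : f ≫ g = h) (s : S) :
    CohIII.fiberMapOver f h g w s ≫ g.fiberι s = h.fiberι s ≫ f := by
  simp only [CohIII.fiberMapOver, Scheme.Hom.fiberι, pullback.map]
  exact pullback.lift_fst _ _ _

theorem fiberMapOver_toSpec (f : X ⟶ Y) (h : X ⟶ S) (g : Y ⟶ S) (w : f ≫ g = h) (s : S) :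
    CohIII.fiberMapOver f h g w s ≫ g.fiberToSpecResidueField s =
      h.fiberToSpecResidueField s := by
  simp only [CohIII.fiberMapOver, Scheme.Hom.fiberToSpecResidueField, pullback.map]
  exact (pullback.lift_snd _ _ _).trans (Category.comp_id _)

/-- The fibre of `X` over `s` is the pullback of the fibre of `Y` along `f`. -/
theorem isPullback_fiberMapOver (f : X ⟶ Y) (h : X ⟶ S) (g : Y ⟶ S) (w : f ≫ g = h) (s : S) :
    IsPullback (h.fiberι s) (CohIII.fiberMapOver f h g w s) f (g.fiberι s) := by
  have hbot : IsPullback (g.fiberι s) (g.fiberToSpecResidueField s) g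
      (S.fromSpecResidueField s) := IsPullback.of_hasPullback _ _
  have hbig : IsPullback (h.fiberι s) (h.fiberToSpecResidueField s) h
      (S.fromSpecResidueField s) := IsPullback.of_hasPullback _ _
  refine IsPullback.of_bot ?_ (fiberMapOver_fiberι f h g w s).symm hbot
  rw [fiberMapOver_toSpec, w]
  exact hbig

end Groth.Agent.Lib.Helper25.FiberSquare
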