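import Mathlib
import Groth.Agent.Lib.Helper25.FibreDimRank
import Groth.Agent.Lib.Helper25.EtaleTowerRank
import Groth.Agent.Lib.Helper13.SurjectiveDescent

set_option autoImplicit false
universe u
open TensorProduct KaehlerDifferential CategoryTheory CategoryTheory.Limits AlgebraicGeometry

namespace Groth.Agent.Lib.Helper25.FibreDimRank

/-- A monomorphism between smooth `S`-schemes with equal fibre dimensions is an open immersion. -/
theorem isOpenImmersion_of_mono_of_fibreDimAt_eq {X Y S : Scheme.{u}} (f : Y ⟶ S) (g : X ⟶ Y)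
    [Smooth f] [Smooth (g ≫ f)] [Mono g]
    (hdim : ∀ x : X, FlatMor.fibreDimAt f (g x) = FlatMor.fibreDimAt (g ≫ f) x) :
    IsOpenImmersion g := by
  haveI : LocallyOfFinitePresentation g :=
    Groth.Agent.Lib.Helper13.locallyOfFinitePresentation_of_comp g f
  haveI : IsIso (pullback.diagonal g) := inferInstance
  haveI : FormallyUnramified g := inferInstance
  haveI : Flat g := by
    have hQ : RingHom.StableUnderCompositionWithLocalizationAwaySource RingHom.Flat :=
      (RingHom.Flat.stableUnderComposition.stableUnderCompositionWithLocalizationAway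
        RingHom.Flat.holdsForLocalizationAway).left
    rw [HasRingHomProperty.iff_exists_appLE (P := @Flat) hQ]
    intro x
    obtain ⟨_, ⟨W, hW, rfl⟩, hxW, -⟩ :=
      S.isBasis_affineOpens.exists_subset_of_mem_open (Set.mem_univ (f (g x))) isOpen_univ
    obtain ⟨_, ⟨V, hV, rfl⟩, hxV, hVW⟩ :=
      Y.isBasis_affineOpens.exists_subset_of_mem_open (show g x ∈ f ⁻¹ᵁ W from hxW)
        (f ⁻¹ᵁ W).2
    obtain ⟨_, ⟨U, hU, rfl⟩, hxU, hUV⟩ :=
      X.isBasis_affineOpens.exists_subset_of_mem_open (show x ∈ g ⁻¹ᵁ V from hxV) (g ⁻¹ᵁ V).2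
    refine ⟨⟨V, hV⟩, ⟨U, hU⟩, hxU, hUV, ?_⟩
    have hUW : U ≤ (g ≫ f) ⁻¹ᵁ W := hUV.trans ((TopologicalSpace.Opens.map g.base).map
        (homOfLE hVW)).le
    have h1 : f.appLE W V hVW ≫ g.appLE V U hUV = (g ≫ f).appLE W U hUW :=
      Scheme.Hom.appLE_comp_appLE g f W V U hVW hUV
    algebraize [(f.appLE W V hVW).hom, (g.appLE V U hUV).hom, ((g ≫ f).appLE W U hUW).hom]
    haveI : IsScalarTower Γ(S, W) Γ(Y, V) Γ(X, U) := IsScalarTower.of_algebraMap_eq' (by
      rw [RingHom.algebraMap_toAlgebra, RingHom.algebraMap_toAlgebra, RingHom.algebraMap_toAlgebra,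
        ← h1]
      rfl)
    have hsmA : (f.appLE W V hVW).hom.Smooth :=
      HasRingHomProperty.appLE (P := @Smooth) f inferInstance ⟨W, hW⟩ ⟨V, hV⟩ hVW
    have hsmB : ((g ≫ f).appLE W U hUW).hom.Smooth :=
      HasRingHomProperty.appLE (P := @Smooth) (g ≫ f) inferInstance ⟨W, hW⟩ ⟨U, hU⟩ hUW
    have hunr : (g.appLE V U hUV).hom.FormallyUnramified :=
      HasRingHomProperty.appLE (P := @FormallyUnramified) g inferInstance ⟨V, hV⟩ ⟨U, hU⟩ hUV
    have hfp : (g.appLE V U hUV).hom.FinitePresentation :=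
      HasRingHomProperty.appLE (P := @LocallyOfFinitePresentation) g inferInstance ⟨V, hV⟩ ⟨U, hU⟩ hUV
    haveI : Algebra.Smooth Γ(S, W) Γ(Y, V) := hsmA
    haveI : Algebra.Smooth Γ(S, W) Γ(X, U) := hsmB
    haveI : Algebra.FormallyUnramified Γ(Y, V) Γ(X, U) := hunr
    haveI : Algebra.FinitePresentation Γ(Y, V) Γ(X, U) := hfp
    haveI : Algebra.FormallyEtale Γ(Y, V) Γ(X, U) := by
      refine Groth.Agent.Lib.Helper25.EtaleTowerRank.formallyEtale_of_rankAtStalk_eq
        Γ(S, W) Γ(Y, V) Γ(X, U) ?_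
      intro m hm
      obtain ⟨⟨z, hzU⟩, hz⟩ : ∃ z : U, hU.primeIdealOf z = ⟨m, inferInstance⟩ := by
        refine ⟨hU.isoSpec.inv ⟨m, inferInstance⟩, ?_⟩
        unfold IsAffineOpen.primeIdealOf
        rw [← Scheme.Hom.comp_apply, Iso.inv_hom_id]
        rfl
      have e1 := fibreDimAt_eq_rankAtStalk (g ≫ f) hU hW hUW
        (RingHom.algebraMap_toAlgebra _) z hzU
      have e2 := fibreDimAt_eq_rankAtStalk f hV hW hVW
        (RingHom.algebraMap_toAlgebra _) (g z) (hUV hzU)
      have e3 := IsAffineOpen.comap_primeIdealOf_appLE V hV U hU hUV hzU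
      rw [← hz]
      have e3' : (hU.primeIdealOf ⟨z, hzU⟩).comap (algebraMap Γ(Y, V) Γ(X, U)) =
          hV.primeIdealOf ⟨g z, hUV hzU⟩ := e3
      rw [e3']
      have := hdim z
      rw [e1, e2] at this
      exact_mod_cast this
    haveI : Algebra.Etale Γ(Y, V) Γ(X, U) := ⟨inferInstance, inferInstance⟩
    show Module.Flat Γ(Y, V) Γ(X, U)
    infer_instance
  exact IsOpenImmersion.of_flat_of_mono g

end Groth.Agent.Lib.Helper25.FibreDimRank
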