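import Groth.Prelude.Def_SpSeq
import Groth.Agent.Lib.Helper25.SubElem

/-!
# Basic lemmas on the terms of the spectral sequence of a filtered complex
-/

namespace Groth.Agent.Lib.Helper25.FilCxBasic

open CategoryTheory CategoryTheory.Limits SpSeq SpSeq.FilCx
open Groth.Agent.Lib.Helper25.SubElem

universe v u
variable {A : Type u} [Category.{v} A] [Abelian A]

lemma isZero_subquot_of_eq {X : A} (Z B : Subobject X) (h : B ≤ Z) (he : B = Z) :
    IsZero (SpSeq.subquot Z B h) := by
  subst he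
  unfold SpSeq.subquot
  have : IsIso (B.ofLE B h) := by
    rw [Subobject.ofLE_refl]
    infer_instance
  exact isZero_cokernel_of_epi _

lemma pullback_bot {X Y : A} (f : X ⟶ Y) :
    (Subobject.pullback f).obj ⊥ = kernelSubobject f := by
  apply le_antisymm
  · apply le_kernelSubobject
    rw [← Subobject.bot_factors_iff_zero, ← pullback_factors_iff]
    exact Subobject.factors_self _
  · exact Groth.Agent.Lib.Helper25.SubElem.kernelSubobject_le_pullback f ⊥

lemma homologyMap_eq_zero_of_f_eq_zero {K L : CochainComplex A ℤ} (φ : K ⟶ L) (n : ℤ)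
    (h : φ.f n = 0) : HomologicalComplex.homologyMap φ n = 0 := by
  have h1 : HomologicalComplex.cyclesMap φ n = 0 := by
    rw [← cancel_mono (L.iCycles n), HomologicalComplex.cyclesMap_i, h, comp_zero, zero_comp]
  rw [← cancel_epi (K.homologyπ n), HomologicalComplex.homologyπ_naturality, h1, zero_comp,
    comp_zero]

lemma isIso_homologyMap_of_isIso_f {K L : CochainComplex A ℤ} (φ : K ⟶ L) (n : ℤ)
    (h1 : IsIso (φ.f (n - 1))) (h2 : IsIso (φ.f n)) (h3 : IsIso (φ.f (n + 1))) :
    IsIso (HomologicalComplex.homologyMap φ n) := by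
  have e1 : (ComplexShape.up ℤ).prev n = n - 1 := CochainComplex.prev ℤ n
  have e3 : (ComplexShape.up ℤ).next n = n + 1 := CochainComplex.next ℤ n
  have h1' : IsIso (φ.f ((ComplexShape.up ℤ).prev n)) := by rw [e1]; exact h1
  have h3' : IsIso (φ.f ((ComplexShape.up ℤ).next n)) := by rw [e3]; exact h3
  have : Epi ((HomologicalComplex.shortComplexFunctor A (ComplexShape.up ℤ) n).map φ).τ₁ := by
    change Epi (φ.f ((ComplexShape.up ℤ).prev n))
    infer_instance
  have : IsIso ((HomologicalComplex.shortComplexFunctor A (ComplexShape.up ℤ) n).map φ).τ₂ := by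
    change IsIso (φ.f n)
    infer_instance
  have : Mono ((HomologicalComplex.shortComplexFunctor A (ComplexShape.up ℤ) n).map φ).τ₃ := by
    change Mono (φ.f ((ComplexShape.up ℤ).next n))
    infer_instance
  exact ShortComplex.isIso_homologyMap_of_epi_of_isIso_of_mono
    ((HomologicalComplex.shortComplexFunctor A (ComplexShape.up ℤ) n).map φ)

variable (K : SpSeq.FilCx A)

lemma filX_eq_bot_of_le {b p n : ℤ} (hb : K.filX b n = ⊥) (h : b ≤ p) : K.filX p n = ⊥ :=
  eq_bot_iff.2 (hb ▸ K.filX_anti n h)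

lemma filX_eq_top_of_le {a p n : ℤ} (ha : K.filX a n = ⊤) (h : p ≤ a) : K.filX p n = ⊤ :=
  eq_top_iff.2 (ha ▸ K.filX_anti n h)

lemma ZTop_le_ZSub (r : ℕ) (p n : ℤ) : K.ZTop p n ≤ K.ZSub r p n :=
  sup_le_sup_right (inf_le_inf_left _
    (Groth.Agent.Lib.Helper25.SubElem.kernelSubobject_le_pullback _ _)) _

lemma BSub_le_BBot (r : ℕ) (p n : ℤ) : K.BSub r p n ≤ K.BBot p n :=
  sup_le_sup_right (inf_le_inf_left _ (imageSubobject_comp_le _ _)) _

lemma ZSub_eq_ZTop_of_bot {r : ℕ} {p n : ℤ} (h : K.filX (p + r) (n + 1) = ⊥) :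
    K.ZSub r p n = K.ZTop p n := by
  unfold SpSeq.FilCx.ZSub SpSeq.FilCx.ZTop
  rw [h, pullback_bot]

lemma BSub_eq_BBot_of_top {r : ℕ} {p n : ℤ} (h : K.filX (p - r + 1) (n - 1) = ⊤) :
    K.BSub r p n = K.BBot p n := by
  unfold SpSeq.FilCx.BSub SpSeq.FilCx.BBot
  change K.filX p n ⊓ img (K.obj.d (n - 1) n) (K.filX (p - r + 1) (n - 1)) ⊔ _ = _
  rw [h, img_top]

lemma ZSub_anti (p n : ℤ) : Antitone fun r : ℕ => K.ZSub r p n := by
  intro r s h
  refine sup_le_sup_right (inf_le_inf_left _ ((Subobject.pullback _).monotone ?_)) _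
  exact K.filX_anti (n + 1) (by simpa using h)

lemma BSub_mono (p n : ℤ) : Monotone fun r : ℕ => K.BSub r p n := by
  intro r s h
  refine sup_le_sup_right (inf_le_inf_left _ ?_) _
  have h1 : K.filX (p - r + 1) (n - 1) ≤ K.filX (p - s + 1) (n - 1) :=
    K.filX_anti (n - 1) (by have : (r : ℤ) ≤ s := by exact_mod_cast h
                            omega)
  exact img_mono (K.obj.d (n - 1) n) h1

end Groth.Agent.Lib.Helper25.FilCxBasic
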