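import Groth.Agent.Lib.Helper25.FilCxHom

/-!
# Convergence of the spectral sequence of a filtered complex under homological hypotheses
-/

namespace Groth.Agent.Lib.Helper25.FilCxConv

open CategoryTheory CategoryTheory.Limits SpSeq SpSeq.FilCx
open Groth.Agent.Lib.Helper25.SubElem Groth.Agent.Lib.Helper25.FilCxBasic
open Groth.Agent.Lib.Helper25.FilCxFinite Groth.Agent.Lib.Helper25.FilCxHom

universe v u
variable {A : Type u} [Category.{v} A] [Abelian A]

lemma pullback_image_eq_top {X Y : A} (f : X ⟶ Y) :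
    (Subobject.pullback f).obj (imageSubobject f) = ⊤ := by
  rw [eq_top_iff, ← img_top]
  exact le_pullback_img f ⊤

variable (K : SpSeq.FilCx A)

lemma inf_pullback_le_of_strictAt (p q n : ℤ) (hpq : p ≤ q) (hC : StrictAt K q n (n + 1)) :
    K.filX p n ⊓ (Subobject.pullback (K.obj.d n (n + 1))).obj (K.filX q (n + 1)) ≤
      K.filX q n ⊔ (K.filX p n ⊓ kernelSubobject (K.obj.d n (n + 1))) := by
  have h1 : (Subobject.pullback (K.obj.d n (n + 1))).obj (K.filX q (n + 1)) =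
      (Subobject.pullback (K.obj.d n (n + 1))).obj
        (K.filX q (n + 1) ⊓ imageSubobject (K.obj.d n (n + 1))) := by
    rw [Subobject.inf_pullback, pullback_image_eq_top, inf_top_eq]
  have h2 : (Subobject.pullback (K.obj.d n (n + 1))).obj (K.filX q (n + 1)) ≤
      K.filX q n ⊔ kernelSubobject (K.obj.d n (n + 1)) := by
    rw [h1, ← pullback_img]
    exact (Subobject.pullback _).monotone hC
  calc K.filX p n ⊓ (Subobject.pullback (K.obj.d n (n + 1))).obj (K.filX q (n + 1))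
      ≤ K.filX p n ⊓ (K.filX q n ⊔ kernelSubobject (K.obj.d n (n + 1))) :=
        inf_le_inf_left _ h2
    _ = (K.filX q n ⊔ kernelSubobject (K.obj.d n (n + 1))) ⊓ K.filX p n := inf_comm _ _
    _ = K.filX q n ⊔ kernelSubobject (K.obj.d n (n + 1)) ⊓ K.filX p n :=
        sup_inf_assoc_of_le _ (K.filX_anti n hpq)
    _ = K.filX q n ⊔ (K.filX p n ⊓ kernelSubobject (K.obj.d n (n + 1))) := by rw [inf_comm]

lemma ZSub_eq_ZTop_of_strictAt (r : ℕ) (hr : 1 ≤ r) (p n : ℤ)
    (hC : StrictAt K (p + r) n (n + 1)) : K.ZSub r p n = K.ZTop p n := by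
  apply le_antisymm _ (ZTop_le_ZSub K r p n)
  unfold SpSeq.FilCx.ZSub SpSeq.FilCx.ZTop
  refine sup_le ?_ le_sup_right
  refine (inf_pullback_le_of_strictAt K p (p + r) n (by omega) hC).trans ?_
  refine sup_le (le_sup_of_le_right (K.filX_anti n ?_)) le_sup_left
  have : (1 : ℤ) ≤ r := by exact_mod_cast hr
  omega

lemma BSub_eq (r : ℕ) (p n : ℤ) : K.BSub r p n =
    (K.filX p n ⊓ img (K.obj.d (n - 1) n) (K.filX (p - r + 1) (n - 1))) ⊔ K.filX (p + 1) n := rfl

lemma BSub_eq_BBot_of_strictAt (r : ℕ) (hr : 1 ≤ r) (p n : ℤ)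
    (hC : StrictAt K (p - r + 1) (n - 1) n) : K.BSub r p n = K.BBot p n := by
  apply le_antisymm (BSub_le_BBot K r p n)
  rw [BSub_eq]
  unfold SpSeq.FilCx.BBot
  refine sup_le_sup_right (le_inf inf_le_left ?_) _
  refine le_trans (inf_le_inf_right _ (K.filX_anti n ?_)) hC
  have : (1 : ℤ) ≤ r := by exact_mod_cast hr
  omega

lemma isZero_E_one (p n : ℤ) (hC1 : StrictAt K (p + 1) n (n + 1))
    (hZ : K.filX p n ⊓ kernelSubobject (K.obj.d n (n + 1)) ≤
      K.filX (p + 1) n ⊔ img (K.obj.d (n - 1) n) (K.filX p (n - 1))) :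
    IsZero (K.E 1 p n) := by
  apply isZero_subquot_of_eq
  apply le_antisymm (K.BSub_le_ZSub 1 p n)
  rw [ZSub_eq_ZTop_of_strictAt K 1 le_rfl p n (by simpa using hC1), BSub_eq]
  unfold SpSeq.FilCx.ZTop
  refine sup_le (hZ.trans (sup_le le_sup_right (le_sup_of_le_left ?_))) le_sup_right
  have h1 : p - ((1 : ℕ) : ℤ) + 1 = p := by simp
  rw [h1]
  exact le_inf (img_d_filX_le K p (n - 1) n) le_rfl

variable (h0 : ∀ n : ℤ, ∃ p₀ : ℤ, ∀ p : ℤ, p₀ ≤ p →
    IsZero ((K.fil p : CochainComplex A ℤ).homology n))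
  (h1 : ∀ n : ℤ, ∃ p₁ : ℤ, ∀ p : ℤ, p ≤ p₁ →
    IsIso (HomologicalComplex.homologyMap (K.fil p).arrow n))
include h0 h1

lemma isBounded_one : K.IsBounded 1 := by
  intro n
  obtain ⟨a0, ha0⟩ := h0 n
  obtain ⟨a1, ha1⟩ := h0 (n + 1)
  obtain ⟨b0, hb0⟩ := h1 n
  obtain ⟨b1, hb1⟩ := h1 (n + 1)
  apply (Set.finite_Ico (min b0 b1) (max a0 a1)).subset
  intro p hp
  by_contra hnot
  apply hp
  rw [Set.mem_Ico, not_and_or, not_le, not_lt] at hnot
  rcases hnot with h | h
  · -- small `p`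
    have i1 := hb1 (p + 1) (by omega)
    have i2 := hb0 (p + 1) (by omega)
    have i3 := hb0 p (by omega)
    refine isZero_E_one K p n (strictAt_of_mono K (p + 1) n (n + 1) rfl inferInstance) ?_
    have e1 := kernel_le_of_epi K (p + 1) (n - 1) n (n + 1) (by omega) rfl inferInstance
    have e2 : StrictAt K p (n - 1) n := strictAt_of_mono K p (n - 1) n (by omega) inferInstance
    calc K.filX p n ⊓ kernelSubobject (K.obj.d n (n + 1))
        ≤ K.filX p n ⊓ ((K.filX (p + 1) n ⊓ kernelSubobject (K.obj.d n (n + 1))) ⊔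
            imageSubobject (K.obj.d (n - 1) n)) := inf_le_inf_left _ e1
      _ = ((K.filX (p + 1) n ⊓ kernelSubobject (K.obj.d n (n + 1))) ⊔
            imageSubobject (K.obj.d (n - 1) n)) ⊓ K.filX p n := inf_comm _ _
      _ = (K.filX (p + 1) n ⊓ kernelSubobject (K.obj.d n (n + 1))) ⊔
            imageSubobject (K.obj.d (n - 1) n) ⊓ K.filX p n :=
          sup_inf_assoc_of_le _ (inf_le_left.trans (K.filX_anti n (by omega)))
      _ ≤ K.filX (p + 1) n ⊔ img (K.obj.d (n - 1) n) (K.filX p (n - 1)) := by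
          refine sup_le_sup inf_le_left ?_
          rw [inf_comm]
          exact e2
  · -- large `p`
    refine isZero_E_one K p n
      (strictAt_of_isZero K (p + 1) n (n + 1) rfl (ha1 (p + 1) (by omega))) ?_
    exact le_sup_of_le_right
      (cycles_le_of_isZero K p (n - 1) n (n + 1) (by omega) rfl (ha0 p (by omega)))

lemma hfil_isFinite (n : ℤ) : (K.HFil n).IsFinite := by
  obtain ⟨a0, ha0⟩ := h0 n
  obtain ⟨b0, hb0⟩ := h1 n
  refine ⟨⟨b0, ?_⟩, ⟨a0, ?_⟩⟩
  · change K.filH b0 n = ⊤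
    unfold SpSeq.FilCx.filH
    have := hb0 b0 le_rfl
    exact imageSubobject_eq_top_of_epi _
  · change K.filH a0 n = ⊥
    unfold SpSeq.FilCx.filH
    exact imageSubobject_eq_bot_of_eq_zero _ ((ha0 a0 le_rfl).eq_of_src _ _)

lemma isRegular : K.IsRegular := by
  intro p n
  obtain ⟨a1, ha1⟩ := h0 (n + 1)
  refine ⟨max 1 (a1 - p).toNat, fun r hr => ?_⟩
  rw [ZSub_eq_ZTop_of_strictAt K r (by omega) p n
      (strictAt_of_isZero K _ n (n + 1) rfl (ha1 _ (by omega))),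
    ZSub_eq_ZTop_of_strictAt K _ (le_max_left _ _) p n
      (strictAt_of_isZero K _ n (n + 1) rfl (ha1 _ (by omega)))]

lemma weaklyConverges : K.WeaklyConverges := by
  intro p n
  constructor
  · obtain ⟨a1, ha1⟩ := h0 (n + 1)
    constructor
    · rintro _ ⟨r, rfl⟩
      exact ZTop_le_ZSub K r p n
    · intro S hS
      have h2 : S ≤ K.ZSub (max 1 (a1 - p).toNat) p n := hS ⟨max 1 (a1 - p).toNat, rfl⟩
      rwa [ZSub_eq_ZTop_of_strictAt K _ (le_max_left _ _) p n
        (strictAt_of_isZero K _ n (n + 1) rfl (ha1 _ (by omega)))] at h2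
  · obtain ⟨b0, hb0⟩ := h1 n
    constructor
    · rintro _ ⟨r, rfl⟩
      exact BSub_le_BBot K r p n
    · intro S hS
      have h2 : K.BSub (max 1 (p + 1 - b0).toNat) p n ≤ S :=
        hS ⟨max 1 (p + 1 - b0).toNat, rfl⟩
      have := hb0 (p - (max 1 (p + 1 - b0).toNat : ℕ) + 1) (by omega)
      rwa [BSub_eq_BBot_of_strictAt K _ (le_max_left _ _) p n
        (strictAt_of_mono K _ (n - 1) n (by omega) inferInstance)] at h2

lemma converges : K.Converges := by
  refine ⟨isRegular K h0 h1, ⟨weaklyConverges K h0 h1, fun n => ?_⟩, fun n => ?_⟩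
  · obtain ⟨⟨a, ha⟩, ⟨b, hb⟩⟩ := hfil_isFinite K h0 h1 n
    exact ⟨isGLB_bot_of_mem _ ⟨b, hb⟩, isLUB_top_of_mem _ ⟨a, ha⟩⟩
  · obtain ⟨_, ⟨b, hb⟩⟩ := hfil_isFinite K h0 h1 n
    exact isComplete_of_bot _ b hb

end Groth.Agent.Lib.Helper25.FilCxConv
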