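import Groth.Agent.Lib.Helper25.FilCxBasic
import Mathlib.Order.Interval.Finset.Defs
import Mathlib.Order.Interval.Finset.Basic
import Mathlib.Data.Int.Interval

/-!
# Filtered complexes with degreewise finite filtration: convergence
-/

namespace Groth.Agent.Lib.Helper25.FilCxFinite

open CategoryTheory CategoryTheory.Limits SpSeq SpSeq.FilCx
open Groth.Agent.Lib.Helper25.SubElem Groth.Agent.Lib.Helper25.FilCxBasic

universe v u
variable {A : Type u} [Category.{v} A] [Abelian A]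

lemma arrow_eq_zero_of_eq_bot {X : A} (S : Subobject X) (h : S = ⊥) : S.arrow = 0 := by
  subst h
  exact Subobject.bot_arrow

lemma isIso_cokernel_π_of_eq_zero {X Y : A} (g : X ⟶ Y) (h : g = 0) : IsIso (cokernel.π g) := by
  subst h
  infer_instance

lemma imageSubobject_eq_top_of_epi {X Y : A} (f : X ⟶ Y) [Epi f] : imageSubobject f = ⊤ := by
  rw [← img_top, img_of_epi_top]

lemma imageSubobject_eq_bot_of_eq_zero {X Y : A} (f : X ⟶ Y) (h : f = 0) :
    imageSubobject f = ⊥ := by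
  subst h
  exact imageSubobject_zero

lemma isGLB_bot_of_mem {α : Type*} [PartialOrder α] [OrderBot α] (s : Set α) (h : ⊥ ∈ s) :
    IsGLB s ⊥ :=
  ⟨fun _ _ => bot_le, fun _ hx => hx h⟩

lemma isLUB_top_of_mem {α : Type*} [PartialOrder α] [OrderTop α] (s : Set α) (h : ⊤ ∈ s) :
    IsLUB s ⊤ :=
  ⟨fun _ _ => le_top, fun _ hx => hx h⟩

/-- A filtered object whose filtration reaches `⊥` is complete. -/
lemma isComplete_of_bot (L : SpSeq.FilObj A) (b : ℤ) (hb : L.fil b = ⊥) : L.IsComplete := by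
  intro T f hf
  have hπ : ∀ p, b ≤ p → IsIso (cokernel.π (L.fil p).arrow) := fun p hp =>
    isIso_cokernel_π_of_eq_zero _ (arrow_eq_zero_of_eq_bot _ (eq_bot_iff.2 (hb ▸ L.anti hp)))
  have hq : ∀ (p q : ℤ) (h : p ≤ q),
      cokernel.π (L.fil p).arrow = cokernel.π (L.fil q).arrow ≫ L.quotMap h := by
    intro p q h
    unfold SpSeq.FilObj.quotMap
    rw [cokernel.π_desc]
  have := hπ b le_rfl
  refine ⟨f b ≫ inv (cokernel.π (L.fil b).arrow), fun p => ?_⟩
  rcases le_total p b with h | h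
  · rw [hq p b h, Category.assoc, IsIso.inv_hom_id_assoc, hf p b h]
  · have := hπ p h
    have h1 : L.quotMap h = inv (cokernel.π (L.fil p).arrow) ≫ cokernel.π (L.fil b).arrow := by
      rw [IsIso.eq_inv_comp, ← hq b p h]
    have : IsIso (L.quotMap h) := by
      rw [h1]
      infer_instance
    rw [← cancel_mono (L.quotMap h), Category.assoc, Category.assoc, ← hq b p h,
      IsIso.inv_hom_id, Category.comp_id, hf b p h]

variable (K : SpSeq.FilCx A) (hK : ∀ n : ℤ, (K.XFil n).IsFinite)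
include hK

lemma isBounded_zero : K.IsBounded 0 := by
  intro n
  obtain ⟨⟨a, ha⟩, ⟨b, hb⟩⟩ := hK n
  change K.filX a n = ⊤ at ha
  change K.filX b n = ⊥ at hb
  apply (Set.finite_Ico a b).subset
  intro p hp
  by_contra hnot
  apply hp
  rw [Set.mem_Ico, not_and_or, not_le, not_lt] at hnot
  apply isZero_subquot_of_eq
  rcases hnot with h | h
  · have h1 : K.filX (p + 1) n = ⊤ := filX_eq_top_of_le K ha (by omega)
    unfold SpSeq.FilCx.ZSub SpSeq.FilCx.BSub
    rw [h1, sup_top_eq, sup_top_eq]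
  · have h1 : K.filX p n = ⊥ := filX_eq_bot_of_le K hb h
    have h2 : K.filX (p + 1) n = ⊥ := filX_eq_bot_of_le K hb (by omega)
    unfold SpSeq.FilCx.ZSub SpSeq.FilCx.BSub
    rw [h1, h2, bot_inf_eq, bot_inf_eq]

lemma hfil_isFinite (n : ℤ) : (K.HFil n).IsFinite := by
  obtain ⟨⟨a0, ha0⟩, _⟩ := hK (n - 1)
  obtain ⟨⟨a1, ha1⟩, ⟨b, hb⟩⟩ := hK n
  obtain ⟨⟨a2, ha2⟩, _⟩ := hK (n + 1)
  change K.filX a0 (n - 1) = ⊤ at ha0
  change K.filX a1 n = ⊤ at ha1
  change K.filX a2 (n + 1) = ⊤ at ha2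
  change K.filX b n = ⊥ at hb
  refine ⟨⟨min a0 (min a1 a2), ?_⟩, ⟨b, ?_⟩⟩
  · change K.filH _ n = ⊤
    unfold SpSeq.FilCx.filH
    have h0 := filX_eq_top_of_le K ha0 (show min a0 (min a1 a2) ≤ a0 by omega)
    have h1 := filX_eq_top_of_le K ha1 (show min a0 (min a1 a2) ≤ a1 by omega)
    have h2 := filX_eq_top_of_le K ha2 (show min a0 (min a1 a2) ≤ a2 by omega)
    unfold SpSeq.FilCx.filX at h0 h1 h2
    rw [← Subobject.isIso_iff_mk_eq_top] at h0 h1 h2
    have := isIso_homologyMap_of_isIso_f (K.fil (min a0 (min a1 a2))).arrow n h0 h1 h2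
    exact imageSubobject_eq_top_of_epi _
  · change K.filH b n = ⊥
    unfold SpSeq.FilCx.filH
    unfold SpSeq.FilCx.filX at hb
    rw [Subobject.mk_eq_bot_iff_zero] at hb
    exact imageSubobject_eq_bot_of_eq_zero _ (homologyMap_eq_zero_of_f_eq_zero _ _ hb)

lemma isRegular : K.IsRegular := by
  intro p n
  obtain ⟨_, ⟨b, hb⟩⟩ := hK (n + 1)
  change K.filX b (n + 1) = ⊥ at hb
  refine ⟨(b - p).toNat, fun r hr => ?_⟩
  rw [ZSub_eq_ZTop_of_bot K (filX_eq_bot_of_le K hb (by omega)),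
    ZSub_eq_ZTop_of_bot K (filX_eq_bot_of_le K hb (by omega))]

lemma weaklyConverges : K.WeaklyConverges := by
  intro p n
  constructor
  · obtain ⟨_, ⟨b, hb⟩⟩ := hK (n + 1)
    change K.filX b (n + 1) = ⊥ at hb
    constructor
    · rintro _ ⟨r, rfl⟩
      exact ZTop_le_ZSub K r p n
    · intro S hS
      have h1 : S ≤ K.ZSub (b - p).toNat p n := hS ⟨(b - p).toNat, rfl⟩
      rwa [ZSub_eq_ZTop_of_bot K (filX_eq_bot_of_le K hb (by omega))] at h1
  · obtain ⟨⟨a, ha⟩, _⟩ := hK (n - 1)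
    change K.filX a (n - 1) = ⊤ at ha
    constructor
    · rintro _ ⟨r, rfl⟩
      exact BSub_le_BBot K r p n
    · intro S hS
      have h1 : K.BSub (p + 1 - a).toNat p n ≤ S := hS ⟨(p + 1 - a).toNat, rfl⟩
      rwa [BSub_eq_BBot_of_top K (filX_eq_top_of_le K ha (by omega))] at h1

lemma converges : K.Converges := by
  refine ⟨isRegular K hK, ⟨weaklyConverges K hK, fun n => ?_⟩, fun n => ?_⟩
  · obtain ⟨⟨a, ha⟩, ⟨b, hb⟩⟩ := hfil_isFinite K hK n
    exact ⟨isGLB_bot_of_mem _ ⟨b, hb⟩, isLUB_top_of_mem _ ⟨a, ha⟩⟩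
  · obtain ⟨_, ⟨b, hb⟩⟩ := hfil_isFinite K hK n
    exact isComplete_of_bot _ b hb

end Groth.Agent.Lib.Helper25.FilCxFinite
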