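import Groth.Agent.Lib.Helper25.FilCxFinite
import Mathlib.Algebra.Homology.Refinements

/-!
# Filtered complexes: homological hypotheses on the steps translated to the subobject lattice
-/

namespace Groth.Agent.Lib.Helper25.FilCxHom

open CategoryTheory CategoryTheory.Limits SpSeq SpSeq.FilCx
open Groth.Agent.Lib.Helper25.SubElem Groth.Agent.Lib.Helper25.FilCxBasic
open Groth.Agent.Lib.Helper25.FilCxFinite

universe v u
variable {A : Type u} [Category.{v} A] [Abelian A] (K : SpSeq.FilCx A)

lemma filX_factors_iff (p n : ℤ) {W : A} (x : W ⟶ K.obj.X n) :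
    (K.filX p n).Factors x ↔
      ∃ x' : W ⟶ (K.fil p : CochainComplex A ℤ).X n, x' ≫ (K.fil p).arrow.f n = x := by
  unfold SpSeq.FilCx.filX
  rw [Subobject.mk_factors_iff]
  rfl

/-- The differential preserves the filtration. -/
lemma img_d_filX_le (p i j : ℤ) : img (K.obj.d i j) (K.filX p i) ≤ K.filX p j := by
  rw [le_iff_forall_factors]
  intro W x hx
  rw [img_factors_iff] at hx
  obtain ⟨W', π, hπ, y, hy, hxy⟩ := hx
  rw [filX_factors_iff] at hy
  obtain ⟨y', rfl⟩ := hy
  refine factors_of_epi_comp_eq _ π x _ hxy ?_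
  rw [filX_factors_iff]
  exact ⟨y' ≫ (K.fil p : CochainComplex A ℤ).d i j, by
    rw [Category.assoc, Category.assoc, HomologicalComplex.Hom.comm]⟩

/-- The strictness condition of `d : K^i → K^j` with respect to `F^q`. -/
def StrictAt (q i j : ℤ) : Prop :=
  K.filX q j ⊓ imageSubobject (K.obj.d i j) ≤ img (K.obj.d i j) (K.filX q i)

lemma cycles_le_of_isZero (p i j k : ℤ) (hi : i + 1 = j) (hk : j + 1 = k)
    (h : IsZero ((K.fil p : CochainComplex A ℤ).homology j)) :
    K.filX p j ⊓ kernelSubobject (K.obj.d j k) ≤ img (K.obj.d i j) (K.filX p i) := by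
  rw [le_iff_forall_factors]
  intro W x hx
  rw [Subobject.inf_factors, filX_factors_iff, kernelSubobject_factors_iff] at hx
  obtain ⟨⟨x', rfl⟩, hx2⟩ := hx
  have hx' : x' ≫ (K.fil p : CochainComplex A ℤ).d j k = 0 := by
    rw [← cancel_mono ((K.fil p).arrow.f k), Category.assoc, ← HomologicalComplex.Hom.comm,
      ← Category.assoc, hx2, zero_comp]
  have hex : (K.fil p : CochainComplex A ℤ).ExactAt j :=
    (HomologicalComplex.exactAt_iff_isZero_homology _ _).2 h
  rw [HomologicalComplex.exactAt_iff_exact_up_to_refinements _ i j k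
    (by subst hi; simp) (by subst hk; simp)] at hex
  obtain ⟨W', π, hπ, y', hy'⟩ := hex x' hx'
  refine factors_of_epi_comp_eq _ π _ ((y' ≫ (K.fil p).arrow.f i) ≫ K.obj.d i j) ?_
    (img_factors_comp _ _ _ ?_)
  · rw [← Category.assoc, hy', Category.assoc, Category.assoc, HomologicalComplex.Hom.comm]
  · rw [filX_factors_iff]
    exact ⟨y', rfl⟩

lemma image_le_kernel (i j k : ℤ) :
    imageSubobject (K.obj.d i j) ≤ kernelSubobject (K.obj.d j k) := by
  rw [imageSubobject_le_iff, kernelSubobject_factors_iff]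
  exact K.obj.d_comp_d i j k

lemma strictAt_of_isZero (p i j : ℤ) (hi : i + 1 = j)
    (h : IsZero ((K.fil p : CochainComplex A ℤ).homology j)) : StrictAt K p i j :=
  (inf_le_inf_left _ (image_le_kernel K i j (j + 1))).trans
    (cycles_le_of_isZero K p i j (j + 1) hi rfl h)

lemma strictAt_of_mono (p i j : ℤ) (hi : i + 1 = j)
    (h : Mono (HomologicalComplex.homologyMap (K.fil p).arrow j)) : StrictAt K p i j := by
  unfold StrictAt
  rw [le_iff_forall_factors]
  intro W x hx
  rw [Subobject.inf_factors, filX_factors_iff, imageSubobject_factors_iff] at hx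
  obtain ⟨⟨x', rfl⟩, W', π, hπ, y, hy⟩ := hx
  rw [HomologicalComplex.mono_homologyMap_iff_up_to_refinements _ i j (j + 1)
    (by subst hi; simp) (by simp)] at h
  have hx' : (π ≫ x') ≫ (K.fil p : CochainComplex A ℤ).d j (j + 1) = 0 := by
    rw [← cancel_mono ((K.fil p).arrow.f (j + 1)), Category.assoc, Category.assoc,
      ← HomologicalComplex.Hom.comm, zero_comp, ← Category.assoc, ← Category.assoc,
      Category.assoc π, hy, Category.assoc, K.obj.d_comp_d, comp_zero]
  obtain ⟨W'', π', hπ', x₁, hx₁⟩ := h (π ≫ x') hx' y (by rw [Category.assoc, hy])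
  refine factors_of_epi_comp_eq _ (π' ≫ π) _ ((x₁ ≫ (K.fil p).arrow.f i) ≫ K.obj.d i j) ?_
    (img_factors_comp _ _ _ ?_)
  · rw [Category.assoc, ← Category.assoc π, ← Category.assoc π', hx₁, Category.assoc,
      Category.assoc, HomologicalComplex.Hom.comm]
  · rw [filX_factors_iff]
    exact ⟨x₁, rfl⟩

lemma kernel_le_of_epi (p i j k : ℤ) (hi : i + 1 = j) (hk : j + 1 = k)
    (h : Epi (HomologicalComplex.homologyMap (K.fil p).arrow j)) :
    kernelSubobject (K.obj.d j k) ≤
      (K.filX p j ⊓ kernelSubobject (K.obj.d j k)) ⊔ imageSubobject (K.obj.d i j) := by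
  rw [le_iff_forall_factors]
  intro W x hx
  rw [kernelSubobject_factors_iff] at hx
  rw [HomologicalComplex.epi_homologyMap_iff_up_to_refinements _ i j k
    (by subst hi; simp) (by subst hk; simp)] at h
  obtain ⟨W', π, hπ, x₂, hx₂, y₁, hxy⟩ := h x hx
  refine factors_of_epi_comp_eq _ π x _ hxy ?_
  refine Subobject.factors_add _ _ (Subobject.sup_factors_of_factors_left ?_)
    (Subobject.sup_factors_of_factors_right
      (imageSubobject_factors_comp_self (f := K.obj.d i j) y₁))
  rw [Subobject.inf_factors, filX_factors_iff, kernelSubobject_factors_iff]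
  refine ⟨⟨x₂, rfl⟩, ?_⟩
  rw [Category.assoc, HomologicalComplex.Hom.comm, ← Category.assoc, hx₂, zero_comp]

end Groth.Agent.Lib.Helper25.FilCxHom
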