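import Groth.Prelude.Def_SpSeq
import Groth.Agent.Lib.Helper25.SubElem
import Mathlib.CategoryTheory.Abelian.CommSq

/-!
# Strict morphisms of filtered objects
-/

namespace Groth.Agent.Lib.Helper25.FilStrict

open CategoryTheory CategoryTheory.Limits SpSeq SpSeq.FilObj
open Groth.Agent.Lib.Helper25.SubElem

universe v u
variable {A : Type u} [Category.{v} A] [Abelian A]

lemma comp_hom {K L M : SpSeq.FilObj A} (f : K ⟶ L) (g : L ⟶ M) : (f ≫ g).hom = f.hom ≫ g.hom := rfl

lemma id_hom (K : SpSeq.FilObj A) : (𝟙 K : K ⟶ K).hom = 𝟙 K.obj := rfl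

lemma isStrict_iff {K L : SpSeq.FilObj A} (f : K ⟶ L) :
    SpSeq.FilObj.IsStrict f ↔ ∀ p : ℤ, img f.hom (K.fil p) = img f.hom ⊤ ⊓ L.fil p := by
  unfold SpSeq.FilObj.IsStrict
  simp only [img_top]
  rfl

lemma img_fil_le {K L : SpSeq.FilObj A} (f : K ⟶ L) (p : ℤ) : img f.hom (K.fil p) ≤ L.fil p := by
  rw [img_le_iff]
  exact f.compat p

lemma isStrict_comp_of_mono {K L M : SpSeq.FilObj A} (f : K ⟶ L) (g : L ⟶ M)
    (hf : SpSeq.FilObj.IsStrict f) (hg : SpSeq.FilObj.IsStrict g) [Mono g.hom] :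
    SpSeq.FilObj.IsStrict (f ≫ g) := by
  rw [isStrict_iff] at hf hg ⊢
  intro p
  rw [comp_hom, img_comp, img_comp, hf p, img_inf_of_mono, hg p, ← inf_assoc]
  congr 1
  exact inf_eq_left.2 (img_mono _ le_top)

lemma isStrict_comp_of_epi {K L M : SpSeq.FilObj A} (f : K ⟶ L) (g : L ⟶ M)
    (hf : SpSeq.FilObj.IsStrict f) (hg : SpSeq.FilObj.IsStrict g) [Epi f.hom] :
    SpSeq.FilObj.IsStrict (f ≫ g) := by
  rw [isStrict_iff] at hf hg ⊢
  intro p
  rw [comp_hom, img_comp, img_comp, hf p, img_of_epi_top, top_inf_eq, hg p]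

lemma isIso_hom_of_iso {K L : SpSeq.FilObj A} (e : K ≅ L) : IsIso e.hom.hom :=
  ⟨⟨e.inv.hom, congrArg SpSeq.FilObj.Hom.hom e.hom_inv_id,
    congrArg SpSeq.FilObj.Hom.hom e.inv_hom_id⟩⟩

lemma isStrict_of_iso {K L : SpSeq.FilObj A} (e : K ≅ L) : SpSeq.FilObj.IsStrict e.hom := by
  rw [isStrict_iff]
  intro p
  have := isIso_hom_of_iso e
  rw [img_of_epi_top, top_inf_eq]
  apply le_antisymm (img_fil_le e.hom p)
  calc L.fil p = img (e.inv.hom ≫ e.hom.hom) (L.fil p) := by
        rw [← comp_hom, e.inv_hom_id, id_hom, img_id]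
    _ = img e.hom.hom (img e.inv.hom (L.fil p)) := img_comp _ _ _
    _ ≤ img e.hom.hom (K.fil p) := img_mono _ (img_fil_le e.inv p)

section Pushout

variable {K L M : SpSeq.FilObj A} (f : K ⟶ L) (g : K ⟶ M)

/-- The pushout of filtered objects. -/
noncomputable def poObj : SpSeq.FilObj A where
  obj := pushout f.hom g.hom
  fil p := img (pushout.inl f.hom g.hom) (L.fil p) ⊔ img (pushout.inr f.hom g.hom) (M.fil p)
  anti := fun _ _ h => sup_le_sup (img_mono _ (L.anti h)) (img_mono _ (M.anti h))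

noncomputable def poInl : L ⟶ poObj f g :=
  (⟨pushout.inl f.hom g.hom, fun _ => (img_le_iff _ _ _).1 le_sup_left⟩ :
    SpSeq.FilObj.Hom L (poObj f g))

noncomputable def poInr : M ⟶ poObj f g :=
  (⟨pushout.inr f.hom g.hom, fun _ => (img_le_iff _ _ _).1 le_sup_right⟩ :
    SpSeq.FilObj.Hom M (poObj f g))

lemma po_cond : f ≫ poInl f g = g ≫ poInr f g :=
  SpSeq.FilObj.Hom.ext pushout.condition

noncomputable def poDesc (s : PushoutCocone f g) : poObj f g ⟶ s.pt :=
  (⟨pushout.desc s.inl.hom s.inr.hom (congrArg SpSeq.FilObj.Hom.hom s.condition), fun p => by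
    rw [← img_le_iff]
    change img _ (img (pushout.inl f.hom g.hom) (L.fil p) ⊔
      img (pushout.inr f.hom g.hom) (M.fil p)) ≤ _
    rw [img_sup, ← img_comp, ← img_comp, pushout.inl_desc, pushout.inr_desc]
    exact sup_le (img_fil_le _ p) (img_fil_le _ p)⟩ :
    SpSeq.FilObj.Hom (poObj f g) s.pt)

noncomputable def poIsColimit :
    IsColimit (PushoutCocone.mk (poInl f g) (poInr f g) (po_cond f g)) :=
  PushoutCocone.IsColimit.mk _ (poDesc f g)
    (fun _ => SpSeq.FilObj.Hom.ext (pushout.inl_desc _ _ _))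
    (fun _ => SpSeq.FilObj.Hom.ext (pushout.inr_desc _ _ _))
    (fun _ _ h1 h2 => SpSeq.FilObj.Hom.ext (pushout.hom_ext
      ((congrArg SpSeq.FilObj.Hom.hom h1).trans (pushout.inl_desc _ _ _).symm)
      ((congrArg SpSeq.FilObj.Hom.hom h2).trans (pushout.inr_desc _ _ _).symm)))

lemma hasPushout : HasPushout f g := ⟨⟨⟨_, poIsColimit f g⟩⟩⟩

end Pushout

/-- In a pushout square in an abelian category, `inl⁻¹(im inr) ≤ im f`. -/
lemma pullback_image_le_of_isPushout {X₁ X₂ X₃ X₄ : A} {t : X₁ ⟶ X₂} {l : X₁ ⟶ X₃}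
    {r : X₂ ⟶ X₄} {b : X₃ ⟶ X₄} (h : IsPushout t l r b) :
    (Subobject.pullback r).obj (imageSubobject b) ≤ imageSubobject t := by
  rw [le_iff_forall_factors]
  intro W x hx
  rw [pullback_factors_iff, imageSubobject_factors_iff] at hx
  obtain ⟨W', π, hπ, m, hm⟩ := hx
  have hz : (biprod.lift (π ≫ x) (-m) : W' ⟶ X₂ ⊞ X₃) ≫ biprod.desc r b = 0 := by
    rw [biprod.lift_desc, Preadditive.neg_comp, Category.assoc, hm, add_neg_cancel]
  obtain ⟨W'', π', hπ', k, hk⟩ := h.exact_shortComplex.exact_up_to_refinements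
    (biprod.lift (π ≫ x) (-m)) hz
  have hk' : π' ≫ (biprod.lift (π ≫ x) (-m) : W' ⟶ X₂ ⊞ X₃) =
      (k : W'' ⟶ X₁) ≫ biprod.lift t (-l) := hk
  have h1 := hk' =≫ biprod.fst
  simp only [Category.assoc, biprod.lift_fst] at h1
  rw [imageSubobject_factors_iff]
  exact ⟨W'', π' ≫ π, epi_comp _ _, (k : W'' ⟶ X₁), by rw [Category.assoc]; exact h1⟩

lemma isStrict_poInr {K L M : SpSeq.FilObj A} (f : K ⟶ L) (g : K ⟶ M)
    (hf : SpSeq.FilObj.IsStrict f) : SpSeq.FilObj.IsStrict (poInr f g) := by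
  rw [isStrict_iff] at hf ⊢
  intro p
  change img (pushout.inr f.hom g.hom) (M.fil p) = img (pushout.inr f.hom g.hom) ⊤ ⊓
    (img (pushout.inl f.hom g.hom) (L.fil p) ⊔ img (pushout.inr f.hom g.hom) (M.fil p))
  apply le_antisymm (le_inf (img_mono _ le_top) le_sup_right)
  have h1 : img (pushout.inr f.hom g.hom) (M.fil p) ≤ img (pushout.inr f.hom g.hom) ⊤ :=
    img_mono _ le_top
  rw [inf_comm, sup_comm]
  refine (sup_inf_le_of_le _ _ _ h1).trans (sup_le le_rfl ?_)
  rw [img_top (pushout.inr f.hom g.hom), ← img_inf_pullback]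
  have h2 := pullback_image_le_of_isPushout (IsPushout.of_hasPushout f.hom g.hom)
  have h3 : L.fil p ⊓ (Subobject.pullback (pushout.inl f.hom g.hom)).obj
      (imageSubobject (pushout.inr f.hom g.hom)) ≤ img f.hom (K.fil p) := by
    rw [hf p, img_top, inf_comm]
    exact inf_le_inf_right _ h2
  refine (img_mono _ h3).trans ?_
  rw [← img_comp, pushout.condition, img_comp]
  exact img_mono _ (img_fil_le g p)

lemma isStrict_of_isPushout {K L M P : SpSeq.FilObj A} (f : K ⟶ L) (g : K ⟶ M) (g' : L ⟶ P)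
    (f' : M ⟶ P) (h : IsPushout f g g' f') (hf : SpSeq.FilObj.IsStrict f) :
    SpSeq.FilObj.IsStrict f' := by
  obtain ⟨e, he⟩ : ∃ e : poObj f g ≅ P, poInr f g ≫ e.hom = f' :=
    ⟨(poIsColimit f g).coconePointUniqueUpToIso h.isColimit,
      (poIsColimit f g).comp_coconePointUniqueUpToIso_hom h.isColimit WalkingSpan.right⟩
  rw [← he]
  have := isIso_hom_of_iso e
  exact isStrict_comp_of_mono _ _ (isStrict_poInr f g hf) (isStrict_of_iso e)

section Pullback

variable {K L M : SpSeq.FilObj A} (f : L ⟶ K) (g : M ⟶ K)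

/-- The pullback of filtered objects. -/
noncomputable def pbObj : SpSeq.FilObj A where
  obj := pullback f.hom g.hom
  fil p := (Subobject.pullback (pullback.fst f.hom g.hom)).obj (L.fil p) ⊓
    (Subobject.pullback (pullback.snd f.hom g.hom)).obj (M.fil p)
  anti := fun _ _ h => inf_le_inf ((Subobject.pullback _).monotone (L.anti h))
    ((Subobject.pullback _).monotone (M.anti h))

noncomputable def pbFst : pbObj f g ⟶ L :=
  (⟨pullback.fst f.hom g.hom, fun _ => inf_le_left⟩ : SpSeq.FilObj.Hom (pbObj f g) L)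

noncomputable def pbSnd : pbObj f g ⟶ M :=
  (⟨pullback.snd f.hom g.hom, fun _ => inf_le_right⟩ : SpSeq.FilObj.Hom (pbObj f g) M)

lemma pb_cond : pbFst f g ≫ f = pbSnd f g ≫ g :=
  SpSeq.FilObj.Hom.ext pullback.condition

noncomputable def pbLift (s : PullbackCone f g) : s.pt ⟶ pbObj f g :=
  (⟨pullback.lift s.fst.hom s.snd.hom (congrArg SpSeq.FilObj.Hom.hom s.condition), fun p => by
    change _ ≤ (Subobject.pullback _).obj
      ((Subobject.pullback (pullback.fst f.hom g.hom)).obj (L.fil p) ⊓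
        (Subobject.pullback (pullback.snd f.hom g.hom)).obj (M.fil p))
    rw [Subobject.inf_pullback, ← Subobject.pullback_comp, ← Subobject.pullback_comp,
      pullback.lift_fst, pullback.lift_snd]
    exact le_inf (s.fst.compat p) (s.snd.compat p)⟩ :
    SpSeq.FilObj.Hom s.pt (pbObj f g))

noncomputable def pbIsLimit :
    IsLimit (PullbackCone.mk (pbFst f g) (pbSnd f g) (pb_cond f g)) :=
  PullbackCone.IsLimit.mk _ (pbLift f g)
    (fun _ => SpSeq.FilObj.Hom.ext (pullback.lift_fst _ _ _))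
    (fun _ => SpSeq.FilObj.Hom.ext (pullback.lift_snd _ _ _))
    (fun _ _ h1 h2 => SpSeq.FilObj.Hom.ext (pullback.hom_ext
      ((congrArg SpSeq.FilObj.Hom.hom h1).trans (pullback.lift_fst _ _ _).symm)
      ((congrArg SpSeq.FilObj.Hom.hom h2).trans (pullback.lift_snd _ _ _).symm)))

lemma hasPullback : HasPullback f g := ⟨⟨⟨_, pbIsLimit f g⟩⟩⟩

lemma isStrict_pbSnd (hf : SpSeq.FilObj.IsStrict f) : SpSeq.FilObj.IsStrict (pbSnd f g) := by
  rw [isStrict_iff] at hf ⊢
  intro p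
  apply le_antisymm (le_inf (img_mono _ le_top) (img_fil_le (pbSnd f g) p))
  rw [le_iff_forall_factors]
  intro W y hy
  rw [Subobject.inf_factors, img_top] at hy
  obtain ⟨hy1, hy2⟩ := hy
  change (imageSubobject (pullback.snd f.hom g.hom)).Factors y at hy1
  rw [imageSubobject_factors_iff] at hy1
  obtain ⟨W', π, hπ, x, hx⟩ := hy1
  have h1 : (K.fil p).Factors (y ≫ g.hom) := by
    rw [← pullback_factors_iff]
    exact Subobject.factors_of_le _ (g.compat p) hy2
  have h2 : (img f.hom ⊤ ⊓ K.fil p).Factors ((x ≫ pullback.fst f.hom g.hom) ≫ f.hom) := by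
    rw [Subobject.inf_factors]
    refine ⟨img_factors_comp _ _ _ (Subobject.top_factors _), ?_⟩
    rw [Category.assoc, pullback.condition, ← Category.assoc, ← hx, Category.assoc]
    exact Subobject.factors_of_factors_right _ h1
  rw [← hf p, img_factors_iff] at h2
  obtain ⟨W'', π', hπ', l, hl, hlx⟩ := h2
  have hc : l ≫ f.hom = (π' ≫ x ≫ pullback.snd f.hom g.hom) ≫ g.hom := by
    rw [← hlx]
    simp only [Category.assoc, pullback.condition]
  have h3 : (π' ≫ π) ≫ y = pullback.lift l (π' ≫ x ≫ pullback.snd f.hom g.hom) hc ≫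
      pullback.snd f.hom g.hom := by
    rw [pullback.lift_snd, Category.assoc, hx]
  refine factors_of_epi_comp_eq _ (π' ≫ π) y _ h3 ?_
  apply img_factors_comp (pullback.snd f.hom g.hom) ((pbObj f g).fil p)
  change ((Subobject.pullback (pullback.fst f.hom g.hom)).obj (L.fil p) ⊓
    (Subobject.pullback (pullback.snd f.hom g.hom)).obj (M.fil p)).Factors _
  rw [Subobject.inf_factors, pullback_factors_iff, pullback_factors_iff, pullback.lift_fst,
    pullback.lift_snd]
  refine ⟨hl, ?_⟩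
  rw [← hx]
  exact Subobject.factors_of_factors_right _ (Subobject.factors_of_factors_right _ hy2)

end Pullback

lemma isStrict_of_isPullback {K L M P : SpSeq.FilObj A} (f : L ⟶ K) (g : M ⟶ K) (g' : P ⟶ L)
    (f' : P ⟶ M) (h : IsPullback g' f' f g) (hf : SpSeq.FilObj.IsStrict f) :
    SpSeq.FilObj.IsStrict f' := by
  obtain ⟨e, he⟩ : ∃ e : P ≅ pbObj f g, e.hom ≫ pbSnd f g = f' :=
    ⟨h.isLimit.conePointUniqueUpToIso (pbIsLimit f g),
      h.isLimit.conePointUniqueUpToIso_hom_comp (pbIsLimit f g) WalkingCospan.right⟩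
  rw [← he]
  have := isIso_hom_of_iso e
  exact isStrict_comp_of_epi _ _ (isStrict_of_iso e) (isStrict_pbSnd f g hf)

end Groth.Agent.Lib.Helper25.FilStrict
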