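import Mathlib
import Groth.Agent.S4113
import Groth.Agent.Lib.Helper7.GH1
import Groth.Agent.Lib.Helper10.MonoFibre

/-!
Finite group schemes of invertible order are étale (helper25): over a field via the Hopf algebra
statement S4113, and over a general base fibrewise.
-/

set_option autoImplicit false
set_option linter.style.haveILetI false
universe u
open CategoryTheory CategoryTheory.Limits MonoidalCategory CartesianMonoidalCategory MonObj GrpObj
  AlgebraicGeometry

namespace Groth.Agent.Lib.Helper25.FinGrpEtale

set_option backward.isDefEq.respectTransparency.types false in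
/-- A finite group scheme over a field whose order is invertible in the field is étale. -/
theorem etale_of_finite_field (k : Type u) [Field k] (G : Over (Spec (CommRingCat.of k)))
    [GrpObj G] [IsFinite G.hom] (h : ∀ x, (G.hom.finrank x : k) ≠ 0) : Etale G.hom := by
  haveI : IsAffine G.left := isAffine_of_isAffineHom G.hom
  obtain ⟨M⟩ := Groth.Agent.Lib.Helper7.GH.nonempty_model G
  let A := M.A
  let X : Over (Spec (CommRingCat.of k)) :=
    (Spec (CommRingCat.of A)).asOver (Spec (CommRingCat.of k))
  have hX : X.hom = Spec.map (CommRingCat.ofHom (algebraMap k A)) := rfl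
  have hw : M.e.hom.left ≫ X.hom = G.hom := Over.w M.e.hom
  haveI : IsIso M.e.hom.left := inferInstanceAs (IsIso ((Over.forget _).map M.e.hom))
  have hfinX : IsFinite X.hom := by
    have h1 : IsFinite (M.e.hom.left ≫ X.hom) := by
      rw [hw]; infer_instance
    exact (MorphismProperty.cancel_left_of_respectsIso @IsFinite M.e.hom.left X.hom).mp h1
  have hfin : IsFinite (Spec.map (CommRingCat.ofHom (algebraMap k A))) := hX ▸ hfinX
  haveI : Module.Finite k A := by
    rw [IsFinite.SpecMap_iff] at hfin
    exact RingHom.finite_algebraMap.mp hfin
  have hrank : (Module.finrank k A : k) ≠ 0 := by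
    have x0 : ↥(Spec (CommRingCat.of k)) := IsLocalRing.closedPoint k
    have h1 := h x0
    have h3 : X.hom.finrank x0 = Module.finrank k A := by
      change (Spec.map (CommRingCat.ofHom (algebraMap k A))).finrank x0 = _
      rw [Scheme.Hom.finrank_SpecMap_algebraMap k A x0, Module.rankAtStalk_eq_finrank_of_free]
      rfl
    have h2 : G.hom.finrank x0 = Module.finrank k A := by
      rw [← hw, Scheme.Hom.finrank_comp_left_of_isIso, h3]
    rw [h2] at h1
    exact h1
  haveI : Algebra.Etale k A := Groth.Agent.S4113.result k A hrank
  have hE : Etale (Spec.map (CommRingCat.ofHom (algebraMap k A))) := by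
    rw [HasRingHomProperty.Spec_iff (P := @Etale)]
    exact RingHom.etale_algebraMap.mpr inferInstance
  have hEX : Etale X.hom := hX ▸ hE
  rw [← hw]
  infer_instance

/-- Fibrewise criterion: a flat lfp group scheme whose fibres are finite of invertible order is
étale. -/
theorem etale_of_fibres {S : Scheme.{u}} (G : Over S) [GrpObj G] [Flat G.hom]
    [LocallyOfFinitePresentation G.hom]
    (hfin : ∀ s : S, IsFinite (pullback.snd G.hom (S.fromSpecResidueField s)))
    (h : ∀ (s : S) (x : ↥(Spec (S.residueField s))),
      ((pullback.snd G.hom (S.fromSpecResidueField s)).finrank x : S.residueField s) ≠ 0) :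
    Etale G.hom := by
  haveI : FormallyUnramified G.hom := by
    apply Groth.Agent.Lib.Helper10.MonoFibre.formallyUnramified_of_fiber
    intro s
    let Gs : Over (Spec (S.residueField s)) := (Over.pullback (S.fromSpecResidueField s)).obj G
    letI : GrpObj Gs := Functor.grpObjObj
    haveI : IsFinite Gs.hom := hfin s
    have hE : Etale Gs.hom := etale_of_finite_field (S.residueField s) Gs (fun x => h s x)
    have : FormallyUnramified Gs.hom := inferInstance
    exact this
  exact Etale.of_formallyUnramified_of_flat G.hom

end Groth.Agent.Lib.Helper25.FinGrpEtale
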