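import Mathlib
import Groth.Agent.Helper19.FittLib4

/-!
# Fitting ideals and fibre ranks

`dim_{κ(q)} κ(q) ⊗ M ≤ d` iff `Fit_d(M) ⊄ q`.
-/

set_option autoImplicit false
set_option linter.style.haveILetI false
universe u v
open scoped TensorProduct

namespace Groth.Agent.Lib.Helper25.FittSmooth

open Groth.Agent.Helper19.FittLib

theorem finrank_le_iff_not_fitt_le {B : Type u} [CommRing B] (M : Type v) [AddCommGroup M]
    [Module B M] [Module.Finite B M] (q : Ideal B) [q.IsPrime] (d : ℕ) :
    Module.finrank q.ResidueField (q.ResidueField ⊗[B] M) ≤ d ↔ ¬ Fitt.ideal B M d ≤ q := by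
  have h1 : Fitt.ideal q.ResidueField (q.ResidueField ⊗[B] M) d =
      (Fitt.ideal B M d).map (algebraMap B q.ResidueField) := ideal_baseChange q.ResidueField d
  have h2 := ideal_of_basis (Module.finBasis q.ResidueField (q.ResidueField ⊗[B] M)) d
  have hker : RingHom.ker (algebraMap B q.ResidueField) = q := Ideal.ker_algebraMap_residueField q
  constructor
  · intro hr hle
    rw [if_pos hr, h1] at h2
    have h3 : (Fitt.ideal B M d).map (algebraMap B q.ResidueField) ≤ ⊥ := by
      rw [Ideal.map_le_iff_le_comap]
      intro c hc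
      have : c ∈ RingHom.ker (algebraMap B q.ResidueField) := by rw [hker]; exact hle hc
      exact this
    rw [h2] at h3
    exact absurd (le_bot_iff.mp h3) top_ne_bot
  · intro hnle
    by_contra hr
    rw [if_neg hr, h1] at h2
    apply hnle
    intro c hc
    have h3 : algebraMap B q.ResidueField c ∈ (Fitt.ideal B M d).map (algebraMap B q.ResidueField) :=
      Ideal.mem_map_of_mem _ hc
    rw [h2] at h3
    have : c ∈ RingHom.ker (algebraMap B q.ResidueField) := h3
    rwa [hker] at this

end Groth.Agent.Lib.Helper25.FittSmooth
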