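import Groth.Agent.Lib.Helper25.JacLocus4

/-!
# Jacobian loci: smoothness of an lci morphism at a point
-/

set_option autoImplicit false
set_option linter.style.haveILetI false
universe u
open CategoryTheory CategoryTheory.Limits AlgebraicGeometry TopologicalSpace
open scoped TensorProduct

namespace Groth.Agent.Lib.Helper25.JacLocus

variable {Y X : Scheme.{u}} (f : Y ⟶ X) [LocallyOfFinitePresentation f]

theorem smooth_near_iff (y : Y) :
    (∃ V : Y.Opens, y ∈ V ∧ Smooth (V.ι ≫ f)) ↔ y ∈ f.smoothLocus := by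
  constructor
  · rintro ⟨V, hyV, hV⟩
    have h1 : V.ι ⁻¹ᵁ f.smoothLocus = (V.ι ≫ f).smoothLocus :=
      Scheme.Hom.preimage_smoothLocus_eq V.ι f
    haveI := hV
    rw [Scheme.Hom.smoothLocus_eq_top (V.ι ≫ f)] at h1
    have h2 : (⟨y, hyV⟩ : V) ∈ V.ι ⁻¹ᵁ f.smoothLocus := by rw [h1]; trivial
    exact h2
  · intro hy
    refine ⟨f.smoothLocus, hy, ?_⟩
    rw [← Scheme.Hom.smoothLocus_eq_top_iff, ← Scheme.Hom.preimage_smoothLocus_eq,
      Scheme.Opens.ι_preimage_self]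

theorem main_16256 [QuasiSeparated f] (m : ℕ) (y : Y)
    (hlci : ∃ (U : Y.Opens) (P : Scheme.{u}) (i : (U : Scheme.{u}) ⟶ P) (π : P ⟶ X) (c : ℕ),
      y ∈ U ∧ RegImm.IsRegularImmersionOfCodim RegImm.Kind.koszul c i ∧
        SmoothOfRelativeDimension (m + c) π ∧ i ≫ π = U.ι ≫ f) :
    (∃ V : Y.Opens, y ∈ V ∧ Smooth (V.ι ≫ f)) ↔
      y ∉ (Fitt.sheafIdeal (Omega.sheaf f) m).support := by
  obtain ⟨U, P, i, π, c, hyU, hi, hπ, hcomm⟩ := hlci
  haveI := hπ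
  rw [smooth_near_iff]
  constructor
  · intro hy
    haveI : IsImmersion i := hi.1
    have hopen : IsOpen ((U.ι ⁻¹ᵁ f.smoothLocus : (U : Scheme.{u}).Opens) : Set U) :=
      (U.ι ⁻¹ᵁ f.smoothLocus).2
    obtain ⟨O, hO, hOeq⟩ := i.isEmbedding.isInducing.isOpen_iff.mp hopen
    have hzO : i ⟨y, hyU⟩ ∈ (⟨O, hO⟩ : P.Opens) := by
      change (⟨y, hyU⟩ : U) ∈ i ⁻¹' O
      rw [hOeq]
      exact hy
    obtain ⟨D, hD, V₀, hV₀, e₁, hzD, hDO, hclD, hsm, fs, hfs, hker⟩ :=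
      exists_lci_chart i π c (m + c) hi ⟨y, hyU⟩ ⟨O, hO⟩ hzO
    haveI := hclD
    refine (chart_main f m c U i π hcomm D hD V₀ hV₀ e₁ hsm fs hker y hyU hzD).2 hfs ?_
    rintro _ ⟨w, hw, rfl⟩
    have h1 : w ∈ i ⁻¹' O := hDO hw
    rw [hOeq] at h1
    exact h1
  · intro hy
    obtain ⟨D, hD, V₀, hV₀, e₁, hzD, hDO, hclD, hsm, fs, hfs, hker⟩ :=
      exists_lci_chart i π c (m + c) hi ⟨y, hyU⟩ ⊤ trivial
    haveI := hclD
    exact (chart_main f m c U i π hcomm D hD V₀ hV₀ e₁ hsm fs hker y hyU hzD).1 hy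

end Groth.Agent.Lib.Helper25.JacLocus
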