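import Mathlib
import Groth.Agent.Lib.Helper25.FittSmooth1
import Groth.Agent.Lib.Helper25.JacLocus5
import Groth.Agent.Lib.Helper12.FlatFib6
import Groth.Agent.Lib.Helper21.FibDim10
import Groth.Agent.Lib.Helper21.EquidimAt1

/-!
# The `d`-th Jacobian locus of a flat morphism with equidimensional fibres of dimension `d`
is the non-smooth locus
-/

set_option autoImplicit false
set_option linter.style.haveILetI false
universe u
open CategoryTheory CategoryTheory.Limits AlgebraicGeometry TopologicalSpace
open scoped TensorProduct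

namespace Groth.Agent.Lib.Helper25.FittSmooth

open Groth.Agent.Helper19.OmegaLocal Groth.Agent.Lib.Helper12 Groth.Agent.Lib.Helper12.H12FlatFib

section Pointwise

variable {X S : Scheme.{u}} (f : X ⟶ S) [LocallyOfFinitePresentation f] [QuasiSeparated f]

/-- for a point at which the local fibre dimension is `d`: the point lies in the `d`-th Jacobian
locus iff the fibre is not smooth there -/
theorem mem_support_iff_notMem_E (d : ℕ) (x : X) (hfd : FlatMor.fibreDimAt f x = d) :
    x ∈ (Fitt.sheafIdeal (Omega.sheaf f) d).support ↔ x ∉ H12SmFib.E f := by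
  obtain ⟨V₀, hV₀, hxV₀, -⟩ := exists_isAffineOpen_mem_and_subset (x := f x) (U := ⊤) trivial
  obtain ⟨W, hW, hxW, e⟩ := exists_isAffineOpen_mem_and_subset (x := x) (U := f ⁻¹ᵁ V₀) hxV₀
  letI := algΓ f e
  haveI : Algebra.FiniteType Γ(S, V₀) Γ(X, W) := by
    have := f.finiteType_appLE hV₀ hW e
    exact this
  rw [Groth.Agent.Lib.Helper25.JacLocus.mem_support_iff_kaehler f d hW hV₀ e x hxW]
  have h1 := H12SmFib.asFiber_mem_smoothLocus_iff f x hV₀ hW e hxW
  have h2 := finrank_le_iff_not_fitt_le (Ω[Γ(X, W)⁄Γ(S, V₀)]) (hW.primeIdealOf ⟨x, hxW⟩).asIdeal d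
  change _ ↔ ¬ (f.asFiber x ∈ (f.fiberToSpecResidueField (f x)).smoothLocus)
  rw [h1, hfd, Nat.cast_le, h2, not_not]

end Pointwise

end Groth.Agent.Lib.Helper25.FittSmooth
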