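import Mathlib
import Groth.Agent.Lib.Helper25.FittSmooth2

/-!
# Fibrewise smooth locus and restriction to an open subscheme
-/

set_option autoImplicit false
set_option linter.style.haveILetI false
universe u
open CategoryTheory CategoryTheory.Limits AlgebraicGeometry TopologicalSpace

namespace Groth.Agent.Lib.Helper25.FittSmooth

open Groth.Agent.Lib.Helper12 Groth.Agent.Lib.Helper12.H12FlatFib

section Restrict

variable {X S : Scheme.{u}} (f : X ⟶ S) (V : X.Opens)

/-- the comparison map between fibres of `V ⟶ S` and of `X ⟶ S` -/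
noncomputable def fibJ (s : S) : (V.ι ≫ f).fiber s ⟶ f.fiber s :=
  pullback.lift ((V.ι ≫ f).fiberι s ≫ V.ι) ((V.ι ≫ f).fiberToSpecResidueField s)
    (by rw [Category.assoc]; exact (V.ι ≫ f).fiber_fac s)

lemma fibJ_fiberι (s : S) : fibJ f V s ≫ f.fiberι s = (V.ι ≫ f).fiberι s ≫ V.ι :=
  pullback.lift_fst _ _ _

lemma fibJ_toSpec (s : S) :
    fibJ f V s ≫ f.fiberToSpecResidueField s = (V.ι ≫ f).fiberToSpecResidueField s :=
  pullback.lift_snd _ _ _

lemma isPullback_fibJ (s : S) :
    IsPullback (fibJ f V s) ((V.ι ≫ f).fiberι s) (f.fiberι s) V.ι := by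
  have hbig : IsPullback (fibJ f V s ≫ f.fiberToSpecResidueField s) ((V.ι ≫ f).fiberι s)
      (S.fromSpecResidueField s) (V.ι ≫ f) := by
    rw [fibJ_toSpec]
    exact (IsPullback.of_hasPullback (V.ι ≫ f) (S.fromSpecResidueField s)).flip
  have hright : IsPullback (f.fiberToSpecResidueField s) (f.fiberι s)
      (S.fromSpecResidueField s) f :=
    (IsPullback.of_hasPullback f (S.fromSpecResidueField s)).flip
  exact IsPullback.of_right hbig (fibJ_fiberι f V s) hright

instance (s : S) : IsOpenImmersion (fibJ f V s) :=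
  MorphismProperty.of_isPullback (P := @IsOpenImmersion) (isPullback_fibJ f V s).flip inferInstance

lemma smoothLocus_congr {A B : Scheme.{u}} (a b : A ⟶ B) (h : a = b)
    [LocallyOfFinitePresentation a] [LocallyOfFinitePresentation b] :
    a.smoothLocus = b.smoothLocus := by
  subst h
  rfl

variable [LocallyOfFinitePresentation f]

lemma mem_smoothLocus_iff_mem_E (y : S) (z : f.fiber y) (x : X) (hx : f.fiberι y z = x) :
    z ∈ (f.fiberToSpecResidueField y).smoothLocus ↔ x ∈ H12SmFib.E f := by
  have e : f x = y := by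
    have : f.fiberι y z ∈ Set.range (f.fiberι y) := ⟨z, rfl⟩
    rw [f.range_fiberι, hx] at this
    exact this
  subst e
  have : z = f.asFiber x :=
    (f.fiberι _).isEmbedding.injective (by rw [hx, f.fiberι_asFiber])
  rw [this]
  rfl

/-- the fibrewise smooth locus of the restriction to an open is the restriction of the fibrewise
smooth locus -/
theorem mem_E_ι_comp_iff (z : V) : z ∈ H12SmFib.E (V.ι ≫ f) ↔ V.ι z ∈ H12SmFib.E f := by
  set g := V.ι ≫ f with hg
  set s : S := g z with hs
  have h1 : g.asFiber z ∈ (g.fiberToSpecResidueField s).smoothLocus ↔ z ∈ H12SmFib.E g := Iff.rfl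
  rw [← h1]
  have h2 : (fibJ f V s) ⁻¹ᵁ (f.fiberToSpecResidueField s).smoothLocus =
      (g.fiberToSpecResidueField s).smoothLocus := by
    rw [Scheme.Hom.preimage_smoothLocus_eq]
    exact smoothLocus_congr _ _ (fibJ_toSpec f V s)
  rw [← h2]
  change fibJ f V s (g.asFiber z) ∈ (f.fiberToSpecResidueField s).smoothLocus ↔ _
  refine mem_smoothLocus_iff_mem_E f s _ _ ?_
  rw [← Scheme.Hom.comp_apply, fibJ_fiberι, Scheme.Hom.comp_apply, g.fiberι_asFiber]

end Restrict

end Groth.Agent.Lib.Helper25.FittSmooth
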