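import Mathlib
import Groth.Agent.Lib.Helper25.FittSmooth3

/-!
# Main theorem: for a flat lfp morphism with equidimensional fibres of dimension `d`, the
support of `Fit_d(Ω)` is the non-smooth locus
-/

set_option autoImplicit false
set_option linter.style.haveILetI false
universe u
open CategoryTheory CategoryTheory.Limits AlgebraicGeometry TopologicalSpace

namespace Groth.Agent.Lib.Helper25.FittSmooth

open Groth.Agent.Lib.Helper12 Groth.Agent.Lib.Helper12.H12FlatFib

theorem main_8916 {X S : Scheme.{u}} (f : X ⟶ S) [Flat f] [LocallyOfFinitePresentation f]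
    [QuasiSeparated f] (d : ℕ)
    (hdim : ∀ s : ↥S, ∀ T ∈ irreducibleComponents ↥(f.fiber s), topologicalKrullDim ↥T = d)
    (x : ↥X) :
    x ∈ (Fitt.sheafIdeal (Omega.sheaf f) d).support ↔
      ¬ ∃ U : X.Opens, x ∈ U ∧ Smooth (U.ι ≫ f) := by
  have hfd : ∀ x : X, FlatMor.fibreDimAt f x = d := fun x =>
    Groth.Agent.Lib.Helper21.FibDim.fibreDimAt_eq_of_hasRelDim f d hdim x
  have key : ∀ x : X, x ∈ (Fitt.sheafIdeal (Omega.sheaf f) d).support ↔ x ∉ H12SmFib.E f :=
    fun x => mem_support_iff_notMem_E f d x (hfd x)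
  constructor
  · rintro hx ⟨U, hxU, hsm⟩
    have h1 : Smooth ((U.ι ≫ f).fiberToSpecResidueField ((U.ι ≫ f) ⟨x, hxU⟩)) := by
      unfold Scheme.Hom.fiberToSpecResidueField
      exact MorphismProperty.pullback_snd (P := @Smooth) _ _ hsm
    have h2 := (smooth_fiber_iff (U.ι ≫ f) _).mp h1 ⟨x, hxU⟩ rfl
    have h3 := (mem_E_ι_comp_iff f U ⟨x, hxU⟩).mp h2
    exact (key x).mp hx h3
  · intro hne
    by_contra hx
    apply hne
    let V : X.Opens := ⟨((Fitt.sheafIdeal (Omega.sheaf f) d).support : Set X)ᶜ,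
      (Fitt.sheafIdeal (Omega.sheaf f) d).support.2.isOpen_compl⟩
    refine ⟨V, hx, ?_⟩
    refine Smooth.of_smooth_fiberToSpecResidueField _ fun s => ?_
    rw [smooth_fiber_iff]
    intro z _
    refine (mem_E_ι_comp_iff f V z).mpr ?_
    by_contra hE
    exact z.2 ((key _).mpr hE)

end Groth.Agent.Lib.Helper25.FittSmooth
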