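import Mathlib
import Groth.Agent.Lib.Helper25.FittSmooth3
import Groth.Agent.Lib.Helper25.FiberSmoothScheme2
import Groth.Agent.Lib.Helper25.FibreDimRank3

/-!
# Smoothness at a point: flat + fibre smooth; free differentials of rank the fibre dimension
-/

set_option autoImplicit false
set_option linter.style.haveILetI false
universe u
open CategoryTheory CategoryTheory.Limits AlgebraicGeometry TopologicalSpace
open scoped TensorProduct

namespace Groth.Agent.Lib.Helper25.FittSmooth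

open Groth.Agent.Lib.Helper12 Groth.Agent.Lib.Helper12.H12FlatFib Groth.Agent.Helper19.OmegaLocal
  Groth.Agent.Lib.Helper29.QCoh

variable {X Y : Scheme.{u}} (f : X ⟶ Y) [LocallyOfFinitePresentation f]

/-- `f` is smooth at `x` iff it is flat at `x` and the fibre through `x` is smooth at `x`. -/
theorem mem_smoothLocus_iff_flat_and_mem_E (x : X) :
    x ∈ f.smoothLocus ↔ (f.stalkMap x).hom.Flat ∧ x ∈ H12SmFib.E f := by
  constructor
  · intro hx
    refine ⟨?_, ?_⟩
    · haveI hsm : Smooth (f.smoothLocus.ι ≫ f) :=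
        Groth.Agent.Lib.Helper13.smooth_ι_comp_of_le_smoothLocus f _ le_rfl
      have h := Flat.stalkMap (f.smoothLocus.ι ≫ f) ⟨x, hx⟩
      have key : (f.stalkMap (f.smoothLocus.ι ⟨x, hx⟩)).hom.Flat ↔
          ((f.smoothLocus.ι ≫ f).stalkMap ⟨x, hx⟩).hom.Flat := by
        refine (RingHom.Flat.respectsIso.cancel_right_isIso _
          (f.smoothLocus.ι.stalkMap ⟨x, hx⟩)).symm.trans ?_
        rw [← CommRingCat.hom_comp, ← Scheme.Hom.stalkMap_comp]
        rfl
      exact key.mpr h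
    · have H : IsPullback (f.fiberι (f x)) (f.fiberToSpecResidueField (f x)) f
          (Y.fromSpecResidueField (f x)) := IsPullback.of_hasPullback f _
      have hle := Groth.Agent.Lib.Helper25.FiberSmoothScheme.preimage_smoothLocus_le_of_isPullback H
      apply hle
      change f.fiberι (f x) (f.asFiber x) ∈ f.smoothLocus
      rw [f.fiberι_asFiber]
      exact hx
  · rintro ⟨hflat, hE⟩
    have h := Groth.Agent.Lib.Helper25.FiberSmoothScheme.mem_smoothLocus_of_flat_of_fiber f (f x)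
      (f.asFiber x) (by rw [f.fiberι_asFiber]; exact hflat) hE
    rwa [f.fiberι_asFiber] at h

/-- standard smooth charts at points of the smooth locus -/
theorem exists_isStandardSmooth_of_mem_smoothLocus (x : X) (hx : x ∈ f.smoothLocus) :
    ∃ (U : Y.Opens) (_ : IsAffineOpen U) (V : X.Opens) (_ : IsAffineOpen V) (_ : x ∈ V)
      (e : V ≤ f ⁻¹ᵁ U), (f.appLE U V e).hom.IsStandardSmooth := by
  haveI hsm : Smooth (f.smoothLocus.ι ≫ f) :=
    Groth.Agent.Lib.Helper13.smooth_ι_comp_of_le_smoothLocus f _ le_rfl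
  obtain ⟨U, hU, V', hV', hxV', e, hstd⟩ :=
    Smooth.exists_isStandardSmooth (f.smoothLocus.ι ≫ f) ⟨x, hx⟩
  have e' : f.smoothLocus.ι ''ᵁ V' ≤ f ⁻¹ᵁ U := by
    rintro _ ⟨z, hz, rfl⟩
    exact e hz
  refine ⟨U, hU, f.smoothLocus.ι ''ᵁ V', hV'.image_of_isOpenImmersion f.smoothLocus.ι,
    ⟨⟨x, hx⟩, hxV', rfl⟩, e', ?_⟩
  have h1 : (f.smoothLocus.ι ≫ f).appLE U V' e =
      f.appLE U (f.smoothLocus.ι ''ᵁ V') e' ≫ (f.smoothLocus.ι.appIso V').hom := by
    rw [Scheme.Hom.appIso_hom', Scheme.Hom.appLE_comp_appLE]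
  rw [h1] at hstd
  exact (RingHom.isStandardSmooth_respectsIso.cancel_right_isIso _
    (f.smoothLocus.ι.appIso V').hom).mp hstd

/-- at a point of the smooth locus, a sheaf of differentials is free near the point of rank the
local fibre dimension -/
theorem exists_free_of_universal_of_mem_smoothLocus
    (Ω' : X.Modules) (d : OmegaSh.Der f Ω') (hd : OmegaSh.IsUniversal d) (x : X)
    (hx : x ∈ f.smoothLocus) :
    ∃ (U : X.Opens) (n : ℕ), x ∈ U ∧ Nonempty (Ω'.restrict U.ι ≅ FlatMod.freeMod (↑U) n) ∧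
      FlatMor.fibreDimAt f x = (n : WithBot ℕ∞) := by
  haveI := Groth.Agent.Helper19.OmegaD.isQuasicoherent_of_universal f d hd
  obtain ⟨W, hW, U, hU, hxU, e, hstd⟩ := exists_isStandardSmooth_of_mem_smoothLocus f x hx
  letI := Groth.Agent.Helper19.OmegaLocal.algΓ f e
  obtain ⟨L⟩ := Groth.Agent.Helper19.OmegaD.nonempty_linearEquiv_sections_of_universal f d hd
    hU hW e
  have hstd0 := hstd
  obtain ⟨ι, σ, hι, hσ, ⟨P⟩⟩ := hstd
  have hstd' : (f.appLE W U e).hom.IsStandardSmoothOfRelativeDimension P.dimension :=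
    ⟨ι, σ, hι, hσ, P, rfl⟩
  haveI : Algebra.IsStandardSmoothOfRelativeDimension P.dimension Γ(Y, W) Γ(X, U) := hstd'
  haveI : Algebra.IsStandardSmooth Γ(Y, W) Γ(X, U) := hstd0
  haveI : Nontrivial Γ(X, U) := nontrivial_sections_of_mem hxU
  have hrank := Algebra.IsStandardSmoothOfRelativeDimension.rank_kaehlerDifferential
    (R := Γ(Y, W)) (S := Γ(X, U)) P.dimension
  have hfin : Module.finrank Γ(X, U) (Ω[Γ(X, U)⁄Γ(Y, W)]) = P.dimension :=
    Module.finrank_eq_of_rank_eq hrank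
  let b := Module.finBasisOfFinrankEq Γ(X, U) (Ω[Γ(X, U)⁄Γ(Y, W)]) hfin
  have hfree : IsFreeAlong Ω' hU.fromSpec P.dimension :=
    (isFreeAlong_fromSpec_iff Ω' hU P.dimension).mpr ⟨L ≪≫ₗ b.repr⟩
  refine ⟨U, P.dimension, hxU, ?_,
    Groth.Agent.Lib.Helper25.FibreDimRank.fibreDimAt_eq_of_chart f hU hW e P.dimension hstd' x hxU⟩
  rw [← isFreeAlong_iff_restrict]
  refine hfree.of_range_subset _ ?_
  rw [hU.range_fromSpec, Scheme.Opens.range_ι]

/-- if a sheaf of differentials is free of rank `n` near `x` and `n` is the local fibre dimension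
at `x`, the fibre through `x` is smooth at `x` -/
theorem mem_E_of_free (Ω' : X.Modules) (d : OmegaSh.Der f Ω') (hd : OmegaSh.IsUniversal d) (x : X)
    (U : X.Opens) (n : ℕ) (hxU : x ∈ U) (hfree : Nonempty (Ω'.restrict U.ι ≅ FlatMod.freeMod (↑U) n))
    (hn : FlatMor.fibreDimAt f x = (n : WithBot ℕ∞)) : x ∈ H12SmFib.E f := by
  haveI := Groth.Agent.Helper19.OmegaD.isQuasicoherent_of_universal f d hd
  obtain ⟨V₀, hV₀, hxV₀, -⟩ := exists_isAffineOpen_mem_and_subset (x := f x) (U := ⊤) trivial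
  obtain ⟨W, hW, hxW, e'⟩ := exists_isAffineOpen_mem_and_subset (x := x) (U := f ⁻¹ᵁ V₀ ⊓ U)
    ⟨hxV₀, hxU⟩
  have e : W ≤ f ⁻¹ᵁ V₀ := e'.trans inf_le_left
  have hWU : W ≤ U := e'.trans inf_le_right
  letI := algΓ f e
  obtain ⟨L⟩ := Groth.Agent.Helper19.OmegaD.nonempty_linearEquiv_sections_of_universal f d hd
    hW hV₀ e
  have hfreeU : IsFreeAlong Ω' U.ι n := (isFreeAlong_iff_restrict Ω' U.ι n).mpr hfree
  have hfreeW : IsFreeAlong Ω' hW.fromSpec n := by
    refine hfreeU.of_range_subset _ ?_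
    rw [hW.range_fromSpec, Scheme.Opens.range_ι]
    exact hWU
  obtain ⟨E⟩ := (isFreeAlong_fromSpec_iff Ω' hW n).mp hfreeW
  let E' : Ω[Γ(X, W)⁄Γ(Y, V₀)] ≃ₗ[Γ(X, W)] (Fin n →₀ Γ(X, W)) := L.symm ≪≫ₗ E
  haveI : Nontrivial Γ(X, W) := nontrivial_sections_of_mem hxW
  haveI : Module.Free Γ(X, W) (Ω[Γ(X, W)⁄Γ(Y, V₀)]) := Module.Free.of_equiv E'.symm
  have hfin : Module.finrank Γ(X, W) (Ω[Γ(X, W)⁄Γ(Y, V₀)]) = n := by
    rw [E'.finrank_eq]
    simp
  have h1 := H12SmFib.asFiber_mem_smoothLocus_iff f x hV₀ hW e hxW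
  change f.asFiber x ∈ (f.fiberToSpecResidueField (f x)).smoothLocus
  rw [h1, hn, Module.finrank_baseChange, hfin]

end Groth.Agent.Lib.Helper25.FittSmooth
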