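import Mathlib
import Groth.Agent.Lib.Helper25.FittSmooth5
import Groth.Agent.Lib.Helper9.RegHomTFAE
import Groth.Agent.Lib.Helper25.BlowUpRegSpec
import Groth.Agent.Lib.Helper25.NhdStalk
import Groth.Agent.S4991
import Groth.Agent.S9501

/-!
# Over a regular base: fibre smooth at `x` + dimension formula ⇒ flat at `x`
-/

set_option autoImplicit false
set_option linter.style.haveILetI false
universe u
open CategoryTheory CategoryTheory.Limits AlgebraicGeometry TopologicalSpace IsLocalRing

namespace Groth.Agent.Lib.Helper25.FittSmooth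

open Groth.Agent.Lib.Helper12 Groth.Agent.Lib.Helper12.H12FlatFib

variable {X S : Scheme.{u}} (f : X ⟶ S) [IsLocallyNoetherian S] [LocallyOfFiniteType f]
  [LocallyOfFinitePresentation f]

/-- the local rings of a smooth point of a fibre are regular -/
theorem isRegularLocalRing_stalk_fiber (s : S) (z : f.fiber s)
    (hz : z ∈ (f.fiberToSpecResidueField s).smoothLocus) :
    IsRegularLocalRing ((f.fiber s).presheaf.stalk z) := by
  have h1 := Groth.Agent.S4991.result (f.fiberToSpecResidueField s) z
    ((Groth.Agent.Lib.Helper25.NhdStalk.exists_smooth_nhd_iff _ z).mpr hz)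
  rw [h1]
  exact Groth.Agent.Lib.Helper25.BlowUpRegSpec.isRegularLocalRing_stalk_Spec
    (A := S.residueField s) _

theorem flat_stalkMap_of_regular_aux (s : S) (z : f.fiber s) (x : X) (hx : f.fiberι s z = x)
    (hreg : IsRegularLocalRing (S.presheaf.stalk (f x)))
    (hz : z ∈ (f.fiberToSpecResidueField s).smoothLocus)
    (hdim : ringKrullDim (X.presheaf.stalk x) =
      ringKrullDim ((f.fiber s).presheaf.stalk z) + ringKrullDim (S.presheaf.stalk (f x))) :
    (f.stalkMap x).hom.Flat := by
  subst hx
  haveI : IsLocallyNoetherian X := LocallyOfFiniteType.isLocallyNoetherian f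
  obtain ⟨hsurj, hker⟩ := Groth.Agent.S9501.result f s z
  letI : Algebra (S.presheaf.stalk (f (f.fiberι s z))) (X.presheaf.stalk (f.fiberι s z)) :=
    (f.stalkMap (f.fiberι s z)).hom.toAlgebra
  haveI : IsLocalHom (algebraMap (S.presheaf.stalk (f (f.fiberι s z)))
      (X.presheaf.stalk (f.fiberι s z))) :=
    inferInstanceAs (IsLocalHom (f.stalkMap (f.fiberι s z)).hom)
  have hle : (maximalIdeal (S.presheaf.stalk (f (f.fiberι s z)))).map
      (algebraMap (S.presheaf.stalk (f (f.fiberι s z))) (X.presheaf.stalk (f.fiberι s z))) ≤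
      maximalIdeal (X.presheaf.stalk (f.fiberι s z)) :=
    IsLocalRing.map_maximalIdeal_le _
  haveI : IsLocalRing (X.presheaf.stalk (f.fiberι s z) ⧸
      (maximalIdeal (S.presheaf.stalk (f (f.fiberι s z)))).map
        (algebraMap (S.presheaf.stalk (f (f.fiberι s z))) (X.presheaf.stalk (f.fiberι s z)))) :=
    Groth.Agent.Lib.Helper21.isLocalRing_quotient_of_le_maximalIdeal hle
  let e : (X.presheaf.stalk (f.fiberι s z) ⧸
      (maximalIdeal (S.presheaf.stalk (f (f.fiberι s z)))).map
        (algebraMap (S.presheaf.stalk (f (f.fiberι s z))) (X.presheaf.stalk (f.fiberι s z)))) ≃+*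
      (f.fiber s).presheaf.stalk z :=
    (Ideal.quotEquivOfEq hker.symm).trans (RingHom.quotientKerEquivOfSurjective hsurj)
  haveI hC : IsRegularLocalRing ((f.fiber s).presheaf.stalk z) :=
    isRegularLocalRing_stalk_fiber f s z hz
  have hB0 : IsRegularLocalRing (X.presheaf.stalk (f.fiberι s z) ⧸
      (maximalIdeal (S.presheaf.stalk (f (f.fiberι s z)))).map
        (algebraMap (S.presheaf.stalk (f (f.fiberι s z))) (X.presheaf.stalk (f.fiberι s z)))) :=
    IsRegularLocalRing.of_ringEquiv e.symm
  have hdim' : ringKrullDim (X.presheaf.stalk (f.fiberι s z)) =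
      ringKrullDim (S.presheaf.stalk (f (f.fiberι s z))) +
        ringKrullDim (X.presheaf.stalk (f.fiberι s z) ⧸
          (maximalIdeal (S.presheaf.stalk (f (f.fiberι s z)))).map
            (algebraMap (S.presheaf.stalk (f (f.fiberι s z)))
              (X.presheaf.stalk (f.fiberι s z)))) := by
    rw [hdim, ringKrullDim_eq_of_ringEquiv e, add_comm]
  exact Groth.Agent.Lib.Helper9.RegHomTFAE.four_to_three hreg hB0 hdim'

theorem flat_stalkMap_of_regular (x : X)
    (hreg : IsRegularLocalRing (S.presheaf.stalk (f x)))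
    (hE : x ∈ H12SmFib.E f)
    (hdim : ringKrullDim (X.presheaf.stalk x) =
      ringKrullDim ((f.fiber (f x)).presheaf.stalk (f.asFiber x)) +
        ringKrullDim (S.presheaf.stalk (f x))) :
    (f.stalkMap x).hom.Flat :=
  flat_stalkMap_of_regular_aux f (f x) (f.asFiber x) x (f.fiberι_asFiber x) hreg hE hdim

end Groth.Agent.Lib.Helper25.FittSmooth
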