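import Mathlib

set_option autoImplicit false
universe u
open TensorProduct

namespace Groth.Agent.Lib.Helper25.FlatCartier

/-- If `g ∈ B` is a nonzerodivisor, `B/(g)` is `A`-flat and `B_g` is `A`-flat, then `B` is `A`-flat. -/
theorem flat_of_flat_quotient_of_flat_away {A B C : Type u} [CommRing A] [CommRing B] [CommRing C]
    [Algebra A B] [Algebra B C] [Algebra A C] [IsScalarTower A B C] (g : B)
    (hg : g ∈ nonZeroDivisors B) (hsurj : Function.Surjective (algebraMap B C))
    (hker : RingHom.ker (algebraMap B C) = Ideal.span {g}) [Module.Flat A C]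
    (L : Type u) [CommRing L] [Algebra B L] [Algebra A L] [IsScalarTower A B L]
    [IsLocalization.Away g L] [Module.Flat A L] : Module.Flat A B := by
  rw [Module.Flat.iff_lTensor_injective']
  intro I
  let mg : B →ₗ[A] B := LinearMap.mulLeft A g
  have hmg : Function.Injective mg := by
    intro x y hxy
    have h : g * x = g * y := hxy
    have h2 : g * (x - y) = 0 := by rw [mul_sub, h, sub_self]
    have h3 := (mem_nonZeroDivisors_iff.mp hg).1 (x - y) h2
    exact sub_eq_zero.mp h3
  let q : B →ₗ[A] C := (IsScalarTower.toAlgHom A B C).toLinearMap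
  have hq : Function.Surjective q := hsurj
  have hex : Function.Exact mg q := by
    intro y
    constructor
    · intro hy
      have : y ∈ RingHom.ker (algebraMap B C) := hy
      rw [hker, Ideal.mem_span_singleton'] at this
      obtain ⟨a, rfl⟩ := this
      exact ⟨a, mul_comm g a⟩
    · rintro ⟨a, rfl⟩
      change algebraMap B C (g * a) = 0
      have : g ∈ RingHom.ker (algebraMap B C) := by
        rw [hker]; exact Ideal.mem_span_singleton_self g
      rw [map_mul, (RingHom.mem_ker).mp this, zero_mul]
  have h1 : Function.Injective (mg.lTensor I) :=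
    LinearMap.lTensor_injective_of_exact_of_flat q hq mg hmg hex I
  have h1' : Function.Injective (mg.rTensor I) := by
    have e : mg.rTensor I = (TensorProduct.comm A I B).toLinearMap ∘ₗ mg.lTensor I ∘ₗ
        (TensorProduct.comm A B I).toLinearMap := by
      ext b i
      simp
    rw [e]
    exact (TensorProduct.comm A I B).injective.comp (h1.comp (TensorProduct.comm A B I).injective)
  have hsmul : ∀ z : B ⊗[A] I, g • z = mg.rTensor I z := by
    intro z
    induction z using TensorProduct.induction_on with
    | zero => simp
    | tmul b i => simp [TensorProduct.smul_tmul', mg]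
    | add x y hx hy => rw [smul_add, map_add, hx, hy]
  have hpow : ∀ (n : ℕ) (z : B ⊗[A] I), g ^ n • z = 0 → z = 0 := by
    intro n
    induction n with
    | zero => intro z hz; simpa using hz
    | succ n ih =>
      intro z hz
      apply ih
      apply h1'
      rw [map_zero, ← hsmul, smul_smul, ← pow_succ']
      exact hz
  let l : B →ₗ[B] L := Algebra.linearMap B L
  have hl : IsLocalizedModule (Submonoid.powers g) l :=
    (isLocalizedModule_iff_isLocalization).mpr inferInstance
  have hloc : IsLocalizedModule (Submonoid.powers g) (AlgebraTensorModule.rTensor A I l) :=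
    inferInstance
  have e : ∀ z : B ⊗[A] I, (I.subtype.lTensor L) ((AlgebraTensorModule.rTensor A I l) z) =
      ((l.restrictScalars A).rTensor A) ((I.subtype.lTensor B) z) := by
    intro z
    induction z using TensorProduct.induction_on with
    | zero => simp
    | tmul b i => simp
    | add x y hx hy => simp only [map_add, hx, hy]
  rw [injective_iff_map_eq_zero]
  intro z hz
  have hz2 : (AlgebraTensorModule.rTensor A I l) z = 0 := by
    apply (Module.Flat.lTensor_preserves_injective_linearMap (M := L) I.subtype
      Subtype.val_injective)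
    rw [map_zero, e, hz, map_zero]
  obtain ⟨⟨_, n, rfl⟩, hn⟩ := (IsLocalizedModule.eq_zero_iff (Submonoid.powers g) _).mp hz2
  exact hpow n z hn

/-- Ring hom version. -/
theorem flat_of_comp_flat {A B C L : Type u} [CommRing A] [CommRing B] [CommRing C] [CommRing L]
    (φ : A →+* B) (ψ : B →+* C) (ρ : B →+* L) (g : B) (hg : g ∈ nonZeroDivisors B)
    (hψ : Function.Surjective ψ) (hker : RingHom.ker ψ = Ideal.span {g})
    (hρ : @IsLocalization.Away B _ g L _ ρ.toAlgebra) (h1 : (ψ.comp φ).Flat)
    (h2 : (ρ.comp φ).Flat) : φ.Flat := by
  algebraize [φ, ψ, ρ, ψ.comp φ, ρ.comp φ]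
  exact flat_of_flat_quotient_of_flat_away (A := A) (B := B) (C := C) g hg hψ hker L

end Groth.Agent.Lib.Helper25.FlatCartier
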