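import Mathlib

universe u

namespace Groth.Agent.Lib.Helper25.FrobDense

variable (k : Type u) [Field k] [Finite k]
  (π : AlgebraicClosure k ≃ₐ[k] AlgebraicClosure k)
  (hπ : ∀ x : AlgebraicClosure k, π x = x ^ Nat.card k)

omit [Finite k] in
include hπ in
theorem pow_apply (j : ℕ) (x : AlgebraicClosure k) : (π ^ j) x = x ^ (Nat.card k ^ j) := by
  induction j generalizing x with
  | zero => simp
  | succ j ih =>
    rw [pow_succ, AlgEquiv.mul_apply, ih, hπ, ← pow_mul, ← pow_succ']

include hπ in
theorem exists_pow_eq_on (σ : AlgebraicClosure k ≃ₐ[k] AlgebraicClosure k)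
    (E : IntermediateField k (AlgebraicClosure k)) [FiniteDimensional k E] :
    ∃ j : ℕ, ∀ x ∈ E, σ x = (π ^ j) x := by
  have : Finite E := Module.finite_of_finite k
  let _ : Fintype k := Fintype.ofFinite k
  obtain ⟨n, hn⟩ := (FiniteField.bijective_frobeniusAlgEquivOfAlgebraic_pow k E).2
    (σ.restrictNormal E)
  refine ⟨n.1, fun x hx => ?_⟩
  have h1 : algebraMap E (AlgebraicClosure k) (σ.restrictNormal E ⟨x, hx⟩) = σ x :=
    AlgEquiv.restrictNormal_commutes σ E ⟨x, hx⟩
  rw [← h1, ← hn, pow_apply k π hπ]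
  have h2 : ∀ (j : ℕ) (y : E), (FiniteField.frobeniusAlgEquivOfAlgebraic k E ^ j) y
      = y ^ (Nat.card k ^ j) := by
    intro j
    induction j with
    | zero => intro y; simp
    | succ j ih =>
      intro y
      rw [pow_succ, AlgEquiv.mul_apply, ih, FiniteField.coe_frobeniusAlgEquivOfAlgebraic,
        ← pow_mul, Fintype.card_eq_nat_card, ← pow_succ']
  rw [h2]
  rfl

include hπ in
theorem pow_finrank_mem (E : IntermediateField k (AlgebraicClosure k)) [FiniteDimensional k E] :
    π ^ (Module.finrank k E) ∈ E.fixingSubgroup := by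
  rw [IntermediateField.mem_fixingSubgroup_iff]
  intro x hx
  rw [pow_apply k π hπ]
  have : Finite E := Module.finite_of_finite k
  let _ : Fintype E := Fintype.ofFinite E
  have h := FiniteField.pow_card (⟨x, hx⟩ : E)
  rw [Fintype.card_eq_nat_card, Module.natCard_eq_pow_finrank (K := k)] at h
  exact congrArg Subtype.val h

include hπ in
theorem dvd_of_pow_eq_on (E : IntermediateField k (AlgebraicClosure k)) [FiniteDimensional k E]
    (i d : ℕ) (h : ∀ x ∈ E, (π ^ (i + d)) x = (π ^ i) x) : Module.finrank k E ∣ d := by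
  have : Finite E := Module.finite_of_finite k
  let _ : Fintype k := Fintype.ofFinite k
  rw [← FiniteField.orderOf_frobeniusAlgEquivOfAlgebraic k E]
  apply orderOf_dvd_of_pow_eq_one
  ext y
  have h2 : ∀ (j : ℕ) (y : E), (FiniteField.frobeniusAlgEquivOfAlgebraic k E ^ j) y
      = y ^ (Nat.card k ^ j) := by
    intro j
    induction j with
    | zero => intro y; simp
    | succ j ih =>
      intro y
      rw [pow_succ, AlgEquiv.mul_apply, ih, FiniteField.coe_frobeniusAlgEquivOfAlgebraic,
        ← pow_mul, Fintype.card_eq_nat_card, ← pow_succ']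
  rw [h2, AlgEquiv.one_apply]
  have h3 := h y.1 y.2
  rw [pow_add, AlgEquiv.mul_apply] at h3
  have h4 := (π ^ i).injective h3
  rw [pow_apply k π hπ] at h4
  exact_mod_cast h4

theorem exists_finrank_eq (M : ℕ) (hM : 0 < M) :
    ∃ E : IntermediateField k (AlgebraicClosure k), FiniteDimensional k E ∧
      Module.finrank k E = M := by
  obtain ⟨p, hp⟩ := CharP.exists k
  have : Fact p.Prime := ⟨CharP.char_is_prime k p⟩
  have : NeZero M := ⟨hM.ne'⟩
  let f : FiniteField.Extension k p M →ₐ[k] AlgebraicClosure k := IsAlgClosed.lift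
  let e := AlgEquiv.ofInjectiveField f
  have hfin : FiniteDimensional k f.fieldRange :=
    Module.Finite.equiv (AlgEquiv.ofInjectiveField f).toLinearEquiv
  refine ⟨f.fieldRange, hfin, ?_⟩
  have h1 : Module.finrank k f.fieldRange = Module.finrank k f.range := rfl
  rw [h1, ← (AlgEquiv.ofInjectiveField f).toLinearEquiv.finrank_eq]
  exact FiniteField.finrank_extension k p M

end Groth.Agent.Lib.Helper25.FrobDense
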