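import Groth.Prelude.Def_GSzH1
import Groth.Agent.Lib.Helper25.FrobDense

set_option autoImplicit false
universe u v

namespace Groth.Agent.Lib.Helper25.FrobDense

theorem exists_cocycle (k : Type u) [Field k] [Finite k]
    (π : AlgebraicClosure k ≃ₐ[k] AlgebraicClosure k)
    (hπ : ∀ x : AlgebraicClosure k, π x = x ^ Nat.card k)
    (A : Type v) [Group A] [MulDistribMulAction (AlgebraicClosure k ≃ₐ[k] AlgebraicClosure k) A]
    (hcont : ∀ a : A, IsOpen {σ : AlgebraicClosure k ≃ₐ[k] AlgebraicClosure k | σ • a = a})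
    (hfin : ∀ a : A, ∃ H : Subgroup A, (H : Set A).Finite ∧ a ∈ H ∧
      ∀ (σ : AlgebraicClosure k ≃ₐ[k] AlgebraicClosure k) (x : A), x ∈ H → σ • x ∈ H)
    (a : A) :
    ∃ z : GpH1.OneCocycleLC (AlgebraicClosure k ≃ₐ[k] AlgebraicClosure k) A, z.1 π = a := by
  obtain ⟨H, hHfin, haH, hHst⟩ := hfin a
  -- a finite subfield whose fixing subgroup acts trivially on H
  have hFix : (⋂ h ∈ (H : Set A), {σ : AlgebraicClosure k ≃ₐ[k] AlgebraicClosure k | σ • h = h}) ∈
      nhds (1 : AlgebraicClosure k ≃ₐ[k] AlgebraicClosure k) := by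
    refine IsOpen.mem_nhds (hHfin.isOpen_biInter fun h _ => hcont h) ?_
    simp
  obtain ⟨E₀, hE₀, hE₀sub⟩ := (krullTopology_mem_nhds_one_iff k (AlgebraicClosure k) _).mp hFix
  have hfix : ∀ τ ∈ E₀.fixingSubgroup, ∀ h ∈ H, τ • h = h := by
    intro τ hτ h hh
    have := hE₀sub hτ
    simp only [Set.mem_iInter, Set.mem_ofPred_eq] at this
    exact this h hh
  set m := Module.finrank k E₀ with hm
  have hmpos : 0 < m := Module.finrank_pos
  -- the partial norms
  let N : ℕ → A := fun j => Nat.rec 1 (fun j x => x * (π ^ j) • a) j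
  have hN0 : N 0 = 1 := rfl
  have hNs : ∀ j, N (j + 1) = N j * (π ^ j) • a := fun j => rfl
  have hNmem : ∀ j, N j ∈ H := by
    intro j
    induction j with
    | zero => rw [hN0]; exact H.one_mem
    | succ j ih => rw [hNs]; exact H.mul_mem ih (hHst _ _ haH)
  have hNadd : ∀ i j, N (i + j) = N i * (π ^ i) • N j := by
    intro i j
    induction j with
    | zero => rw [add_zero, hN0, smul_one, mul_one]
    | succ j ih => rw [← add_assoc, hNs, ih, hNs, smul_mul', mul_assoc, pow_add, mul_smul]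
  have hπm : ∀ t : ℕ, ∀ h ∈ H, (π ^ (m * t)) • h = h := by
    intro t
    induction t with
    | zero => intro h _; rw [mul_zero, pow_zero, one_smul]
    | succ t ih =>
      intro h hh
      rw [mul_add, mul_one, pow_add, mul_smul, hfix _ (pow_finrank_mem k π hπ E₀) h hh, ih h hh]
  -- the period
  obtain ⟨e, hepos, he⟩ : ∃ e : ℕ, 0 < e ∧ (N m) ^ e = 1 := by
    have : Finite H := hHfin
    obtain ⟨e, hepos, he⟩ := isOfFinOrder_iff_pow_eq_one.mp
      (isOfFinOrder_of_finite (⟨N m, hNmem m⟩ : H))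
    exact ⟨e, hepos, by simpa using congrArg Subtype.val he⟩
  have hNmt : ∀ t, N (m * t) = (N m) ^ t := by
    intro t
    induction t with
    | zero => rw [mul_zero, pow_zero, hN0]
    | succ t ih => rw [mul_add, mul_one, hNadd, ih, hπm t _ (hNmem m), pow_succ]
  set M := m * e with hM
  have hMpos : 0 < M := Nat.mul_pos hmpos hepos
  have hNM : N M = 1 := by rw [hM, hNmt, he]
  have hNMt : ∀ t, N (M * t) = 1 := by
    intro t
    induction t with
    | zero => rw [mul_zero, hN0]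
    | succ t ih => rw [mul_add, mul_one, hNadd, ih, hNM, smul_one, mul_one]
  have hNper : ∀ i t, N (i + M * t) = N i := by
    intro i t
    rw [add_comm, hNadd, hNMt, one_mul, hM, mul_assoc, hπm _ _ (hNmem i)]
  -- a big enough finite subfield
  obtain ⟨E₁, hE₁, hE₁M⟩ := exists_finrank_eq k M hMpos
  let E : IntermediateField k (AlgebraicClosure k) := E₀ ⊔ E₁
  have hEfin : FiniteDimensional k E := IntermediateField.finiteDimensional_sup E₀ E₁
  have hMdvd : M ∣ Module.finrank k E := by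
    rw [← hE₁M]
    exact IntermediateField.finrank_dvd_of_le_right le_sup_right
  have hper' : ∀ i j : ℕ, (∀ x ∈ E, (π ^ i) x = (π ^ j) x) → N i = N j := by
    have aux : ∀ i d : ℕ, (∀ x ∈ E, (π ^ (i + d)) x = (π ^ i) x) → N (i + d) = N i := by
      intro i d h
      obtain ⟨t, rfl⟩ := hMdvd.trans (dvd_of_pow_eq_on k π hπ E i d h)
      exact hNper i t
    intro i j h
    rcases le_total i j with hij | hij
    · obtain ⟨d, rfl⟩ := Nat.exists_eq_add_of_le hij
      exact (aux i d fun x hx => (h x hx).symm).symm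
    · obtain ⟨d, rfl⟩ := Nat.exists_eq_add_of_le hij
      exact aux j d h
  choose J hJ using fun σ => exists_pow_eq_on k π hπ σ E
  have key : ∀ (σ : AlgebraicClosure k ≃ₐ[k] AlgebraicClosure k) (j : ℕ),
      (∀ x ∈ E, σ x = (π ^ j) x) → N (J σ) = N j :=
    fun σ j h => hper' _ _ fun x hx => (hJ σ x hx).symm.trans (h x hx)
  have hact : ∀ (σ : AlgebraicClosure k ≃ₐ[k] AlgebraicClosure k) (j : ℕ),
      (∀ x ∈ E, σ x = (π ^ j) x) → ∀ h ∈ H, σ • h = (π ^ j) • h := by
    intro σ j hσ h hh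
    have h2 : σ⁻¹ * π ^ j ∈ E₀.fixingSubgroup := by
      rw [IntermediateField.mem_fixingSubgroup_iff]
      intro x hx
      rw [AlgEquiv.mul_apply, ← hσ x ((le_sup_left : E₀ ≤ E) hx)]
      exact σ.symm_apply_apply x
    have h3 := hfix _ h2 h hh
    rw [mul_smul] at h3
    rw [← h3, smul_inv_smul, h3]
  have hpowmem : ∀ (j : ℕ), ∀ x ∈ E, (π ^ j) x ∈ E := by
    intro j x hx
    rw [pow_apply k π hπ]
    exact pow_mem hx _
  refine ⟨⟨⟨fun σ => N (J σ), ?_⟩, ?_⟩, ?_⟩
  · intro σ τ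
    show N (J (σ * τ)) = N (J σ) * σ • N (J τ)
    rw [hact σ (J σ) (hJ σ) _ (hNmem _), ← hNadd]
    apply key
    intro x hx
    rw [AlgEquiv.mul_apply, hJ τ x hx, hJ σ _ (hpowmem _ x hx), pow_add, AlgEquiv.mul_apply]
  · rw [IsLocallyConstant.iff_exists_open]
    intro σ
    refine ⟨(fun τ => σ⁻¹ * τ) ⁻¹' (E.fixingSubgroup : Set _),
      (E.fixingSubgroup_isOpen).preimage (continuous_const_mul σ⁻¹), ?_, ?_⟩
    · simp
    · intro τ hτ
      show N (J τ) = N (J σ)
      apply key
      intro x hx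
      have h1 : σ⁻¹ * τ ∈ E.fixingSubgroup := hτ
      rw [IntermediateField.mem_fixingSubgroup_iff] at h1
      have h2 := h1 x hx
      rw [AlgEquiv.mul_apply] at h2
      rw [← hJ σ x hx]
      have h3 := congrArg σ h2
      rwa [show σ (σ⁻¹ (τ x)) = τ x from σ.apply_symm_apply _] at h3
  · show N (J π) = a
    rw [key π 1 (fun x _ => by rw [pow_one]), show (1 : ℕ) = 0 + 1 from rfl, hNs, hN0, pow_zero,
      one_smul, one_mul]

end Groth.Agent.Lib.Helper25.FrobDense
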