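import Mathlib

/-!
# Galois descent of Frobenius-stable radical ideals (pure algebra)

`k` a finite field with `q` elements, `K/k` algebraic, `B` a `k`-algebra, `R = K ⊗_k B`
(given abstractly as a pushout).  If `Φ : R → R` is a ring endomorphism which is the identity on
`K` and the `q`-th power on `B`, and `I` is a radical ideal of `R` with `Φ I ⊆ I`, then `I` is
generated by its contraction to `B`.
-/

set_option autoImplicit false
set_option linter.style.haveILetI false
universe u

open scoped TensorProduct
open Module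

namespace Groth.Agent.Lib.Helper25.FrobDescAlg

section Core

variable {K M ι : Type*} [Field K] [AddCommGroup M] [Module K M]

/-- Minimal-support Galois descent: a submodule of a `K`-module with basis which is stable under
the coordinatewise action of a ring endomorphism `σ` of `K` is spanned by its elements with
`σ`-fixed coordinates. -/
theorem core (e : Basis ι K M) (σ : K →+* K) (N : Submodule K M)
    (hN : ∀ x ∈ N, ∃ y ∈ N, ∀ i, e.repr y i = σ (e.repr x i)) :
    ∀ x ∈ N, x ∈ Submodule.span K {y | y ∈ N ∧ ∀ i, σ (e.repr y i) = e.repr y i} := by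
  classical
  set G : Set M := {y | y ∈ N ∧ ∀ i, σ (e.repr y i) = e.repr y i} with hG
  suffices H : ∀ n : ℕ, ∀ x ∈ N, (e.repr x).support.card = n → x ∈ Submodule.span K G from
    fun x hx => H _ x hx rfl
  intro n
  induction n using Nat.strong_induction_on with
  | _ n ih =>
  intro x hx hn
  by_cases hx0 : x = 0
  · subst hx0; exact Submodule.zero_mem _
  have hne : ∀ y : M, y ≠ 0 → ∃ i, i ∈ (e.repr y).support := by
    intro y hy0
    by_contra hcon
    apply hy0
    have h1 : (e.repr y).support = ∅ := Finset.eq_empty_of_forall_notMem (by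
      intro i hi; exact hcon ⟨i, hi⟩)
    have h2 : e.repr y = 0 := Finsupp.support_eq_empty.mp h1
    exact (LinearEquiv.map_eq_zero_iff _).mp h2
  by_cases hmin : ∃ y ∈ N, y ≠ 0 ∧ (e.repr y).support ⊂ (e.repr x).support
  · obtain ⟨y, hyN, hy0, hyx⟩ := hmin
    have hylt : (e.repr y).support.card < n := hn ▸ Finset.card_lt_card hyx
    have hyG : y ∈ Submodule.span K G := ih _ hylt y hyN rfl
    obtain ⟨i₀, hi₀⟩ := hne y hy0
    have hyi : e.repr y i₀ ≠ 0 := Finsupp.mem_support_iff.mp hi₀
    set c : K := e.repr x i₀ / e.repr y i₀ with hc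
    set x' : M := x - c • y with hx'
    have hx'N : x' ∈ N := N.sub_mem hx (N.smul_mem _ hyN)
    have hsub : (e.repr x').support ⊆ (e.repr x).support.erase i₀ := by
      intro i hi
      rw [Finsupp.mem_support_iff] at hi
      rw [Finset.mem_erase]
      constructor
      · rintro rfl
        apply hi
        simp [hx', hc, div_mul_cancel₀ _ hyi]
      · rw [Finsupp.mem_support_iff]
        intro hxi
        apply hi
        have : e.repr y i = 0 := by
          by_contra h
          have := hyx.1 (Finsupp.mem_support_iff.mpr h)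
          exact (Finsupp.mem_support_iff.mp this) hxi
        simp [hx', hxi, this]
    have hlt : (e.repr x').support.card < n := by
      have h1 := Finset.card_le_card hsub
      have h2 : i₀ ∈ (e.repr x).support := hyx.1 hi₀
      have h3 := Finset.card_erase_lt_of_mem h2
      omega
    have hx'G := ih _ hlt x' hx'N rfl
    have : x = x' + c • y := by simp [hx']
    rw [this]
    exact Submodule.add_mem _ hx'G (Submodule.smul_mem _ _ hyG)
  · obtain ⟨i₀, hi₀⟩ := hne x hx0
    have hxi : e.repr x i₀ ≠ 0 := Finsupp.mem_support_iff.mp hi₀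
    set y : M := (e.repr x i₀)⁻¹ • x with hy
    have hyN : y ∈ N := N.smul_mem _ hx
    have hyi : ∀ i, e.repr y i = (e.repr x i₀)⁻¹ * e.repr x i := by intro i; simp [hy]
    obtain ⟨z, hzN, hz⟩ := hN y hyN
    have hzy : z - y = 0 := by
      by_contra hne'
      apply hmin
      refine ⟨z - y, N.sub_mem hzN hyN, hne', ?_⟩
      rw [Finset.ssubset_iff_of_subset]
      · refine ⟨i₀, hi₀, ?_⟩
        rw [Finsupp.notMem_support_iff]
        simp [hz, hyi, inv_mul_cancel₀ hxi]
      · intro i hi
        rw [Finsupp.mem_support_iff] at hi ⊢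
        intro hxi0
        apply hi
        simp [hz, hyi, hxi0]
    have hzy' : z = y := sub_eq_zero.mp hzy
    have hyG : y ∈ G := ⟨hyN, fun i => by rw [← hz i, hzy']⟩
    have : x = e.repr x i₀ • y := by simp [hy, smul_smul, mul_inv_cancel₀ hxi]
    rw [this]
    exact Submodule.smul_mem _ _ (Submodule.subset_span hyG)

end Core

section Tensor

variable (k K B : Type*) [Field k] [Fintype k] [Field K] [Algebra k K]
  [CommRing B] [Algebra k B]

/-- `Ψ = Frob_K ⊗ id`. -/
noncomputable def Psi : K ⊗[k] B →ₐ[k] K ⊗[k] B :=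
  Algebra.TensorProduct.map (FiniteField.frobeniusAlgHom k K) (AlgHom.id k B)

theorem Psi_tmul (c : K) (b : B) : Psi k K B (c ⊗ₜ b) = (c ^ Fintype.card k) ⊗ₜ b := by
  simp [Psi]

theorem repr_Psi {ι : Type*} (b : Basis ι k B) (a : K ⊗[k] B) (i : ι) :
    (Algebra.TensorProduct.basis K b).repr (Psi k K B a) i =
      (FiniteField.frobeniusAlgHom k K) ((Algebra.TensorProduct.basis K b).repr a i) := by
  induction a using TensorProduct.induction_on with
  | zero => simp
  | tmul c m =>
    rw [Psi_tmul]
    simp [Algebra.TensorProduct.basis_repr_tmul, mul_pow, ← map_pow, FiniteField.pow_card]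
  | add x y hx hy => simp [map_add, hx, hy]

omit [Fintype k] in
theorem smul_eq_tmul_one_mul (c : K) (z : K ⊗[k] B) : c • z = (c ⊗ₜ[k] (1 : B)) * z := by
  induction z using TensorProduct.induction_on with
  | zero => simp
  | tmul c' b' => simp [TensorProduct.smul_tmul', Algebra.TensorProduct.tmul_mul_tmul]
  | add u v hu hv => rw [smul_add, mul_add, hu, hv]

variable [Algebra.IsAlgebraic k K]

theorem exists_pow_card_pow_eq (c : K) : ∃ m : ℕ, 0 < m ∧ c ^ (Fintype.card k) ^ m = c := by
  have hc : IsIntegral k c := (Algebra.IsAlgebraic.isAlgebraic c).isIntegral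
  let L := IntermediateField.adjoin k {c}
  have : FiniteDimensional k L := IntermediateField.adjoin.finiteDimensional hc
  have : Finite L := Module.finite_of_finite k
  let _ : Fintype L := Fintype.ofFinite L
  refine ⟨Module.finrank k L, Module.finrank_pos, ?_⟩
  have h1 : Fintype.card L = Fintype.card k ^ Module.finrank k L := Module.card_eq_pow_finrank
  have h2 := FiniteField.pow_card (⟨c, IntermediateField.mem_adjoin_simple_self k c⟩ : L)
  rw [h1] at h2
  exact congrArg Subtype.val h2

theorem exists_iterate_Psi_eq (a : K ⊗[k] B) : ∃ m : ℕ, 0 < m ∧ (Psi k K B)^[m] a = a := by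
  induction a using TensorProduct.induction_on with
  | zero => exact ⟨1, one_pos, by simp⟩
  | tmul c b =>
    obtain ⟨m, hm, hc⟩ := exists_pow_card_pow_eq k K c
    refine ⟨m, hm, ?_⟩
    have : ∀ n : ℕ, (Psi k K B)^[n] (c ⊗ₜ b) = (c ^ (Fintype.card k) ^ n) ⊗ₜ b := by
      intro n
      induction n with
      | zero => simp
      | succ n ihn =>
        rw [Function.iterate_succ_apply', ihn, Psi_tmul, ← pow_mul, ← pow_succ]
    rw [this, hc]
  | add x y hx hy =>
    obtain ⟨m, hm, hxm⟩ := hx
    obtain ⟨n, hn, hyn⟩ := hy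
    refine ⟨m * n, Nat.mul_pos hm hn, ?_⟩
    have hadd : ∀ j : ℕ, ∀ u v : K ⊗[k] B,
        (Psi k K B)^[j] (u + v) = (Psi k K B)^[j] u + (Psi k K B)^[j] v := by
      intro j
      induction j with
      | zero => intro u v; rfl
      | succ j ihj =>
        intro u v
        rw [Function.iterate_succ_apply', Function.iterate_succ_apply',
          Function.iterate_succ_apply', ihj, map_add]
    have h1 : (Psi k K B)^[m * n] x = x := by
      have : Function.IsPeriodicPt (Psi k K B) m x := hxm
      exact this.mul_const n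
    have h2 : (Psi k K B)^[m * n] y = y := by
      have : Function.IsPeriodicPt (Psi k K B) n y := hyn
      exact this.const_mul m
    rw [hadd, h1, h2]

/-- The tensor-product form of the descent lemma. -/
theorem le_map_comap_tensor (Φ : K ⊗[k] B →+* K ⊗[k] B)
    (hΦ1 : ∀ c : K, Φ (c ⊗ₜ 1) = c ⊗ₜ 1)
    (hΦ2 : ∀ b : B, Φ (1 ⊗ₜ b) = 1 ⊗ₜ (b ^ Fintype.card k))
    (I : Ideal (K ⊗[k] B)) (hI : I.IsRadical) (hΦI : ∀ x ∈ I, Φ x ∈ I) :
    I ≤ Ideal.map (Algebra.TensorProduct.includeRight : B →ₐ[k] K ⊗[k] B)
      (Ideal.comap (Algebra.TensorProduct.includeRight : B →ₐ[k] K ⊗[k] B) I) := by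
  classical
  -- `Φ ∘ Ψ` is the `q`-power map
  have hΦΨ : ∀ x : K ⊗[k] B, Φ (Psi k K B x) = x ^ Fintype.card k := by
    intro x
    have hfr : ∀ z : K ⊗[k] B, z ^ Fintype.card k = FiniteField.frobeniusAlgHom k (K ⊗[k] B) z :=
      fun z => rfl
    induction x using TensorProduct.induction_on with
    | zero => rw [hfr]; simp
    | tmul c b =>
      rw [Psi_tmul]
      have : ((c ^ Fintype.card k) ⊗ₜ[k] b : K ⊗[k] B) =
          ((c ^ Fintype.card k) ⊗ₜ[k] (1 : B)) * ((1 : K) ⊗ₜ[k] b) := by
        simp [Algebra.TensorProduct.tmul_mul_tmul]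
      rw [this, map_mul, hΦ1, hΦ2, Algebra.TensorProduct.tmul_mul_tmul, mul_one, one_mul,
        Algebra.TensorProduct.tmul_pow]
    | add x y hx hy =>
      rw [map_add, map_add, hx, hy, hfr, hfr, hfr, map_add]
  -- `Ψ z ∈ I → z ∈ I`
  have hback : ∀ z : K ⊗[k] B, Psi k K B z ∈ I → z ∈ I := by
    intro z hz
    have := hΦI _ hz
    rw [hΦΨ] at this
    exact hI ⟨_, this⟩
  -- `Ψ I ⊆ I`
  have hΨI : ∀ y ∈ I, Psi k K B y ∈ I := by
    intro y hy
    obtain ⟨m, hm, hym⟩ := exists_iterate_Psi_eq k K B y
    have key : ∀ j : ℕ, j ≤ m → (Psi k K B)^[m - j] y ∈ I := by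
      intro j
      induction j with
      | zero => intro _; rw [Nat.sub_zero, hym]; exact hy
      | succ j ihj =>
        intro hj
        have h1 := ihj (Nat.le_of_succ_le hj)
        have h2 : m - j = (m - (j + 1)) + 1 := by omega
        rw [h2, Function.iterate_succ_apply'] at h1
        exact hback _ h1
    have := key (m - 1) (Nat.sub_le _ _)
    have h3 : m - (m - 1) = 1 := by omega
    rw [h3] at this
    simpa using this
  -- descent
  let b : Basis _ k B := Basis.ofVectorSpace k B
  let e := Algebra.TensorProduct.basis K b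
  let N : Submodule K (K ⊗[k] B) :=
    { carrier := I
      add_mem' := I.add_mem
      zero_mem' := I.zero_mem
      smul_mem' := by
        intro c x hx
        rw [smul_eq_tmul_one_mul]
        exact I.mul_mem_left _ hx }
  have hcore := core e (FiniteField.frobeniusAlgHom k K : K →+* K) N (by
    intro x hx
    exact ⟨Psi k K B x, hΨI x hx, fun i => repr_Psi k K B b x i⟩)
  intro x hx
  have hx' := hcore x hx
  set J := Ideal.map (Algebra.TensorProduct.includeRight : B →ₐ[k] K ⊗[k] B)
      (Ideal.comap (Algebra.TensorProduct.includeRight : B →ₐ[k] K ⊗[k] B) I) with hJ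
  -- the generating set lies in `J`
  have hgen : ∀ y, (y ∈ N ∧ ∀ i, (FiniteField.frobeniusAlgHom k K : K →+* K) (e.repr y i)
      = e.repr y i) → y ∈ J := by
    rintro y ⟨hyN, hfix⟩
    -- coordinates lie in `k`
    have hk : ∀ i, ∃ t : k, algebraMap k K t = e.repr y i := by
      intro i
      have hpow : (e.repr y i) ^ Fintype.card k = e.repr y i := hfix i
      -- roots of X^q - X in K are exactly the image of k
      by_contra hcon
      have hinj : Function.Injective (algebraMap k K) := (algebraMap k K).injective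
      -- the finset image of k together with the new root has q+1 roots of X^q - X
      have hroots : (e.repr y i) ∈ (Polynomial.X ^ Fintype.card k - Polynomial.X :
          Polynomial K).roots := by
        rw [Polynomial.mem_roots (FiniteField.X_pow_card_sub_X_ne_zero K Fintype.one_lt_card)]
        simp [hpow]
      have hsub : (Finset.univ.image (algebraMap k K)).val ≤
          (Polynomial.X ^ Fintype.card k - Polynomial.X : Polynomial K).roots := by
        rw [Multiset.le_iff_subset (Finset.nodup _)]
        intro t ht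
        rw [Finset.mem_val, Finset.mem_image] at ht
        obtain ⟨s, -, rfl⟩ := ht
        rw [Polynomial.mem_roots (FiniteField.X_pow_card_sub_X_ne_zero K Fintype.one_lt_card)]
        simp [← map_pow, FiniteField.pow_card]
      have hcard : (Polynomial.X ^ Fintype.card k - Polynomial.X : Polynomial K).roots.card ≤
          Fintype.card k := by
        refine (Polynomial.card_roots' _).trans ?_
        rw [FiniteField.X_pow_card_sub_X_natDegree_eq K Fintype.one_lt_card]
      have hnew : e.repr y i ∉ Finset.univ.image (algebraMap k K) := by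
        intro hmem
        rw [Finset.mem_image] at hmem
        obtain ⟨t, -, ht⟩ := hmem
        exact hcon ⟨t, ht⟩
      have hsub2 : (insert (e.repr y i) (Finset.univ.image (algebraMap k K))).val ≤
          (Polynomial.X ^ Fintype.card k - Polynomial.X : Polynomial K).roots := by
        rw [Multiset.le_iff_subset (Finset.nodup _)]
        intro t ht
        rw [Finset.mem_val, Finset.mem_insert] at ht
        rcases ht with rfl | ht
        · exact hroots
        · exact Multiset.subset_of_le hsub ht
      have := (Multiset.card_le_card hsub2).trans hcard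
      rw [Finset.card_val, Finset.card_insert_of_notMem hnew,
        Finset.card_image_of_injective _ hinj, Finset.card_univ] at this
      omega
    choose t ht using hk
    -- `y = 1 ⊗ (∑ t i • b i)`
    have hy : y = (1 : K) ⊗ₜ[k] ((e.repr y).sum fun i _ => t i • b i) := by
      apply e.repr.injective
      ext i
      rw [Algebra.TensorProduct.basis_repr_tmul]
      simp only [Finsupp.smul_apply, Finsupp.mapRange_apply, smul_eq_mul, one_mul]
      rw [Finsupp.sum, map_sum, Finset.sum_apply']
      simp only [map_smul, Basis.repr_self, Finsupp.smul_apply, Finsupp.single_apply, smul_eq_mul,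
        mul_ite, mul_one, mul_zero, Finset.sum_ite_eq', Finsupp.mem_support_iff]
      split_ifs with h
      · exact (ht i).symm
      · rw [not_not] at h; rw [h]; simp
    rw [hy]
    apply Ideal.mem_map_of_mem
    rw [Ideal.mem_comap]
    change (1 : K) ⊗ₜ[k] _ ∈ I
    rw [← hy]
    exact hyN
  -- conclude: `J` is a `K`-submodule
  have hJsmul : ∀ (c : K) (z : K ⊗[k] B), z ∈ J → c • z ∈ J := by
    intro c z hz
    rw [smul_eq_tmul_one_mul]
    exact J.mul_mem_left _ hz
  refine Submodule.span_induction (p := fun z _ => z ∈ J) ?_ ?_ ?_ ?_ hx'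
  · intro z hz; exact hgen z hz
  · exact J.zero_mem
  · intro u v _ _ hu hv; exact J.add_mem hu hv
  · intro c z _ hz; exact hJsmul c z hz

end Tensor

section Pushout

open CategoryTheory

/-- `Algebra.IsPushout` form of the descent lemma. -/
theorem le_map_comap_of_algebraIsPushout (k K B R : Type*) [Field k] [Fintype k] [Field K]
    [CommRing B] [CommRing R] [Algebra k K] [Algebra k B] [Algebra K R] [Algebra B R]
    [Algebra k R] [IsScalarTower k K R] [IsScalarTower k B R] [Algebra.IsAlgebraic k K]
    [Algebra.IsPushout k K B R]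
    (Φ : R →+* R) (hΦβ : ∀ c : K, Φ (algebraMap K R c) = algebraMap K R c)
    (hΦα : ∀ b : B, Φ (algebraMap B R b) = algebraMap B R b ^ Fintype.card k)
    (I : Ideal R) (hI : I.IsRadical) (hΦI : ∀ x ∈ I, Φ x ∈ I) :
    I ≤ Ideal.map (algebraMap B R) (Ideal.comap (algebraMap B R) I) := by
  classical
  let E := Algebra.IsPushout.equiv k K B R
  let Φ' : K ⊗[k] B →+* K ⊗[k] B :=
    (E.symm : R →+* K ⊗[k] B).comp (Φ.comp (E : K ⊗[k] B →+* R))
  let I' : Ideal (K ⊗[k] B) := I.comap (E : K ⊗[k] B →+* R)
  have h1 : ∀ c : K, Φ' (c ⊗ₜ 1) = c ⊗ₜ 1 := by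
    intro c
    change E.symm (Φ (E (c ⊗ₜ 1))) = _
    rw [Algebra.IsPushout.equiv_tmul, map_one, mul_one, hΦβ]
    exact Algebra.IsPushout.equiv_symm_algebraMap_left k K B R c
  have h2 : ∀ b : B, Φ' (1 ⊗ₜ b) = 1 ⊗ₜ (b ^ Fintype.card k) := by
    intro b
    change E.symm (Φ (E (1 ⊗ₜ b))) = _
    rw [Algebra.IsPushout.equiv_tmul, map_one, one_mul, hΦα, ← map_pow]
    exact Algebra.IsPushout.equiv_symm_algebraMap_right k K B R (b ^ Fintype.card k)
  have hI' : I'.IsRadical := by
    intro z hz
    obtain ⟨n, hn⟩ := hz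
    change E z ∈ I
    apply hI
    refine ⟨n, ?_⟩
    rw [← map_pow]
    exact hn
  have hΦI' : ∀ x ∈ I', Φ' x ∈ I' := by
    intro x hx
    change E (E.symm (Φ (E x))) ∈ I
    rw [AlgEquiv.apply_symm_apply]
    exact hΦI _ hx
  have key := le_map_comap_tensor k K B Φ' h1 h2 I' hI' hΦI'
  intro x hx
  have hx' : E.symm x ∈ I' := by
    change E (E.symm x) ∈ I
    rwa [AlgEquiv.apply_symm_apply]
  have hx'' := key hx'
  have h3 : E (E.symm x) ∈ Ideal.map (E : K ⊗[k] B →+* R)
      (Ideal.map (Algebra.TensorProduct.includeRight : B →ₐ[k] K ⊗[k] B)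
        (Ideal.comap (Algebra.TensorProduct.includeRight : B →ₐ[k] K ⊗[k] B) I')) :=
    Ideal.mem_map_of_mem _ hx''
  rw [AlgEquiv.apply_symm_apply] at h3
  have h4 : ∀ b : B, E ((Algebra.TensorProduct.includeRight : B →ₐ[k] K ⊗[k] B) b) =
      algebraMap B R b := by
    intro b
    change E (1 ⊗ₜ b) = _
    rw [Algebra.IsPushout.equiv_tmul, map_one, one_mul]
  have h5 : Ideal.map (E : K ⊗[k] B →+* R)
      (Ideal.map (Algebra.TensorProduct.includeRight : B →ₐ[k] K ⊗[k] B)
        (Ideal.comap (Algebra.TensorProduct.includeRight : B →ₐ[k] K ⊗[k] B) I')) ≤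
      Ideal.map (algebraMap B R) (Ideal.comap (algebraMap B R) I) := by
    rw [Ideal.map_le_iff_le_comap, Ideal.map_le_iff_le_comap]
    intro b hb
    rw [Ideal.mem_comap, Ideal.mem_comap]
    change E ((Algebra.TensorProduct.includeRight : B →ₐ[k] K ⊗[k] B) b) ∈ _
    rw [h4]
    apply Ideal.mem_map_of_mem
    rw [Ideal.mem_comap, ← h4]
    exact hb
  exact h5 h3

/-- Ring-hom / categorical-pushout form of the descent lemma: if `R = K ⊗_k B` (as a pushout in
`CommRingCat`), `k` finite, `K/k` integral, `Φ : R → R` is the identity on `K` and the `#k`-th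
power on `B`, and `I` is a `Φ`-stable radical ideal, then `I` is generated by its contraction
to `B`. -/
theorem le_map_comap_of_frob_stable {k K B R : Type u} [Field k] [Finite k] [Field K]
    [CommRing B] [CommRing R]
    (i : k →+* K) (j : k →+* B) (β : K →+* R) (α : B →+* R)
    (hpo : IsPushout (CommRingCat.ofHom i) (CommRingCat.ofHom j)
      (CommRingCat.ofHom β) (CommRingCat.ofHom α))
    (halg : i.IsIntegral)
    (Φ : R →+* R) (hΦβ : ∀ c, Φ (β c) = β c) (hΦα : ∀ b, Φ (α b) = α b ^ Nat.card k)
    (I : Ideal R) (hI : I.IsRadical) (hΦI : ∀ x ∈ I, Φ x ∈ I) :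
    I ≤ Ideal.map α (Ideal.comap α I) := by
  classical
  letI : Fintype k := Fintype.ofFinite k
  letI : Algebra k K := i.toAlgebra
  letI : Algebra k B := j.toAlgebra
  letI : Algebra K R := β.toAlgebra
  letI : Algebra B R := α.toAlgebra
  letI : Algebra k R := (β.comp i).toAlgebra
  haveI : IsScalarTower k K R := .of_algebraMap_eq (fun _ => rfl)
  have hw : β.comp i = α.comp j := by
    have := congrArg CommRingCat.Hom.hom hpo.w
    simpa using this
  haveI : IsScalarTower k B R := .of_algebraMap_eq (fun x => by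
    change (β.comp i) x = α (j x)
    rw [hw]; rfl)
  haveI : Algebra.IsIntegral k K := ⟨halg⟩
  haveI : Algebra.IsAlgebraic k K := inferInstance
  have hpo' : IsPushout (CommRingCat.ofHom (algebraMap k K)) (CommRingCat.ofHom (algebraMap k B))
      (CommRingCat.ofHom (algebraMap K R)) (CommRingCat.ofHom (algebraMap B R)) := hpo
  haveI hP : Algebra.IsPushout k K B R := CommRingCat.isPushout_iff_isPushout.mp hpo'
  have hq : Nat.card k = Fintype.card k := Nat.card_eq_fintype_card
  exact le_map_comap_of_algebraIsPushout k K B R Φ hΦβ (fun b => by rw [← hq]; exact hΦα b)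
    I hI hΦI

end Pushout

end Groth.Agent.Lib.Helper25.FrobDescAlg
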