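import Groth.Prelude.Def_Frob
import Mathlib

set_option autoImplicit false
universe u
open CategoryTheory CategoryTheory.Limits AlgebraicGeometry

namespace Groth.Agent.Lib.Helper25.FrobInt

theorem isIntegralHom_frob (X : Scheme.{u}) (p : ℕ) [Fact p.Prime] [FrobSch.IsCharP X p] :
    IsIntegralHom (FrobSch.frob X p) := by
  have haff : IsAffineHom (FrobSch.frob X p) := ⟨fun U hU => hU⟩
  refine ⟨fun U hU => ?_⟩
  intro s
  have hs : ((FrobSch.frob X p).app U).hom (show Γ(X, U) from s) = s ^ p := rfl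
  refine ⟨Polynomial.X ^ p - Polynomial.C (show Γ(X, U) from s),
    Polynomial.monic_X_pow_sub_C _ (Fact.out : p.Prime).ne_zero, ?_⟩
  rw [Polynomial.eval₂_sub, Polynomial.eval₂_pow, Polynomial.eval₂_X, Polynomial.eval₂_C, hs]
  exact sub_self _

end Groth.Agent.Lib.Helper25.FrobInt
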