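import Mathlib.RingTheory.MvPolynomial.Homogeneous
import Mathlib.RingTheory.GradedAlgebra.RingHom
import Mathlib.RingTheory.GradedAlgebra.Basic
import Groth.Prelude.Def_CohB1
/-!
# A graded ring generated in degree one with finitely generated degree one part is a quotient
(in positive degrees) of a polynomial ring
-/
universe u
open DirectSum

namespace Groth.Agent.Lib.Helper25.GenDegOneSurj

variable {A R : Type u} [CommRing A] [CommRing R] (𝒜 : ℕ → AddSubgroup R) [GradedRing 𝒜]
  (str : A →+* R) (hstr : ∀ a, str a ∈ 𝒜 0)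
  {n : ℕ} (v : Fin (n + 1) → R) (hv : ∀ i, v i ∈ 𝒜 1)

/-- the evaluation homomorphism -/
noncomputable def ev : MvPolynomial (Fin (n + 1)) A →+* R := MvPolynomial.eval₂Hom str v

theorem ev_C (a : A) : ev str v (MvPolynomial.C a) = str a := MvPolynomial.eval₂Hom_C _ _ _

theorem ev_X (i : Fin (n + 1)) : ev str v (MvPolynomial.X i) = v i := MvPolynomial.eval₂Hom_X' _ _ _

include hstr hv in
theorem ev_mem_one' {p : MvPolynomial (Fin (n + 1)) A}
    (hmem : p ∈ Submodule.span A (Set.range (MvPolynomial.X : Fin (n + 1) → MvPolynomial (Fin (n + 1)) A))) :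
    ev str v p ∈ 𝒜 1 := by
  induction hmem using Submodule.span_induction with
  | mem x hx =>
    obtain ⟨i, rfl⟩ := hx
    rw [ev_X]; exact hv i
  | zero => rw [map_zero]; exact zero_mem _
  | add x y _ _ hx hy => rw [map_add]; exact add_mem hx hy
  | smul a x _ hx =>
    rw [MvPolynomial.smul_eq_C_mul, map_mul, ev_C]
    have := SetLike.mul_mem_graded (hstr a) hx
    rwa [zero_add] at this

include hstr hv in
theorem ev_mem_one {p : MvPolynomial (Fin (n + 1)) A} (hp : p.IsHomogeneous 1) : ev str v p ∈ 𝒜 1 := by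
  refine ev_mem_one' 𝒜 str hstr v hv ?_
  rw [← MvPolynomial.homogeneousSubmodule_one_eq_span_X]
  exact (MvPolynomial.mem_homogeneousSubmodule _ _).mpr hp

include hstr hv in
theorem ev_mem' {d : ℕ} {p : MvPolynomial (Fin (n + 1)) A}
    (hmem : p ∈ (MvPolynomial.homogeneousSubmodule (Fin (n + 1)) A 1) ^ d) : ev str v p ∈ 𝒜 d := by
  induction hmem using Submodule.pow_induction_on_left' with
  | algebraMap r =>
    rw [MvPolynomial.algebraMap_eq, ev_C]; exact hstr r
  | add x y i _ _ hx hy => rw [map_add]; exact add_mem hx hy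
  | mem_mul m hm i x _ hx =>
    rw [map_mul]
    have := SetLike.mul_mem_graded (ev_mem_one 𝒜 str hstr v hv ((MvPolynomial.mem_homogeneousSubmodule _ _).mp hm)) hx
    rwa [add_comm] at this

include hstr hv in
theorem ev_mem {d : ℕ} {p : MvPolynomial (Fin (n + 1)) A} (hp : p.IsHomogeneous d) : ev str v p ∈ 𝒜 d := by
  refine ev_mem' 𝒜 str hstr v hv ?_
  rw [MvPolynomial.homogeneousSubmodule_one_pow]
  exact (MvPolynomial.mem_homogeneousSubmodule _ _).mpr hp

/-- the graded evaluation homomorphism -/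
noncomputable def evG : CohB1.polyGrading n A →+*ᵍ 𝒜 :=
  { ev str v with
    map_mem := fun {_ _} hx => ev_mem 𝒜 str hstr v hv ((MvPolynomial.mem_homogeneousSubmodule _ _).mp hx) }

theorem evG_apply (p : MvPolynomial (Fin (n + 1)) A) : evG 𝒜 str hstr v hv p = ev str v p := rfl

/-- the image of the degree `d` part -/
noncomputable def N (d : ℕ) : AddSubgroup R :=
  AddSubgroup.map (ev str v).toAddMonoidHom (MvPolynomial.homogeneousSubmodule (Fin (n + 1)) A d).toAddSubgroup

theorem mem_N {d : ℕ} {x : R} :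
    x ∈ N str v d ↔ ∃ p : MvPolynomial (Fin (n + 1)) A, p.IsHomogeneous d ∧ ev str v p = x := by
  constructor
  · rintro ⟨p, hp, rfl⟩; exact ⟨p, hp, rfl⟩
  · rintro ⟨p, hp, rfl⟩; exact ⟨p, hp, rfl⟩

theorem mul_mem_N {i j : ℕ} {x y : R} (hx : x ∈ N str v i) (hy : y ∈ N str v j) : x * y ∈ N str v (i + j) := by
  obtain ⟨p, hp, rfl⟩ := (mem_N str v).mp hx
  obtain ⟨q, hq, rfl⟩ := (mem_N str v).mp hy
  exact (mem_N str v).mpr ⟨p * q, hp.mul hq, map_mul _ _ _⟩

variable (hone : ∀ y ∈ 𝒜 1, y ∈ N str v 1)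

include hstr hv hone in
theorem zero_mul_mem_N' {d : ℕ} {x₀ : R} (hx₀ : x₀ ∈ 𝒜 0) {p : MvPolynomial (Fin (n + 1)) A}
    (hmem : p ∈ (MvPolynomial.homogeneousSubmodule (Fin (n + 1)) A 1) ^ d) :
    0 < d → x₀ * ev str v p ∈ N str v d := by
  induction hmem using Submodule.pow_induction_on_left' with
  | algebraMap r => intro hd; exact absurd hd (lt_irrefl 0)
  | add x y i _ _ hx hy =>
    intro hd
    rw [map_add, mul_add]; exact add_mem (hx hd) (hy hd)
  | mem_mul m hm i x hx _ =>
    intro _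
    rw [map_mul, ← mul_assoc]
    have h1 : x₀ * ev str v m ∈ 𝒜 1 := by
      have := SetLike.mul_mem_graded hx₀
        (ev_mem_one 𝒜 str hstr v hv ((MvPolynomial.mem_homogeneousSubmodule _ _).mp hm))
      rwa [zero_add] at this
    have h2 : ev str v x ∈ N str v i := by
      rw [MvPolynomial.homogeneousSubmodule_one_pow] at hx
      exact (mem_N str v).mpr ⟨x, (MvPolynomial.mem_homogeneousSubmodule _ _).mp hx, rfl⟩
    have := mul_mem_N str v (hone _ h1) h2
    rwa [add_comm] at this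

include hstr hv hone in
theorem zero_mul_mem_N {d : ℕ} (hd : 0 < d) {x₀ y : R} (hx₀ : x₀ ∈ 𝒜 0) (hy : y ∈ N str v d) :
    x₀ * y ∈ N str v d := by
  obtain ⟨p, hp, rfl⟩ := (mem_N str v).mp hy
  refine zero_mul_mem_N' 𝒜 str hstr v hv hone hx₀ ?_ hd
  rw [MvPolynomial.homogeneousSubmodule_one_pow]
  exact (MvPolynomial.mem_homogeneousSubmodule _ _).mpr hp

include hstr hv hone in
/-- every positive-degree component of every element of the closure lies in the image -/
theorem decompose_mem_N (hgen : Subring.closure ((𝒜 0 : Set R) ∪ (𝒜 1 : Set R)) = ⊤) (x : R) :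
    ∀ d : ℕ, 0 < d → ((decompose 𝒜 x d : 𝒜 d) : R) ∈ N str v d := by
  have hx : x ∈ Subring.closure ((𝒜 0 : Set R) ∪ (𝒜 1 : Set R)) := by rw [hgen]; trivial
  induction hx using Subring.closure_induction with
  | mem x hx =>
    intro d hd
    rcases hx with hx | hx
    · rw [decompose_of_mem_ne 𝒜 hx hd.ne]; exact zero_mem _
    · by_cases h1 : d = 1
      · subst h1
        rw [decompose_of_mem_same 𝒜 hx]; exact hone x hx
      · rw [decompose_of_mem_ne 𝒜 hx (Ne.symm h1)]; exact zero_mem _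
  | zero => intro d _; rw [decompose_zero]; exact zero_mem _
  | one =>
    intro d hd
    rw [decompose_of_mem_ne 𝒜 (SetLike.GradedOne.one_mem : (1 : R) ∈ 𝒜 0) hd.ne]; exact zero_mem _
  | add x y _ _ hx hy =>
    intro d hd
    have : ((decompose 𝒜 (x + y) d : 𝒜 d) : R) =
        ((decompose 𝒜 x d : 𝒜 d) : R) + ((decompose 𝒜 y d : 𝒜 d) : R) := by
      rw [decompose_add]; rfl
    rw [this]
    exact add_mem (hx d hd) (hy d hd)
  | neg x _ hx =>
    intro d hd
    have : ((decompose 𝒜 (-x) d : 𝒜 d) : R) = -((decompose 𝒜 x d : 𝒜 d) : R) := by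
      rw [decompose_neg]; rfl
    rw [this]
    exact neg_mem (hx d hd)
  | mul x y _ _ hx hy =>
    intro d hd
    rw [decompose_mul, coe_mul_apply_eq_sum_antidiagonal]
    refine sum_mem fun ij hij => ?_
    obtain ⟨i, j⟩ := ij
    rw [Finset.mem_antidiagonal] at hij
    change i + j = d at hij
    change ((decompose 𝒜 x i : 𝒜 i) : R) * ((decompose 𝒜 y j : 𝒜 j) : R) ∈ N str v d
    subst hij
    by_cases hi : i = 0
    · subst hi
      have hj : 0 < j := by omega
      have h1 : ((decompose 𝒜 x 0 : 𝒜 0) : R) ∈ 𝒜 0 := SetLike.coe_mem _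
      have := zero_mul_mem_N 𝒜 str hstr v hv hone hj h1 (hy j hj)
      rwa [zero_add]
    · by_cases hj : j = 0
      · subst hj
        have hi' : 0 < i := by omega
        have h1 : ((decompose 𝒜 y 0 : 𝒜 0) : R) ∈ 𝒜 0 := SetLike.coe_mem _
        have := zero_mul_mem_N 𝒜 str hstr v hv hone hi' h1 (hx i hi')
        rwa [mul_comm, add_zero]
      · exact mul_mem_N str v (hx i (by omega)) (hy j (by omega))

include hstr hv hone in
/-- **Surjectivity in positive degrees.** -/
theorem exists_ev_eq (hgen : Subring.closure ((𝒜 0 : Set R) ∪ (𝒜 1 : Set R)) = ⊤) {d : ℕ} (hd : 0 < d)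
    {b : R} (hb : b ∈ 𝒜 d) :
    ∃ p ∈ CohB1.polyGrading n A d, evG 𝒜 str hstr v hv p = b := by
  have := decompose_mem_N 𝒜 str hstr v hv hone hgen b d hd
  rw [decompose_of_mem_same 𝒜 hb] at this
  obtain ⟨p, hp, hpb⟩ := (mem_N str v).mp this
  exact ⟨p, (MvPolynomial.mem_homogeneousSubmodule _ _).mpr hp, hpb⟩

end Groth.Agent.Lib.Helper25.GenDegOneSurj
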