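import Mathlib

/-!
# Étale at a point of a chart (helper25)

`formallyUnramified_stalkMap_iff`, `mem_etaleLocus_of_stalkMap`, and
`exists_etale_open_of_stalkMap`: if the stalk map of an l.f.p. morphism `f` at `x` is formally smooth
and formally unramified then `f` is étale on an open neighbourhood of `x`.
-/

set_option autoImplicit false
universe u
open CategoryTheory AlgebraicGeometry

namespace Groth.Agent.Lib.Helper25.GenEtale

variable {X Y : Scheme.{u}}

lemma formallyUnramified_stalkMap_iff {f : X ⟶ Y} {x : X} (U : Y.Opens)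
      (hU : IsAffineOpen U) (V : X.Opens) (hV : IsAffineOpen V) (hVU : V ≤ f ⁻¹ᵁ U)
      (hx : x ∈ V) :
    letI := (f.appLE U V hVU).hom.toAlgebra
    (f.stalkMap x).hom.FormallyUnramified ↔
      hV.primeIdealOf ⟨x, hx⟩ ∈ Algebra.unramifiedLocus Γ(Y, U) Γ(X, V) := by
  let := (f.appLE U V hVU).hom.toAlgebra
  let p := (hU.primeIdealOf ⟨f x, hVU hx⟩).asIdeal
  let q := (hV.primeIdealOf ⟨x, hx⟩).asIdeal
  have : q.LiesOver p :=
    ⟨congr($(IsAffineOpen.comap_primeIdealOf_appLE U hU V hV hVU hx).1).symm⟩
  let := Localization.AtPrime.algebraOfLiesOver p q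
  trans Algebra.FormallyUnramified (Localization.AtPrime p) (Localization.AtPrime q)
  · rw [← RingHom.formallyUnramified_algebraMap]
    exact RingHom.FormallyUnramified.respectsIso.arrow_mk_iso_iff
      (IsAffineOpen.arrowStalkMapIso f U hU V hV hVU hx)
  · constructor
    · intro h
      have : Algebra.FormallyUnramified Γ(Y, U) (Localization.AtPrime p) :=
        Algebra.FormallyUnramified.of_isLocalization p.primeCompl
      exact Algebra.FormallyUnramified.comp Γ(Y, U) (Localization.AtPrime p) _
    · intro h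
      have : Algebra.FormallyUnramified Γ(Y, U) (Localization.AtPrime q) := h
      exact Algebra.FormallyUnramified.of_restrictScalars Γ(Y, U) _ _

set_option backward.defeqAttrib.useBackward true in
set_option backward.isDefEq.respectTransparency false in
/-- If the stalk map of an l.f.p. morphism at `x` is formally smooth and formally unramified, then
the morphism is étale on an open neighbourhood of `x`. -/
theorem exists_etale_open_of_stalkMap (f : X ⟶ Y) [LocallyOfFinitePresentation f] (x : X)
    (hs : (f.stalkMap x).hom.FormallySmooth) (hu : (f.stalkMap x).hom.FormallyUnramified) :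
    ∃ U : X.Opens, x ∈ U ∧ Etale (U.ι ≫ f) := by
  obtain ⟨_, ⟨U, hU, rfl⟩, hxU, -⟩ :=
    Y.isBasis_affineOpens.exists_subset_of_mem_open (Set.mem_univ (f x)) isOpen_univ
  obtain ⟨_, ⟨V, hV, rfl⟩, hxV, hVU⟩ :=
    X.isBasis_affineOpens.exists_subset_of_mem_open hxU (U.2.preimage f.continuous)
  have := f.finitePresentation_appLE hU hV hVU
  algebraize [(f.appLE U V hVU).hom]
  have h1 : hV.primeIdealOf ⟨x, hxV⟩ ∈ Algebra.smoothLocus Γ(Y, U) Γ(X, V) :=
    (formallySmooth_stalkMap_iff U hU V hV hVU hxV).mp hs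
  have h2 : hV.primeIdealOf ⟨x, hxV⟩ ∈ Algebra.unramifiedLocus Γ(Y, U) Γ(X, V) :=
    (formallyUnramified_stalkMap_iff U hU V hV hVU hxV).mp hu
  have h3 : Algebra.IsEtaleAt Γ(Y, U) (hV.primeIdealOf ⟨x, hxV⟩).asIdeal := by
    have : hV.primeIdealOf ⟨x, hxV⟩ ∈ Algebra.etaleLocus Γ(Y, U) Γ(X, V) := by
      rw [Algebra.etaleLocus_eq_unramfiedLocus_inter_smoothLocus]; exact ⟨h2, h1⟩
    exact this
  obtain ⟨r, hrx, hr⟩ := Algebra.exists_etale_of_isEtaleAt (R := Γ(Y, U))
    (hV.primeIdealOf ⟨x, hxV⟩).asIdeal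
  have e : X.basicOpen r ≤ f ⁻¹ᵁ U := (X.basicOpen_le r).trans hVU
  refine ⟨X.basicOpen r, ?_, ?_⟩
  · rwa [← PrimeSpectrum.mem_basicOpen, IsAffineOpen.primeIdealOf,
      ← hV.fromSpec_preimage_basicOpen, Scheme.Hom.mem_preimage, ← Scheme.Hom.comp_apply,
      IsAffineOpen.isoSpec_hom, IsAffineOpen.toSpecΓ_fromSpec] at hrx
  · have hring : (f.appLE U (X.basicOpen r) e).hom.Etale := by
      have := hV.isLocalization_basicOpen r
      rw [← RingHom.etale_algebraMap] at hr
      convert!
        RingHom.Etale.propertyIsLocal.respectsIso.1 _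
          (IsLocalization.algEquiv (.powers r) _ Γ(X, X.basicOpen r)).toRingEquiv hr
      ext
      dsimp
      simp only [IsScalarTower.algebraMap_apply Γ(Y, U) Γ(X, V) (Localization _),
        IsLocalization.map_eq]
      simp only [RingHom.algebraMap_toAlgebra, RingHomCompTriple.comp_apply, ← ConcreteCategory.comp_apply,
        Scheme.Hom.appLE_map]
    rw [← Scheme.Hom.resLE_comp_ι f e]
    have : Etale (f.resLE U (X.basicOpen r) e) := by
      have : IsAffine _ := hU
      have : IsAffine _ := hV.basicOpen r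
      rw [HasRingHomProperty.iff_of_isAffine (P := @Etale)]
      exact (RingHom.Etale.propertyIsLocal.respectsIso.arrow_mk_iso_iff
        (arrowResLEAppIso f U _ e)).mpr hring
    infer_instance

end Groth.Agent.Lib.Helper25.GenEtale
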