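import Mathlib
import Groth.Agent.Lib.Helper25.GenSmooth
import Groth.Agent.Lib.Helper25.RegularSepSmooth

set_option autoImplicit false
universe u
open CategoryTheory CategoryTheory.Limits AlgebraicGeometry TopologicalSpace Topology

namespace Groth.Agent.Lib.Helper25.GenSmooth

section topology

variable {T : Type*} [TopologicalSpace T]

/-- A constructible set or its complement is a neighbourhood of a generic point. -/
theorem mem_nhds_or_compl_mem_nhds_of_isConstructible (x : T)
    (hx : ∀ U : Set T, IsOpen U → U.Nonempty → x ∈ U) {s : Set T} (hs : IsConstructible s) :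
    s ∈ 𝓝 x ∨ sᶜ ∈ 𝓝 x := by
  induction hs using IsConstructible.empty_union_induction with
  | open_retrocompact U hUopen _ =>
    by_cases hU : U.Nonempty
    · exact Or.inl (hUopen.mem_nhds (hx U hUopen hU))
    · rw [Set.not_nonempty_iff_eq_empty] at hU
      right; rw [hU, Set.compl_empty]; exact Filter.univ_mem
  | union s _ t _ hs ht =>
    rcases hs with hs | hs
    · exact Or.inl (Filter.mem_of_superset hs Set.subset_union_left)
    · rcases ht with ht | ht
      · exact Or.inl (Filter.mem_of_superset ht Set.subset_union_right)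
      · right; rw [Set.compl_union]; exact Filter.inter_mem hs ht
  | compl s _ hs =>
    rcases hs with hs | hs
    · right; rwa [compl_compl]
    · exact Or.inl hs

theorem mem_nhds_or_compl_mem_nhds_of_isLocallyConstructible (x : T)
    (hx : ∀ U : Set T, IsOpen U → U.Nonempty → x ∈ U) {s : Set T}
    (hs : IsLocallyConstructible s) : s ∈ 𝓝 x ∨ sᶜ ∈ 𝓝 x := by
  obtain ⟨U, hxU, hU, hUs⟩ := hs x
  have hxU' : x ∈ U := mem_of_mem_nhds hxU
  have hx' : ∀ V : Set U, IsOpen V → V.Nonempty → (⟨x, hxU'⟩ : U) ∈ V := by
    intro V hV hVne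
    have hV' : IsOpen (Subtype.val '' V) := hU.isOpenMap_subtype_val V hV
    have := hx _ hV' (hVne.image _)
    obtain ⟨y, hy, hyx⟩ := this
    have : y = ⟨x, hxU'⟩ := Subtype.ext hyx
    rwa [← this]
  have hemb := hU.isOpenEmbedding_subtypeVal
  rcases mem_nhds_or_compl_mem_nhds_of_isConstructible _ hx' hUs with h | h
  · left
    have := hemb.isOpenMap.image_mem_nhds h
    refine Filter.mem_of_superset this ?_
    rintro _ ⟨y, hy, rfl⟩
    exact hy
  · right
    have := hemb.isOpenMap.image_mem_nhds h
    refine Filter.mem_of_superset this ?_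
    rintro _ ⟨y, hy, rfl⟩
    exact hy

end topology

theorem isLocallyConstructible_of_isClosed {X : Scheme.{u}} [IsLocallyNoetherian X] {Z : Set X}
    (hZ : IsClosed Z) : IsLocallyConstructible Z := by
  intro x
  obtain ⟨W, hW, hxW, -⟩ := exists_isAffineOpen_mem_and_subset (x := x) (U := ⊤) trivial
  refine ⟨W, W.isOpen.mem_nhds hxW, W.isOpen, ?_⟩
  haveI : IsNoetherianRing Γ(X, W) := IsLocallyNoetherian.component_noetherian ⟨W, hW⟩
  haveI : NoetherianSpace W := noetherianSpace_of_isAffineOpen W hW
  have hopen : IsOpen ((Subtype.val : W → X) ⁻¹' Zᶜ) :=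
    hZ.isOpen_compl.preimage continuous_subtype_val
  have hretro : IsRetrocompact ((Subtype.val : W → X) ⁻¹' Zᶜ) :=
    fun U _ _ => @NoetherianSpace.isCompact _ _ (noetherianSpace_of_isAffineOpen W hW) _
  have := (hretro.isConstructible hopen).compl
  rwa [← Set.preimage_compl, compl_compl] at this

open Groth.Agent.Lib.Helper25.RegularSepSmooth in
/-- Points over the generic point of `Y` are smooth points when `X` is regular and `K(Y)` is
perfect. -/
theorem mem_smoothLocus_of_map_eq_genericPoint {X Y : Scheme.{u}} [IsIntegral Y]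
    (f : X ⟶ Y) [LocallyOfFinitePresentation f]
    (hreg : ∀ x : X, IsRegularLocalRing (X.presheaf.stalk x)) [PerfectField Y.functionField]
    (x : X) (hx : f.base x = genericPoint Y) : x ∈ f.smoothLocus := by
  rw [Scheme.Hom.mem_smoothLocus]
  have key : ∀ (y : Y) (_ : y = genericPoint Y) (φ : Y.presheaf.stalk y ⟶ X.presheaf.stalk x),
      φ.hom.EssFiniteType → φ.hom.FormallySmooth := by
    rintro y rfl φ hφ
    algebraize [φ.hom]
    haveI := hreg x
    haveI : Algebra.EssFiniteType Y.functionField
        (IsLocalRing.ResidueField (X.presheaf.stalk x)) := by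
      haveI : Algebra.FiniteType (X.presheaf.stalk x)
          (IsLocalRing.ResidueField (X.presheaf.stalk x)) :=
        Algebra.FiniteType.of_surjective (Algebra.ofId _ _) IsLocalRing.residue_surjective
      exact Algebra.EssFiniteType.comp Y.functionField (X.presheaf.stalk x) _
    haveI : Algebra.FormallySmooth Y.functionField
        (IsLocalRing.ResidueField (X.presheaf.stalk x)) := Algebra.FormallySmooth.of_perfectField
    haveI : Algebra.IsGeometricallyReduced Y.functionField
        (IsLocalRing.ResidueField (X.presheaf.stalk x)) :=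
      Groth.Agent.Lib.Helper23.FieldSep.isGeometricallyReduced_of_formallySmooth _ _
    exact formallySmooth_of_regular Y.functionField (X.presheaf.stalk x)
  exact key _ hx _ (LocallyOfFiniteType.stalkMap f x)

/-- Generic smoothness for a regular source and perfect function field of the target. -/
theorem exists_dense_open_smooth {X Y : Scheme.{u}} [IsIntegral Y]
    [IsLocallyNoetherian X] (hreg : ∀ x : X, IsRegularLocalRing (X.presheaf.stalk x))
    (f : X ⟶ Y) [LocallyOfFinitePresentation f] [QuasiCompact f]
    [PerfectField Y.functionField] :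
    ∃ V : Y.Opens, Dense (V : Set Y) ∧ Smooth (f ∣_ V) := by
  let Z : Set X := (f.smoothLocus : Set X)ᶜ
  have hZ : IsClosed Z := f.smoothLocus.isOpen.isClosed_compl
  have hs : IsLocallyConstructible (f.base '' Z) :=
    f.isLocallyConstructible_image (isLocallyConstructible_of_isClosed hZ)
  have hη : genericPoint Y ∉ f.base '' Z := by
    rintro ⟨x, hxZ, hx⟩
    exact hxZ (mem_smoothLocus_of_map_eq_genericPoint f hreg x hx)
  have hgen : ∀ U : Set Y, IsOpen U → U.Nonempty → genericPoint Y ∈ U := fun U hU hne =>
    ((genericPoint_spec Y).mem_open_set_iff hU).mpr (by simpa using hne)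
  rcases mem_nhds_or_compl_mem_nhds_of_isLocallyConstructible _ hgen hs with h | h
  · exact absurd (mem_of_mem_nhds h) hη
  · obtain ⟨V, hVs, hVo, hηV⟩ := mem_nhds_iff.mp h
    refine ⟨⟨V, hVo⟩, dense_of_genericPoint_mem ⟨V, hVo⟩ hηV, ?_⟩
    rw [← Scheme.Hom.smoothLocus_eq_top_iff, eq_top_iff]
    rintro x' -
    rw [Scheme.Hom.mem_smoothLocus]
    have hx : x'.1 ∈ f.smoothLocus := by
      by_contra hn
      exact hVs x'.2 ⟨x'.1, hn, rfl⟩
    exact (RingHom.FormallySmooth.respectsIso.arrow_mk_iso_iff
      (morphismRestrictStalkMap f ⟨V, hVo⟩ x')).mpr hx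

end Groth.Agent.Lib.Helper25.GenSmooth
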