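import Groth.Agent.Lib.Helper3.QCAlgSub
import Groth.Agent.Lib.Helper3.ModGlue
import Mathlib.RingTheory.GradedAlgebra.RingHom
/-!
# Gradings of a quasi-coherent algebra on affine opens: compatibility with basic opens suffices
-/
universe u
open CategoryTheory CategoryTheory.Limits AlgebraicGeometry Opposite TopologicalSpace
open RelSpec
open Groth.Agent.Lib.Helper29.QCoh

namespace Groth.Agent.Lib.Helper25.GrFromBasic
open Groth.Agent.Lib.Helper3

variable {S : Scheme.{u}} (A : QCAlg S)
  (deg : ∀ (U : S.Opens), IsAffineOpen U → ℕ → AddSubgroup (A.presheaf.obj (op U)))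
  [gr : ∀ (U : S.Opens) (hU : IsAffineOpen U), GradedRing (deg U hU)]
  (hbasic : ∀ (U : S.Opens) (hU : IsAffineOpen U) (f : Γ(S, U)) {d : ℕ} {x : A.presheaf.obj (op U)},
    x ∈ deg U hU d → resB A (S.basicOpen_le f) x ∈ deg (S.basicOpen f) (hU.basicOpen f) d)

include hbasic in
theorem resB_mem_basic' {U : S.Opens} (hU : IsAffineOpen U) (f : Γ(S, U)) {W : S.Opens}
    (hW : IsAffineOpen W) (hWf : W = S.basicOpen f) (h : W ≤ U) {n : ℕ}
    {x : A.presheaf.obj (op U)} (hx : x ∈ deg U hU n) :
    resB A h x ∈ deg W hW n := by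
  subst hWf
  exact hbasic U hU f hx

/-- restriction to a basic open as a graded ring homomorphism -/
noncomputable def resG {U : S.Opens} (hU : IsAffineOpen U) (f : Γ(S, U)) {W : S.Opens}
    (hW : IsAffineOpen W) (hWf : W = S.basicOpen f) (h : W ≤ U) :
    deg U hU →+*ᵍ deg W hW :=
  { resB A h with map_mem := fun hx => resB_mem_basic' A deg hbasic hU f hW hWf h hx }

include hbasic in
/-- Restriction maps between arbitrary affine opens preserve degrees as soon as restrictions to basic opens do. -/
theorem resB_mem {U V : S.Opens} (hU : IsAffineOpen U) (hV : IsAffineOpen V) (i : V ≤ U) {n : ℕ}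
    {x : A.presheaf.obj (op U)} (hx : x ∈ deg U hU n) :
    resB A i x ∈ deg V hV n := by
  classical
  set y := resB A i x with hy
  have key : ∀ k : ℕ, k ≠ n → ((DirectSum.decompose (deg V hV) y k : deg V hV k) :
      A.presheaf.obj (op V)) = 0 := by
    intro k hk
    have hloc : ∀ v : V, ∃ (W : S.Opens) (hWV : W ≤ V), (v : S) ∈ W ∧
        resB A hWV ((DirectSum.decompose (deg V hV) y k : deg V hV k) :
          A.presheaf.obj (op V)) = 0 := by
      rintro ⟨v, hv⟩
      obtain ⟨f, g, hfg, hvf⟩ := exists_basicOpen_le_affine_inter hU hV v ⟨i hv, hv⟩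
      have hWV : S.basicOpen f ≤ V := hfg ▸ S.basicOpen_le g
      have hWaff : IsAffineOpen (S.basicOpen f) := hU.basicOpen f
      refine ⟨S.basicOpen f, hWV, hvf, ?_⟩
      have h1 := GradedRingHom.map_directSumDecompose (𝒜 := deg V hV)
        (ℬ := deg (S.basicOpen f) hWaff) (resG A deg hbasic hV g hWaff hfg hWV) (x := y) (i := k)
      have h2 : resG A deg hbasic hV g hWaff hfg hWV y ∈ deg (S.basicOpen f) hWaff n := by
        change resB A hWV (resB A i x) ∈ _
        rw [resB_resB]
        exact resB_mem_basic' A deg hbasic hU f hWaff rfl _ hx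
      rw [DirectSum.decompose_of_mem_ne _ h2 hk.symm] at h1
      exact h1
    choose W hWV hvW hzero using hloc
    exact ModGlue.ext_of_cover A.toModule W V hWV
      (fun v hv => Opens.mem_iSup.mpr ⟨⟨v, hv⟩, hvW ⟨v, hv⟩⟩) _ 0
      (fun v => (hzero v).trans (map_zero (resB A (hWV v))).symm)
  have hsum : y = ((DirectSum.decompose (deg V hV) y n : deg V hV n) :
      A.presheaf.obj (op V)) := by
    conv_lhs => rw [← DirectSum.sum_support_decompose (deg V hV) y]
    rw [Finset.sum_eq_single n]
    · intro k _ hk; exact key k hk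
    · intro hn
      rw [DFinsupp.notMem_support_iff] at hn
      rw [hn]; rfl
  rw [hsum]
  exact SetLike.coe_mem _

end Groth.Agent.Lib.Helper25.GrFromBasic
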