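import Mathlib.RingTheory.GradedAlgebra.Basic
import Mathlib.Algebra.GCDMonoid.Finset
import Mathlib.Algebra.GCDMonoid.Nat
import Mathlib.RingTheory.Adjoin.Basic
import Mathlib.Algebra.Algebra.Operations
import Mathlib.Algebra.Group.Submonoid.Finsupp

set_option autoImplicit false
universe u

namespace Groth.Agent.Lib.Helper25

open DirectSum

variable {R A : Type u} [CommRing R] [CommRing A] [Algebra R A] (𝒜 : ℕ → Submodule R A)
  [GradedAlgebra 𝒜] {s : ℕ} (f : Fin s → A) (deg : Fin s → ℕ)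

include 𝒜 in
theorem monomial_mem_graded (hf : ∀ i, f i ∈ 𝒜 (deg i)) (α : Fin s → ℕ) :
    ∏ i, f i ^ α i ∈ 𝒜 (∑ i, α i * deg i) := by
  refine SetLike.prod_mem_graded (A := 𝒜) (fun i ↦ α i * deg i) (fun i ↦ f i ^ α i) fun i _ ↦ ?_
  have := SetLike.pow_mem_graded (α i) (hf i)
  rwa [smul_eq_mul] at this

/-- A graded piece of an algebra generated by homogeneous elements is spanned by the monomials of
that degree. -/
theorem mem_span_monomials (hf : ∀ i, f i ∈ 𝒜 (deg i))
    (hgen : Algebra.adjoin R (Set.range f) = ⊤) (N : ℕ) (x : A) (hx : x ∈ 𝒜 N) :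
    x ∈ Submodule.span R {m : A | ∃ α : Fin s → ℕ, (∑ i, α i * deg i = N) ∧ m = ∏ i, f i ^ α i} := by
  set S : Submodule R A :=
    Submodule.span R {m : A | ∃ α : Fin s → ℕ, (∑ i, α i * deg i = N) ∧ m = ∏ i, f i ^ α i} with hS
  have hx' : x ∈ Submodule.span R (Submonoid.closure (Set.range f) : Set A) := by
    rw [← Algebra.adjoin_eq_span, hgen]
    trivial
  have key : ∀ y ∈ Submodule.span R (Submonoid.closure (Set.range f) : Set A),
      GradedAlgebra.proj 𝒜 N y ∈ S := by
    intro y hy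
    induction hy using Submodule.span_induction with
    | mem m hm =>
      obtain ⟨α, rfl⟩ := Submonoid.exists_of_mem_closure_range f m hm
      have hmem := monomial_mem_graded 𝒜 f deg hf α
      by_cases hN : ∑ i, α i * deg i = N
      · rw [GradedAlgebra.proj_apply, ← hN, DirectSum.decompose_of_mem_same 𝒜 hmem]
        exact Submodule.subset_span ⟨α, hN, rfl⟩
      · rw [GradedAlgebra.proj_apply, DirectSum.decompose_of_mem_ne 𝒜 hmem hN]
        exact S.zero_mem
    | zero => rw [map_zero]; exact S.zero_mem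
    | add a b _ _ ha hb => rw [map_add]; exact S.add_mem ha hb
    | smul r a _ ha => rw [map_smul]; exact S.smul_mem r ha
  have := key x hx'
  rwa [GradedAlgebra.proj_apply, DirectSum.decompose_of_mem_same 𝒜 hx] at this

include 𝒜 in
theorem graded_mul_le (n m : ℕ) : 𝒜 n * 𝒜 m ≤ 𝒜 (n + m) :=
  Submodule.mul_le.mpr fun _ ha _ hb ↦ SetLike.GradedMul.mul_mem ha hb

/-- `B_{n+l} = B_n B_l` for `n ≥ (s-1)(l-1)`, `l` the lcm of the degrees of the generators. -/
theorem graded_add_lcm_eq_mul (hdeg : ∀ i, 0 < deg i) (hf : ∀ i, f i ∈ 𝒜 (deg i))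
    (hgen : Algebra.adjoin R (Set.range f) = ⊤) (n : ℕ)
    (hn : (s - 1) * (Finset.univ.lcm deg - 1) ≤ n) :
    𝒜 (n + Finset.univ.lcm deg) = 𝒜 n * 𝒜 (Finset.univ.lcm deg) := by
  classical
  set l := Finset.univ.lcm deg with hl
  have hl0 : l ≠ 0 := by
    rw [hl, Ne, Finset.lcm_eq_zero_iff]
    rintro ⟨i, -, hi⟩
    exact (hdeg i).ne' hi
  refine le_antisymm ?_ (graded_mul_le 𝒜 n l)
  intro x hx
  have hx' := mem_span_monomials 𝒜 f deg hf hgen (n + l) x hx
  refine Submodule.span_le.mpr ?_ hx'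
  rintro _ ⟨α, hα, rfl⟩
  -- some exponent is large
  obtain ⟨i, hi⟩ : ∃ i, l ≤ α i * deg i := by
    by_contra hcon
    simp only [not_exists, not_le] at hcon
    have h1 : ∀ i, α i * deg i ≤ l - 1 := fun i ↦ by have := hcon i; omega
    have h2 : ∑ i, α i * deg i ≤ ∑ _i : Fin s, (l - 1) := Finset.sum_le_sum fun i _ ↦ h1 i
    rw [Finset.sum_const, Finset.card_univ, Fintype.card_fin, smul_eq_mul, hα] at h2
    rcases Nat.eq_zero_or_pos s with hs | hs
    · subst hs; omega
    · obtain ⟨t, rfl⟩ : ∃ t, s = t + 1 := ⟨s - 1, by omega⟩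
      simp only [Nat.add_sub_cancel] at hn
      have : (t + 1) * (l - 1) = t * (l - 1) + (l - 1) := by ring
      omega
  obtain ⟨c, hc⟩ : deg i ∣ l := Finset.dvd_lcm (Finset.mem_univ i)
  have hci : c ≤ α i := by
    have : deg i * c ≤ deg i * α i := by rw [← hc, mul_comm (deg i) (α i)]; exact hi
    exact Nat.le_of_mul_le_mul_left this (hdeg i)
  -- split the monomial
  have hsplit : ∏ j, f j ^ α j = (∏ j, f j ^ (Function.update α i (α i - c)) j) * f i ^ c := by
    rw [← Finset.mul_prod_erase _ _ (Finset.mem_univ i),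
      ← Finset.mul_prod_erase _ (fun j ↦ f j ^ (Function.update α i (α i - c)) j)
        (Finset.mem_univ i)]
    have : ∀ j ∈ Finset.univ.erase i, f j ^ (Function.update α i (α i - c)) j = f j ^ α j := by
      intro j hj
      rw [Function.update_of_ne (Finset.ne_of_mem_erase hj)]
    rw [Finset.prod_congr rfl this, Function.update_self, mul_right_comm, ← pow_add,
      Nat.sub_add_cancel hci]
  rw [hsplit]
  refine Submodule.mul_mem_mul ?_ ?_
  · have h1 := monomial_mem_graded 𝒜 f deg hf (Function.update α i (α i - c))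
    have h2 : ∑ j, (Function.update α i (α i - c)) j * deg j = n := by
      have h3 : ∑ j, (Function.update α i (α i - c)) j * deg j + l = ∑ j, α j * deg j := by
        rw [← Finset.add_sum_erase _ _ (Finset.mem_univ i),
          ← Finset.add_sum_erase _ (fun j ↦ α j * deg j) (Finset.mem_univ i)]
        have : ∀ j ∈ Finset.univ.erase i,
            (Function.update α i (α i - c)) j * deg j = α j * deg j := by
          intro j hj
          rw [Function.update_of_ne (Finset.ne_of_mem_erase hj)]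
        rw [Finset.sum_congr rfl this, Function.update_self, hc, Nat.sub_mul]
        have : c * deg i ≤ α i * deg i := Nat.mul_le_mul_right _ hci
        have e : deg i * c = c * deg i := mul_comm _ _
        omega
      omega
    rwa [h2] at h1
  · have := SetLike.pow_mem_graded c (hf i)
    rwa [smul_eq_mul, mul_comm, ← hc] at this

include 𝒜 in
theorem graded_pow_le (l a : ℕ) : (𝒜 l) ^ a ≤ 𝒜 (a * l) := by
  induction a with
  | zero =>
    rw [pow_zero, zero_mul, Submodule.one_le]
    exact SetLike.GradedOne.one_mem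
  | succ a ih =>
    rw [pow_succ, Nat.succ_mul]
    exact (mul_le_mul' ih le_rfl).trans (graded_mul_le 𝒜 _ _)

theorem graded_zero_eq_one (hdeg : ∀ i, 0 < deg i) (hf : ∀ i, f i ∈ 𝒜 (deg i))
    (hgen : Algebra.adjoin R (Set.range f) = ⊤) : 𝒜 0 = 1 := by
  refine le_antisymm ?_ (Submodule.one_le.mpr SetLike.GradedOne.one_mem)
  intro x hx
  have hx' := mem_span_monomials 𝒜 f deg hf hgen 0 x hx
  refine Submodule.span_le.mpr ?_ hx'
  rintro _ ⟨α, hα, rfl⟩
  have : ∀ i, α i = 0 := by
    intro i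
    have h1 : α i * deg i = 0 :=
      (Finset.sum_eq_zero_iff.mp hα) i (Finset.mem_univ i)
    rcases Nat.mul_eq_zero.mp h1 with h | h
    · exact h
    · exact absurd h (hdeg i).ne'
  simp only [this, pow_zero, Finset.prod_const_one]
  exact Submodule.one_le.mp le_rfl

theorem graded_add_mul_lcm_eq (hdeg : ∀ i, 0 < deg i) (hf : ∀ i, f i ∈ 𝒜 (deg i))
    (hgen : Algebra.adjoin R (Set.range f) = ⊤) (m : ℕ)
    (hm : (s - 1) * (Finset.univ.lcm deg - 1) ≤ m) (j : ℕ) :
    𝒜 (m + j * Finset.univ.lcm deg) = 𝒜 m * (𝒜 (Finset.univ.lcm deg)) ^ j := by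
  induction j with
  | zero => rw [zero_mul, add_zero, pow_zero, mul_one]
  | succ j ih =>
    rw [Nat.succ_mul, ← add_assoc,
      graded_add_lcm_eq_mul 𝒜 f deg hdeg hf hgen _ (hm.trans (Nat.le_add_right _ _)), ih,
      pow_succ, mul_assoc]

/-- `B_{kn} = (B_n)^k` for `n = a l`, `a ≥ s - 1`. -/
theorem graded_mul_eq_pow (hdeg : ∀ i, 0 < deg i) (hf : ∀ i, f i ∈ 𝒜 (deg i))
    (hgen : Algebra.adjoin R (Set.range f) = ⊤) (a : ℕ) (ha : s - 1 ≤ a) (k : ℕ) :
    𝒜 (k * (a * Finset.univ.lcm deg)) = 𝒜 (a * Finset.univ.lcm deg) ^ k := by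
  set l := Finset.univ.lcm deg with hl
  set n := a * l with hn
  have hnl : (s - 1) * (l - 1) ≤ n :=
    (Nat.mul_le_mul ha (Nat.sub_le l 1))
  induction k with
  | zero => rw [zero_mul, pow_zero, graded_zero_eq_one 𝒜 f deg hdeg hf hgen]
  | succ k ih =>
    rcases Nat.eq_zero_or_pos k with hk | hk
    · subst hk; rw [zero_add, one_mul, pow_one]
    · have hkn : (s - 1) * (l - 1) ≤ k * n :=
        hnl.trans (Nat.le_mul_of_pos_left n hk)
      have h1 : 𝒜 (k * n + n) = 𝒜 (k * n) * (𝒜 l) ^ a :=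
        graded_add_mul_lcm_eq 𝒜 f deg hdeg hf hgen (k * n) hkn a
      have h2 : 𝒜 (k * n + n) = 𝒜 (k * n) * 𝒜 n := by
        refine le_antisymm ?_ (graded_mul_le 𝒜 _ _)
        rw [h1]
        exact mul_le_mul' le_rfl (graded_pow_le 𝒜 l a)
      rw [Nat.succ_mul, h2, ih, pow_succ]

end Groth.Agent.Lib.Helper25
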