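import Mathlib
import Groth.Agent.Helper19.LciRing
import Groth.Agent.Lib.Helper25.SectionRegular

/-!
# A map between smooth algebras is a local complete intersection (helper25)

`R → B` smooth, `B → A` with `R → B → A` smooth: then `B → A` is an lci ring map
(graph factorisation `B → B ⊗_R A → A`, the second map being a retraction of a smooth
`A`-algebra, hence with Koszul-regular kernel).
-/

set_option autoImplicit false
set_option linter.style.haveILetI false
universe u

open TensorProduct

namespace Groth.Agent.Lib.Helper25.GraphLCI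

open Groth.Agent.Lib.Helper16.KzComp Groth.Agent.Helper19.LciRing

section Alg

variable (R B A : Type u) [CommRing R] [CommRing B] [CommRing A] [Algebra R B] [Algebra B A]
  [Algebra R A] [IsScalarTower R B A]

/-- the graph retraction `B ⊗[R] A → A`, `b ⊗ a ↦ b • a` -/
noncomputable def mu : B ⊗[R] A →ₐ[B] A :=
  Algebra.TensorProduct.lift (Algebra.ofId B A) (AlgHom.id R A) (fun _ _ => Commute.all _ _)

theorem mu_tmul (b : B) (a : A) : mu R B A (b ⊗ₜ a) = algebraMap B A b * a := by
  simp [mu, Algebra.ofId_apply]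

theorem mu_surjective : Function.Surjective (mu R B A) := fun a =>
  ⟨1 ⊗ₜ a, by rw [mu_tmul, map_one, one_mul]⟩

attribute [local instance] Algebra.TensorProduct.rightAlgebra

theorem mu_algebraMap_right (a : A) : mu R B A (algebraMap A (B ⊗[R] A) a) = a := by
  show mu R B A (1 ⊗ₜ a) = a
  rw [mu_tmul, map_one, one_mul]

theorem bijective_mk_ker_mu :
    Function.Bijective ((Ideal.Quotient.mk (RingHom.ker (mu R B A).toRingHom)).comp
      (algebraMap A (B ⊗[R] A))) := by
  constructor
  · intro a a' h
    have h1 : algebraMap A (B ⊗[R] A) a - algebraMap A (B ⊗[R] A) a' ∈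
        RingHom.ker (mu R B A).toRingHom := by
      rw [← Ideal.Quotient.eq]
      exact h
    rw [RingHom.mem_ker, map_sub] at h1
    have h2 : mu R B A (algebraMap A (B ⊗[R] A) a) - mu R B A (algebraMap A (B ⊗[R] A) a') = 0 := h1
    rw [mu_algebraMap_right, mu_algebraMap_right] at h2
    exact sub_eq_zero.mp h2
  · intro z
    obtain ⟨t, rfl⟩ := Ideal.Quotient.mk_surjective z
    refine ⟨mu R B A t, ?_⟩
    rw [RingHom.comp_apply, Ideal.Quotient.eq, RingHom.mem_ker, map_sub]
    show mu R B A (algebraMap A (B ⊗[R] A) (mu R B A t)) - mu R B A t = 0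
    rw [mu_algebraMap_right, sub_self]

theorem smooth_right [Algebra.Smooth R B] : Algebra.Smooth A (B ⊗[R] A) :=
  Algebra.Smooth.of_equiv (Algebra.TensorProduct.commRight R A B)

theorem isKoszulRegularIdeal_ker_mu [Algebra.Smooth R B] :
    LCI.IsKoszulRegularIdeal (RingHom.ker (mu R B A).toRingHom) := by
  haveI := smooth_right R B A
  intro 𝔭 h𝔭
  obtain ⟨g, n, b, hg, -, hreg⟩ :=
    Groth.Agent.Lib.Helper25.SectionRegular.exists_regular_of_section (A := A)
      (B := B ⊗[R] A) (RingHom.ker (mu R B A).toRingHom) (bijective_mk_ker_mu R B A)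
      𝔭.asIdeal h𝔭
  obtain ⟨h1, h2⟩ := hreg (Localization.Away g)
  refine ⟨g, hg, List.ofFn fun i => algebraMap (B ⊗[R] A) (Localization.Away g) (b i),
    kreg_of_isWeaklyRegular _ h1, ?_⟩
  rw [h2]

end Alg

theorem isLCIHom_of_smooth_of_smooth {R B A : Type u} [CommRing R] [CommRing B] [CommRing A]
    (ψ : R →+* B) (φ : B →+* A) (hψ : ψ.Smooth) (hφψ : (φ.comp ψ).Smooth) : IsLCIHom φ := by
  algebraize [ψ, φ, φ.comp ψ]
  have h1 : IsLCIHom (algebraMap B (B ⊗[R] A)) :=
    isLCIHom_of_smooth _ (RingHom.smooth_algebraMap.mpr inferInstance)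
  have h2 : IsLCIHom (mu R B A).toRingHom := by
    rw [isLCIHom_iff_of_surjective _ (mu_surjective R B A)]
    exact isKoszulRegularIdeal_ker_mu R B A
  have h3 : φ = (mu R B A).toRingHom.comp (algebraMap B (B ⊗[R] A)) := by
    refine RingHom.ext fun b => ?_
    show φ b = mu R B A (algebraMap B (B ⊗[R] A) b)
    rw [AlgHom.commutes]
    rfl
  rw [h3]
  exact isLCIHom_comp _ _ h1 h2

end Groth.Agent.Lib.Helper25.GraphLCI
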