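import Mathlib
import Groth.Agent.Helper19.LciMor
import Groth.Agent.Lib.Helper25.GraphLCI1

/-!
# A morphism between smooth `S`-schemes is a local complete intersection morphism (helper25)
-/

set_option autoImplicit false
set_option linter.style.haveILetI false
universe u

open CategoryTheory CategoryTheory.Limits AlgebraicGeometry

namespace Groth.Agent.Lib.Helper25.GraphLCI

open Groth.Agent.Lib.Helper16.KzComp Groth.Agent.Helper19.LciMor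

theorem lciMor_of_smooth_of_smooth {X Y S : Scheme.{u}} (h : X ⟶ Y) (q : Y ⟶ S) [Smooth q]
    [Smooth (h ≫ q)] : LCIMor h := by
  rw [HasRingHomProperty.iff_exists_appLE (P := LCIMor.{u}) isLCIHom_stableSource]
  intro x
  obtain ⟨_, ⟨W, hW, rfl⟩, hxW, -⟩ :=
    S.isBasis_affineOpens.exists_subset_of_mem_open (Set.mem_univ (q (h x))) isOpen_univ
  have hW' : IsAffineOpen W := hW
  obtain ⟨_, ⟨V, hV, rfl⟩, hxV, hVW⟩ :=
    Y.isBasis_affineOpens.exists_subset_of_mem_open (show h x ∈ q ⁻¹ᵁ W from hxW) (q ⁻¹ᵁ W).2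
  have hV' : IsAffineOpen V := hV
  have hVW' : V ≤ q ⁻¹ᵁ W := hVW
  obtain ⟨_, ⟨U, hU, rfl⟩, hxU, hUV⟩ :=
    X.isBasis_affineOpens.exists_subset_of_mem_open (show x ∈ h ⁻¹ᵁ V from hxV) (h ⁻¹ᵁ V).2
  have hU' : IsAffineOpen U := hU
  have hUV' : U ≤ h ⁻¹ᵁ V := hUV
  refine ⟨⟨V, hV'⟩, ⟨U, hU'⟩, hxU, hUV', ?_⟩
  have hUW : U ≤ (h ≫ q) ⁻¹ᵁ W := fun y hy => hVW' (hUV' hy)
  have hψ : (q.appLE W V hVW').hom.Smooth :=
    (HasRingHomProperty.iff_appLE (P := @Smooth)).1 ‹Smooth q› ⟨W, hW'⟩ ⟨V, hV'⟩ hVW'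
  have hφψ : ((h ≫ q).appLE W U hUW).hom.Smooth :=
    (HasRingHomProperty.iff_appLE (P := @Smooth)).1 ‹Smooth (h ≫ q)› ⟨W, hW'⟩ ⟨U, hU'⟩ hUW
  have hcomp : ((h ≫ q).appLE W U hUW).hom =
      (h.appLE V U hUV').hom.comp (q.appLE W V hVW').hom := by
    rw [← CommRingCat.hom_comp, Scheme.Hom.appLE_comp_appLE]
  rw [hcomp] at hφψ
  exact isLCIHom_of_smooth_of_smooth _ _ hψ hφψ

end Groth.Agent.Lib.Helper25.GraphLCI
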