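import Mathlib
import Groth.Prelude.Def_CurvBase
import Groth.Agent.Lib.Helper25.CotangentSmooth
import Groth.Agent.Lib.Helper25.PowTangent5

/-!
# Group schemes of finite type over an algebraically closed field with zero tangent space (helper25)
-/

set_option autoImplicit false
set_option linter.style.haveILetI false
set_option linter.unusedSectionVars false
universe u
open CategoryTheory CategoryTheory.Limits AlgebraicGeometry TopologicalSpace Opposite
  MonoidalCategory CartesianMonoidalCategory MonObj IsLocalRing

namespace Groth.Agent.Lib.Helper25.GrpDiscrete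

open Groth.Agent.Lib.Helper25.GrpTangent Groth.Agent.Lib.Helper25.PowTangent
  Groth.Agent.Lib.Helper25.CotangentSmooth

/-- The frozen `Curv2.stalkMap` as a composite of categorical maps. -/
theorem stalkMap_eq (k : Type u) [Field k] (X : Scheme.{u}) (q : X ⟶ Spec (CommRingCat.of k))
    (x : X) :
    letI : X.Over (Spec (CommRingCat.of k)) := ⟨q⟩
    Curv2.stalkMap k X x = (τ (q x) ≫ q.stalkMap x).hom := by
  letI : X.Over (Spec (CommRingCat.of k)) := ⟨q⟩
  ext c
  change (X.presheaf.germ ⊤ x trivial).hom ((q.appTop).hom
      ((Scheme.ΓSpecIso (CommRingCat.of k)).inv.hom c)) =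
    (q.stalkMap x).hom (((Spec (CommRingCat.of k)).presheaf.germ ⊤ (q x) trivial).hom
      ((Scheme.ΓSpecIso (CommRingCat.of k)).inv.hom c))
  exact (Scheme.Hom.germ_stalkMap_apply q ⊤ x trivial _).symm

/-- In a local ring which is a field, the prime spectrum is a subsingleton. -/
theorem subsingleton_primeSpectrum_of_isField {R : Type u} [CommRing R] [IsLocalRing R]
    (hR : IsField R) : Subsingleton (PrimeSpectrum R) := by
  have hm : maximalIdeal R = ⊥ := isField_iff_maximalIdeal_eq.mp hR
  have h : ∀ p : PrimeSpectrum R, p.asIdeal = ⊥ := fun p =>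
    le_bot_iff.mp (hm ▸ le_maximalIdeal p.2.ne_top)
  exact ⟨fun p q => PrimeSpectrum.ext ((h p).trans (h q).symm)⟩

/-- A point whose local ring is a field has no proper generizations. -/
theorem eq_of_specializes_of_isField {X : Scheme.{u}} {x g : X}
    (hg : IsField (X.presheaf.stalk g)) (h : x ⤳ g) : x = g := by
  haveI := subsingleton_primeSpectrum_of_isField hg
  have hx : x ∈ Set.range (X.fromSpecStalk g) := by
    rw [Scheme.range_fromSpecStalk]; exact h
  obtain ⟨p, rfl⟩ := hx
  have h2 : X.fromSpecStalk g (closedPoint (X.presheaf.stalk g)) = g :=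
    Scheme.fromSpecStalk_closedPoint
  refine Eq.trans ?_ h2
  congr 1
  exact Subsingleton.elim (α := PrimeSpectrum (X.presheaf.stalk g)) _ _

section

variable (k : Type u) [Field k] [IsAlgClosed k] (G : Over (Spec (CommRingCat.of k))) [GrpObj G]
  [LocallyOfFiniteType G.hom]

/-- Translation moving a closed point to the unit point. -/
theorem exists_iso_apply_eq (e : G.left) (he : e ∈ Set.range (η[G]).left.base)
    (g : G.left) (hg : IsClosed ({g} : Set G.left)) :
    ∃ f : G.left ⟶ G.left, IsIso f ∧ f g = e := by
  let h0 : Spec (CommRingCat.of k) ⟶ G.left := pointOfClosedPoint G.hom g hg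
  have hh0 : h0 ≫ G.hom = 𝟙 _ := pointOfClosedPoint_comp G.hom g hg
  let h : 𝟙_ (Over (Spec (CommRingCat.of k))) ⟶ G := Over.homMk h0 (by
    change h0 ≫ G.hom = 𝟙 _
    exact hh0)
  haveI : IsIso (transl G h⁻¹) := isIso_transl G h⁻¹
  haveI : IsIso (transl G h⁻¹).left :=
    (Over.forget _).map_isIso (transl G h⁻¹)
  refine ⟨(transl G h⁻¹).left, inferInstance, ?_⟩
  obtain ⟨pt, hpt⟩ := he
  have h1 : h ≫ transl G h⁻¹ = η[G] := comp_transl_inv G h
  have h2 : h0 ≫ (transl G h⁻¹).left = (η[G]).left := congrArg CommaMorphism.left h1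
  have h3 : h0 pt = g := pointOfClosedPoint_apply G.hom g hg pt
  rw [← h3, ← hpt]
  exact congrArg (fun m : Spec (CommRingCat.of k) ⟶ G.left => m pt) h2

theorem isField_stalk_of_isClosed (e : G.left) (he : e ∈ Set.range (η[G]).left.base)
    (hF : IsField (G.left.presheaf.stalk e)) (g : G.left) (hg : IsClosed ({g} : Set G.left)) :
    IsField (G.left.presheaf.stalk g) := by
  obtain ⟨f, hf, hfg⟩ := exists_iso_apply_eq k G e he g hg
  haveI := hf
  have hF' : IsField (G.left.presheaf.stalk (f g)) := hfg ▸ hF
  let E : G.left.presheaf.stalk (f g) ≃+* G.left.presheaf.stalk g :=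
    (asIso (f.stalkMap g)).commRingCatIsoToRingEquiv
  exact MulEquiv.isField hF' E.symm.toMulEquiv

variable [QuasiCompact G.hom]

theorem compactSpace : CompactSpace G.left :=
  (quasiCompact_iff_compactSpace G.hom).mp inferInstance

theorem isClosed_singleton (e : G.left) (he : e ∈ Set.range (η[G]).left.base)
    (hF : IsField (G.left.presheaf.stalk e)) (x : G.left) :
    IsClosed ({x} : Set G.left) := by
  haveI := compactSpace k G
  obtain ⟨g, hgx, hg⟩ := (isClosed_closure (s := ({x} : Set G.left))).exists_closed_singleton
    ⟨x, subset_closure rfl⟩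
  have hsp : x ⤳ g := specializes_iff_mem_closure.mpr hgx
  have := eq_of_specializes_of_isField (isField_stalk_of_isClosed k G e he hF g hg) hsp
  rw [this]; exact hg

theorem isField_stalk (e : G.left) (he : e ∈ Set.range (η[G]).left.base)
    (hF : IsField (G.left.presheaf.stalk e)) (x : G.left) :
    IsField (G.left.presheaf.stalk x) :=
  isField_stalk_of_isClosed k G e he hF x (isClosed_singleton k G e he hF x)

theorem singleton_mem_irreducibleComponents (e : G.left) (he : e ∈ Set.range (η[G]).left.base)
    (hF : IsField (G.left.presheaf.stalk e)) (x : G.left) :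
    ({x} : Set G.left) ∈ irreducibleComponents G.left := by
  refine ⟨isIrreducible_singleton, fun Z hZ hxZ => ?_⟩
  let ζ := hZ.genericPoint
  have hζ : IsGenericPoint ζ (closure Z) := hZ.isGenericPoint_genericPoint_closure
  have h1 : x ∈ closure ({ζ} : Set G.left) := by
    rw [hζ.def]; exact subset_closure (hxZ rfl)
  have h2 : ζ ⤳ x := specializes_iff_mem_closure.mpr h1
  have h3 : ζ = x := eq_of_specializes_of_isField (isField_stalk k G e he hF x) h2
  intro z hz
  have h4 : z ∈ closure ({ζ} : Set G.left) := by
    rw [hζ.def]; exact subset_closure hz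
  rw [h3, (isClosed_singleton k G e he hF x).closure_eq] at h4
  exact h4

theorem finite (e : G.left) (he : e ∈ Set.range (η[G]).left.base)
    (hF : IsField (G.left.presheaf.stalk e)) : Finite G.left := by
  haveI := compactSpace k G
  haveI : IsLocallyNoetherian G.left := LocallyOfFiniteType.isLocallyNoetherian G.hom
  haveI : IsNoetherian G.left := {}
  haveI : NoetherianSpace G.left := inferInstance
  haveI : Finite (irreducibleComponents G.left) :=
    (NoetherianSpace.finite_irreducibleComponents (α := G.left)).to_subtype
  let φ : G.left → irreducibleComponents G.left := fun x =>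
    ⟨{x}, singleton_mem_irreducibleComponents k G e he hF x⟩
  refine Finite.of_injective φ (fun x y hxy => ?_)
  have : ({x} : Set G.left) = {y} := congrArg Subtype.val hxy
  exact Set.singleton_eq_singleton_iff.mp this

theorem bijective_stalkMap (x : G.left) (hx : IsClosed ({x} : Set G.left))
    (hF : IsField (G.left.presheaf.stalk x)) :
    letI : G.left.Over (Spec (CommRingCat.of k)) := ⟨G.hom⟩
    Function.Bijective (Curv2.stalkMap k G.left x) := by
  letI : G.left.Over (Spec (CommRingCat.of k)) := ⟨G.hom⟩
  rw [stalkMap_eq k G.left G.hom x]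
  have h1 := residue_bijective G.hom x hx
  have hres : Function.Bijective (G.left.residue x).hom := by
    refine ⟨?_, IsLocalRing.residue_surjective⟩
    rw [injective_iff_map_eq_zero]
    intro a ha
    have hm : maximalIdeal (G.left.presheaf.stalk x) = ⊥ := isField_iff_maximalIdeal_eq.mp hF
    have : a ∈ maximalIdeal (G.left.presheaf.stalk x) := by
      rw [← IsLocalRing.residue_eq_zero_iff]; exact ha
    rw [hm] at this
    exact this
  have h2 : Function.Bijective (G.hom.stalkMap x).hom := by
    rw [CommRingCat.hom_comp, RingHom.coe_comp] at h1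
    exact (Function.Bijective.of_comp_iff' hres _).mp h1
  rw [CommRingCat.hom_comp, RingHom.coe_comp]
  exact h2.comp (bijective_τ (G.hom x))

theorem main (e : G.left) (he : e ∈ Set.range (η[G]).left.base) :
    letI : G.left.Over (Spec (CommRingCat.of k)) := ⟨G.hom⟩
    Subsingleton (IsLocalRing.CotangentSpace (G.left.presheaf.stalk e)) ↔
      (Finite G.left ∧ DiscreteTopology G.left ∧
        ∀ g : G.left, Function.Bijective (Curv2.stalkMap k G.left g)) := by
  letI : G.left.Over (Spec (CommRingCat.of k)) := ⟨G.hom⟩
  haveI : IsLocallyNoetherian G.left := LocallyOfFiniteType.isLocallyNoetherian G.hom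
  rw [IsLocalRing.subsingleton_cotangentSpace_iff]
  constructor
  · intro hF
    haveI := finite k G e he hF
    haveI : T1Space G.left := ⟨fun x => isClosed_singleton k G e he hF x⟩
    refine ⟨inferInstance, inferInstance, fun g => ?_⟩
    exact bijective_stalkMap k G g (isClosed_singleton k G e he hF g) (isField_stalk k G e he hF g)
  · rintro ⟨-, -, h⟩
    exact MulEquiv.isField (Field.toIsField k)
      (RingEquiv.ofBijective (Curv2.stalkMap k G.left e) (h e)).symm.toMulEquiv

end

end Groth.Agent.Lib.Helper25.GrpDiscrete
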