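import Mathlib
import Groth.Agent.Lib.Helper9.FFDescent

/-!
# Homogeneity of flatness for homomorphisms of group schemes (helper25)

Generic lemmas: `Spec O_{X,x} ⟶ X` is flat; pointwise descent of flatness along a flat morphism;
the shear isomorphism `(a, g) ↦ (a, u(a) g)` of `H × G`; flatness of `(a, t) ↦ u(a) j(t)` for
flat `j` and flat `H ⟶ S`.
-/

set_option autoImplicit false
set_option linter.style.haveILetI false
set_option linter.unusedSectionVars false
universe u
open CategoryTheory CategoryTheory.Limits AlgebraicGeometry TopologicalSpace Opposite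
  MonoidalCategory CartesianMonoidalCategory MonObj

namespace Groth.Agent.Lib.Helper25.GrpOpenImm

/-- The canonical morphism `Spec O_{X,x} ⟶ X` is flat. -/
theorem flat_fromSpecStalk (X : Scheme.{u}) (x : X) : Flat (X.fromSpecStalk x) := by
  obtain ⟨U, hU, hxU, -⟩ := exists_isAffineOpen_mem_and_subset (x := x) (U := (⊤ : X.Opens)) trivial
  rw [← hU.fromSpecStalk_eq_fromSpecStalk hxU, IsAffineOpen.fromSpecStalk]
  have : Flat (Spec.map (X.presheaf.germ U x hxU)) := by
    rw [Flat.SpecMap_iff]
    let _ : Algebra Γ(X, U) (X.presheaf.stalk x) :=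
      TopCat.Presheaf.algebra_section_stalk X.presheaf ⟨x, hxU⟩
    have hloc := hU.isLocalization_stalk ⟨x, hxU⟩
    exact IsLocalization.flat (X.presheaf.stalk x) (hU.primeIdealOf ⟨x, hxU⟩).asIdeal.primeCompl
  infer_instance

/-- Pointwise descent of flatness: if `a` is flat and `a ≫ f` is flat at `x'`, then `f` is flat at
`a x'`. -/
theorem flat_stalkMap_of_comp {X' X Y : Scheme.{u}} (a : X' ⟶ X) [Flat a] (f : X ⟶ Y) (x' : X')
    (h : ((a ≫ f).stalkMap x').hom.Flat) : (f.stalkMap (a x')).hom.Flat := by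
  rw [Scheme.Hom.stalkMap_comp] at h
  let φ : Y.presheaf.stalk (f (a x')) →+* X.presheaf.stalk (a x') := (f.stalkMap (a x')).hom
  let ψ : X.presheaf.stalk (a x') →+* X'.presheaf.stalk x' := (a.stalkMap x').hom
  have hψ : ψ.Flat := Flat.stalkMap a x'
  letI := φ.toAlgebra
  letI := ψ.toAlgebra
  letI := (ψ.comp φ).toAlgebra
  haveI : IsScalarTower (Y.presheaf.stalk (f (a x'))) (X.presheaf.stalk (a x'))
      (X'.presheaf.stalk x') := IsScalarTower.of_algebraMap_eq (fun _ => rfl)
  haveI : Module.Flat (Y.presheaf.stalk (f (a x'))) (X'.presheaf.stalk x') := h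
  haveI : Module.Flat (X.presheaf.stalk (a x')) (X'.presheaf.stalk x') := hψ
  haveI : IsLocalHom (algebraMap (X.presheaf.stalk (a x')) (X'.presheaf.stalk x')) :=
    (inferInstance : IsLocalHom (a.stalkMap x').hom)
  haveI : Module.FaithfullyFlat (X.presheaf.stalk (a x')) (X'.presheaf.stalk x') :=
    Module.FaithfullyFlat.of_flat_of_isLocalHom
  exact Groth.Agent.Lib.Helper9.FFDescent.flat_of_faithfullyFlat_comp
    (Y.presheaf.stalk (f (a x'))) (X.presheaf.stalk (a x')) (X'.presheaf.stalk x')

section shear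

variable {C : Type*} [Category C] [CartesianMonoidalCategory C] (H G : C) [GrpObj G]

/-- The shear map `(a, g) ↦ (a, u(a) g)`. -/
def shear (u : H ⟶ G) : H ⊗ G ⟶ H ⊗ G := lift (fst H G) ((fst H G ≫ u) * snd H G)

/-- The inverse shear map `(a, g) ↦ (a, u(a)⁻¹ g)`. -/
def shearInv (u : H ⟶ G) : H ⊗ G ⟶ H ⊗ G := lift (fst H G) ((fst H G ≫ u)⁻¹ * snd H G)

theorem shear_shearInv (u : H ⟶ G) : shear H G u ≫ shearInv H G u = 𝟙 _ := by
  unfold shear shearInv
  apply CartesianMonoidalCategory.hom_ext
  · simp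
  · rw [Category.assoc, lift_snd, MonObj.comp_mul, GrpObj.comp_inv, ← Category.assoc, lift_fst,
      lift_snd, inv_mul_cancel_left, Category.id_comp]

theorem shearInv_shear (u : H ⟶ G) : shearInv H G u ≫ shear H G u = 𝟙 _ := by
  unfold shear shearInv
  apply CartesianMonoidalCategory.hom_ext
  · simp
  · rw [Category.assoc, lift_snd, MonObj.comp_mul, ← Category.assoc, lift_fst,
      lift_snd, mul_inv_cancel_left, Category.id_comp]

theorem isIso_shear (u : H ⟶ G) : IsIso (shear H G u) :=
  ⟨⟨shearInv H G u, shear_shearInv H G u, shearInv_shear H G u⟩⟩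

theorem mul_eq_whisker_shear_snd {T : C} (u : H ⟶ G) (j : T ⟶ G) :
    (fst H T ≫ u) * (snd H T ≫ j) = (H ◁ j) ≫ shear H G u ≫ snd H G := by
  unfold shear
  rw [lift_snd, MonObj.comp_mul, ← Category.assoc, whiskerLeft_fst, whiskerLeft_snd]

end shear

section overS

variable {S : Scheme.{u}} (H G : Over S) [GrpObj G] [Flat H.hom]

/-- `(a, t) ↦ u(a) j(t)` is flat when `j` and `H ⟶ S` are flat. -/
theorem flat_mul_left {T : Over S} (u : H ⟶ G) (j : T ⟶ G) (hj : Flat j.left) :
    Flat ((fst H T ≫ u) * (snd H T ≫ j)).left := by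
  rw [mul_eq_whisker_shear_snd]
  haveI : IsIso (shear H G u) := isIso_shear H G u
  haveI : IsIso (shear H G u).left := (Over.forget _).map_isIso (shear H G u)
  haveI h1 : Flat (H ◁ j).left :=
    MorphismProperty.pullbackMap (P := @Flat) (inferInstanceAs (Flat (𝟙 H.left))) hj
      (Category.id_comp _).symm (Over.w j).symm
  haveI h3 : Flat (snd H G).left := inferInstanceAs (Flat (pullback.snd H.hom G.hom))
  change Flat ((H ◁ j).left ≫ (shear H G u).left ≫ (snd H G).left)
  infer_instance

end overS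

end Groth.Agent.Lib.Helper25.GrpOpenImm
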