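import Mathlib
import Groth.Agent.Lib.Helper25.GrpOpenImm1
import Groth.Agent.Lib.Helper13.CompletedLocal

/-!
# A monomorphism of locally algebraic groups that is infinitesimally bijective at the unit is an
open immersion (helper25)

The hypothesis at the unit gives flatness of `O_{G,f(e)} → O_{H,e}` (completed-bijective local
homomorphisms of Noetherian local rings are flat).  Flatness is spread to all of `H` by
translation: with `T = Spec O_{H,e}`, the morphism `ν : H × T → H`, `(a, t) ↦ a t`, is flat, has a
section, and `ν ≫ f = (a, t) ↦ f(a) f(t)` is flat.  Hence `f` is flat; a flat monomorphism locally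
of finite presentation is an open immersion.
-/

set_option autoImplicit false
set_option linter.style.haveILetI false
set_option linter.unusedSectionVars false
universe u
open CategoryTheory CategoryTheory.Limits AlgebraicGeometry TopologicalSpace Opposite
  MonoidalCategory CartesianMonoidalCategory MonObj

namespace Groth.Agent.Lib.Helper25.GrpOpenImm

/-- A local homomorphism of Noetherian local rings which is bijective on all infinitesimal
neighbourhoods is flat. -/
theorem flat_of_infinitesimal {A B : Type u} [CommRing A] [CommRing B] [IsLocalRing A]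
    [IsLocalRing B] [IsNoetherianRing A] [IsNoetherianRing B] (φ : A →+* B) [IsLocalHom φ]
    (h : ∀ n : ℕ,
      Function.Surjective ((Ideal.Quotient.mk (IsLocalRing.maximalIdeal B ^ (n + 1))).comp φ) ∧
      ∀ a : A, φ a ∈ IsLocalRing.maximalIdeal B ^ (n + 1) ↔
        a ∈ IsLocalRing.maximalIdeal A ^ (n + 1)) :
    φ.Flat := by
  letI := φ.toAlgebra
  haveI : IsLocalHom (algebraMap A B) := ‹IsLocalHom φ›
  have hcb : Groth.Agent.Lib.Helper13.CompletedBijective A B := by
    intro k
    cases k with
    | zero =>
      constructor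
      · intro x
        obtain ⟨b, rfl⟩ := Ideal.Quotient.mk_surjective x
        refine ⟨0, ?_⟩
        rw [map_zero]
        symm
        rw [Ideal.Quotient.eq_zero_iff_mem]
        simp
      · ext a
        rw [RingHom.mem_ker, RingHom.comp_apply, Ideal.Quotient.eq_zero_iff_mem]
        simp
    | succ n =>
      refine ⟨(h n).1, ?_⟩
      ext a
      rw [RingHom.mem_ker, RingHom.comp_apply, Ideal.Quotient.eq_zero_iff_mem]
      exact (h n).2 a
  exact Groth.Agent.Lib.Helper13.flat_of_completedBijective hcb

theorem main (k : Type u) [Field k]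
    (H G : Over (Spec (CommRingCat.of k))) [GrpObj H] [GrpObj G]
    [LocallyOfFiniteType H.hom] [LocallyOfFiniteType G.hom] (f : H ⟶ G) [IsMonHom f] [Mono f.left]
    (pt : ↥(𝟙_ (Over (Spec (CommRingCat.of k)))).left)
    (h : ∀ n : ℕ,
      Function.Surjective ((Ideal.Quotient.mk (IsLocalRing.maximalIdeal
          ↑(H.left.presheaf.stalk (η[H].left.base pt)) ^ (n + 1))).comp
        (f.left.stalkMap (η[H].left.base pt)).hom) ∧
      ∀ a : ↑(G.left.presheaf.stalk (f.left.base (η[H].left.base pt))),
        (f.left.stalkMap (η[H].left.base pt)).hom a ∈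
            IsLocalRing.maximalIdeal ↑(H.left.presheaf.stalk (η[H].left.base pt)) ^ (n + 1) ↔
          a ∈ IsLocalRing.maximalIdeal
            ↑(G.left.presheaf.stalk (f.left.base (η[H].left.base pt))) ^ (n + 1)) :
    IsOpenImmersion f.left := by
  have hpt : pt = (IsLocalRing.closedPoint k : PrimeSpectrum k) :=
    @Subsingleton.elim (PrimeSpectrum k) _ _ _
  subst hpt
  haveI : IsLocallyNoetherian H.left := LocallyOfFiniteType.isLocallyNoetherian H.hom
  haveI : IsLocallyNoetherian G.left := LocallyOfFiniteType.isLocallyNoetherian G.hom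
  -- the unit point
  let e : H.left := η[H].left.base (IsLocalRing.closedPoint k : PrimeSpectrum k)
  have hflat_e : (f.left.stalkMap e).hom.Flat := flat_of_infinitesimal _ h
  -- the local scheme at the unit
  let T : Over (Spec (CommRingCat.of k)) := Over.mk (H.left.fromSpecStalk e ≫ H.hom)
  let iT : T ⟶ H := Over.homMk (H.left.fromSpecStalk e) rfl
  have hη : Spec.map (Scheme.stalkClosedPointTo η[H].left) ≫ H.left.fromSpecStalk e = η[H].left :=
    Scheme.Spec_stalkClosedPointTo_fromSpecStalk η[H].left
  let ε : 𝟙_ (Over (Spec (CommRingCat.of k))) ⟶ T :=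
    Over.homMk (Spec.map (Scheme.stalkClosedPointTo η[H].left)) (by
      change _ ≫ (H.left.fromSpecStalk e ≫ H.hom) = _
      rw [← Category.assoc, hη]
      exact Over.w η[H])
  have hεi : ε ≫ iT = η[H] := by
    apply Over.OverMorphism.ext
    exact hη
  -- flatness of `T ⟶ H ⟶ G`
  haveI hiT : Flat iT.left := flat_fromSpecStalk H.left e
  have hiTf : Flat (iT ≫ f).left := by
    change Flat (H.left.fromSpecStalk e ≫ f.left)
    rw [← Scheme.SpecMap_stalkMap_fromSpecStalk]
    haveI : Flat (Spec.map (f.left.stalkMap e)) := Flat.SpecMap_iff.mpr hflat_e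
    haveI := flat_fromSpecStalk G.left (f.left e)
    infer_instance
  -- the translation morphism
  let ν : H ⊗ T ⟶ H := fst H T * (snd H T ≫ iT)
  haveI hν : Flat ν.left := by
    have := flat_mul_left H H (𝟙 H) iT hiT
    rwa [Category.comp_id] at this
  have hνf : ν ≫ f = (fst H T ≫ f) * (snd H T ≫ iT ≫ f) := by
    change (fst H T * (snd H T ≫ iT)) ≫ f = _
    rw [MonObj.mul_comp, Category.assoc]
  haveI hνf' : Flat (ν.left ≫ f.left) := by
    change Flat (ν ≫ f).left
    rw [hνf]
    exact flat_mul_left H G f (iT ≫ f) hiTf
  -- the section of the translation morphism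
  let s : H ⟶ H ⊗ T := lift (𝟙 H) (toUnit H ≫ ε)
  have hsν : s ≫ ν = 𝟙 H := by
    change lift (𝟙 H) (toUnit H ≫ ε) ≫ (fst H T * (snd H T ≫ iT)) = 𝟙 H
    rw [MonObj.comp_mul, lift_fst, ← Category.assoc, lift_snd, Category.assoc, hεi,
      ← Hom.one_def, _root_.mul_one]
  -- flatness of `f`
  haveI hf : Flat f.left := by
    apply Flat.of_stalkMap
    intro x
    have hx : ν.left (s.left x) = x := by
      have := congrArg (fun g : H ⟶ H => g.left x) hsν
      exact this
    have := flat_stalkMap_of_comp ν.left f.left (s.left x)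
      (Flat.stalkMap (ν.left ≫ f.left) (s.left x))
    exact hx ▸ this
  haveI : LocallyOfFiniteType f.left := by
    haveI : LocallyOfFiniteType (f.left ≫ G.hom) := by rw [Over.w f]; infer_instance
    exact locallyOfFiniteType_of_comp f.left G.hom
  haveI : LocallyOfFinitePresentation f.left := inferInstance
  exact IsOpenImmersion.of_flat_of_mono f.left

end Groth.Agent.Lib.Helper25.GrpOpenImm
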