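import Mathlib.CategoryTheory.Monoidal.Cartesian.Grp

set_option autoImplicit false
universe v u
open CategoryTheory MonoidalCategory CartesianMonoidalCategory MonObj GrpObj

namespace Groth.Agent.Lib.Helper25

variable {C : Type u} [Category.{v} C] [CartesianMonoidalCategory C] {G T : C} [GrpObj G]

lemma whiskerRight_mul_eq (ψ : T ⟶ G) :
    ψ ▷ G ≫ μ[G] = (fst T G ≫ ψ) * snd T G := by
  rw [Hom.mul_def]
  congr 1
  ext <;> simp

lemma whiskerLeft_mul_eq (ψ : T ⟶ G) :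
    G ◁ ψ ≫ μ[G] = fst G T * (snd G T ≫ ψ) := by
  rw [Hom.mul_def]
  congr 1
  ext <;> simp

/-- The shear automorphism `(t, g) ↦ (t, ψ(t) g)` of `T ⊗ G`. -/
@[simps]
def shearIso (ψ : T ⟶ G) : T ⊗ G ≅ T ⊗ G where
  hom := lift (fst T G) ((fst T G ≫ ψ) * snd T G)
  inv := lift (fst T G) ((fst T G ≫ ψ)⁻¹ * snd T G)
  hom_inv_id := by
    ext
    · simp
    · simp [MonObj.comp_mul, GrpObj.comp_inv]
  inv_hom_id := by
    ext
    · simp
    · simp [MonObj.comp_mul]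

lemma whiskerRight_mul_eq_shear (ψ : T ⟶ G) :
    ψ ▷ G ≫ μ[G] = (shearIso ψ).hom ≫ snd T G := by
  rw [whiskerRight_mul_eq]
  simp

end Groth.Agent.Lib.Helper25
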