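import Groth.Agent.Lib.Helper25.GrpdAlg
import Groth.Agent.Lib.Helper14.ClosureProd
import Groth.Agent.S2505

/-!
# The closure of the image of a morphism of groupoids over a field is stable under composition
-/

set_option autoImplicit false
universe u
open CategoryTheory CategoryTheory.Limits AlgebraicGeometry

namespace Groth.Agent.Lib.Helper25.GrpdClosure

open Grpd Groth.Agent.Lib.Helper25.GrpdAlg

variable {S : Scheme.{u}} {G₁ G₂ : GroupoidScheme S} (f : GroupoidScheme.Hom G₁ G₂)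

theorem c_mem_closure [IsIso f.fU] [Subsingleton G₂.U] (p : ↑(pullback G₂.s G₂.t))
    (h₁ : pullback.fst G₂.s G₂.t p ∈ closure (Set.range ⇑f.fR))
    (h₂ : pullback.snd G₂.s G₂.t p ∈ closure (Set.range ⇑f.fR)) :
    G₂.c p ∈ closure (Set.range ⇑f.fR) := by
  have hUO : ∀ {T : Scheme.{u}} (t : T ⟶ G₂.U), UniversallyOpen t :=
    fun t => Groth.Agent.S2505.result t
  set A : Set G₂.R := Set.range f.fR with hA
  have sq0 : IsPullback (pullback.fst G₂.s G₂.t) (pullback.snd G₂.s G₂.t) G₂.s G₂.t :=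
    IsPullback.of_hasPullback _ _
  have hcl := Groth.Agent.Lib.Helper14.ClosureProd.closure_prod sq0 hUO A A
  have hz : p ∈ (pullback.fst G₂.s G₂.t).base ⁻¹' closure A ∩
      (pullback.snd G₂.s G₂.t).base ⁻¹' closure A := ⟨h₁, h₂⟩
  rw [← hcl] at hz
  have h1 : G₂.c p ∈ G₂.c ''
      closure ((pullback.fst G₂.s G₂.t).base ⁻¹' A ∩ (pullback.snd G₂.s G₂.t).base ⁻¹' A) :=
    ⟨_, hz, rfl⟩
  have h2 := image_closure_subset_closure_image G₂.c.continuous h1
  refine closure_mono ?_ h2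
  rintro _ ⟨w, hw, rfl⟩
  have hM := Scheme.Pullback.range_map G₁.s G₁.t G₂.s G₂.t f.fR f.fR f.fU
    f.comm_s.symm f.comm_t.symm
  have hw' : w ∈ Set.range (pullback.map G₁.s G₁.t G₂.s G₂.t f.fR f.fR f.fU
    f.comm_s.symm f.comm_t.symm) := by rw [hM]; exact hw
  obtain ⟨v, rfl⟩ := hw'
  have hc : G₁.c ≫ f.fR = pullback.map G₁.s G₁.t G₂.s G₂.t f.fR f.fR f.fU
      f.comm_s.symm f.comm_t.symm ≫ G₂.c := by
    have := f.comm_c (pullback.fst G₁.s G₁.t) (pullback.snd G₁.s G₁.t) pullback.condition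
    have hid : pullback.lift (pullback.fst G₁.s G₁.t) (pullback.snd G₁.s G₁.t)
        pullback.condition = 𝟙 _ := by
      apply pullback.hom_ext <;> simp
    rw [hid, Category.id_comp] at this
    rw [this]
  refine ⟨G₁.c v, ?_⟩
  rw [← Scheme.Hom.comp_apply, hc, Scheme.Hom.comp_apply]

end Groth.Agent.Lib.Helper25.GrpdClosure
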