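import Groth.Agent.Lib.Helper25.GrpdAlg
import Groth.Agent.Lib.Helper25.ImmDescent
import Groth.Agent.Lib.Helper25.ClosedDescent

/-!
# The scheme-theoretic image of a morphism of groupoid schemes over a field-like object scheme
-/

set_option autoImplicit false
universe u
open CategoryTheory CategoryTheory.Limits AlgebraicGeometry

namespace Groth.Agent.Lib.Helper25.GrpdImage

open Grpd Groth.Agent.Lib.Helper25.GrpdAlg

variable {S : Scheme.{u}} {G₁ G₂ : GroupoidScheme S} (f : GroupoidScheme.Hom G₁ G₂)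

/-- The image scheme. -/
noncomputable abbrev Z : Scheme.{u} := f.fR.image
/-- The closed immersion of the image. -/
noncomputable abbrev ι : Z f ⟶ G₂.R := f.fR.imageι
/-- The dominant map to the image. -/
noncomputable abbrev d : G₁.R ⟶ Z f := f.fR.toImage
noncomputable abbrev s' : Z f ⟶ G₂.U := ι f ≫ G₂.s
noncomputable abbrev t' : Z f ⟶ G₂.U := ι f ≫ G₂.t

theorem d_ι : d f ≫ ι f = f.fR := Scheme.Hom.toImage_imageι _

theorem ker_ι : (ι f).ker = f.fR.ker := Scheme.IdealSheafData.ker_subschemeι _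

theorem d_s' : d f ≫ s' f = G₁.s ≫ f.fU := by
  rw [← Category.assoc, d_ι, f.comm_s]

theorem d_t' : d f ≫ t' f = G₁.t ≫ f.fU := by
  rw [← Category.assoc, d_ι, f.comm_t]

section QC

variable [QuasiCompact f.fR]

theorem dominant_d : IsSchemeTheoreticallyDominant (d f) :=
  ImmDescent.isSchemeTheoreticallyDominant_toImage f.fR

theorem hker_i : (ι f).ker ≤ (ι f ≫ G₂.i).ker := by
  have := dominant_d f
  calc (ι f).ker = f.fR.ker := ker_ι f
    _ ≤ (G₁.i ≫ f.fR).ker := Scheme.Hom.le_ker_comp _ _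
    _ = (f.fR ≫ G₂.i).ker := by rw [comm_i]
    _ = (d f ≫ ι f ≫ G₂.i).ker := by rw [← Category.assoc, d_ι]
    _ = (ι f ≫ G₂.i).ker := ClosedDescent.ker_comp_of_dominant (d f) _

/-- inverse on the image -/
noncomputable def i' : Z f ⟶ Z f := IsClosedImmersion.lift (ι f) (ι f ≫ G₂.i) (hker_i f)

theorem i'_ι : i' f ≫ ι f = ι f ≫ G₂.i := IsClosedImmersion.lift_fac _ _ _

end QC

/-- identity on the image -/
noncomputable def e' [IsIso f.fU] : G₂.U ⟶ Z f := inv f.fU ≫ G₁.e ≫ d f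

theorem e'_ι [IsIso f.fU] : e' f ≫ ι f = G₂.e := by
  rw [e', Category.assoc, Category.assoc, d_ι, comm_e, IsIso.inv_hom_id_assoc]

/-- The map `Z ×_U Z → R₂ ×_U R₂`. -/
noncomputable def π : pullback (s' f) (t' f) ⟶ pullback G₂.s G₂.t :=
  pullback.map (s' f) (t' f) G₂.s G₂.t (ι f) (ι f) (𝟙 G₂.U) (by simp) (by simp)

section Flat

variable [QuasiCompact f.fR] [IsIso f.fU] [Subsingleton G₂.U] [IsIntegral G₂.U]

/-- `d × id : R₁ ×_{U₁} R₁ → Z ×_{U₂} R₁`. -/
noncomputable def D₁ : pullback G₁.s G₁.t ⟶ pullback (s' f) (G₁.t ≫ f.fU) :=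
  pullback.map G₁.s G₁.t (s' f) (G₁.t ≫ f.fU) (d f) (𝟙 G₁.R) f.fU (d_s' f).symm (by simp)

/-- `id × d : Z ×_{U₂} R₁ → Z ×_{U₂} Z`. -/
noncomputable def D₂ : pullback (s' f) (G₁.t ≫ f.fU) ⟶ pullback (s' f) (t' f) :=
  pullback.map (s' f) (G₁.t ≫ f.fU) (s' f) (t' f) (𝟙 _) (d f) (𝟙 _) (by simp)
    (by rw [Category.comp_id, d_t'])

theorem isPullback_D₁ :
    IsPullback (pullback.fst G₁.s G₁.t) (D₁ f) (d f) (pullback.fst (s' f) (G₁.t ≫ f.fU)) := by
  have big : IsPullback (pullback.snd G₁.s G₁.t) (pullback.fst G₁.s G₁.t) (G₁.t ≫ f.fU)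
      (G₁.s ≫ f.fU) := by
    have := (IsPullback.of_hasPullback G₁.s G₁.t).flip.paste_horiz
      (IsPullback.of_horiz_isIso_mono (fst := 𝟙 G₁.R) (snd := G₁.t) (f := G₁.t ≫ f.fU)
        (g := f.fU) ⟨by simp⟩)
    simpa using this
  have right : IsPullback (pullback.snd (s' f) (G₁.t ≫ f.fU)) (pullback.fst (s' f) (G₁.t ≫ f.fU))
      (G₁.t ≫ f.fU) (s' f) := (IsPullback.of_hasPullback (s' f) (G₁.t ≫ f.fU)).flip
  have h1 : D₁ f ≫ pullback.snd (s' f) (G₁.t ≫ f.fU) = pullback.snd G₁.s G₁.t := by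
    simp only [D₁, pullback.map, pullback.lift_snd, Category.comp_id]
  have h2 : D₁ f ≫ pullback.fst (s' f) (G₁.t ≫ f.fU) = pullback.fst G₁.s G₁.t ≫ d f := by
    simp only [D₁, pullback.map, pullback.lift_fst]
  refine (IsPullback.of_right ?_ h2 right).flip
  rw [h1, d_s']
  exact big

theorem isPullback_D₂ :
    IsPullback (pullback.snd (s' f) (G₁.t ≫ f.fU)) (D₂ f) (d f) (pullback.snd (s' f) (t' f)) := by
  have right : IsPullback (pullback.fst (s' f) (t' f)) (pullback.snd (s' f) (t' f))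
      (s' f) (t' f) := IsPullback.of_hasPullback _ _
  have h1 : D₂ f ≫ pullback.fst (s' f) (t' f) = pullback.fst (s' f) (G₁.t ≫ f.fU) := by
    simp only [D₂, pullback.map, pullback.lift_fst, Category.comp_id]
  have h2 : D₂ f ≫ pullback.snd (s' f) (t' f) = pullback.snd (s' f) (G₁.t ≫ f.fU) ≫ d f := by
    simp only [D₂, pullback.map, pullback.lift_snd]
  refine (IsPullback.of_right ?_ h2 right).flip
  rw [h1, d_t']
  exact IsPullback.of_hasPullback _ _

theorem dominant_D₁ : IsSchemeTheoreticallyDominant (D₁ f) := by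
  have := dominant_d f
  exact IsSchemeTheoreticallyDominant.of_isPullback (isPullback_D₁ f)

theorem dominant_D₂ : IsSchemeTheoreticallyDominant (D₂ f) := by
  have := dominant_d f
  exact IsSchemeTheoreticallyDominant.of_isPullback (isPullback_D₂ f)

theorem D₁_D₂_π : D₁ f ≫ D₂ f ≫ π f =
    pullback.lift (pullback.fst G₁.s G₁.t ≫ f.fR) (pullback.snd G₁.s G₁.t ≫ f.fR)
      (by rw [Category.assoc, Category.assoc, f.comm_s, f.comm_t, ← Category.assoc,
        ← Category.assoc, pullback.condition]) := by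
  apply pullback.hom_ext
  · simp only [D₁, D₂, π, pullback.map, Category.assoc, pullback.lift_fst, pullback.lift_fst_assoc,
      Category.comp_id]
    rw [d_ι]
  · simp only [D₁, D₂, π, pullback.map, Category.assoc, pullback.lift_snd, pullback.lift_snd_assoc,
      Category.comp_id, Category.id_comp]
    rw [d_ι]

theorem hker_c : (ι f).ker ≤ (π f ≫ G₂.c).ker := by
  have h1 := dominant_D₁ f
  have h2 := dominant_D₂ f
  have hc : G₁.c ≫ f.fR = D₁ f ≫ D₂ f ≫ π f ≫ G₂.c := by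
    have := f.comm_c (pullback.fst G₁.s G₁.t) (pullback.snd G₁.s G₁.t) pullback.condition
    have hid : pullback.lift (pullback.fst G₁.s G₁.t) (pullback.snd G₁.s G₁.t)
        pullback.condition = 𝟙 _ := by
      apply pullback.hom_ext <;> simp
    rw [hid, Category.id_comp] at this
    rw [this, ← D₁_D₂_π f, Category.assoc, Category.assoc]
  calc (ι f).ker = f.fR.ker := ker_ι f
    _ ≤ (G₁.c ≫ f.fR).ker := Scheme.Hom.le_ker_comp _ _
    _ = (D₁ f ≫ D₂ f ≫ π f ≫ G₂.c).ker := by rw [hc]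
    _ = (D₂ f ≫ π f ≫ G₂.c).ker := ClosedDescent.ker_comp_of_dominant _ _
    _ = (π f ≫ G₂.c).ker := ClosedDescent.ker_comp_of_dominant _ _

/-- composition on the image -/
noncomputable def c' : pullback (s' f) (t' f) ⟶ Z f :=
  IsClosedImmersion.lift (ι f) (π f ≫ G₂.c) (hker_c f)

theorem c'_ι : c' f ≫ ι f = π f ≫ G₂.c := IsClosedImmersion.lift_fac _ _ _

variable {T : Scheme.{u}}

theorem key (α β : T ⟶ Z f) (h : α ≫ s' f = β ≫ t' f) :
    (pullback.lift α β h ≫ c' f) ≫ ι f = comp G₂ (α ≫ ι f) (β ≫ ι f)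
      (by simpa only [Category.assoc] using h) := by
  rw [Category.assoc, c'_ι, ← Category.assoc, comp]
  congr 1
  apply pullback.hom_ext
  · simp only [π, pullback.map, Category.assoc, pullback.lift_fst, pullback.lift_fst_assoc]
  · simp only [π, pullback.map, Category.assoc, pullback.lift_snd, pullback.lift_snd_assoc]

theorem ax_comp_s (α β : T ⟶ Z f) (h : α ≫ s' f = β ≫ t' f) :
    (pullback.lift α β h ≫ c' f) ≫ s' f = β ≫ s' f := by
  rw [← Category.assoc, key, comp_s, Category.assoc]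

theorem ax_comp_t (α β : T ⟶ Z f) (h : α ≫ s' f = β ≫ t' f) :
    (pullback.lift α β h ≫ c' f) ≫ t' f = α ≫ t' f := by
  rw [← Category.assoc, key, comp_t, Category.assoc]

theorem ax_assoc (α β γ : T ⟶ Z f) (h₁ : α ≫ s' f = β ≫ t' f) (h₂ : β ≫ s' f = γ ≫ t' f) :
    pullback.lift (pullback.lift α β h₁ ≫ c' f) γ ((ax_comp_s f α β h₁).trans h₂) ≫ c' f =
      pullback.lift α (pullback.lift β γ h₂ ≫ c' f)
        (h₁.trans (ax_comp_t f β γ h₂).symm) ≫ c' f := by
  rw [← cancel_mono (ι f)]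
  have h₁' : (α ≫ ι f) ≫ G₂.s = (β ≫ ι f) ≫ G₂.t := by simpa only [Category.assoc] using h₁
  have h₂' : (β ≫ ι f) ≫ G₂.s = (γ ≫ ι f) ≫ G₂.t := by simpa only [Category.assoc] using h₂
  have e1 := assoc G₂ (α ≫ ι f) (β ≫ ι f) (γ ≫ ι f) h₁' h₂'
  refine (key f _ γ _).trans ?_
  refine Eq.trans ?_ (key f α _ _).symm
  exact (comp_congr G₂ (key f α β h₁) rfl _ _).trans
    (e1.trans (comp_congr G₂ rfl (key f β γ h₂) _ _).symm)

theorem ax_e_s : e' f ≫ s' f = 𝟙 G₂.U := by
  rw [← Category.assoc, e'_ι, G₂.e_s]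

theorem ax_e_t : e' f ≫ t' f = 𝟙 G₂.U := by
  rw [← Category.assoc, e'_ι, G₂.e_t]

theorem ax_comp_e (α : T ⟶ Z f) :
    pullback.lift α (α ≫ s' f ≫ e' f)
      (by rw [Category.assoc, Category.assoc, ax_e_t, Category.comp_id]) ≫ c' f = α := by
  rw [← cancel_mono (ι f), key]
  refine (comp_congr G₂ rfl ?_ _ _).trans (comp_e G₂ (α ≫ ι f))
  simp only [Category.assoc, e'_ι]

theorem ax_e_comp (α : T ⟶ Z f) :
    pullback.lift (α ≫ t' f ≫ e' f) α
      (by rw [Category.assoc, Category.assoc, ax_e_s, Category.comp_id]) ≫ c' f = α := by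
  rw [← cancel_mono (ι f), key]
  refine (comp_congr G₂ ?_ rfl _ _).trans (e_comp G₂ (α ≫ ι f))
  simp only [Category.assoc, e'_ι]

theorem ax_i_s : i' f ≫ s' f = t' f := by
  rw [← Category.assoc, i'_ι, Category.assoc, G₂.i_s]

theorem ax_i_t : i' f ≫ t' f = s' f := by
  rw [← Category.assoc, i'_ι, Category.assoc, G₂.i_t]

theorem ax_comp_i (α : T ⟶ Z f) :
    pullback.lift α (α ≫ i' f) (by rw [Category.assoc, ax_i_t]) ≫ c' f = α ≫ t' f ≫ e' f := by
  rw [← cancel_mono (ι f), key]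
  refine (comp_congr G₂ rfl ?_ _ _).trans ((comp_i G₂ (α ≫ ι f)).trans ?_)
  · simp only [Category.assoc, i'_ι]
  · simp only [Category.assoc, e'_ι]

theorem ax_i_comp (α : T ⟶ Z f) :
    pullback.lift (α ≫ i' f) α (by rw [Category.assoc, ax_i_s]) ≫ c' f = α ≫ s' f ≫ e' f := by
  rw [← cancel_mono (ι f), key]
  refine (comp_congr G₂ ?_ rfl _ _).trans ((i_comp G₂ (α ≫ ι f)).trans ?_)
  · simp only [Category.assoc, i'_ι]
  · simp only [Category.assoc, e'_ι]

/-- The image groupoid. -/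
noncomputable def imageGroupoid : GroupoidScheme S where
  U := G₂.U
  R := Z f
  pU := G₂.pU
  pR := ι f ≫ G₂.pR
  s := s' f
  t := t' f
  e := e' f
  i := i' f
  c := c' f
  s_over := by rw [Category.assoc, G₂.s_over]
  t_over := by rw [Category.assoc, G₂.t_over]
  comp_s := ax_comp_s f
  comp_t := ax_comp_t f
  assoc := ax_assoc f
  e_s := ax_e_s f
  e_t := ax_e_t f
  comp_e := ax_comp_e f
  e_comp := ax_e_comp f
  i_s := ax_i_s f
  i_t := ax_i_t f
  comp_i := ax_comp_i f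
  i_comp := ax_i_comp f

/-- The closed immersion of groupoids `image → G₂`. -/
noncomputable def imageHom : GroupoidScheme.Hom (imageGroupoid f) G₂ where
  fU := 𝟙 G₂.U
  fR := ι f
  fU_over := Category.id_comp _
  comm_s := (Category.comp_id _).symm
  comm_t := (Category.comp_id _).symm
  comm_c := fun α β h => key f α β h

/-- The dominant morphism of groupoids `G₁ → image`. -/
noncomputable def toImageHom : GroupoidScheme.Hom G₁ (imageGroupoid f) where
  fU := f.fU
  fR := d f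
  fU_over := f.fU_over
  comm_s := d_s' f
  comm_t := d_t' f
  comm_c := fun α β h => by
    change (pullback.lift α β h ≫ G₁.c) ≫ d f = pullback.lift (α ≫ d f) (β ≫ d f) _ ≫ c' f
    rw [← cancel_mono (ι f), key, Category.assoc, d_ι]
    refine (f.comm_c α β h).trans ?_
    exact comp_congr G₂ (by rw [Category.assoc, d_ι]) (by rw [Category.assoc, d_ι]) _ _

end Flat

end Groth.Agent.Lib.Helper25.GrpdImage
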