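import Groth.Agent.Lib.Helper25.PolyQC
/-!
# The polynomial algebra is generated in degree one, with degree one part of finite type;
transfer of these properties along degreewise surjective graded homomorphisms
-/
universe u
open CategoryTheory CategoryTheory.Limits AlgebraicGeometry Opposite TopologicalSpace
open RelSpec RelProj

namespace Groth.Agent.Lib.Helper25.PolyRelProj
open Groth.Agent.Lib.Helper3 Groth.Agent.Lib.Helper25.PolyQC

theorem exists_coeff_image {ι R A : Type*} [DecidableEq A] [CommRing R] [CommRing A] (f : R →+* A)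
    (s : Finset ι) (g : ι → A) (a : ι → R) :
    ∃ c : A → R, ∑ i ∈ s, f (a i) * g i = ∑ t ∈ s.image g, f (c t) * t := by
  classical
  refine ⟨fun t => ∑ i ∈ s.filter (fun i => g i = t), a i, ?_⟩
  rw [← Finset.sum_fiberwise_of_maps_to (s := s) (t := s.image g) (g := g)
    (fun i hi => Finset.mem_image_of_mem g hi)]
  refine Finset.sum_congr rfl fun t _ => ?_
  rw [map_sum, Finset.sum_mul]
  refine Finset.sum_congr rfl fun i hi => ?_
  rw [(Finset.mem_filter.mp hi).2]

variable (n : ℕ) (S : Scheme.{u})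

theorem γi_X_mem (U : S.Opens) (hU : IsAffineOpen U) (i : Fin (n + 1)) :
    γi n S U hU (MvPolynomial.X i) ∈ (polGrAlg n S).deg U hU 1 := by
  change γi n S U hU (MvPolynomial.X i) ∈ pdeg n S U hU 1
  rw [mem_pdeg_iff, γh_γi]
  exact MvPolynomial.isHomogeneous_X _ i

theorem γi_C_mem (U : S.Opens) (hU : IsAffineOpen U) (r : Γ(S, U)) :
    γi n S U hU (MvPolynomial.C r) ∈ (polGrAlg n S).deg U hU 0 := by
  change γi n S U hU (MvPolynomial.C r) ∈ pdeg n S U hU 0
  rw [mem_pdeg_iff, γh_γi]
  exact MvPolynomial.isHomogeneous_C _ r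

theorem isGenDegOne : (polGrAlg n S).IsGenDegOne := by
  intro U hU
  rw [eq_top_iff]
  intro x _
  rw [← γi_γh n S U hU x]
  induction γh n S U hU x using MvPolynomial.induction_on with
  | C r => exact Subring.subset_closure (Or.inl (γi_C_mem n S U hU r))
  | add p q hp hq => rw [map_add]; exact add_mem hp hq
  | mul_X p i hp =>
    rw [map_mul]
    exact mul_mem hp (Subring.subset_closure (Or.inr (γi_X_mem n S U hU i)))

theorem isFTDeg_one : (polGrAlg n S).IsFTDeg 1 := by
  classical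
  intro U hU
  refine ⟨Finset.univ.image (fun i => γi n S U hU (MvPolynomial.X i)), ?_, ?_⟩
  · intro t ht
    obtain ⟨i, -, rfl⟩ := Finset.mem_image.mp ht
    exact γi_X_mem n S U hU i
  · intro x hx
    have hx' : (γh n S U hU x).IsHomogeneous 1 := (mem_pdeg_iff n S U hU 1 x).mp hx
    have hmem : γh n S U hU x ∈ Submodule.span Γ(S, U)
        (Set.range (MvPolynomial.X : Fin (n + 1) → MvPolynomial (Fin (n + 1)) Γ(S, U))) := by
      rw [← MvPolynomial.homogeneousSubmodule_one_eq_span_X]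
      exact (MvPolynomial.mem_homogeneousSubmodule _ _).mpr hx'
    obtain ⟨a, ha⟩ := (Submodule.mem_span_range_iff_exists_fun _).mp hmem
    obtain ⟨c, hc⟩ := exists_coeff_image ((polGrAlg n S).str.app (op U)).hom Finset.univ
      (fun i => γi n S U hU (MvPolynomial.X i)) a
    refine ⟨c, ?_⟩
    rw [← hc, ← γi_γh n S U hU x, ← ha, map_sum]
    refine Finset.sum_congr rfl fun i _ => ?_
    rw [MvPolynomial.smul_eq_C_mul, map_mul, γi_C]
    rfl

section transfer
variable {S : Scheme.{u}} {𝒜 ℬ : QCGrAlg S} (φ : 𝒜.toQCAlg ⟶ ℬ.toQCAlg) (hφ : IsGradedHom φ)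

theorem hom_str (U : S.Opens) (r : Γ(S, U)) :
    (φ.hom.app (op U)).hom ((𝒜.str.app (op U)).hom r) = (ℬ.str.app (op U)).hom r := by
  have h := φ.comm
  exact congrArg (fun k => (k.app (op U)).hom r) h

include hφ in
theorem isGenDegOne_of_surj
    (hsurj' : ∀ (U : S.Opens), IsAffineOpen U → Function.Surjective (φ.hom.app (op U)).hom)
    (h : 𝒜.IsGenDegOne) : ℬ.IsGenDegOne := by
  intro U hU
  rw [eq_top_iff]
  rintro b -
  obtain ⟨a, rfl⟩ := hsurj' U hU b
  have ha : a ∈ Subring.closure ((𝒜.deg U hU 0 : Set (𝒜.presheaf.obj (op U))) ∪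
      (𝒜.deg U hU 1 : Set _)) := by
    rw [h U hU]; trivial
  induction ha using Subring.closure_induction with
  | mem x hx =>
    rcases hx with hx | hx
    · exact Subring.subset_closure (Or.inl (hφ U hU 0 x hx))
    · exact Subring.subset_closure (Or.inr (hφ U hU 1 x hx))
  | zero => rw [map_zero]; exact zero_mem _
  | one => rw [map_one]; exact one_mem _
  | add x y _ _ hx hy => rw [map_add]; exact add_mem hx hy
  | neg x _ hx => rw [map_neg]; exact neg_mem hx
  | mul x y _ _ hx hy => rw [map_mul]; exact mul_mem hx hy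

include hφ in
theorem isFTDeg_of_surj (d : ℕ)
    (hsurj : ∀ (U : S.Opens) (hU : IsAffineOpen U) (b : ℬ.presheaf.obj (op U)),
      b ∈ ℬ.deg U hU d → ∃ a ∈ 𝒜.deg U hU d, (φ.hom.app (op U)).hom a = b)
    (h : 𝒜.IsFTDeg d) : ℬ.IsFTDeg d := by
  classical
  intro U hU
  obtain ⟨T, hT, hgen⟩ := h U hU
  refine ⟨T.image (φ.hom.app (op U)).hom, ?_, ?_⟩
  · intro t ht
    obtain ⟨s, hs, rfl⟩ := Finset.mem_image.mp (Finset.mem_coe.mp ht)
    exact hφ U hU d s (hT (Finset.mem_coe.mpr hs))
  · intro b hb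
    obtain ⟨a, ha, rfl⟩ := hsurj U hU b hb
    obtain ⟨c, hc⟩ := hgen a ha
    obtain ⟨c', hc'⟩ := exists_coeff_image (ℬ.str.app (op U)).hom T (φ.hom.app (op U)).hom c
    refine ⟨c', ?_⟩
    rw [← hc']
    conv_lhs => rw [hc]
    rw [map_sum]
    refine Finset.sum_congr rfl fun t _ => ?_
    rw [map_mul, hom_str]

end transfer

end Groth.Agent.Lib.Helper25.PolyRelProj
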