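import Groth.Agent.Lib.Helper25.QuotAlg
import Groth.Agent.Lib.Helper3.QProj4
import Groth.Agent.Lib.Helper3.RelProjBC
import Groth.Agent.Lib.Helper3.ProjAux2
/-!
# A closed subscheme of a (quasi-compact) relative Proj is the relative Proj of a graded quotient
-/
universe u
open CategoryTheory CategoryTheory.Limits AlgebraicGeometry Opposite TopologicalSpace
open HomogeneousLocalization
open RelSpec
open scoped HomogeneousIdeal

namespace Groth.Agent.Lib.Helper25.RelProjClosed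
open Groth.Agent.Lib.Helper25.ProjClosedAlg Groth.Agent.Lib.Helper25.IdealAt RelProj
open Groth.Agent.Lib.Helper25.RelProjIdeal Groth.Agent.Lib.Helper25.QuotAlg
open Groth.Agent.Lib.Helper3 Groth.Agent.Lib.Helper3.QProj

section general
variable {S : Scheme.{u}} {𝒜 ℬ : QCGrAlg S} (φ : 𝒜.toQCAlg ⟶ ℬ.toQCAlg) (hφ : IsGradedHom φ)

theorem gradedAt_eq (U : S.Opens) (hU : IsAffineOpen U) :
    (QGrHom.ofHom φ hφ).gradedAt U hU U hU (le_id_preimage U) = gradedHomAt φ hφ U hU :=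
  GradedRingHom.ext fun x => gradedAt_ofHom_apply φ hφ U hU _ x

variable (hsurj : ∀ (U : S.Opens) (hU : IsAffineOpen U) (d : ℕ) (b : ℬ.presheaf.obj (op U)),
    b ∈ ℬ.deg U hU d → ∃ a ∈ 𝒜.deg U hU d, (φ.hom.app (op U)).hom a = b)

include hsurj in
theorem irrelevant_le (U : S.Opens) (hU : IsAffineOpen U) :
    (ℬ.deg U hU)₊.toIdeal ≤ ((𝒜.deg U hU)₊).toIdeal.map (gradedHomAt φ hφ U hU) := by
  refine (HomogeneousIdeal.toIdeal_irrelevant_le _).mpr fun d hd b hb => ?_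
  obtain ⟨a, ha, rfl⟩ := hsurj U hU d b hb
  exact Ideal.mem_map_of_mem _ (HomogeneousIdeal.mem_irrelevant_of_mem _ hd ha)

variable {PB : Scheme.{u}} {pB : PB ⟶ S}
  {chartB : ∀ (U : S.Opens) (hU : IsAffineOpen U), (((pB ⁻¹ᵁ U : PB.Opens) : Scheme.{u}) ≅ Proj (ℬ.deg U hU))}

include hsurj in
theorem domQ_eq_top : domQ (QGrHom.ofHom φ hφ) pB chartB = ⊤ := by
  rw [eq_top_iff]
  rintro x -
  obtain ⟨_, ⟨U, hU, rfl⟩, hxU, -⟩ := S.isBasis_affineOpens.exists_subset_of_mem_open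
    (Set.mem_univ (pB.base x)) isOpen_univ
  have hx : x ∈ Set.range (emb pB chartB U hU).base := by rw [Idx.range_emb]; exact hxU
  obtain ⟨q, rfl⟩ := hx
  refine Opens.mem_iSup.mpr ⟨⟨(⟨U, hU⟩, ⟨U, hU⟩), le_id_preimage U⟩, ⟨q, ?_, rfl⟩⟩
  refine mem_domOpen_of_irrelevant_le _ _ rfl ?_ q
  change (ℬ.deg U hU)₊.toIdeal ≤
    ((𝒜.deg U hU)₊).toIdeal.map ((QGrHom.ofHom φ hφ).gradedAt U hU U hU (le_id_preimage U))
  rw [gradedAt_eq]
  exact irrelevant_le φ hφ hsurj U hU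

variable {P : Scheme.{u}} {p : P ⟶ S}
  {chart : ∀ (U : S.Opens) (hU : IsAffineOpen U), (((p ⁻¹ᵁ U : P.Opens) : Scheme.{u}) ≅ Proj (𝒜.deg U hU))}
  (hP : IsRelProj 𝒜 p chart) (hB : IsRelProj ℬ pB chartB)

include hsurj hP hB in
theorem exists_isProjQMap : ∃ h : PB ⟶ P, IsProjQMap (QGrHom.ofHom φ hφ) p chart pB chartB h := by
  have htop := domQ_eq_top φ hφ hsurj (pB := pB) (chartB := chartB)
  obtain ⟨v, hv, -⟩ := existsUnique_isProjQMapOn_domQ (u := QGrHom.ofHom φ hφ) hP hB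
  have hiso : IsIso (domQ (QGrHom.ofHom φ hφ) pB chartB).ι := by
    rw [htop]; exact PB.topIso.isIso_hom
  refine ⟨inv (domQ (QGrHom.ofHom φ hφ) pB chartB).ι ≫ v, htop, fun U hU U' hU' hle d hd f hf => ?_⟩
  have hW := range_awayEmb_subset_domQ (QGrHom.ofHom φ hφ) pB chartB U hU U' hU' hle hd f hf
  rw [← hv U hU U' hU' hle d hd f hf hW, ← Category.assoc]
  congr 1
  rw [IsIso.comp_inv_eq, IsOpenImmersion.lift_fac]

end general

section main
variable {S P Z : Scheme.{u}} {𝒜 : QCGrAlg S} {p : P ⟶ S}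
  {chart : ∀ (U : S.Opens) (hU : IsAffineOpen U), (((p ⁻¹ᵁ U : P.Opens) : Scheme.{u}) ≅ Proj (𝒜.deg U hU))}
  (hP : IsRelProj 𝒜 p chart) [QuasiCompact p] (i : Z ⟶ P) [IsClosedImmersion i]

theorem quot_hsurj (ℐ : P.IdealSheafData) :
    ∀ (U : S.Opens) (hU : IsAffineOpen U) (d : ℕ) (b : (quotGrAlg hP ℐ).presheaf.obj (op U)),
      b ∈ (quotGrAlg hP ℐ).deg U hU d →
        ∃ a ∈ 𝒜.deg U hU d, ((quotGrHom hP ℐ).hom.app (op U)).hom a = b :=
  fun U hU d b hb => (mem_quotGrAlg_deg hP ℐ U hU d b).mp hb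

variable {PB : Scheme.{u}} {pB : PB ⟶ S} (ℐ : P.IdealSheafData)
  {chartB : ∀ (U : S.Opens) (hU : IsAffineOpen U),
    (((pB ⁻¹ᵁ U : PB.Opens) : Scheme.{u}) ≅ Proj ((quotGrAlg hP ℐ).deg U hU))}
  (hB : IsRelProj (quotGrAlg hP ℐ) pB chartB)
  {h : PB ⟶ P}
  (hh : IsProjQMap (QGrHom.ofHom (quotGrHom hP ℐ) (isGradedHom_quotGrHom hP ℐ)) p chart pB chartB h)

include hB hh in
theorem isClosedImmersion_h : IsClosedImmersion h := by
  refine of_forall_awayMap (𝒜 := 𝒜) (ℬ := quotGrAlg hP ℐ) (quotGrHom hP ℐ) (isGradedHom_quotGrHom hP ℐ)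
    hP hB @IsClosedImmersion hh fun U hU d _ f hf => ?_
  apply IsClosedImmersion.spec_of_surjective
  rw [gradedAt_eq]
  exact ProjAux.awayMap_surjective _ _ _ (gradedHomAt_quotGrHom_surjective hP ℐ U hU) f hf

include hB hh in
theorem ker_h : h.ker = ℐ := by
  haveI : IsClosedImmersion h := isClosedImmersion_h hP ℐ hB hh
  refine ext_of_atσ (fun c : ChartIdx 𝒜 => Proj.awayι (𝒜.deg c.U c.hU) c.f c.hf c.hd ≫ emb p chart c.U c.hU)
    (fun x => ?_) fun c => ?_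
  · obtain ⟨c, z, hz⟩ := (chartCover p chart).exists_eq x
    exact ⟨c, z, hz⟩
  · obtain ⟨T, hT⟩ := exists_covers_U hP c.U c.hU
    have h1 := atσ_ker_eq (Proj.awayι (𝒜.deg c.U c.hU) c.f c.hf c.hd ≫ emb p chart c.U c.hU) h
      (awayEmb (QGrHom.ofHom (quotGrHom hP ℐ) (isGradedHom_quotGrHom hP ℐ)) pB chartB c.U c.hU c.U c.hU
        (le_id_preimage c.U) c.hd c.f c.hf)
      (CommRingCat.ofHom (Away.map ((QGrHom.ofHom (quotGrHom hP ℐ) (isGradedHom_quotGrHom hP ℐ)).gradedAt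
        c.U c.hU c.U c.hU (le_id_preimage c.U)) c.f))
      (hh.2 c.U c.hU c.U c.hU (le_id_preimage c.U) c.d c.hd c.f c.hf)
      (preimage_opensRange_eq (quotGrHom hP ℐ) (isGradedHom_quotGrHom hP ℐ) hP hB hh c.U c.hU c.d c.hd c.f
        c.hf)
    rw [h1]
    change RingHom.ker (Away.map ((QGrHom.ofHom (quotGrHom hP ℐ) (isGradedHom_quotGrHom hP ℐ)).gradedAt
        c.U c.hU c.U c.hU (le_id_preimage c.U)) c.f) = JU p chart ℐ c.U c.hU ⟨c.d, c.hd, c.f, c.hf⟩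
    rw [gradedAt_eq]
    exact ker_awayMap_eq (JU p chart ℐ c.U c.hU) (JU_compat p chart ℐ c.U c.hU) hT _
      (ker_gradedHomAt_quotGrHom hP ℐ c.U c.hU) ⟨c.d, c.hd, c.f, c.hf⟩

end main

/-- **A closed subscheme of a quasi-compact relative Proj is the relative Proj of a graded quotient.** -/
theorem exists_gradedQuotient {S P Z : Scheme.{u}} (𝒜 : QCGrAlg S) (p : P ⟶ S)
    (chart : ∀ (U : S.Opens) (hU : IsAffineOpen U), (((p ⁻¹ᵁ U : P.Opens) : Scheme.{u}) ≅ Proj (𝒜.deg U hU)))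
    (hP : IsRelProj 𝒜 p chart) [QuasiCompact p] (i : Z ⟶ P) [IsClosedImmersion i] :
    ∃ (ℬ : QCGrAlg S) (φ : 𝒜.toQCAlg ⟶ ℬ.toQCAlg) (hφ : IsGradedHom φ) (PB : Scheme.{u})
      (pB : PB ⟶ S) (chartB : ∀ (U : S.Opens) (hU : IsAffineOpen U),
        (((pB ⁻¹ᵁ U : PB.Opens) : Scheme.{u}) ≅ Proj (ℬ.deg U hU)))
      (h : PB ⟶ P) (e : PB ≅ Z),
      (∀ (U : S.Opens) (hU : IsAffineOpen U) (d : ℕ) (b : ℬ.presheaf.obj (op U)),
        b ∈ ℬ.deg U hU d → ∃ a ∈ 𝒜.deg U hU d, (φ.hom.app (op U)).hom a = b) ∧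
      (∀ (U : S.Opens), IsAffineOpen U → Function.Surjective (φ.hom.app (op U)).hom) ∧
        IsRelProj ℬ pB chartB ∧ IsProjQMap (QGrHom.ofHom φ hφ) p chart pB chartB h ∧
        e.hom ≫ i = h := by
  have hB := RelProjExist.isRelProj (quotGrAlg hP i.ker)
  obtain ⟨h, hh⟩ := exists_isProjQMap (quotGrHom hP i.ker) (isGradedHom_quotGrHom hP i.ker)
    (quot_hsurj hP i.ker) hP hB
  haveI : IsClosedImmersion h := isClosedImmersion_h hP i.ker hB hh
  have hker : i.ker = h.ker := (ker_h hP i.ker hB hh).symm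
  haveI := IsClosedImmersion.isIso_lift i h hker
  exact ⟨quotGrAlg hP i.ker, quotGrHom hP i.ker, isGradedHom_quotGrHom hP i.ker, _, _, _, h,
    asIso (IsClosedImmersion.lift i h hker.le), quot_hsurj hP i.ker, quotGrHom_surjective hP i.ker, hB, hh,
    IsClosedImmersion.lift_fac i h hker.le⟩

end Groth.Agent.Lib.Helper25.RelProjClosed
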