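import Groth.Agent.Lib.Helper25.PolyRelProj3
import Groth.Agent.Lib.Helper25.PolyRelProj4
import Groth.Agent.Lib.Helper25.RelProjClosed
/-!
# H-projective morphisms are projective
-/
universe u
open CategoryTheory CategoryTheory.Limits AlgebraicGeometry Opposite TopologicalSpace
open RelSpec RelProj

namespace Groth.Agent.Lib.Helper25.PolyRelProj
open Groth.Agent.Lib.Helper3 Groth.Agent.Lib.Helper25.PolyQC

/-- A closed subscheme of a quasi-compact relative Proj of a graded algebra generated in degree one with degree one part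
of finite type is projective over the base. -/
theorem isProjective_of_isClosedImmersion {S P X : Scheme.{u}} (𝒜 : QCGrAlg S) (p : P ⟶ S)
    (chart : ∀ (U : S.Opens) (hU : IsAffineOpen U), (((p ⁻¹ᵁ U : P.Opens) : Scheme.{u}) ≅ Proj (𝒜.deg U hU)))
    (hP : IsRelProj 𝒜 p chart) [QuasiCompact p] (h1 : 𝒜.IsGenDegOne) (h2 : 𝒜.IsFTDeg 1)
    (i : X ⟶ P) [IsClosedImmersion i] : RelProj.IsProjective (i ≫ p) := by
  obtain ⟨ℬ, φ, hφ, PB, pB, chartB, h, e, hs, hs', hB, hh, he⟩ :=
    RelProjClosed.exists_gradedQuotient 𝒜 p chart hP i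
  refine ⟨ℬ, PB, pB, chartB, e.symm, isGenDegOne_of_surj φ hφ hs' h1,
    isFTDeg_of_surj φ hφ 1 (fun U hU b hb => hs U hU 1 b hb) h2, hB, ?_⟩
  have hc := QProj.comp_eq_of_isProjQMap hP hB hh
  rw [Category.comp_id] at hc
  rw [Iso.symm_hom, Iso.inv_comp_eq, ← hc, ← he, Category.assoc]

/-- **H-projective morphisms are projective.** -/
theorem isProjective_of_isHProjective {X S : Scheme.{u}} (f : X ⟶ S) (hf : RelProj.IsHProjective f) :
    RelProj.IsProjective f := by
  obtain ⟨n, i, hi, rfl⟩ := hf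
  exact isProjective_of_isClosedImmersion (polGrAlg n S) (CohB1.ProjSpaceOver.toBase n S) (chart n S)
    (isRelProj n S) (isGenDegOne n S) (isFTDeg_one n S) i

end Groth.Agent.Lib.Helper25.PolyRelProj
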