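import Mathlib.RingTheory.Regular.RegularSequence
import Mathlib.RingTheory.Ideal.MinimalPrime.Localization
import Mathlib.RingTheory.Localization.AtPrime.Basic
import Mathlib.Tactic.LinearCombination
import Mathlib.Tactic.Ring

namespace Groth.Agent.Lib.Helper25.Hartogs

open Pointwise

/-- A regular sequence of length two, in elementary terms. -/
def Reg2 {B : Type*} [CommRing B] (x y : B) : Prop :=
  IsSMulRegular B x ∧ ∀ c d : B, y * c = x * d → ∃ e, c = x * e

variable {B : Type*} [CommRing B]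

theorem reg2_of_isWeaklyRegular {a b : B} (h : RingTheory.Sequence.IsWeaklyRegular B [a, b]) :
    Reg2 a b := by
  rw [RingTheory.Sequence.isWeaklyRegular_cons_iff,
    RingTheory.Sequence.isWeaklyRegular_singleton_iff] at h
  refine ⟨h.1, fun c d hcd => ?_⟩
  have h2 := (isSMulRegular_quotient_iff_mem_of_smul_mem (a • (⊤ : Submodule B B)) b).1 h.2 c
  have : b • c ∈ a • (⊤ : Submodule B B) := by
    rw [smul_eq_mul, hcd]
    exact Submodule.smul_mem_pointwise_smul d a ⊤ Submodule.mem_top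
  obtain ⟨e, -, he⟩ := (Submodule.mem_smul_pointwise_iff_exists _ _ _).1 (h2 this)
  exact ⟨e, by rw [← he, smul_eq_mul]⟩

theorem Reg2.pow_left {x y : B} (h : Reg2 x y) (n : ℕ) (hn : 0 < n) : Reg2 (x ^ n) y := by
  refine ⟨h.1.pow n, ?_⟩
  induction n with
  | zero => exact absurd hn (lt_irrefl _)
  | succ n ih =>
    intro c d hcd
    rcases Nat.eq_zero_or_pos n with rfl | hn'
    · simpa using h.2 c d (by simpa using hcd)
    · obtain ⟨e, rfl⟩ := h.2 c (x ^ n * d) (by rw [hcd]; ring)
      have h1 : y * e = x ^ n * d := by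
        apply h.1
        change x • (y * e) = x • (x ^ n * d)
        rw [smul_eq_mul, smul_eq_mul]
        linear_combination hcd
      obtain ⟨e', rfl⟩ := ih hn' e d h1
      exact ⟨e', by ring⟩

theorem Reg2.pow_right {x y : B} (h : Reg2 x y) (m : ℕ) : Reg2 x (y ^ m) := by
  refine ⟨h.1, ?_⟩
  induction m with
  | zero => intro c d hcd; exact ⟨d, by simpa using hcd⟩
  | succ m ih =>
    intro c d hcd
    obtain ⟨e, he⟩ := h.2 (y ^ m * c) d (by rw [← hcd]; ring)
    exact ih c e he

theorem Reg2.mul_unit {x y : B} (h : Reg2 x y) {u v : B} (hu : IsUnit u) (hv : IsUnit v) :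
    Reg2 (u * x) (v * y) := by
  obtain ⟨u, rfl⟩ := hu
  obtain ⟨v, rfl⟩ := hv
  refine ⟨?_, ?_⟩
  · intro c d hcd
    apply h.1
    change x • c = x • d
    have : (u : B) • (x • c) = (u : B) • (x • d) := by
      simpa [smul_eq_mul, mul_assoc] using hcd
    exact u.isUnit.isSMulRegular B this
  · intro c d hcd
    obtain ⟨e, he⟩ := h.2 c (↑v⁻¹ * ↑u * d) (by
      have : (v : B) * (y * c) = v * (x * (↑v⁻¹ * ↑u * d)) := by
        calc (v : B) * (y * c) = ↑v * y * c := by ring
          _ = ↑u * x * d := hcd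
          _ = (↑v * ↑v⁻¹) * (x * (↑u * d)) := by rw [Units.mul_inv]; ring
          _ = v * (x * (↑v⁻¹ * ↑u * d)) := by ring
      exact v.isUnit.isSMulRegular B this)
    refine ⟨↑u⁻¹ * e, ?_⟩
    rw [he]
    calc x * e = (↑u * ↑u⁻¹) * (x * e) := by rw [Units.mul_inv, one_mul]
      _ = ↑u * x * (↑u⁻¹ * e) := by ring

/-- If `p` is a minimal prime over `D` and the maximal ideal of `A_p` contains a regular sequence
of length two, then `D` contains two elements whose images form a regular sequence of length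
two in `A_p`. -/
theorem exists_reg2_of_mem_minimalPrimes {A : Type*} [CommRing A] (D p : Ideal A)
    (hp : p ∈ D.minimalPrimes) [hpp : p.IsPrime] [Algebra A B] [IsLocalization.AtPrime B p]
    {a b : B} (ha : a ∈ Ideal.map (algebraMap A B) p) (hb : b ∈ Ideal.map (algebraMap A B) p)
    (hab : Reg2 a b) :
    ∃ α ∈ D, ∃ β ∈ D, Reg2 (algebraMap A B α) (algebraMap A B β) := by
  have hrad := IsLocalization.AtPrime.radical_map_of_mem_minimalPrimes (A := B) p D hp
  have key : ∀ x ∈ Ideal.map (algebraMap A B) p, ∃ n, 0 < n ∧ ∃ δ ∈ D, ∃ u : B, IsUnit u ∧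
      algebraMap A B δ = u * x ^ n := by
    intro x hx
    rw [← hrad] at hx
    obtain ⟨n, hn⟩ := hx
    have hn' : x ^ (n + 1) ∈ Ideal.map (algebraMap A B) D := by
      rw [pow_succ]; exact Ideal.mul_mem_right _ _ hn
    rw [IsLocalization.mem_map_algebraMap_iff p.primeCompl] at hn'
    obtain ⟨⟨δ, s⟩, hδ⟩ := hn'
    refine ⟨n + 1, Nat.succ_pos n, δ.1, δ.2, algebraMap A B s.1,
      IsLocalization.map_units B s, ?_⟩
    rw [← hδ, mul_comm]
  obtain ⟨n, hn, α, hα, u, hu, hαu⟩ := key a ha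
  obtain ⟨m, -, β, hβ, v, hv, hβv⟩ := key b hb
  refine ⟨α, hα, β, hβ, ?_⟩
  rw [hαu, hβv]
  exact ((hab.pow_left n hn).pow_right m).mul_unit hu hv

end Groth.Agent.Lib.Helper25.Hartogs
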