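import Mathlib.RingTheory.Ideal.MinimalPrime.Localization
import Mathlib.RingTheory.Localization.AtPrime.Basic
import Mathlib.RingTheory.Regular.IsSMulRegular

namespace Groth.Agent.Lib.Helper25.SchDense

/-- For a nonzero element `t` of a commutative ring there is a prime `p` such that `t` stays
nonzero in the localization at `p` and every element of the maximal ideal of that localization is
a zero divisor (`p` is a minimal prime over the annihilator of `t`). -/
theorem exists_prime_forall_not_isSMulRegular {A : Type*} [CommRing A] (t : A) (ht : t ≠ 0) :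
    ∃ (p : Ideal A) (_ : p.IsPrime), ∀ (B : Type*) [CommRing B] [Algebra A B]
      [IsLocalization.AtPrime B p], algebraMap A B t ≠ 0 ∧
        ∀ a ∈ (IsLocalization.AtPrime.isLocalRing B p).maximalIdeal, ¬ IsSMulRegular B a := by
  classical
  set J : Ideal A := LinearMap.ker (LinearMap.toSpanSingleton A A t) with hJ
  have hmemJ : ∀ a, a ∈ J ↔ a * t = 0 := fun a => by
    rw [hJ, LinearMap.mem_ker, LinearMap.toSpanSingleton_apply, smul_eq_mul]
  have hJtop : J ≠ ⊤ := by
    intro h
    have : (1 : A) ∈ J := h ▸ Submodule.mem_top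
    rw [hmemJ, one_mul] at this
    exact ht this
  obtain ⟨⟨p, hp⟩⟩ := Ideal.nonempty_minimalPrimes hJtop
  have hpp : p.IsPrime := hp.1.1
  refine ⟨p, hpp, ?_⟩
  intro B _ _ _
  have hloc : IsLocalRing B := IsLocalization.AtPrime.isLocalRing B p
  have ht' : algebraMap A B t ≠ 0 := by
    intro h0
    rw [IsLocalization.map_eq_zero_iff p.primeCompl] at h0
    obtain ⟨s, hs⟩ := h0
    exact s.2 (hp.1.2 ((hmemJ _).2 hs))
  refine ⟨ht', ?_⟩
  intro a ha hreg
  set M : Submodule B B := Submodule.span B {algebraMap A B t} with hM
  have hregM : IsSMulRegular M a := by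
    intro x y hxy
    apply Subtype.ext
    apply hreg
    simpa using congrArg Subtype.val hxy
  have hmin : IsLocalRing.maximalIdeal B ∈ (Module.annihilator B M).minimalPrimes := by
    have hne : Module.annihilator B M ≠ ⊤ := by
      intro h
      have h1 : (1 : B) ∈ Module.annihilator B M := h ▸ Submodule.mem_top
      rw [Module.mem_annihilator] at h1
      have := h1 ⟨algebraMap A B t, Submodule.subset_span rfl⟩
      rw [one_smul] at this
      exact ht' (congrArg Subtype.val this)
    refine ⟨⟨inferInstance, IsLocalRing.le_maximalIdeal hne⟩, ?_⟩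
    rintro q' ⟨hq', hJq'⟩ -
    have hqp : q'.comap (algebraMap A B) ≤ p := by
      rw [← IsLocalization.AtPrime.under_maximalIdeal B p]
      exact Ideal.comap_mono (IsLocalRing.le_maximalIdeal hq'.ne_top)
    have hJq : J ≤ q'.comap (algebraMap A B) := by
      intro j hj
      rw [Ideal.mem_comap]
      apply hJq'
      rw [Module.mem_annihilator]
      rintro ⟨m, hm⟩
      apply Subtype.ext
      change algebraMap A B j • m = 0
      rw [hM, Submodule.mem_span_singleton] at hm
      obtain ⟨c, rfl⟩ := hm
      rw [smul_eq_mul, smul_eq_mul, mul_left_comm, ← map_mul, (hmemJ j).1 hj, map_zero, mul_zero]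
    have hpq : p ≤ q'.comap (algebraMap A B) := hp.2 ⟨inferInstance, hJq⟩ hqp
    rw [← IsLocalization.AtPrime.map_eq_maximalIdeal p B, Ideal.map_le_iff_le_comap]
    exact hpq
  exact hregM.notMem_of_mem_minimalPrimes hmin ha

end Groth.Agent.Lib.Helper25.SchDense
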