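import Mathlib.AlgebraicGeometry.Morphisms.Separated
import Mathlib.AlgebraicGeometry.Morphisms.ClosedImmersion
import Mathlib.AlgebraicGeometry.AffineScheme
import Groth.Agent.Lib.Helper25.SchDenseRing

/-! # Scheme-theoretic density of opens whose complement has positive depth -/

universe u

open CategoryTheory CategoryTheory.Limits AlgebraicGeometry TopologicalSpace

namespace Groth.Agent.Lib.Helper25.SchDense

variable {X : Scheme.{u}}

/-- If every point outside the open `U` has a nonzerodivisor in the maximal ideal of its local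
ring, then a section over an affine open `V` that vanishes on every point of `V ∩ U`
(germ-wise) is zero. -/
theorem eq_zero_of_germ_eq_zero (U : X.Opens)
    (hZ : ∀ z : X, z ∉ U → ∃ a ∈ IsLocalRing.maximalIdeal (X.presheaf.stalk z),
      IsSMulRegular (X.presheaf.stalk z) a)
    {V : X.Opens} (hV : IsAffineOpen V) (t : Γ(X, V))
    (ht : ∀ (z : X) (hzV : z ∈ V), z ∈ U → X.presheaf.germ V z hzV t = 0) : t = 0 := by
  by_contra hne
  obtain ⟨p, hp, H⟩ := exists_prime_forall_not_isSMulRegular t hne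
  set y : PrimeSpectrum Γ(X, V) := ⟨p, hp⟩ with hy
  have hyV : hV.fromSpec y ∈ V := by
    have := hV.range_fromSpec
    have h2 : hV.fromSpec y ∈ Set.range hV.fromSpec := ⟨y, rfl⟩
    rw [this] at h2
    exact h2
  let _ := TopCat.Presheaf.algebra_section_stalk X.presheaf ⟨hV.fromSpec y, hyV⟩
  have hloc : IsLocalization.AtPrime (X.presheaf.stalk (hV.fromSpec y)) p :=
    hV.isLocalization_stalk' y hyV
  obtain ⟨h1, h2⟩ := H (X.presheaf.stalk (hV.fromSpec y))
  by_cases hzU : hV.fromSpec y ∈ U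
  · exact h1 (ht _ hyV hzU)
  · obtain ⟨a, ha, hreg⟩ := hZ _ hzU
    exact h2 a ha hreg

/-- Under the hypothesis of `eq_zero_of_germ_eq_zero`, a closed subscheme through which `U`
factors is everything. -/
theorem isIso_of_isClosedImmersion_of_fac (U : X.Opens)
    (hZ : ∀ z : X, z ∉ U → ∃ a ∈ IsLocalRing.maximalIdeal (X.presheaf.stalk z),
      IsSMulRegular (X.presheaf.stalk z) a)
    {E : Scheme.{u}} (i : E ⟶ X) [IsClosedImmersion i] (j : (U : Scheme.{u}) ⟶ E)
    (hj : j ≫ i = U.ι) : IsIso i := by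
  rw [IsClosedImmersion.isIso_iff_ker_eq_bot]
  ext V : 2
  rw [Scheme.Hom.ker_apply]
  simp only [Scheme.IdealSheafData.ideal_bot, Pi.bot_apply]
  rw [eq_bot_iff]
  intro t ht
  rw [RingHom.mem_ker] at ht
  rw [Ideal.mem_bot]
  refine eq_zero_of_germ_eq_zero U hZ V.2 t ?_
  intro z hzV hzU
  -- `t` restricted to `U ∩ V` is zero
  have h1 : ((j ≫ i).app V.1).hom t = 0 := by
    rw [Scheme.Hom.comp_app]
    change (j.app (i ⁻¹ᵁ V.1)).hom ((i.app V.1).hom t) = 0
    rw [ht, map_zero]
  rw [hj] at h1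
  rw [Scheme.Opens.ι_app] at h1
  have hz' : z ∈ U.ι ''ᵁ U.ι ⁻¹ᵁ V.1 := by
    refine ⟨⟨z, hzU⟩, ?_, rfl⟩
    exact hzV
  have := X.presheaf.germ_res_apply
    (homOfLE (x := U.ι ''ᵁ U.ι ⁻¹ᵁ V.1) (Set.image_preimage_subset _ _)) z hz' t
  rw [← this]
  exact (congrArg _ h1).trans (map_zero _)

end Groth.Agent.Lib.Helper25.SchDense
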