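import Mathlib.AlgebraicGeometry.Morphisms.QuasiSeparated
import Mathlib.AlgebraicGeometry.AffineScheme
import Groth.Agent.Lib.Helper25.HartogsRing
import Groth.Agent.Lib.Helper25.SchDense

universe u

open CategoryTheory CategoryTheory.Limits AlgebraicGeometry TopologicalSpace Opposite

namespace Groth.Agent.Lib.Helper25.Hartogs

variable {X : Scheme.{u}}

/-- Restriction of sections as a ring homomorphism. -/
noncomputable abbrev res {W W' : X.Opens} (h : W' ≤ W) : Γ(X, W) →+* Γ(X, W') :=
  (X.presheaf.map (homOfLE h).op).hom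

theorem res_res {W W' W'' : X.Opens} (h : W' ≤ W) (h' : W'' ≤ W') (s : Γ(X, W)) :
    res h' (res h s) = res (h'.trans h) s := by
  change ((X.presheaf.map (homOfLE h).op ≫ X.presheaf.map (homOfLE h').op).hom) s = _
  rw [← Functor.map_comp]
  rfl

theorem res_eq_algebraMap {V : X.Opens} (g : Γ(X, V)) (s : Γ(X, V)) :
    res (X.basicOpen_le g) s = algebraMap Γ(X, V) Γ(X, X.basicOpen g) s := rfl

/-- Sections over an open `W` can be compared on an open cover. -/
theorem eq_zero_of_forall_res_eq_zero {W : X.Opens} (s : Γ(X, W))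
    (h : ∀ x ∈ W, ∃ (W' : X.Opens) (hW' : W' ≤ W), x ∈ W' ∧ res hW' s = 0) : s = 0 := by
  refine X.IsSheaf.section_ext (U := op W) fun x hx => ?_
  obtain ⟨W', hW', hx', hs⟩ := h x hx
  exact ⟨W', hW', hx', by rw [map_zero]; exact hs⟩

/-- Key step for the `z ∉ U` case: if `α` is regular in the localization at `p` and kills the
section `τ` over a compact open `W` of the affine open `V`, then some `w ∉ p` kills `τ`. -/
theorem exists_notMem_mul_eq_zero {V : X.Opens} (hV : IsAffineOpen V) {W : X.Opens}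
    (hWV : W ≤ V) (hWc : IsCompact (W : Set X)) (p : Ideal Γ(X, V)) [p.IsPrime]
    (B : Type*) [CommRing B] [Algebra Γ(X, V) B] [IsLocalization.AtPrime B p]
    (α : Γ(X, V)) (hα : IsSMulRegular B (algebraMap Γ(X, V) B α)) (τ : Γ(X, W))
    (h : res hWV α * τ = 0) : ∃ w ∉ p, res hWV w * τ = 0 := by
  classical
  -- local statement on a basic open inside `W`
  have local_ : ∀ g : Γ(X, V), ∀ hg : X.basicOpen g ≤ W,
      ∃ w ∉ p, res hg (res hWV w * τ) = 0 := by
    intro g hg
    have loc := hV.isLocalization_basicOpen g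
    obtain ⟨⟨τ', ⟨_, k, rfl⟩⟩, hτ'⟩ := IsLocalization.surj (Submonoid.powers g) (res hg τ)
    simp only at hτ'
    -- `α * τ'` maps to zero in the localization at `g`
    have h0 : algebraMap Γ(X, V) Γ(X, X.basicOpen g) (α * τ') = 0 := by
      rw [map_mul, ← hτ', ← mul_assoc]
      have : algebraMap Γ(X, V) Γ(X, X.basicOpen g) α * res hg τ = 0 := by
        have := congrArg (res hg) h
        rw [map_mul, map_zero, res_res] at this
        exact this
      rw [this, zero_mul]
    rw [IsLocalization.map_eq_zero_iff (Submonoid.powers g)] at h0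
    obtain ⟨⟨_, l, rfl⟩, hl⟩ := h0
    simp only at hl
    -- in `B`, `α` is regular
    have h1 : algebraMap Γ(X, V) B (g ^ l * τ') = 0 := by
      apply hα
      change algebraMap Γ(X, V) B α • algebraMap Γ(X, V) B (g ^ l * τ') = _ • 0
      rw [smul_zero, smul_eq_mul, ← map_mul]
      have : α * (g ^ l * τ') = g ^ l * (α * τ') := by ring
      rw [this, hl, map_zero]
    rw [IsLocalization.map_eq_zero_iff p.primeCompl] at h1
    obtain ⟨w, hw⟩ := h1
    refine ⟨w.1, w.2, ?_⟩
    -- `w * τ' = 0` in the localization at `g`, as `g` is a unit there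
    have hu : IsUnit (algebraMap Γ(X, V) Γ(X, X.basicOpen g) g) :=
      IsLocalization.Away.algebraMap_isUnit g
    have h2 : algebraMap Γ(X, V) Γ(X, X.basicOpen g) (w.1 * τ') = 0 := by
      have h3 : algebraMap Γ(X, V) Γ(X, X.basicOpen g) (w.1 * (g ^ l * τ')) = 0 := by
        rw [hw, map_zero]
      have h4 : algebraMap Γ(X, V) Γ(X, X.basicOpen g) (w.1 * (g ^ l * τ')) =
          (algebraMap Γ(X, V) Γ(X, X.basicOpen g) g) ^ l *
            algebraMap Γ(X, V) Γ(X, X.basicOpen g) (w.1 * τ') := by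
        rw [← map_pow, ← map_mul]; congr 1; ring
      rw [h4] at h3
      exact (hu.pow l).mul_right_eq_zero.1 h3
    rw [map_mul, res_res]
    have h5 : (algebraMap Γ(X, V) Γ(X, X.basicOpen g) g) ^ k *
        (algebraMap Γ(X, V) Γ(X, X.basicOpen g) w.1 * res hg τ) = 0 := by
      rw [map_mul] at h2
      rw [← map_pow, mul_left_comm, mul_comm _ (res hg τ), hτ', h2]
    exact (hu.pow k).mul_right_eq_zero.1 h5
  -- choose basic opens around each point
  have hbasic : ∀ x : W, ∃ g : Γ(X, V), X.basicOpen g ≤ W ∧ x.1 ∈ X.basicOpen g :=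
    fun x => hV.exists_basicOpen_le x (hWV x.2)
  choose g hgW hxg using hbasic
  choose w hwp hw using fun x : W => local_ (g x) (hgW x)
  obtain ⟨t, ht⟩ := hWc.elim_finite_subcover (fun x : W => (X.basicOpen (g x) : Set X))
    (fun x => (X.basicOpen (g x)).isOpen) (fun x hx => Set.mem_iUnion.2 ⟨⟨x, hx⟩, hxg ⟨x, hx⟩⟩)
  refine ⟨∏ x ∈ t, w x, ?_, ?_⟩
  · intro hmem
    obtain ⟨x, -, hx⟩ := (Ideal.IsPrime.prod_mem_iff).1 hmem
    exact hwp x hx
  · apply eq_zero_of_forall_res_eq_zero
    intro x hx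
    obtain ⟨x', hx't, hxx'⟩ : ∃ x' ∈ t, x ∈ X.basicOpen (g x') := by
      have := ht hx
      simpa using this
    refine ⟨X.basicOpen (g x'), hgW x', hxx', ?_⟩
    have h6 := hw x'
    rw [map_mul] at h6
    rw [← Finset.mul_prod_erase t w hx't, map_mul, map_mul, map_mul,
      mul_comm (res (hgW x') (res hWV (w x'))), mul_assoc, h6, mul_zero]

end Groth.Agent.Lib.Helper25.Hartogs
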