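import Groth.Agent.Lib.Helper25.HypCoh2
import Groth.Agent.Lib.Helper25.HypTwist3
import Groth.Agent.Lib.Lead.Pn.H0
import Groth.Agent.Lib.Lead.Pn.TwistZero
import Groth.Agent.Lib.Lead.Koszul.HHBasic
import Groth.Agent.Lib.Helper29.TwistPn3

/-!
# Cohomology of the structure sheaf of a hypersurface of low degree in `P^r_k`
-/

set_option autoImplicit false

universe u

open CategoryTheory CategoryTheory.Limits AlgebraicGeometry Opposite TopologicalSpace

namespace Groth.Agent.Lib.Helper25.HypTwist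

open Groth.Agent.Lib.Helper29.QCoh Groth.Agent.Lib.Helper25.BertiniPn
  Groth.Agent.Lib.Helper25.ChartPoly

variable (k : Type u) [Field k] (r : ℕ) (d : ℕ)

theorem dehom_zero (j : Fin (r + 1)) : LefPen.dehom (0 : LefPen.Form r k d) j = 0 := by
  rw [← ThetaA_sub1 k r j (0 : LefPen.Form r k d)]
  have : ((0 : LefPen.Form r k d) : MvPolynomial (Fin (r + 1)) k) = 0 := rfl
  rw [this, map_zero, map_zero]

theorem isZero_idealMod_zero :
    IsZero (ClSub.idealMod (LefPen.hypIdeal (0 : LefPen.Form r k d))) := by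
  rw [isZero_iff_stalk_subsingleton]
  intro x
  suffices key : ∀ t : (ClSub.idealMod (LefPen.hypIdeal (0 : LefPen.Form r k d))).presheaf.stalk x,
      t = 0 from ⟨fun a b => (key a).trans (key b).symm⟩
  intro t
  obtain ⟨j, hj⟩ := exists_mem_basicOpen_X r k x
  obtain ⟨V, hVU, hxV, s, rfl⟩ :=
    (ClSub.idealMod (LefPen.hypIdeal (0 : LefPen.Form r k d))).presheaf.exists_le_germ_eq t
      (V := (chartA k r j).1) hj
  obtain ⟨W, hW, hxW, hWV⟩ := exists_isAffineOpen_mem_and_subset (x := x) (U := V) hxV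
  rw [← germ_res _ hWV x hxW s]
  have h0 : res (ClSub.idealMod (LefPen.hypIdeal (0 : LefPen.Form r k d))) hWV s = 0 := by
    apply ifun_injective
    have h1 := ifun_mem (LefPen.hypIdeal (0 : LefPen.Form r k d)) ⟨W, hW⟩ (res _ hWV s)
    rw [← (LefPen.hypIdeal (0 : LefPen.Form r k d)).map_ideal (U := ⟨W, hW⟩) (V := chartA k r j)
      (hWV.trans hVU), hypIdeal_ideal_chart, dehom_zero, Ideal.span_singleton_zero,
      Ideal.map_bot, Ideal.mem_bot] at h1
    rw [h1]
    unfold ifun
    rw [map_zero]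
    rfl
  rw [h0, map_zero]

variable {k r d}

/-- The ideal sheaf of a hypersurface of degree `1 ≤ d ≤ r` in `P^r`, `r ≥ 2`, (or of the zero
form) has no cohomology. -/
theorem subsingleton_HH_idealMod (G : LefPen.Form r k d) (hr : 1 ≤ r) (hd : 1 ≤ d) (hdr : d ≤ r)
    (q : ℕ) : Subsingleton (Coh.HH (CohB1.ProjSpace r k) (ClSub.idealMod (LefPen.hypIdeal G)) q) := by
  by_cases hG : G = 0
  · subst hG
    exact Groth.Agent.Lib.Lead.Koszul.subsingleton_HH_of_isZero k (isZero_idealMod_zero k r d) q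
  · obtain ⟨e⟩ := nonempty_idealMod_iso_twist G hG
    refine Groth.Agent.Lib.Lead.Pn.subsingleton_HH_of_iso e.symm q ?_
    rcases q with _ | q
    · exact Groth.Agent.Lib.Lead.Pn.subsingleton_HH_zero (n := r) (R := k) hr
        (by have : (0 : ℤ) < d := by exact_mod_cast hd
            omega)
    · exact Groth.Agent.Lib.Lead.Pn.subsingleton_HH_succ (n := r) (R := k) q
        (Or.inr (by have : (d : ℤ) ≤ r := by exact_mod_cast hdr
                    omega))

theorem subsingleton_HH_structure (r : ℕ) (q : ℕ) :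
    Subsingleton (Coh.HH (CohB1.ProjSpace r k) (Coh.structureModule (CohB1.ProjSpace r k))
      (q + 1)) := by
  obtain ⟨e⟩ := Groth.Agent.Lib.Lead.Pn.nonempty_unit_iso_twist_zero (CohB1.polyGrading r k)
  refine Groth.Agent.Lib.Lead.Pn.subsingleton_HH_of_iso (X := CohB1.ProjSpace r k) e.symm (q + 1) ?_
  exact Groth.Agent.Lib.Lead.Pn.subsingleton_HH_succ (n := r) (R := k) q
    (Or.inr (by have : (0 : ℤ) ≤ r := by positivity
                omega))

/-- **Structure sheaf cohomology of a hypersurface of degree `d ≤ r` in `P^r`.** -/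
theorem hypersurface_structure_cohomology (G : LefPen.Form r k d) (hr : 1 ≤ r) (hd : 1 ≤ d)
    (hdr : d ≤ r) :
    (∀ i : ℕ, 1 ≤ i → Subsingleton (Coh.HH (LefPen.hypIdeal G).subscheme
        (Coh.structureModule (LefPen.hypIdeal G).subscheme) i)) ∧
      Function.Bijective
        ((LefPen.hypIdeal G).subschemeι ≫ CohB1.ProjSpace.toSpec r k).appTop.hom := by
  constructor
  · intro i hi
    obtain ⟨q, rfl⟩ : ∃ q, i = q + 1 := ⟨i - 1, by omega⟩
    exact subsingleton_HH_subscheme (LefPen.hypIdeal G) (q + 1) (subsingleton_HH_structure r q)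
      (subsingleton_HH_idealMod G hr hd hdr (q + 1 + 1))
  · have h1 := appTop_bijective_of_subsingleton (LefPen.hypIdeal G)
      (subsingleton_HH_idealMod G hr hd hdr 0) (subsingleton_HH_idealMod G hr hd hdr 1)
    have h2 : Function.Bijective (CohB1.ProjSpace.toSpec r k).appTop.hom := by
      haveI := isIso_toSpec_appTop r k
      exact ConcreteCategory.bijective_of_isIso (CohB1.ProjSpace.toSpec r k).appTop
    rw [Scheme.Hom.comp_appTop, CommRingCat.hom_comp, RingHom.coe_comp]
    exact h1.comp h2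

end Groth.Agent.Lib.Helper25.HypTwist
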