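import Groth.Agent.Lib.Helper25.NatPush2
import Groth.Agent.Lib.Helper29.QCohPush

/-!
# `H¹(X, M) ≃ H¹(S, f_* M)` linearly over the base ring, for `f` affine
-/

set_option autoImplicit false

universe u

open CategoryTheory TopologicalSpace Opposite CategoryTheory.Limits Abelian AlgebraicGeometry

namespace Groth.Agent.Lib.Helper25.NatPush

open Groth.Agent.Lib.Helper29.QCoh

variable {X S : Scheme.{u}} (f : X ⟶ S)

/-- Pushing forward multiplication by the pullback of a global function is multiplication by that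
function on the direct image. -/
theorem pushAb_map_smulAb (M : X.Modules) (r : Coh.Γtop S) :
    (Coh.pushAb f).map (Coh.smulAb M (f.appTop.hom r)) =
      Coh.smulAb ((Coh.push f).obj M) r := by
  ext V m
  change (Coh.smulAb M (f.appTop.hom r)).hom.app (op (f ⁻¹ᵁ V.unop)) m =
    (Coh.smulAb ((Coh.push f).obj M) r).hom.app V m
  rw [Coh.smulAb_app, Coh.smulAb_app]
  change _ = (f.app V.unop).hom (Coh.resTop S V r) • (show M.val.obj (op (f ⁻¹ᵁ V.unop)) from m)
  congr 1
  exact (app_map_apply f (le_top : V.unop ≤ ⊤) r).symm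

variable (A : Type u) [CommRing A] [X.Over (Spec (CommRingCat.of A))]
  [S.Over (Spec (CommRingCat.of A))]

theorem toGlobal_comp (hf : X ↘ Spec (CommRingCat.of A) = f ≫ (S ↘ Spec (CommRingCat.of A)))
    (a : A) :
    Coh.toGlobal (X ↘ Spec (CommRingCat.of A)) a =
      f.appTop.hom (Coh.toGlobal (S ↘ Spec (CommRingCat.of A)) a) := by
  unfold Coh.toGlobal
  rw [hf, Scheme.Hom.comp_appTop]
  rfl

/-- **Cohomology in degree one along an affine morphism**, linearly over the base ring. -/
theorem nonempty_HH_one_linearEquiv_push [IsAffineHom f]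
    (hf : X ↘ Spec (CommRingCat.of A) = f ≫ (S ↘ Spec (CommRingCat.of A)))
    (M : X.Modules) [M.IsQuasicoherent] :
    Nonempty (Coh.HH X M 1 ≃ₗ[A] Coh.HH S ((Coh.push f).obj M) 1) := by
  obtain ⟨e, he⟩ := exists_HH_one_addEquiv_push_natural f M
  refine ⟨{ e with map_smul' := fun a x => ?_ }⟩
  change e (Sheaf.H.map (Coh.smulAb M (Coh.toGlobal (X ↘ Spec (CommRingCat.of A)) a)) 1 x) =
    Sheaf.H.map (Coh.smulAb ((Coh.push f).obj M)
      (Coh.toGlobal (S ↘ Spec (CommRingCat.of A)) a)) 1 (e x)
  rw [he, toGlobal_comp f A hf a, pushAb_map_smulAb]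
  rfl

end Groth.Agent.Lib.Helper25.NatPush
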