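import Groth.Agent.Lib.Helper25.HypCoh3
import Groth.Agent.Lib.Helper25.NatPush3
import Groth.Agent.Lib.Lead.Pn.TopCoh
import Groth.Agent.Lib.Lead.Pn.HomogRank
import Groth.Agent.Lib.Lead.LinLES.Biprod

/-!
# `H¹` of the structure sheaf of a plane curve
-/

set_option autoImplicit false

universe u

open CategoryTheory CategoryTheory.Limits AlgebraicGeometry Opposite TopologicalSpace

namespace Groth.Agent.Lib.Helper25.HypTwist

open Groth.Agent.Lib.Helper29.QCoh Groth.Agent.Lib.Lead.LinLES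

variable {k : Type u} [Field k] {d : ℕ}

/-- `H¹(C, O_C) ≃ H²(P², O(-d))` linearly, for a plane curve `C` of degree `d`. -/
theorem nonempty_HH_one_linearEquiv_twist (G : LefPen.Form 2 k d) (hG : G ≠ 0)
    [inst : ((LefPen.hypIdeal G).subscheme).Over (Spec (CommRingCat.of k))]
    (hinst : (LefPen.hypIdeal G).subscheme ↘ (Spec (CommRingCat.of k)) =
      (LefPen.hypIdeal G).subschemeι ≫ CohB1.ProjSpace.toSpec 2 k) :
    Nonempty (Coh.HH (LefPen.hypIdeal G).subscheme
        (Coh.structureModule (LefPen.hypIdeal G).subscheme) 1 ≃ₗ[k]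
      Coh.HH (CohB1.ProjSpace 2 k) (Twist.twistProjSpace 2 k (-(d : ℤ))) 2) := by
  obtain ⟨e₁⟩ := NatPush.nonempty_HH_one_linearEquiv_push (LefPen.hypIdeal G).subschemeι k hinst (unitM (LefPen.hypIdeal G).subscheme)
  have hS := shortExact_idealSeq (LefPen.hypIdeal G)
  -- the connecting homomorphism
  have h1 : Subsingleton (Coh.HH (CohB1.ProjSpace 2 k)
      (Coh.structureModule (CohB1.ProjSpace 2 k)) 1) := subsingleton_HH_structure 2 0
  have h2 : Subsingleton (Coh.HH (CohB1.ProjSpace 2 k)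
      (Coh.structureModule (CohB1.ProjSpace 2 k)) 2) := subsingleton_HH_structure 2 1
  have hδ : Function.Bijective (δlin k (idealSeq (LefPen.hypIdeal G)) hS 1) := by
    constructor
    · rw [injective_iff_map_eq_zero]
      intro x hx
      obtain ⟨y, rfl⟩ := (exact₃ k (idealSeq (LefPen.hypIdeal G)) hS 1 x).mp hx
      rw [Subsingleton.elim y 0, map_zero]
    · intro x
      exact (exact₁ k (idealSeq (LefPen.hypIdeal G)) hS 1 x).mp (Subsingleton.elim _ _)
  let e₂ : Coh.HH (CohB1.ProjSpace 2 k) (ClSub.quotMod (LefPen.hypIdeal G)) 1 ≃ₗ[k]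
      Coh.HH (CohB1.ProjSpace 2 k) (ClSub.idealMod (LefPen.hypIdeal G)) 2 :=
    LinearEquiv.ofBijective (δlin k (idealSeq (LefPen.hypIdeal G)) hS 1) hδ
  obtain ⟨φ⟩ := nonempty_idealMod_iso_twist G hG
  let e₃ : Coh.HH (CohB1.ProjSpace 2 k) (ClSub.idealMod (LefPen.hypIdeal G)) 2 ≃ₗ[k]
      Coh.HH (CohB1.ProjSpace 2 k) (Twist.twistProjSpace 2 k (-(d : ℤ))) 2 :=
    LinearEquiv.ofLinear (Canon.HHlin k φ.hom 2) (Canon.HHlin k φ.inv 2)
      (by ext x
          change Canon.HHlin k φ.hom 2 (Canon.HHlin k φ.inv 2 x) = x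
          rw [← HHlin_comp, φ.inv_hom_id, HHlin_id])
      (by ext x
          change Canon.HHlin k φ.inv 2 (Canon.HHlin k φ.hom 2 x) = x
          rw [← HHlin_comp, φ.hom_inv_id, HHlin_id])
  exact ⟨e₁.trans (e₂.trans e₃)⟩

theorem finrank_HH_two_twist (hd : 1 ≤ d) :
    Module.finrank k (Coh.HH (CohB1.ProjSpace 2 k) (Twist.twistProjSpace 2 k (-(d : ℤ))) 2) =
      (d - 1) * (d - 2) / 2 := by
  by_cases h3 : 3 ≤ d
  · obtain ⟨e⟩ := Groth.Agent.Lib.Lead.Pn.nonempty_top_linearEquiv_succ (R := k) 1 (d - 3)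
    have hd' : -((((1 + 1 : ℕ) : ℤ)) + 1 + ((d - 3 : ℕ) : ℤ)) = -(d : ℤ) := by
      push_cast [Nat.cast_sub h3]
      ring
    rw [hd'] at e
    rw [e.finrank_eq, Groth.Agent.Lib.Lead.Pn.finrank_homogeneousSubmodule k 2 (d - 3)]
    have h4 : d - 3 + 2 = d - 1 := by omega
    rw [h4, Nat.choose_two_right]
    have h5 : d - 1 - 1 = d - 2 := by omega
    rw [h5]
  · have hsub : Subsingleton (Coh.HH (CohB1.ProjSpace 2 k)
        (Twist.twistProjSpace 2 k (-(d : ℤ))) 2) :=
      Groth.Agent.Lib.Lead.Pn.subsingleton_HH_succ (n := 2) (R := k) 1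
        (Or.inr (by push_cast; omega))
    rw [Module.finrank_zero_of_subsingleton]
    have h6 : d = 1 ∨ d = 2 := by omega
    rcases h6 with rfl | rfl <;> rfl

end Groth.Agent.Lib.Helper25.HypTwist
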