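import Groth.Agent.Lib.Helper25.HypCoh4
import Groth.Agent.Lib.Helper29.Twist6
import Groth.Agent.Lib.Helper10.RigidAA4

/-!
# `H⁰` of the structure sheaf and connectedness when the global functions are the constants
-/

set_option autoImplicit false

universe u

open CategoryTheory CategoryTheory.Limits AlgebraicGeometry Opposite TopologicalSpace

namespace Groth.Agent.Lib.Helper25.HypTwist

open Groth.Agent.Lib.Helper29.QCoh

variable {k : Type u} [Field k]

theorem finrank_HH_zero_eq_one {X : Scheme.{u}} [X.Over (Spec (CommRingCat.of k))]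
    (h : Function.Bijective (Coh.toGlobal (X ↘ Spec (CommRingCat.of k)))) :
    Module.finrank k (Coh.HH X (Coh.structureModule X) 0) = 1 := by
  let x₀ : Coh.HH X (Coh.structureModule X) 0 := (hh0 (unitM X)).symm (toUnit 1)
  let L : k →ₗ[k] Coh.HH X (Coh.structureModule X) 0 := LinearMap.toSpanSingleton k _ x₀
  have hL : ∀ c : k, hh0 (unitM X) (L c) =
      toUnit (Coh.toGlobal (X ↘ Spec (CommRingCat.of k)) c) := by
    intro c
    change hh0 (unitM X) (Coh.toGlobal (X ↘ Spec (CommRingCat.of k)) c • x₀) = _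
    rw [hh0_smul, AddEquiv.apply_symm_apply]
    change _ * (1 : Γ(X, ⊤)) = _
    rw [mul_one]
    rfl
  have hbij : Function.Bijective L := by
    constructor
    · intro c c' hc
      apply h.1
      have := congrArg (hh0 (unitM X)) hc
      rw [hL, hL] at this
      exact this
    · intro x
      obtain ⟨c, hc⟩ := h.2 (fromUnit (hh0 (unitM X) x))
      refine ⟨c, (hh0 (unitM X)).injective ?_⟩
      rw [hL, hc]
      rfl
  rw [← (LinearEquiv.ofBijective L hbij).finrank_eq, Module.finrank_self]

theorem toGlobal_bijective_of_appTop {X : Scheme.{u}} (f : X ⟶ Spec (CommRingCat.of k))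
    (h : Function.Bijective f.appTop.hom) : Function.Bijective (Coh.toGlobal f) := by
  change Function.Bijective (f.appTop.hom ∘ (Scheme.ΓSpecIso (CommRingCat.of k)).inv.hom)
  exact h.comp (ConcreteCategory.bijective_of_isIso (Scheme.ΓSpecIso (CommRingCat.of k)).inv)

theorem connectedSpace_of_appTop {X : Scheme.{u}} (f : X ⟶ Spec (CommRingCat.of k))
    (h : Function.Bijective f.appTop.hom) : ConnectedSpace X := by
  refine Groth.Agent.Lib.Helper10.RigidAA.connectedSpace_of_bijective (Over.mk f) ?_
  change Function.Bijective ((Scheme.ΓSpecIso (CommRingCat.of k)).inv ≫ f.appTop).hom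
  rw [CommRingCat.hom_comp, RingHom.coe_comp]
  exact h.comp (ConcreteCategory.bijective_of_isIso (Scheme.ΓSpecIso (CommRingCat.of k)).inv)

/-- Global functions on a plane curve are the constants. -/
theorem planeCurve_appTop_bijective {d : ℕ} (hd : 1 ≤ d) (G : LefPen.Form 2 k d) (hG : G ≠ 0) :
    Function.Bijective
      ((LefPen.hypIdeal G).subschemeι ≫ CohB1.ProjSpace.toSpec 2 k).appTop.hom := by
  obtain ⟨φ⟩ := nonempty_idealMod_iso_twist G hG
  have h0 : Subsingleton (Coh.HH (CohB1.ProjSpace 2 k) (ClSub.idealMod (LefPen.hypIdeal G)) 0) :=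
    Groth.Agent.Lib.Lead.Pn.subsingleton_HH_of_iso φ.symm 0
      (Groth.Agent.Lib.Lead.Pn.subsingleton_HH_zero (n := 2) (R := k) (by norm_num)
        (by have : (0 : ℤ) < d := by exact_mod_cast hd
            omega))
  have h1 : Subsingleton (Coh.HH (CohB1.ProjSpace 2 k) (ClSub.idealMod (LefPen.hypIdeal G)) 1) :=
    Groth.Agent.Lib.Lead.Pn.subsingleton_HH_of_iso φ.symm 1
      (Groth.Agent.Lib.Lead.Pn.subsingleton_HH_succ (n := 2) (R := k) 0 (Or.inl (by norm_num)))
  have hι := appTop_bijective_of_subsingleton (LefPen.hypIdeal G) h0 h1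
  have h2 : Function.Bijective (CohB1.ProjSpace.toSpec 2 k).appTop.hom := by
    haveI := isIso_toSpec_appTop 2 k
    exact ConcreteCategory.bijective_of_isIso (CohB1.ProjSpace.toSpec 2 k).appTop
  rw [Scheme.Hom.comp_appTop, CommRingCat.hom_comp, RingHom.coe_comp]
  exact hι.comp h2

end Groth.Agent.Lib.Helper25.HypTwist
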