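import Mathlib.AlgebraicGeometry.IdealSheaf.Subscheme
import Mathlib.AlgebraicGeometry.Morphisms.ClosedImmersion
/-!
# The value of an ideal sheaf on an affine chart `σ : Spec B ⟶ P`

For an open immersion `σ : Spec B ⟶ P` and an ideal sheaf `ℐ` on `P`, `atσ σ ℐ` is the ideal of `B` corresponding to
`ℐ` on the affine open `range σ`.
-/
universe u
open CategoryTheory CategoryTheory.Limits AlgebraicGeometry Opposite TopologicalSpace

namespace Groth.Agent.Lib.Helper25.IdealAt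

theorem appTop_eq_appLE {X Y : Scheme.{u}} (f : X ⟶ Y) : f.appTop = f.appLE ⊤ ⊤ le_top := by
  simp [Scheme.Hom.appLE]

theorem appLE_comp_appTop {X Y Z : Scheme.{u}} (f : X ⟶ Y) (g : Y ⟶ Z) (U : Z.Opens)
    (e : (⊤ : Y.Opens) ≤ g ⁻¹ᵁ U) (e' : (⊤ : X.Opens) ≤ (f ≫ g) ⁻¹ᵁ U) :
    g.appLE U ⊤ e ≫ f.appTop = (f ≫ g).appLE U ⊤ e' := by
  rw [appTop_eq_appLE, Scheme.Hom.appLE_comp_appLE]

variable {P : Scheme.{u}} {B : CommRingCat.{u}} (σ : Spec B ⟶ P) [IsOpenImmersion σ]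

theorem top_le_preimage_opensRange : (⊤ : (Spec B).Opens) ≤ σ ⁻¹ᵁ σ.opensRange := by
  intro x _
  exact ⟨x, rfl⟩

/-- sections over the range of `σ`, as elements of `B` -/
noncomputable def secTo : Γ(P, σ.opensRange) ⟶ B :=
  σ.appLE σ.opensRange ⊤ (top_le_preimage_opensRange σ) ≫ (Scheme.ΓSpecIso B).hom

instance isIso_secTo : IsIso (secTo σ) := by
  have hW : σ ''ᵁ (⊤ : (Spec B).Opens) = σ.opensRange := Scheme.Hom.image_top_eq_opensRange σ
  have e : (⊤ : (Spec B).Opens) ≤ σ ⁻¹ᵁ (σ ''ᵁ (⊤ : (Spec B).Opens)) :=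
    (Scheme.Hom.preimage_image_eq σ ⊤).ge
  have h1 : σ.appLE σ.opensRange ⊤ (top_le_preimage_opensRange σ) =
      P.presheaf.map (eqToHom hW).op ≫ σ.appLE (σ ''ᵁ ⊤) ⊤ e := by
    rw [Scheme.Hom.map_appLE]
  have : IsIso (σ.appLE (σ ''ᵁ ⊤) ⊤ e) := by
    rw [← Scheme.Hom.appIso_hom']
    infer_instance
  unfold secTo
  rw [h1]
  infer_instance

/-- the affine open `range σ` -/
noncomputable abbrev aff : P.affineOpens := ⟨σ.opensRange, isAffineOpen_opensRange σ⟩

/-- the ideal of `B` cut out by the ideal sheaf `ℐ` on the chart `σ` -/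
noncomputable def atσ (ℐ : P.IdealSheafData) : Ideal B :=
  Ideal.map (secTo σ).hom (ℐ.ideal (aff σ))

theorem secTo_bijective : Function.Bijective (secTo σ).hom :=
  ConcreteCategory.bijective_of_isIso (secTo σ)

theorem mem_atσ_iff (ℐ : P.IdealSheafData) (x : Γ(P, σ.opensRange)) :
    (secTo σ).hom x ∈ atσ σ ℐ ↔ x ∈ ℐ.ideal (aff σ) := by
  unfold atσ
  constructor
  · intro h
    have := Ideal.mem_comap.mpr h
    rwa [Ideal.comap_map_of_bijective _ (secTo_bijective σ)] at this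
  · exact fun h => Ideal.mem_map_of_mem _ h

section compat

variable {B' : CommRingCat.{u}} (σ' : Spec B' ⟶ P) [IsOpenImmersion σ'] (ψ : B ⟶ B')
  (h : Spec.map ψ ≫ σ = σ')

include h in
theorem opensRange_le : σ'.opensRange ≤ σ.opensRange := by
  rintro _ ⟨x, rfl⟩
  refine ⟨(Spec.map ψ).base x, ?_⟩
  rw [← h]
  rfl

include h in
theorem secTo_comp :
    secTo σ ≫ ψ = P.presheaf.map (homOfLE (opensRange_le σ σ' ψ h)).op ≫ secTo σ' := by
  subst h
  unfold secTo
  rw [Category.assoc, ← Scheme.ΓSpecIso_naturality, ← Category.assoc, ← Category.assoc]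
  congr 1
  rw [Scheme.Hom.map_appLE]
  exact appLE_comp_appTop (Spec.map ψ) σ σ.opensRange _ _

include h in
/-- compatibility of `atσ` with a morphism of charts -/
theorem atσ_eq_map (ℐ : P.IdealSheafData) : atσ σ' ℐ = Ideal.map ψ.hom (atσ σ ℐ) := by
  unfold atσ
  rw [Ideal.map_map, ← CommRingCat.hom_comp, secTo_comp σ σ' ψ h, CommRingCat.hom_comp,
    ← Ideal.map_map]
  congr 1
  exact (ℐ.map_ideal (U := aff σ') (V := aff σ) (opensRange_le σ σ' ψ h)).symm

end compat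

/-- Two ideal sheaves that agree on a covering family of affine charts are equal. -/
theorem ext_of_atσ {ι : Type*} {B : ι → CommRingCat.{u}} (σ : ∀ i, Spec (B i) ⟶ P)
    [∀ i, IsOpenImmersion (σ i)] (hcov : ∀ x : P, ∃ i, x ∈ Set.range (σ i).base)
    {ℐ₁ ℐ₂ : P.IdealSheafData} (H : ∀ i, atσ (σ i) ℐ₁ = atσ (σ i) ℐ₂) : ℐ₁ = ℐ₂ := by
  refine Scheme.IdealSheafData.ext_of_iSup_eq_top (fun i => aff (σ i)) ?_ fun i => ?_
  · rw [eq_top_iff]
    intro x _
    obtain ⟨i, hi⟩ := hcov x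
    exact Opens.mem_iSup.mpr ⟨i, hi⟩
  · ext x
    rw [← mem_atσ_iff (σ i) ℐ₁ x, ← mem_atσ_iff (σ i) ℐ₂ x, H i]

section ker

variable {Y : Scheme.{u}} (f : Y ⟶ P) [QuasiCompact f]

/-- the ideal of the kernel of a quasi-compact morphism on a chart, through a chart of the source lying over it -/
theorem atσ_ker_eq {B' : CommRingCat.{u}} (σ' : Spec B' ⟶ Y) [IsOpenImmersion σ'] (ψ : B ⟶ B')
    (hcomm : σ' ≫ f = Spec.map ψ ≫ σ) (hpre : f ⁻¹ᵁ σ.opensRange = σ'.opensRange) :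
    atσ σ f.ker = RingHom.ker ψ.hom := by
  have hle : σ'.opensRange ≤ f ⁻¹ᵁ σ.opensRange := hpre.ge
  have key : secTo σ ≫ ψ = f.appLE σ.opensRange σ'.opensRange hle ≫ secTo σ' := by
    unfold secTo
    rw [Category.assoc, ← Scheme.ΓSpecIso_naturality, ← Category.assoc, ← Category.assoc]
    congr 1
    have e1 : (⊤ : (Spec B').Opens) ≤ (Spec.map ψ ≫ σ) ⁻¹ᵁ σ.opensRange := by
      rw [← hcomm, Scheme.Hom.comp_preimage]
      exact (top_le_preimage_opensRange σ').trans (σ'.preimage_mono hle)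
    rw [appLE_comp_appTop (Spec.map ψ) σ σ.opensRange _ e1, Scheme.Hom.appLE_comp_appLE]
    congr 1
    exact hcomm.symm
  have happ : f.appLE σ.opensRange σ'.opensRange hle =
      f.app σ.opensRange ≫ Y.presheaf.map (eqToHom hpre.symm).op := by
    rw [Scheme.Hom.appLE]; rfl
  ext b
  obtain ⟨x, rfl⟩ := (secTo_bijective σ).2 b
  rw [mem_atσ_iff, RingHom.mem_ker]
  change x ∈ f.ker.ideal (aff σ) ↔ (secTo σ ≫ ψ).hom x = 0
  rw [Scheme.Hom.ker_apply, RingHom.mem_ker, key, happ]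
  simp only [CommRingCat.hom_comp, RingHom.comp_apply]
  have hinj : Function.Injective
      ((secTo σ').hom.comp (Y.presheaf.map (eqToHom hpre.symm).op).hom) := by
    have : IsIso (Y.presheaf.map (eqToHom hpre.symm).op ≫ secTo σ') := inferInstance
    exact (ConcreteCategory.bijective_of_isIso (Y.presheaf.map (eqToHom hpre.symm).op ≫ secTo σ')).1
  constructor
  · intro h0
    change ((secTo σ').hom.comp (Y.presheaf.map (eqToHom hpre.symm).op).hom) ((f.app σ.opensRange).hom x) = 0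
    rw [show (f.app (aff σ).1).hom x = 0 from h0, map_zero]
  · intro h0
    exact hinj (h0.trans (map_zero _).symm)

end ker

end Groth.Agent.Lib.Helper25.IdealAt
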