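import Groth.Agent.Lib.Helper25.HypCoh1
import Groth.Agent.Lib.Helper29.QCohFinite

/-!
# The sequence `0 → O_X → O_X/I₁ ⊕ O_X/I₂ → O_X/(I₁ + I₂) → 0` for `I₁ ∩ I₂ = 0` (helper25)
-/

set_option autoImplicit false

universe u

open CategoryTheory CategoryTheory.Limits AlgebraicGeometry Opposite TopologicalSpace

namespace Groth.Agent.Lib.Helper25.HypTwist

open Groth.Agent.Lib.Helper29.QCoh

variable {X : Scheme.{u}}

theorem toSubscheme_app_eq_zero_iff (I : X.IdealSheafData) (W : X.affineOpens)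
    (s : Γ(unitM X, W.1)) :
    (ClSub.toSubscheme I).app W.1 s = 0 ↔ fromUnit s ∈ I.ideal W := by
  rw [← I.ker_subschemeι_app W, RingHom.mem_ker]
  rfl

theorem toSubscheme_app_surjective (I : X.IdealSheafData) (W : X.affineOpens) :
    Function.Surjective ((ClSub.toSubscheme I).app W.1) := by
  intro t
  obtain ⟨a, ha⟩ := I.subschemeι_app_surjective W t
  exact ⟨toUnit a, ha⟩

section

attribute [local instance] CategoryTheory.Abelian.hasFiniteBiproducts

variable (I₁ I₂ : X.IdealSheafData)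

/-- a section of a binary biproduct is determined by its two components -/
theorem biprod_section_ext {M N : X.Modules} (U : X.Opens) (t t' : Γ(M ⊞ N, U))
    (h₁ : (biprod.fst : M ⊞ N ⟶ M).app U t = (biprod.fst : M ⊞ N ⟶ M).app U t')
    (h₂ : (biprod.snd : M ⊞ N ⟶ N).app U t = (biprod.snd : M ⊞ N ⟶ N).app U t') : t = t' := by
  have key : ∀ s : Γ(M ⊞ N, U), s =
      (biprod.inl : M ⟶ M ⊞ N).app U ((biprod.fst : M ⊞ N ⟶ M).app U s) +
        (biprod.inr : N ⟶ M ⊞ N).app U ((biprod.snd : M ⊞ N ⟶ N).app U s) := by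
    intro s
    have h := congrArg (fun φ : M ⊞ N ⟶ M ⊞ N => φ.app U s) (biprod.total (X := M) (Y := N))
    exact h.symm
  rw [key t, key t', h₁, h₂]

theorem mono_lift_toSubscheme (h : I₁ ⊓ I₂ = ⊥) :
    Mono (biprod.lift (ClSub.toSubscheme I₁) (ClSub.toSubscheme I₂)) := by
  rw [mono_iff_app_injective]
  intro U
  rw [injective_iff_map_eq_zero]
  intro s hs
  have h1 : (ClSub.toSubscheme I₁).app U s = 0 := by
    have := congrArg ((biprod.fst : ClSub.quotMod I₁ ⊞ ClSub.quotMod I₂ ⟶ _).app U) hs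
    rw [map_zero] at this
    rw [← this]
    exact congrArg (fun φ : Coh.structureModule X ⟶ ClSub.quotMod I₁ => φ.app U s)
      (biprod.lift_fst _ _).symm
  have h2 : (ClSub.toSubscheme I₂).app U s = 0 := by
    have := congrArg ((biprod.snd : ClSub.quotMod I₁ ⊞ ClSub.quotMod I₂ ⟶ _).app U) hs
    rw [map_zero] at this
    rw [← this]
    exact congrArg (fun φ : Coh.structureModule X ⟶ ClSub.quotMod I₂ => φ.app U s)
      (biprod.lift_snd _ _).symm
  refine eq_zero_of_germ_eq_zero (unitM X) s fun x hx => ?_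
  obtain ⟨W, hW, hxW, hWU⟩ := exists_isAffineOpen_mem_and_subset (x := x) (U := U) hx
  rw [← germ_res (unitM X) hWU x hxW s]
  have h1' : fromUnit (res (unitM X) hWU s) ∈ I₁.ideal ⟨W, hW⟩ := by
    rw [← toSubscheme_app_eq_zero_iff I₁ ⟨W, hW⟩, app_res, h1, map_zero]
  have h2' : fromUnit (res (unitM X) hWU s) ∈ I₂.ideal ⟨W, hW⟩ := by
    rw [← toSubscheme_app_eq_zero_iff I₂ ⟨W, hW⟩, app_res, h2, map_zero]
  have h3 : fromUnit (res (unitM X) hWU s) ∈ (I₁ ⊓ I₂).ideal ⟨W, hW⟩ := ⟨h1', h2'⟩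
  rw [h] at h3
  have h4 : res (unitM X) hWU s = 0 := h3
  rw [h4, map_zero]

variable {I₁ I₂}

theorem desc_app_apply (q₁ : ClSub.quotMod I₁ ⟶ ClSub.quotMod (I₁ ⊔ I₂))
    (q₂ : ClSub.quotMod I₂ ⟶ ClSub.quotMod (I₁ ⊔ I₂)) (U : X.Opens)
    (t : Γ(ClSub.quotMod I₁ ⊞ ClSub.quotMod I₂, U)) :
    (biprod.desc q₁ (-q₂)).app U t =
      q₁.app U ((biprod.fst : ClSub.quotMod I₁ ⊞ ClSub.quotMod I₂ ⟶ _).app U t) -
        q₂.app U ((biprod.snd : ClSub.quotMod I₁ ⊞ ClSub.quotMod I₂ ⟶ _).app U t) := by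
  have h : biprod.desc q₁ (-q₂) = biprod.fst ≫ q₁ - biprod.snd ≫ q₂ := by
    apply biprod.hom_ext'
    · simp
    · simp
  rw [h]
  rfl

theorem exact_crt (q₁ : ClSub.quotMod I₁ ⟶ ClSub.quotMod (I₁ ⊔ I₂))
    (q₂ : ClSub.quotMod I₂ ⟶ ClSub.quotMod (I₁ ⊔ I₂))
    (hq₁ : ClSub.toSubscheme I₁ ≫ q₁ = ClSub.toSubscheme (I₁ ⊔ I₂))
    (hq₂ : ClSub.toSubscheme I₂ ≫ q₂ = ClSub.toSubscheme (I₁ ⊔ I₂))
    (w : biprod.lift (ClSub.toSubscheme I₁) (ClSub.toSubscheme I₂) ≫ biprod.desc q₁ (-q₂) = 0) :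
    (ShortComplex.mk _ _ w).Exact := by
  rw [exact_iff_stalk_function_exact]
  intro x m
  constructor
  · intro hm
    obtain ⟨U, hU, hxU, -⟩ := exists_isAffineOpen_mem_and_subset (x := x) (U := ⊤) trivial
    obtain ⟨V, hVU, hxV, t, rfl⟩ :=
      (ClSub.quotMod I₁ ⊞ ClSub.quotMod I₂).presheaf.exists_le_germ_eq m hxU
    have hm' : (ClSub.quotMod (I₁ ⊔ I₂)).presheaf.germ V x hxV
        ((biprod.desc q₁ (-q₂)).app V t) = 0 := by
      rw [← stalkMap_germ]; exact hm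
    obtain ⟨W', hW'V, hxW', hres⟩ := exists_res_eq_zero_of_germ_eq_zero _ x hxV _ hm'
    obtain ⟨W, hW, hxW, hWW'⟩ := exists_isAffineOpen_mem_and_subset (x := x) (U := W') hxW'
    have hWV : W ≤ V := hWW'.trans hW'V
    set t' := res (ClSub.quotMod I₁ ⊞ ClSub.quotMod I₂) hWV t with ht'
    have hgt' : (biprod.desc q₁ (-q₂)).app W t' = 0 := by
      rw [ht', app_res, ← res_res _ hW'V hWW', hres, map_zero]
    obtain ⟨a, ha⟩ := toSubscheme_app_surjective I₁ ⟨W, hW⟩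
      ((biprod.fst : ClSub.quotMod I₁ ⊞ ClSub.quotMod I₂ ⟶ _).app W t')
    obtain ⟨b, hb⟩ := toSubscheme_app_surjective I₂ ⟨W, hW⟩
      ((biprod.snd : ClSub.quotMod I₁ ⊞ ClSub.quotMod I₂ ⟶ _).app W t')
    have hab : (ClSub.toSubscheme (I₁ ⊔ I₂)).app W (a - b) = 0 := by
      rw [desc_app_apply, ← ha, ← hb] at hgt'
      rw [map_sub]
      have e1 : (ClSub.toSubscheme (I₁ ⊔ I₂)).app W a =
          q₁.app W ((ClSub.toSubscheme I₁).app W a) :=
        congrArg (fun φ : Coh.structureModule X ⟶ ClSub.quotMod (I₁ ⊔ I₂) => φ.app W a) hq₁.symm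
      have e2 : (ClSub.toSubscheme (I₁ ⊔ I₂)).app W b =
          q₂.app W ((ClSub.toSubscheme I₂).app W b) :=
        congrArg (fun φ : Coh.structureModule X ⟶ ClSub.quotMod (I₁ ⊔ I₂) => φ.app W b) hq₂.symm
      rw [e1, e2]
      exact hgt'
    rw [toSubscheme_app_eq_zero_iff (I₁ ⊔ I₂) ⟨W, hW⟩] at hab
    have hab' : fromUnit (a - b) ∈ I₁.ideal ⟨W, hW⟩ ⊔ I₂.ideal ⟨W, hW⟩ := hab
    obtain ⟨u, hu, v, hv, huv⟩ := Submodule.mem_sup.mp hab'
    -- `c = a - u = b + v`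
    have hcu : (ClSub.toSubscheme I₁).app W (toUnit u) = 0 :=
      (toSubscheme_app_eq_zero_iff I₁ ⟨W, hW⟩ (toUnit u)).mpr hu
    have hcv : (ClSub.toSubscheme I₂).app W (toUnit v) = 0 :=
      (toSubscheme_app_eq_zero_iff I₂ ⟨W, hW⟩ (toUnit v)).mpr hv
    have hc : a - toUnit u = b + toUnit v := by
      have : toUnit u + toUnit v = a - b := huv
      rw [← sub_eq_zero]
      have h2 : a - toUnit u - (b + toUnit v) = (a - b) - (toUnit u + toUnit v) := by abel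
      rw [h2, this, sub_self]
    refine ⟨(unitM X).presheaf.germ W x hxW (a - toUnit u), ?_⟩
    rw [stalkMap_germ, ← germ_res (ClSub.quotMod I₁ ⊞ ClSub.quotMod I₂) hWV x hxW t]
    congr 1
    refine biprod_section_ext W _ _ ?_ ?_
    · have e : (biprod.fst : ClSub.quotMod I₁ ⊞ ClSub.quotMod I₂ ⟶ _).app W
          ((biprod.lift (ClSub.toSubscheme I₁) (ClSub.toSubscheme I₂)).app W (a - toUnit u)) =
          (ClSub.toSubscheme I₁).app W (a - toUnit u) :=
        congrArg (fun φ : Coh.structureModule X ⟶ ClSub.quotMod I₁ => φ.app W (a - toUnit u))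
          (biprod.lift_fst _ _)
      rw [e, map_sub, hcu, sub_zero, ha]
    · have e : (biprod.snd : ClSub.quotMod I₁ ⊞ ClSub.quotMod I₂ ⟶ _).app W
          ((biprod.lift (ClSub.toSubscheme I₁) (ClSub.toSubscheme I₂)).app W (a - toUnit u)) =
          (ClSub.toSubscheme I₂).app W (a - toUnit u) :=
        congrArg (fun φ : Coh.structureModule X ⟶ ClSub.quotMod I₂ => φ.app W (a - toUnit u))
          (biprod.lift_snd _ _)
      rw [e, hc, map_add, hcv, add_zero, hb]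
  · rintro ⟨y, rfl⟩
    have := congrArg (fun φ => stalkMap φ x y) w
    simp only [Functor.map_comp, Functor.map_zero] at this
    exact this

end

end Groth.Agent.Lib.Helper25.HypTwist
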