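import Groth.Agent.Lib.Helper25.InjNoeth

/-!
# Testing injectivity of power torsion modules on finite torsion modules
-/

set_option autoImplicit false

universe u v

namespace Groth.Agent.Lib.Helper25

open InjHull

section Vanish

variable {R : Type u} [CommRing R] [IsNoetherianRing R] {H : Type v} [AddCommGroup H] [Module R H]

/-- Artin–Rees: a map from an ideal into a power torsion module kills the part of the ideal
in a large power of `J` -/
theorem exists_pow_vanish (J : Ideal R) (hH : LocCoh.IsPowerTorsion J H) (𝔞 : Ideal R)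
    (g₁ : 𝔞 →ₗ[R] H) : ∃ m : ℕ, ∀ x : 𝔞, (x : R) ∈ J ^ m → g₁ x = 0 := by
  classical
  obtain ⟨S, hS⟩ := (isNoetherianRing_iff_ideal_fg R).1 inferInstance 𝔞
  have hSI : ∀ a ∈ S, a ∈ 𝔞 := fun a ha => hS ▸ Submodule.subset_span ha
  have hex : ∀ a : S, ∃ n : ℕ, ∀ b ∈ J ^ n, b • g₁ ⟨a.1, hSI a.1 a.2⟩ = 0 := fun a => hH _
  choose N hN using hex
  let n : ℕ := S.attach.sup N
  let T : Submodule R H := Submodule.torsionBySet R H ((J ^ n : Ideal R) : Set R)
  have hT : ∀ x : 𝔞, g₁ x ∈ T := by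
    have hle : 𝔞 ≤ (T.comap g₁).map 𝔞.subtype := by
      have hS' : 𝔞 ≤ Ideal.span (S : Set R) := hS.ge
      refine hS'.trans ?_
      rw [Ideal.span, Submodule.span_le]
      intro a ha
      refine ⟨⟨a, hSI a ha⟩, ?_, rfl⟩
      rw [SetLike.mem_coe, Submodule.mem_comap, Submodule.mem_torsionBySet_iff]
      rintro ⟨b, hb⟩
      exact hN ⟨a, ha⟩ b (Ideal.pow_le_pow_right (Finset.le_sup (f := N)
        (Finset.mem_attach S ⟨a, ha⟩)) hb)
    intro x
    obtain ⟨x', hx', hxx'⟩ := hle x.2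
    have : x' = x := Subtype.ext hxx'
    rw [← this]
    exact hx'
  obtain ⟨k, hk⟩ := Ideal.exists_pow_inf_eq_pow_smul J (𝔞 : Submodule R R)
  refine ⟨n + k, ?_⟩
  have hle : (J ^ n • (𝔞 : Submodule R R)) ≤ (LinearMap.ker g₁).map 𝔞.subtype := by
    rw [Submodule.smul_le]
    intro j hj a ha
    refine ⟨⟨j • a, 𝔞.smul_mem j ha⟩, ?_, rfl⟩
    rw [SetLike.mem_coe, LinearMap.mem_ker]
    have : (⟨j • a, 𝔞.smul_mem j ha⟩ : 𝔞) = j • ⟨a, ha⟩ := rfl
    rw [this, map_smul]
    exact (Submodule.mem_torsionBySet_iff _ _).1 (hT ⟨a, ha⟩) ⟨j, hj⟩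
  intro x hx
  have hmem : (x : R) ∈ J ^ (n + k) • (⊤ : Submodule R R) ⊓ 𝔞 := by
    refine ⟨?_, x.2⟩
    rw [Ideal.smul_top_eq_map]
    simpa using hx
  rw [hk (n + k) (Nat.le_add_left k n), Nat.add_sub_cancel] at hmem
  have hmem2 : (x : R) ∈ J ^ n • (𝔞 : Submodule R R) :=
    Submodule.smul_mono le_rfl inf_le_right hmem
  obtain ⟨x', hx', hxx'⟩ := hle hmem2
  have : x' = x := Subtype.ext hxx'
  rw [← this]
  exact hx'

end Vanish

section Test

variable {A : Type u} [CommRing A] [IsNoetherianRing A] (J : Ideal A) {H : Type u}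
  [AddCommGroup H] [Module A H]

/-- a power torsion module is injective as soon as it is injective against finite modules
killed by a power of the ideal -/
theorem injective_of_test (hH : LocCoh.IsPowerTorsion J H)
    (h : ∀ (M : Type u) [AddCommGroup M] [Module A M], Module.Finite A M →
      (∃ k : ℕ, (J ^ k) • (⊤ : Submodule A M) = ⊥) →
      ∀ (N : Submodule A M) (g : N →ₗ[A] H), ∃ g' : M →ₗ[A] H, g'.comp N.subtype = g) :
    Module.Injective A H := by
  apply Module.Baer.injective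
  intro 𝔞 g
  obtain ⟨m, hm⟩ := exists_pow_vanish J hH 𝔞 g
  let N : Submodule A (A ⧸ J ^ m) := Submodule.map (Submodule.mkQ (J ^ m)) 𝔞
  let q : 𝔞 →ₗ[A] N := (Submodule.mkQ (J ^ m)).submoduleMap 𝔞
  have hq : Function.Surjective q := LinearMap.submoduleMap_surjective _ _
  have hker : LinearMap.ker q ≤ LinearMap.ker g := by
    intro x hx
    rw [LinearMap.mem_ker] at hx ⊢
    apply hm
    have : (Submodule.mkQ (J ^ m)) (x : A) = 0 := congrArg Subtype.val hx
    rwa [Submodule.mkQ_apply, Submodule.Quotient.mk_eq_zero] at this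
  let gbar : N →ₗ[A] H :=
    (Submodule.liftQ (LinearMap.ker q) g hker) ∘ₗ (q.quotKerEquivOfSurjective hq).symm.toLinearMap
  have hgbar : ∀ x : 𝔞, gbar (q x) = g x := by
    intro x
    change Submodule.liftQ (LinearMap.ker q) g hker ((q.quotKerEquivOfSurjective hq).symm (q x))
      = g x
    have : (q.quotKerEquivOfSurjective hq).symm (q x) = Submodule.Quotient.mk x := by
      rw [LinearEquiv.symm_apply_eq]
      rfl
    rw [this, Submodule.liftQ_apply]
  have hkill : ∃ k : ℕ, (J ^ k) • (⊤ : Submodule A (A ⧸ J ^ m)) = ⊥ := by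
    refine ⟨m, ?_⟩
    rw [eq_bot_iff, Submodule.smul_le]
    intro a ha y _
    obtain ⟨r, rfl⟩ := Submodule.mkQ_surjective _ y
    rw [Submodule.mem_bot, Submodule.mkQ_apply, ← Submodule.Quotient.mk_smul,
      Submodule.Quotient.mk_eq_zero, smul_eq_mul]
    exact Ideal.mul_mem_right _ _ ha
  obtain ⟨g', hg'⟩ := h (A ⧸ J ^ m) inferInstance hkill N gbar
  refine ⟨g' ∘ₗ Submodule.mkQ (J ^ m), fun x hx => ?_⟩
  rw [← hgbar ⟨x, hx⟩, ← hg']
  rfl

theorem injective_iff_test (hH : LocCoh.IsPowerTorsion J H) :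
    Module.Injective A H ↔ ∀ (M : Type u) [AddCommGroup M] [Module A M], Module.Finite A M →
      (∃ k : ℕ, (J ^ k) • (⊤ : Submodule A M) = ⊥) →
      ∀ (N : Submodule A M) (g : N →ₗ[A] H), ∃ g' : M →ₗ[A] H, g'.comp N.subtype = g := by
  constructor
  · intro hinj M _ _ _ _ N g
    obtain ⟨g', hg'⟩ := Module.Injective.out N.subtype N.subtype_injective g
    exact ⟨g', LinearMap.ext hg'⟩
  · exact injective_of_test J hH

end Test

end Groth.Agent.Lib.Helper25
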