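import Mathlib
import Groth.Agent.Lib.Helper23.FieldSep

set_option autoImplicit false
universe u
open scoped TensorProduct
open Polynomial

namespace Groth.Agent.Lib.Helper25.IntegralDZero

/-- The minimal polynomial of an integral element of a geometrically reduced algebra over a field
is separable. -/
theorem separable_minpoly_of_isGeometricallyReduced (k B : Type u) [Field k] [CommRing B]
    [Algebra k B] [Algebra.IsGeometricallyReduced k B] (b : B) (hb : IsIntegral k b) :
    (minpoly k b).Separable := by
  classical
  let K := AlgebraicClosure k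
  have hred : IsReduced (K ⊗[k] B) :=
    (Algebra.isGeometricallyReduced_field_iff k B).mp inferInstance
  rw [← Polynomial.separable_map (algebraMap k K), PerfectField.separable_iff_squarefree]
  set PK := (minpoly k b).map (algebraMap k K) with hPK
  have hPK0 : PK ≠ 0 := (Polynomial.Monic.map _ (minpoly.monic hb)).ne_zero
  have hdeg : PK.natDegree = (minpoly k b).natDegree := Polynomial.natDegree_map _
  set b' : K ⊗[k] B := (1 : K) ⊗ₜ[k] b with hb'
  have haev : aeval b' PK = 0 := by
    rw [hPK, Polynomial.aeval_map_algebraMap]
    have : b' = (Algebra.TensorProduct.includeRight : B →ₐ[k] K ⊗[k] B) b := rfl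
    rw [this, Polynomial.aeval_algHom_apply, minpoly.aeval, map_zero]
  have hli : LinearIndependent K (fun i : Fin (minpoly k b).natDegree =>
      (1 : K) ⊗ₜ[k] (b ^ (i : ℕ))) :=
    Module.Flat.linearIndependent_one_tmul (S := K) (linearIndependent_pow (K := k) b)
  intro q hq
  obtain ⟨r, hr⟩ := hq
  by_contra hqu
  have hq0 : q ≠ 0 := by
    rintro rfl
    apply hPK0; rw [hr]; simp
  have hr0 : r ≠ 0 := by
    rintro rfl
    apply hPK0; rw [hr]; simp
  have hqdeg : 0 < q.natDegree := by
    rw [Nat.pos_iff_ne_zero]
    intro h0
    apply hqu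
    rw [Polynomial.isUnit_iff_degree_eq_zero, Polynomial.degree_eq_natDegree hq0, h0]
    rfl
  set g := q * r with hg
  have hg0 : g ≠ 0 := mul_ne_zero hq0 hr0
  have hgdeg : g.natDegree < (minpoly k b).natDegree := by
    rw [← hdeg, hr, mul_assoc, ← hg, Polynomial.natDegree_mul hq0 hg0]
    omega
  have hgev : aeval b' g = 0 := by
    have h2 : (aeval b' g) ^ 2 = 0 := by
      rw [← map_pow]
      have : g ^ 2 = PK * r := by rw [hr, hg]; ring
      rw [this, map_mul, haev, zero_mul]
    exact IsReduced.eq_zero _ ⟨2, h2⟩
  rw [Polynomial.aeval_eq_sum_range' hgdeg, Finset.sum_range] at hgev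
  have hgev' : ∑ i : Fin (minpoly k b).natDegree, g.coeff i • ((1 : K) ⊗ₜ[k] (b ^ (i : ℕ))) = 0 := by
    rw [← hgev]
    refine Finset.sum_congr rfl (fun i _ => ?_)
    rw [hb', Algebra.TensorProduct.tmul_pow, one_pow]
  have hcoeff := Fintype.linearIndependent_iff.mp hli (fun i => g.coeff i) hgev'
  apply hg0
  ext i
  by_cases hi : i < (minpoly k b).natDegree
  · simpa using hcoeff ⟨i, hi⟩
  · rw [Polynomial.coeff_eq_zero_of_natDegree_lt (by omega)]; simp

/-- In a geometrically reduced algebra over a field, integral elements have zero differential. -/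
theorem D_eq_zero_of_isIntegral (k B : Type u) [Field k] [CommRing B] [Algebra k B]
    [Algebra.IsGeometricallyReduced k B] (b : B) (hb : IsIntegral k b) :
    KaehlerDifferential.D k B b = 0 := by
  obtain ⟨u, v, huv⟩ := separable_minpoly_of_isGeometricallyReduced k B b hb
  have h1 : aeval b v * aeval b (derivative (minpoly k b)) = 1 := by
    have := congrArg (aeval b) huv
    simpa [minpoly.aeval] using this
  have h2 : aeval b (derivative (minpoly k b)) • KaehlerDifferential.D k B b = 0 := by
    have := Derivation.map_aeval (KaehlerDifferential.D k B) (minpoly k b) b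
    rw [minpoly.aeval, map_zero] at this
    exact this.symm
  calc KaehlerDifferential.D k B b
      = (aeval b v * aeval b (derivative (minpoly k b))) • KaehlerDifferential.D k B b := by
        rw [h1, one_smul]
    _ = 0 := by rw [mul_smul, h2, smul_zero]

/-- Version over a ring that is a field (`IsField`), for formally smooth algebras. -/
theorem D_eq_zero_of_isIntegral_of_formallySmooth (R B : Type u) [CommRing R] (hR : IsField R)
    [CommRing B] [Algebra R B] [Algebra.FormallySmooth R B] [Algebra.EssFiniteType R B] (b : B)
    (hb : IsIntegral R b) :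
    KaehlerDifferential.D R B b = 0 := by
  letI := hR.toField
  haveI : Algebra.IsGeometricallyReduced R B :=
    Groth.Agent.Lib.Helper23.FieldSep.isGeometricallyReduced_of_formallySmooth R B
  exact D_eq_zero_of_isIntegral R B b hb

end Groth.Agent.Lib.Helper25.IntegralDZero
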