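import Mathlib
import Groth.Agent.Helper19.OmegaD8
import Groth.Agent.Lib.Helper25.IntegralDZero

set_option autoImplicit false
universe u
open CategoryTheory CategoryTheory.Limits AlgebraicGeometry TopologicalSpace
open scoped TensorProduct
open Groth.Agent.Lib.Helper29.QCoh Groth.Agent.Helper19.OmegaD Groth.Agent.Helper19.OmegaLocal

namespace Groth.Agent.Lib.Helper25.IntegralDZero

/-- For `X` smooth and universally closed over a field, a universal derivation kills global
functions. -/
theorem der_app_top_eq_zero (k : Type u) [Field k] {X : Scheme.{u}}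
    (f : X ⟶ Spec (CommRingCat.of k)) [UniversallyClosed f] [Smooth f]
    {Ω : X.Modules} (d : OmegaSh.Der f Ω) (hd : OmegaSh.IsUniversal d) (s : Γ(X, ⊤)) :
    d.app ⊤ s = 0 := by
  apply eq_of_res_basis_eq Ω X.affineOpens X.isBasis_affineOpens (d.app ⊤ s) 0
  intro U hU hUW
  rw [map_zero, ← der_res' d hUW s]
  have hV : IsAffineOpen (⊤ : (Spec (CommRingCat.of k)).Opens) := isAffineOpen_top _
  have hUV : U ≤ f ⁻¹ᵁ ⊤ := le_top
  letI := algΓ f hUV
  obtain ⟨E, hE⟩ := exists_linearEquiv_sections_of_universal f d hd hU hV hUV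
  apply E.injective
  rw [hE, map_zero]
  have hR : IsField Γ(Spec (CommRingCat.of k), ⊤) :=
    (Scheme.ΓSpecIso (.of k)).commRingCatIsoToRingEquiv.toMulEquiv.isField (Field.toIsField k)
  haveI : Algebra.Smooth Γ(Spec (CommRingCat.of k), ⊤) Γ(X, U) :=
    HasRingHomProperty.appLE (P := @Smooth) f inferInstance ⟨⊤, hV⟩ ⟨U, hU⟩ hUV
  haveI : Algebra.FormallySmooth Γ(Spec (CommRingCat.of k), ⊤) Γ(X, U) := inferInstance
  haveI : Algebra.EssFiniteType Γ(Spec (CommRingCat.of k), ⊤) Γ(X, U) := inferInstance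
  apply D_eq_zero_of_isIntegral_of_formallySmooth _ _ hR
  obtain ⟨p, hp, hps⟩ := isIntegral_appTop_of_universallyClosed f s
  refine ⟨p, hp, ?_⟩
  have := congrArg (X.presheaf.map (homOfLE hUW).op).hom hps
  rw [Polynomial.hom_eval₂, map_zero] at this
  exact this

end Groth.Agent.Lib.Helper25.IntegralDZero
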