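import Mathlib
import Groth.Agent.Lib.Helper14.ReducedUnramified

/-!
# Factoring homomorphisms through a separable isogeny: the kernel pair condition (helper25)
-/

set_option autoImplicit false
set_option linter.style.haveILetI false
set_option linter.unusedSectionVars false
universe u
open CategoryTheory CategoryTheory.Limits AlgebraicGeometry TopologicalSpace Opposite
  MonoidalCategory CartesianMonoidalCategory MonObj

namespace Groth.Agent.Lib.Helper25.IsogFac

/-- A scheme étale over a reduced locally Noetherian scheme is reduced. -/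
theorem isReduced_of_etale {X Y : Scheme.{u}} (p : X ⟶ Y) [Etale p] [IsReduced Y]
    [IsLocallyNoetherian Y] : IsReduced X := by
  haveI : ∀ x : X, _root_.IsReduced (X.presheaf.stalk x) := fun x => by
    have h1 : (p.stalkMap x).hom.Flat := Flat.stalkMap p x
    have h2 : (p.stalkMap x).hom.EssFiniteType := LocallyOfFiniteType.stalkMap p x
    have h3 : (p.stalkMap x).hom.FormallyUnramified := FormallyUnramified.stalkMap p x
    letI : Algebra (Y.presheaf.stalk (p x)) (X.presheaf.stalk x) := (p.stalkMap x).hom.toAlgebra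
    haveI : Module.Flat (Y.presheaf.stalk (p x)) (X.presheaf.stalk x) := h1
    haveI : Algebra.EssFiniteType (Y.presheaf.stalk (p x)) (X.presheaf.stalk x) := h2
    haveI : Algebra.FormallyUnramified (Y.presheaf.stalk (p x)) (X.presheaf.stalk x) := h3
    exact Groth.Agent.Lib.Helper14.isReduced_of_flat_of_formallyUnramified
      (Y.presheaf.stalk (p x)) (X.presheaf.stalk x)
  exact isReduced_of_isReduced_stalk X

section

variable (k : Type u) [Field k] [IsAlgClosed k] (E E' E'' : Over (Spec (CommRingCat.of k)))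
  [GrpObj E] [GrpObj E'] [GrpObj E''] [IsReduced E.left]
  [LocallyOfFiniteType E.hom] [IsSeparated E''.hom] [LocallyOfFiniteType E''.hom]
  (φ : E ⟶ E') [IsMonHom φ] [Etale φ.left]
  (ψ : E ⟶ E'') [IsMonHom ψ]
  (hker : ∀ P : 𝟙_ (Over (Spec (CommRingCat.of k))) ⟶ E, P ≫ φ = η[E'] → P ≫ ψ = η[E''])

include hker in
theorem kernelPair_condition :
    pullback.fst φ.left φ.left ≫ ψ.left = pullback.snd φ.left φ.left ≫ ψ.left := by
  haveI : IsLocallyNoetherian E.left := LocallyOfFiniteType.isLocallyNoetherian E.hom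
  haveI : IsReduced (pullback φ.left φ.left) := isReduced_of_etale (pullback.fst φ.left φ.left)
  let g : pullback φ.left φ.left ⟶ Spec (CommRingCat.of k) := pullback.fst φ.left φ.left ≫ E.hom
  have hwφ : φ.left ≫ E'.hom = E.hom := Over.w φ
  have hwψ : ψ.left ≫ E''.hom = E.hom := Over.w ψ
  have hsnd : pullback.snd φ.left φ.left ≫ E.hom = g := by
    change _ = pullback.fst φ.left φ.left ≫ E.hom
    rw [← hwφ, ← Category.assoc, ← Category.assoc, pullback.condition]
  have H' : (pullback.fst φ.left φ.left ≫ ψ.left) ≫ E''.hom =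
      (pullback.snd φ.left φ.left ≫ ψ.left) ≫ E''.hom := by
    rw [Category.assoc, Category.assoc, hwψ, hsnd]
  haveI : LocallyOfFiniteType ((pullback.fst φ.left φ.left ≫ ψ.left) ≫ E''.hom) := by
    rw [Category.assoc, hwψ]; infer_instance
  refine ext_of_apply_eq E''.hom Set.univ isOpen_univ.isLocallyClosed dense_univ
    (fun r _ hr => ?_) H'
  let r' : Spec (CommRingCat.of k) ⟶ pullback φ.left φ.left := pointOfClosedPoint g r hr
  have hr' : r' ≫ g = 𝟙 _ := pointOfClosedPoint_comp g r hr
  let pt : Spec (CommRingCat.of k) := IsLocalRing.closedPoint k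
  have hr'pt : r' pt = r := pointOfClosedPoint_apply g r hr pt
  let a : 𝟙_ (Over (Spec (CommRingCat.of k))) ⟶ E :=
    Over.homMk (r' ≫ pullback.fst φ.left φ.left) (by
      change (r' ≫ pullback.fst φ.left φ.left) ≫ E.hom = 𝟙 _
      rw [Category.assoc]; exact hr')
  let b : 𝟙_ (Over (Spec (CommRingCat.of k))) ⟶ E :=
    Over.homMk (r' ≫ pullback.snd φ.left φ.left) (by
      change (r' ≫ pullback.snd φ.left φ.left) ≫ E.hom = 𝟙 _
      rw [Category.assoc, hsnd]; exact hr')
  have hab : a ≫ φ = b ≫ φ := by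
    ext : 1
    change (r' ≫ pullback.fst φ.left φ.left) ≫ φ.left = (r' ≫ pullback.snd φ.left φ.left) ≫ φ.left
    rw [Category.assoc, Category.assoc, pullback.condition]
  have hP : (a⁻¹ * b) ≫ φ = η[E'] := by
    rw [MonObj.mul_comp, GrpObj.inv_comp, hab, inv_mul_cancel, MonObj.one_eq_one]
  have hQ := hker _ hP
  rw [MonObj.mul_comp, GrpObj.inv_comp, MonObj.one_eq_one, inv_mul_eq_one] at hQ
  have hleft : (r' ≫ pullback.fst φ.left φ.left) ≫ ψ.left =
      (r' ≫ pullback.snd φ.left φ.left) ≫ ψ.left := congrArg CommaMorphism.left hQ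
  have hpt := congrArg (fun m : Spec (CommRingCat.of k) ⟶ E''.left => m pt) hleft
  rw [← hr'pt]
  exact hpt

end

end Groth.Agent.Lib.Helper25.IsogFac
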