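import Mathlib
import Groth.Agent.Lib.Helper25.IsogFac1

/-!
# Factoring homomorphisms of elliptic curves through a separable isogeny (helper25)
-/

set_option autoImplicit false
set_option linter.style.haveILetI false
set_option linter.unusedSectionVars false
universe u
open CategoryTheory CategoryTheory.Limits AlgebraicGeometry TopologicalSpace Opposite
  MonoidalCategory CartesianMonoidalCategory MonObj

namespace Groth.Agent.Lib.Helper25.IsogFac

theorem main (k : Type u) [Field k] [IsAlgClosed k]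
    (E E' E'' : Over (Spec (CommRingCat.of k)))
    [GrpObj E] [IsProper E.hom] [Smooth E.hom] [IsIntegral E.left]
    [GrpObj E'] [IsProper E'.hom] [Smooth E'.hom] [IsIntegral E'.left]
    [GrpObj E''] [IsProper E''.hom] [Smooth E''.hom] [IsIntegral E''.left]
    (φ : E ⟶ E') [IsMonHom φ] [IsFinite φ.left] [Surjective φ.left] [Etale φ.left]
    (ψ : E ⟶ E'') [IsMonHom ψ]
    (hker : ∀ P : 𝟙_ (Over (Spec (CommRingCat.of k))) ⟶ E, P ≫ φ = η[E'] → P ≫ ψ = η[E'']) :
    ∃! ρ : E' ⟶ E'', IsMonHom ρ ∧ φ ≫ ρ = ψ := by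
  have hKP := kernelPair_condition k E E' E'' φ ψ hker
  haveI : EffectiveEpi φ.left := inferInstance
  have hdesc : ∀ {Z : Scheme.{u}} (a b : Z ⟶ E.left), a ≫ φ.left = b ≫ φ.left →
      a ≫ ψ.left = b ≫ ψ.left := by
    intro Z a b hab
    calc a ≫ ψ.left = (pullback.lift a b hab ≫ pullback.fst φ.left φ.left) ≫ ψ.left := by
          rw [pullback.lift_fst]
      _ = (pullback.lift a b hab ≫ pullback.snd φ.left φ.left) ≫ ψ.left := by
          rw [Category.assoc, hKP, ← Category.assoc]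
      _ = b ≫ ψ.left := by rw [pullback.lift_snd]
  let ρ₀ : E'.left ⟶ E''.left := EffectiveEpi.desc φ.left ψ.left hdesc
  have hfac : φ.left ≫ ρ₀ = ψ.left := EffectiveEpi.fac φ.left ψ.left hdesc
  haveI : Epi φ.left := inferInstance
  have hw : ρ₀ ≫ E''.hom = E'.hom := by
    rw [← cancel_epi φ.left, ← Category.assoc, hfac, Over.w ψ, Over.w φ]
  let ρ : E' ⟶ E'' := Over.homMk ρ₀ hw
  have hρ : φ ≫ ρ = ψ := by
    ext : 1
    exact hfac
  haveI : Epi φ := (Over.forget _).epi_of_epi_map (show Epi ((Over.forget _).map φ) from ‹Epi φ.left›)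
  have hone : η[E'] ≫ ρ = η[E''] := by
    rw [← IsMonHom.one_hom (f := φ), Category.assoc, hρ, IsMonHom.one_hom]
  have hfl : Flat (φ ⊗ₘ φ).left :=
    MorphismProperty.pullbackMap (P := @Flat) (inferInstanceAs (Flat φ.left))
      (inferInstanceAs (Flat φ.left)) (Over.w φ).symm (Over.w φ).symm
  haveI : MorphismProperty.IsStableUnderComposition @Surjective :=
    (inferInstance : MorphismProperty.IsMultiplicative @Surjective).toIsStableUnderComposition
  have hsu : Surjective (φ ⊗ₘ φ).left :=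
    MorphismProperty.pullbackMap (P := @Surjective) (inferInstanceAs (Surjective φ.left))
      (inferInstanceAs (Surjective φ.left)) (Over.w φ).symm (Over.w φ).symm
  have hqc : QuasiCompact (φ ⊗ₘ φ).left :=
    MorphismProperty.pullbackMap (P := @QuasiCompact) (inferInstanceAs (QuasiCompact φ.left))
      (inferInstanceAs (QuasiCompact φ.left)) (Over.w φ).symm (Over.w φ).symm
  haveI : EffectiveEpi (φ ⊗ₘ φ).left := inferInstance
  haveI : Epi (φ ⊗ₘ φ).left := inferInstance
  haveI : Epi (φ ⊗ₘ φ) :=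
    (Over.forget _).epi_of_epi_map (show Epi ((Over.forget _).map (φ ⊗ₘ φ)) from ‹Epi (φ ⊗ₘ φ).left›)
  have hmul : μ[E'] ≫ ρ = (ρ ⊗ₘ ρ) ≫ μ[E''] := by
    rw [← cancel_epi (φ ⊗ₘ φ), ← Category.assoc, ← IsMonHom.mul_hom (f := φ), Category.assoc, hρ,
      IsMonHom.mul_hom (f := ψ), ← Category.assoc, tensorHom_comp_tensorHom, hρ]
  refine ⟨ρ, ⟨⟨hone, hmul⟩, hρ⟩, ?_⟩
  rintro ρ' ⟨-, hρ'⟩
  rw [← cancel_epi φ, hρ', hρ]

end Groth.Agent.Lib.Helper25.IsogFac
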