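import Mathlib

/-!
# Function fields of finite flat covers: algebra lemmas (helper25)
-/

set_option autoImplicit false
set_option linter.style.haveILetI false
universe u
open TensorProduct

namespace Groth.Agent.Lib.Helper25.IsogGal

/-- For a finite flat injective extension of domains `A → B`, the extension of fraction fields is
finite of degree the generic rank of `B` over `A`. -/
theorem finrank_fractionRing_eq_rankAtStalk (A B K' K : Type u) [CommRing A] [IsDomain A]
    [CommRing B] [IsDomain B] [Algebra A B] [FaithfulSMul A B] [Module.Finite A B]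
    [Module.Flat A B]
    [Field K'] [Field K] [Algebra A K'] [IsFractionRing A K'] [Algebra B K] [IsFractionRing B K]
    [Algebra A K] [Algebra K' K] [IsScalarTower A K' K] [IsScalarTower A B K] :
    Module.Finite K' K ∧
      Module.finrank K' K = Module.rankAtStalk (R := A) B ⟨⊥, Ideal.isPrime_bot⟩ := by
  haveI : Algebra.IsAlgebraic A B := (Algebra.IsIntegral.of_finite A B).isAlgebraic
  have hbc := Algebra.IsAlgebraic.isBaseChange_of_isFractionRing A B K' K
  let e := hbc.equiv
  haveI : Module.Finite K' K := Module.Finite.equiv e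
  refine ⟨inferInstance, ?_⟩
  rw [← e.finrank_eq]
  have h1 := Module.rankAtStalk_baseChange (R := A) (M := B) (S := K') ⟨⊥, Ideal.isPrime_bot⟩
  have h2 : Module.rankAtStalk (R := K') (K' ⊗[A] B) ⟨⊥, Ideal.isPrime_bot⟩ =
      Module.finrank K' (K' ⊗[A] B) := by
    rw [Module.rankAtStalk_eq_finrank_of_free]; rfl
  have h3 : (⟨⊥, Ideal.isPrime_bot⟩ : PrimeSpectrum K').comap (algebraMap A K') =
      ⟨⊥, Ideal.isPrime_bot⟩ := by
    apply PrimeSpectrum.ext
    change Ideal.comap (algebraMap A K') ⊥ = ⊥
    rw [Ideal.comap_bot_of_injective _ (IsFractionRing.injective A K')]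
  rw [← h2, h1, h3]

/-- A finite field extension with at least `[K : K']` automorphisms is Galois. -/
theorem isGalois_of_finrank_le_card (K' K : Type u) [Field K'] [Field K] [Algebra K' K]
    [FiniteDimensional K' K] {S : Type*} (ι : S → (K ≃ₐ[K'] K)) (hι : Function.Injective ι)
    (hS : Module.finrank K' K ≤ Nat.card S) :
    IsGalois K' K ∧ Nat.card (K ≃ₐ[K'] K) = Nat.card S := by
  have h1 : Nat.card S ≤ Nat.card (K ≃ₐ[K'] K) := Nat.card_le_card_of_injective ι hι
  have h2 : Nat.card (K ≃ₐ[K'] K) ≤ Module.finrank K' K := by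
    rw [Nat.card_eq_fintype_card]
    exact AlgEquiv.card_le
  have h3 : Nat.card (K ≃ₐ[K'] K) = Module.finrank K' K := le_antisymm h2 (hS.trans h1)
  exact ⟨IsGalois.of_card_aut_eq_finrank K' K h3, le_antisymm (h2.trans hS) h1⟩

end Groth.Agent.Lib.Helper25.IsogGal
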