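import Mathlib
import Groth.Agent.Lib.Helper25.IsogGal1

/-!
# Function field extension of a finite flat morphism of integral schemes (helper25)
-/

set_option autoImplicit false
set_option linter.style.haveILetI false
set_option linter.unusedSectionVars false
universe u
open CategoryTheory CategoryTheory.Limits AlgebraicGeometry TopologicalSpace Opposite

namespace Groth.Agent.Lib.Helper25.IsogGal

variable {X Y : Scheme.{u}} [IsIntegral X] [IsIntegral Y] (f : X ⟶ Y)
  (e : f (genericPoint X) = genericPoint Y)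

/-- the function field extension induced by a morphism sending generic point to generic point -/
@[reducible] noncomputable def ffAlg : Algebra Y.functionField X.functionField :=
  ((Y.presheaf.stalkSpecializes (specializes_of_eq e) ≫ f.stalkMap (genericPoint X)).hom).toAlgebra

theorem ffAlg_germ (V' : Y.Opens) (hV' : genericPoint Y ∈ V') (a : Γ(Y, V')) :
    letI := ffAlg f e
    algebraMap Y.functionField X.functionField (Y.presheaf.germ V' (genericPoint Y) hV' a) =
      X.presheaf.germ (f ⁻¹ᵁ V') (genericPoint X) (show f (genericPoint X) ∈ V' from e ▸ hV')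
        ((f.app V').hom a) := by
  letI := ffAlg f e
  change (f.stalkMap (genericPoint X)).hom ((Y.presheaf.stalkSpecializes (specializes_of_eq e)).hom
    (Y.presheaf.germ V' (genericPoint Y) hV' a)) = _
  have h1 : (Y.presheaf.stalkSpecializes (specializes_of_eq e)).hom
      (Y.presheaf.germ V' (genericPoint Y) hV' a) =
      Y.presheaf.germ V' (f (genericPoint X)) (e ▸ hV') a :=
    TopCat.Presheaf.germ_stalkSpecializes_apply Y.presheaf hV' (specializes_of_eq e) a
  rw [h1]
  exact Scheme.Hom.germ_stalkMap_apply f V' (genericPoint X) (e ▸ hV') a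

theorem finite_and_finrank_eq [IsFinite f] [Flat f] [LocallyOfFinitePresentation f] (y : Y) :
    letI := ffAlg f e
    Module.Finite Y.functionField X.functionField ∧
      Module.finrank Y.functionField X.functionField = f.finrank y := by
  letI := ffAlg f e
  obtain ⟨_, ⟨V', hV', rfl⟩, hηV', -⟩ := Y.isBasis_affineOpens.exists_subset_of_mem_open
    (Set.mem_univ (genericPoint Y)) isOpen_univ
  have hV : IsAffineOpen (f ⁻¹ᵁ V') := hV'.preimage f
  have hηV : genericPoint X ∈ f ⁻¹ᵁ V' := by
    change f (genericPoint X) ∈ V'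
    rw [e]; exact hηV'
  haveI : Nonempty V' := ⟨⟨_, hηV'⟩⟩
  haveI : Nonempty ((f ⁻¹ᵁ V' : X.Opens) : Scheme.{u}) := ⟨⟨_, hηV⟩⟩
  letI : Algebra Γ(Y, V') Γ(X, f ⁻¹ᵁ V') := (f.app V').hom.toAlgebra
  haveI : IsFractionRing Γ(Y, V') Y.functionField :=
    functionField_isFractionRing_of_isAffineOpen Y V' hV'
  haveI : IsFractionRing Γ(X, f ⁻¹ᵁ V') X.functionField :=
    functionField_isFractionRing_of_isAffineOpen X _ hV
  letI : Algebra Γ(Y, V') X.functionField :=
    ((algebraMap Γ(X, f ⁻¹ᵁ V') X.functionField).comp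
      (algebraMap Γ(Y, V') Γ(X, f ⁻¹ᵁ V'))).toAlgebra
  haveI : IsScalarTower Γ(Y, V') Γ(X, f ⁻¹ᵁ V') X.functionField :=
    IsScalarTower.of_algebraMap_eq' rfl
  haveI : IsScalarTower Γ(Y, V') Y.functionField X.functionField := by
    refine IsScalarTower.of_algebraMap_eq fun a => ?_
    exact (ffAlg_germ f e V' hηV' a).symm
  haveI hfin : Module.Finite Γ(Y, V') Γ(X, f ⁻¹ᵁ V') := f.finite_app V' hV'
  haveI hflat : Module.Flat Γ(Y, V') Γ(X, f ⁻¹ᵁ V') := by
    have := f.flat_appLE hV' hV le_rfl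
    rw [Scheme.Hom.appLE_eq_app] at this
    exact this
  haveI : FaithfulSMul Γ(Y, V') Γ(X, f ⁻¹ᵁ V') := by
    rw [faithfulSMul_iff_algebraMap_injective]
    intro a b hab
    apply IsFractionRing.injective Γ(Y, V') Y.functionField
    apply (algebraMap Y.functionField X.functionField).injective
    rw [← IsScalarTower.algebraMap_apply Γ(Y, V') Y.functionField X.functionField,
      ← IsScalarTower.algebraMap_apply Γ(Y, V') Y.functionField X.functionField,
      IsScalarTower.algebraMap_apply Γ(Y, V') Γ(X, f ⁻¹ᵁ V') X.functionField,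
      IsScalarTower.algebraMap_apply Γ(Y, V') Γ(X, f ⁻¹ᵁ V') X.functionField, hab]
  obtain ⟨h1, h2⟩ := finrank_fractionRing_eq_rankAtStalk Γ(Y, V') Γ(X, f ⁻¹ᵁ V')
    Y.functionField X.functionField
  refine ⟨h1, ?_⟩
  rw [h2]
  haveI := hV'.isOpenImmersion_fromSpec
  haveI := hV.isOpenImmersion_fromSpec
  have hpb : IsPullback (Spec.map (f.appLE V' (f ⁻¹ᵁ V') le_rfl)) hV.fromSpec hV'.fromSpec f :=
    IsOpenImmersion.isPullback _ _ _ _ (hV'.SpecMap_appLE_fromSpec f hV le_rfl).symm
      (by rw [hV'.opensRange_fromSpec, hV.opensRange_fromSpec])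
  have h3 := Scheme.Hom.finrank_of_isPullback hV.fromSpec (Spec.map (f.appLE V' (f ⁻¹ᵁ V') le_rfl))
    f hV'.fromSpec hpb.flip ⟨⊥, Ideal.isPrime_bot⟩
  have h4 := (Scheme.Hom.isLocallyConstant_finrank f).apply_eq_of_preconnectedSpace y
    (hV'.fromSpec ⟨⊥, Ideal.isPrime_bot⟩)
  have h5 := Scheme.Hom.finrank_SpecMap_algebraMap Γ(Y, V') Γ(X, f ⁻¹ᵁ V') ⟨⊥, Ideal.isPrime_bot⟩
  rw [h4, ← h3, ← h5, Scheme.Hom.appLE_eq_app]
  rfl

end Groth.Agent.Lib.Helper25.IsogGal
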