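import Mathlib
import Groth.Agent.Lib.Helper25.IsogGal2
import Groth.Agent.Lib.Helper25.PowTangent5
import Groth.Agent.Lib.Helper10.FibCard2

/-!
# The function field of a separable isogeny is Galois with group the kernel points (helper25)
-/

set_option autoImplicit false
set_option linter.style.haveILetI false
set_option linter.unusedSectionVars false
universe u
open CategoryTheory CategoryTheory.Limits AlgebraicGeometry TopologicalSpace Opposite
  MonoidalCategory CartesianMonoidalCategory MonObj

namespace Groth.Agent.Lib.Helper25.IsogGal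

open Groth.Agent.Lib.Helper25.PowTangent

section FF

variable {X Y : Scheme.{u}} [IsIntegral X] [IsIntegral Y] (f : X ⟶ Y)
  (e : f (genericPoint X) = genericPoint Y)

/-- the ring map of function fields -/
noncomputable def ffMap : Y.functionField →+* X.functionField :=
  (Y.presheaf.stalkSpecializes (specializes_of_eq e) ≫ f.stalkMap (genericPoint X)).hom

theorem ffMap_germ (V' : Y.Opens) (hV' : genericPoint Y ∈ V')
    (hV : genericPoint X ∈ f ⁻¹ᵁ V') (a : Γ(Y, V')) :
    ffMap f e (Y.presheaf.germ V' (genericPoint Y) hV' a) =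
      X.presheaf.germ (f ⁻¹ᵁ V') (genericPoint X) hV ((f.app V').hom a) :=
  ffAlg_germ f e V' hV' a

theorem germ_congr_hom (g : X ⟶ Y) (hg : g = f) (V' : Y.Opens) (a : Γ(Y, V'))
    (h : genericPoint X ∈ g ⁻¹ᵁ V') (h' : genericPoint X ∈ f ⁻¹ᵁ V') :
    X.presheaf.germ (g ⁻¹ᵁ V') (genericPoint X) h ((g.app V').hom a) =
      X.presheaf.germ (f ⁻¹ᵁ V') (genericPoint X) h' ((f.app V').hom a) := by
  subst hg; rfl

variable (T : X ⟶ X) (hTη : T (genericPoint X) = genericPoint X) (hT : T ≫ f = f)

include hT in
theorem ffMap_comp_apply (z : Y.functionField) : ffMap T hTη (ffMap f e z) = ffMap f e z := by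
  obtain ⟨V', hV', a, rfl⟩ := TopCat.Presheaf.exists_germ_eq Y.presheaf z
  have hV : genericPoint X ∈ f ⁻¹ᵁ V' := (show f (genericPoint X) ∈ V' from e ▸ hV')
  have hTV : genericPoint X ∈ T ⁻¹ᵁ (f ⁻¹ᵁ V') :=
    (show T (genericPoint X) ∈ f ⁻¹ᵁ V' from hTη.symm ▸ hV)
  rw [ffMap_germ f e V' hV' hV a, ffMap_germ T hTη (f ⁻¹ᵁ V') hV hTV ((f.app V').hom a)]
  exact germ_congr_hom f (T ≫ f) hT V' a hTV hV

/-- the `K(Y)`-algebra endomorphism of `K(X)` induced by an endomorphism of `X` over `Y` -/
noncomputable def ffAlgHom :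
    letI := ffAlg f e
    X.functionField →ₐ[Y.functionField] X.functionField :=
  letI := ffAlg f e
  { ffMap T hTη with
    commutes' := fun z => ffMap_comp_apply f e T hTη hT z }

theorem ffAlgHom_apply (z : X.functionField) :
    letI := ffAlg f e
    ffAlgHom f e T hTη hT z = ffMap T hTη z := rfl

theorem SpecMap_ffMap_fromSpecStalk :
    Spec.map (CommRingCat.ofHom (ffMap T hTη)) ≫ X.fromSpecStalk (genericPoint X) =
      X.fromSpecStalk (genericPoint X) ≫ T := by
  have h1 : CommRingCat.ofHom (ffMap T hTη) =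
      X.presheaf.stalkSpecializes (specializes_of_eq hTη) ≫ T.stalkMap (genericPoint X) := rfl
  rw [h1, Spec.map_comp, Category.assoc, Scheme.SpecMap_stalkSpecializes_fromSpecStalk,
    Scheme.SpecMap_stalkMap_fromSpecStalk]

theorem isDominant_fromSpecStalk_genericPoint :
    IsDominant (X.fromSpecStalk (genericPoint X)) := by
  refine ⟨?_⟩
  have h1 : genericPoint X ∈ Set.range (X.fromSpecStalk (genericPoint X)) := by
    rw [Scheme.range_fromSpecStalk]
    exact specializes_rfl
  have h2 : closure ({genericPoint X} : Set X) = Set.univ := (genericPoint_spec X).def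
  rw [DenseRange, dense_iff_closure_eq, ← Set.univ_subset_iff, ← h2]
  exact closure_mono (Set.singleton_subset_iff.mpr h1)

end FF

section transl

variable {C : Type*} [Category C] [CartesianMonoidalCategory C] {G H : C} [GrpObj G] [GrpObj H]

theorem transl_comp_hom (φ : G ⟶ H) [IsMonHom φ] (P : 𝟙_ C ⟶ G) (hP : P ≫ φ = η[H]) :
    transl G P ≫ φ = φ := by
  unfold transl
  rw [MonObj.mul_comp, Category.assoc, hP, Category.id_comp, MonObj.one_eq_one, MonObj.comp_one,
    _root_.one_mul]

theorem one_comp_transl (P : 𝟙_ C ⟶ G) : η[G] ≫ transl G P = P := by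
  unfold transl
  rw [MonObj.comp_mul, Category.comp_id, ← Category.assoc,
    toUnit_unique (η[G] ≫ toUnit G) (𝟙 _), Category.id_comp, MonObj.one_eq_one, _root_.mul_one]

theorem transl_injective : Function.Injective (transl G) := by
  intro P Q h
  rw [← one_comp_transl P, ← one_comp_transl Q, h]

end transl

section Kernel

variable (k : Type u) [Field k] [IsAlgClosed k] (E E' : Over (Spec (CommRingCat.of k)))
  [GrpObj E']

theorem card_kernel (φ : E ⟶ E') [IsFinite φ.left] [Etale φ.left]
    (pt : Spec (CommRingCat.of k)) :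
    Nat.card {P : 𝟙_ (Over (Spec (CommRingCat.of k))) ⟶ E // P ≫ φ = η[E']} =
      φ.left.finrank ((η[E'] : 𝟙_ (Over (Spec (CommRingCat.of k))) ⟶ E').left pt) := by
  let z : Spec (CommRingCat.of k) ⟶ E'.left :=
    (η[E'] : 𝟙_ (Over (Spec (CommRingCat.of k))) ⟶ E').left
  have hz : z ≫ E'.hom = 𝟙 _ := Over.w (η[E'] : 𝟙_ (Over (Spec (CommRingCat.of k))) ⟶ E')
  rw [← Scheme.Hom.finrank_pullback_snd φ.left z pt,
    ← Groth.Agent.Lib.Helper10.FibCard.card_sections (pullback.snd φ.left z) pt]
  refine Nat.card_congr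
    { toFun := fun P => ⟨pullback.lift P.1.left (𝟙 _) (by
          rw [Category.id_comp, ← Over.comp_left, P.2]), pullback.lift_snd _ _ _⟩
      invFun := fun s => ⟨Over.homMk (s.1 ≫ pullback.fst φ.left z) (by
          have h1 : φ.left ≫ E'.hom = E.hom := Over.w φ
          change (s.1 ≫ pullback.fst φ.left z) ≫ E.hom = 𝟙 _
          rw [← h1, Category.assoc, ← Category.assoc (pullback.fst φ.left z),
            pullback.condition, Category.assoc, hz, Category.comp_id, s.2]), by
          ext
          change (s.1 ≫ pullback.fst φ.left z) ≫ φ.left = z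
          rw [Category.assoc, pullback.condition, ← Category.assoc, s.2, Category.id_comp]⟩
      left_inv := fun P => by
        apply Subtype.ext
        ext
        exact pullback.lift_fst _ _ _
      right_inv := fun s => by
        apply Subtype.ext
        apply pullback.hom_ext
        · exact pullback.lift_fst _ _ _
        · exact (pullback.lift_snd _ _ _).trans s.2.symm }

end Kernel

end Groth.Agent.Lib.Helper25.IsogGal
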