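import Mathlib
import Groth.Agent.Lib.Helper25.IsogGal3

/-!
# The function field of a separable isogeny of elliptic curves is Galois (helper25)
-/

set_option autoImplicit false
set_option linter.style.haveILetI false
set_option linter.unusedSectionVars false
set_option linter.unusedVariables false
universe u
open CategoryTheory CategoryTheory.Limits AlgebraicGeometry TopologicalSpace Opposite
  MonoidalCategory CartesianMonoidalCategory MonObj

namespace Groth.Agent.Lib.Helper25.IsogGal

open Groth.Agent.Lib.Helper25.PowTangent

theorem main (k : Type u) [Field k] [IsAlgClosed k]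
    (E E' : Over (Spec (CommRingCat.of k)))
    [GrpObj E] [IsProper E.hom] [Smooth E.hom] [IsIntegral E.left]
    [GrpObj E'] [IsProper E'.hom] [Smooth E'.hom] [IsIntegral E'.left]
    (φ : E ⟶ E') [IsMonHom φ] [IsFinite φ.left] [Surjective φ.left] [Etale φ.left]
    (e : φ.left (genericPoint E.left) = genericPoint E'.left) :
    letI := ((E'.left.presheaf.stalkSpecializes (specializes_of_eq e) ≫
      φ.left.stalkMap (genericPoint E.left)).hom).toAlgebra
    IsGalois E'.left.functionField E.left.functionField ∧
      Nat.card (E.left.functionField ≃ₐ[E'.left.functionField] E.left.functionField) =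
        Nat.card {P : 𝟙_ (Over (Spec (CommRingCat.of k))) ⟶ E // P ≫ φ = η[E']} := by
  letI := ffAlg φ.left e
  let pt : Spec (CommRingCat.of k) := (⟨⊥, Ideal.isPrime_bot⟩ : PrimeSpectrum k)
  obtain ⟨hfin, hrank⟩ := finite_and_finrank_eq φ.left e
    ((η[E'] : 𝟙_ (Over (Spec (CommRingCat.of k))) ⟶ E').left pt)
  haveI := hfin
  have hcard := card_kernel k E E' φ pt
  have hTη : ∀ P : 𝟙_ (Over (Spec (CommRingCat.of k))) ⟶ E,
      (transl E P).left (genericPoint E.left) = genericPoint E.left := fun P => by
    haveI : IsIso (transl E P) := isIso_transl E P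
    haveI : IsIso (transl E P).left :=
      inferInstanceAs (IsIso ((Over.forget _).map (transl E P)))
    exact genericPoint_eq_of_isOpenImmersion (transl E P).left
  have hTφ : ∀ P : {P : 𝟙_ (Over (Spec (CommRingCat.of k))) ⟶ E // P ≫ φ = η[E']},
      (transl E P.1).left ≫ φ.left = φ.left := fun P => by
    rw [← Over.comp_left, transl_comp_hom φ P.1 P.2]
  let Ψ : {P : 𝟙_ (Over (Spec (CommRingCat.of k))) ⟶ E // P ≫ φ = η[E']} →
      (E.left.functionField ≃ₐ[E'.left.functionField] E.left.functionField) := fun P =>
    AlgEquiv.ofBijective (ffAlgHom φ.left e (transl E P.1).left (hTη P.1) (hTφ P))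
      (Algebra.IsAlgebraic.algHom_bijective _)
  have hΨ : Function.Injective Ψ := by
    intro P Q hPQ
    apply Subtype.ext
    apply transl_injective (G := E)
    ext : 1
    haveI := isDominant_fromSpecStalk_genericPoint (X := E.left)
    refine ext_of_isDominant_of_isSeparated E.hom ?_
      (E.left.fromSpecStalk (genericPoint E.left)) ?_
    · rw [Over.w, Over.w]
    · rw [← SpecMap_ffMap_fromSpecStalk (transl E P.1).left (hTη P.1),
        ← SpecMap_ffMap_fromSpecStalk (transl E Q.1).left (hTη Q.1)]
      congr 3
      ext z
      exact congrArg (fun σ => σ z) hPQ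
  exact isGalois_of_finrank_le_card E'.left.functionField E.left.functionField Ψ hΨ
    (by rw [hrank, hcard])

end Groth.Agent.Lib.Helper25.IsogGal
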