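import Groth.Agent.Lib.Helper25.JacLocusAlg4
import Groth.Agent.Helper19.OmegaLocal2
import Groth.Agent.Helper19.FittSheaf2
import Groth.Agent.Helper19.FittLib4

/-!
# Jacobian loci: points outside `V(Fit_p Ω)` have neighbourhoods closed in smooth schemes of
relative dimension `p`
-/

set_option autoImplicit false
set_option linter.style.haveILetI false
universe u
open CategoryTheory CategoryTheory.Limits AlgebraicGeometry TopologicalSpace
open scoped TensorProduct

namespace Groth.Agent.Lib.Helper25.JacLocus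

open Groth.Agent.Helper19.OmegaLocal Groth.Agent.Helper19.FittSheaf Groth.Agent.Helper19.FittLib
  Groth.Agent.Lib.Helper29.QCoh

variable {X Y : Scheme.{u}} (f : X ⟶ Y) [LocallyOfFiniteType f] [QuasiSeparated f] (p : ℕ)

/-- Membership in the `p`-th Jacobian locus in terms of the Kähler differentials of an affine
chart. -/
theorem mem_support_iff_kaehler {W : X.Opens} (hW : IsAffineOpen W) {V₀ : Y.Opens}
    (hV₀ : IsAffineOpen V₀) (e : W ≤ f ⁻¹ᵁ V₀) (x : X) (hx : x ∈ W) :
    letI := algΓ f e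
    x ∈ (Fitt.sheafIdeal (Omega.sheaf f) p).support ↔
      Fitt.ideal Γ(X, W) Ω[Γ(X, W)⁄Γ(Y, V₀)] p ≤ (hW.primeIdealOf ⟨x, hx⟩).asIdeal := by
  letI := algΓ f e
  obtain ⟨E⟩ := nonempty_linearEquiv_sections_omega f hW hV₀ e
  rw [mem_support_sheafIdeal_iff (Omega.sheaf f) p ⟨W, hW⟩ hx, ideal_congr E p]

theorem exists_closedImmersion_of_notMem (x : X)
    (hx : x ∉ (Fitt.sheafIdeal (Omega.sheaf f) p).support) :
    ∃ (U : X.Opens) (U' : Scheme.{u}) (i : (U : Scheme.{u}) ⟶ U') (g : U' ⟶ Y),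
        x ∈ U ∧ IsClosedImmersion i ∧ SmoothOfRelativeDimension p g ∧ i ≫ g = U.ι ≫ f := by
  obtain ⟨V₀, hV₀, hxV₀, -⟩ := exists_isAffineOpen_mem_and_subset (x := f x) (U := ⊤) trivial
  obtain ⟨W, hW, hxW, e⟩ := exists_isAffineOpen_mem_and_subset (x := x) (U := f ⁻¹ᵁ V₀) hxV₀
  letI := algΓ f e
  haveI : Algebra.FiniteType Γ(Y, V₀) Γ(X, W) := by
    have := f.finiteType_appLE hV₀ hW e
    exact this
  rw [mem_support_iff_kaehler f p hW hV₀ e x hxW] at hx
  obtain ⟨g, hg, C, _, _, hC, hφ⟩ :=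
    exists_standardSmooth_surjective p (hW.primeIdealOf ⟨x, hxW⟩).asIdeal hx
  have hxg : x ∈ X.basicOpen g := (mem_basicOpen_iff_notMem_primeIdealOf hW x hxW g).mpr hg
  have hU : IsAffineOpen (X.basicOpen g) := hW.basicOpen g
  have e' : X.basicOpen g ≤ f ⁻¹ᵁ V₀ := (X.basicOpen_le g).trans e
  letI : Algebra Γ(X, W) Γ(X, X.basicOpen g) :=
    (X.presheaf.map (homOfLE (X.basicOpen_le g)).op).hom.toAlgebra
  letI : Algebra Γ(Y, V₀) Γ(X, X.basicOpen g) := (f.appLE V₀ (X.basicOpen g) e').hom.toAlgebra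
  haveI : IsScalarTower Γ(Y, V₀) Γ(X, W) Γ(X, X.basicOpen g) := by
    apply IsScalarTower.of_algebraMap_eq'
    rw [RingHom.algebraMap_toAlgebra, RingHom.algebraMap_toAlgebra, RingHom.algebraMap_toAlgebra,
      ← CommRingCat.hom_comp, Scheme.Hom.appLE_map]
  haveI : IsLocalization.Away g Γ(X, X.basicOpen g) := hW.isLocalization_basicOpen g
  obtain ⟨φ, hφs⟩ := hφ Γ(X, X.basicOpen g)
  refine ⟨X.basicOpen g, Spec (CommRingCat.of C),
    hU.isoSpec.hom ≫ Spec.map (CommRingCat.ofHom φ.toRingHom),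
    Spec.map (CommRingCat.ofHom (algebraMap Γ(Y, V₀) C)) ≫ hV₀.fromSpec, hxg, ?_, ?_, ?_⟩
  · haveI : IsClosedImmersion (Spec.map (CommRingCat.ofHom φ.toRingHom)) :=
      IsClosedImmersion.spec_of_surjective _ hφs
    infer_instance
  · haveI : SmoothOfRelativeDimension p
        (Spec.map (CommRingCat.ofHom (algebraMap Γ(Y, V₀) C))) := by
      rw [HasRingHomProperty.Spec_iff (P := @SmoothOfRelativeDimension p)]
      apply RingHom.locally_of RingHom.isStandardSmoothOfRelativeDimension_respectsIso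
      rw [CommRingCat.hom_ofHom, RingHom.isStandardSmoothOfRelativeDimension_algebraMap]
      exact hC
    exact inferInstanceAs (SmoothOfRelativeDimension (p + 0) _)
  · rw [Category.assoc, ← Spec.map_comp_assoc]
    have h1 : CommRingCat.ofHom (algebraMap Γ(Y, V₀) C) ≫ CommRingCat.ofHom φ.toRingHom =
        f.appLE V₀ (X.basicOpen g) e' := by
      ext a
      exact φ.commutes a
    rw [h1, IsAffineOpen.SpecMap_appLE_fromSpec f hV₀ hU e', ← Category.assoc,
      hU.isoSpec_hom_fromSpec]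

end Groth.Agent.Lib.Helper25.JacLocus
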