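import Groth.Agent.Lib.Helper25.JacLocus1

/-!
# Jacobian loci: points with a neighbourhood closed in a smooth scheme of relative dimension `p`
lie outside `V(Fit_p Ω)`
-/

set_option autoImplicit false
set_option linter.style.haveILetI false
universe u
open CategoryTheory CategoryTheory.Limits AlgebraicGeometry TopologicalSpace
open scoped TensorProduct

namespace Groth.Agent.Lib.Helper25.JacLocus

open Groth.Agent.Helper19.OmegaLocal Groth.Agent.Helper19.FittSheaf Groth.Agent.Helper19.FittLib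
  Groth.Agent.Lib.Helper29.QCoh

variable {X Y : Scheme.{u}} (f : X ⟶ Y) [LocallyOfFiniteType f] [QuasiSeparated f] (p : ℕ)

theorem notMem_of_closedImmersion (x : X) (U : X.Opens) (U' : Scheme.{u})
    (i : (U : Scheme.{u}) ⟶ U') (g : U' ⟶ Y) (hxU : x ∈ U) [IsClosedImmersion i]
    [SmoothOfRelativeDimension p g] (hig : i ≫ g = U.ι ≫ f) :
    x ∉ (Fitt.sheafIdeal (Omega.sheaf f) p).support := by
  obtain ⟨V₀, hV₀, W', hW', hx'W', e₁, hsm⟩ :=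
    SmoothOfRelativeDimension.exists_isStandardSmoothOfRelativeDimension (n := p) (f := g)
      (i ⟨x, hxU⟩)
  have hW₁ : IsAffineOpen (i ⁻¹ᵁ W') := hW'.preimage i
  have hW : IsAffineOpen (U.ι ''ᵁ (i ⁻¹ᵁ W')) := hW₁.image_of_isOpenImmersion U.ι
  have hxW : x ∈ U.ι ''ᵁ (i ⁻¹ᵁ W') := ⟨⟨x, hxU⟩, hx'W', rfl⟩
  have e₂ : i ⁻¹ᵁ W' ≤ (i ≫ g) ⁻¹ᵁ V₀ := fun z hz => e₁ hz
  have e₃ : i ⁻¹ᵁ W' ≤ (U.ι ≫ f) ⁻¹ᵁ V₀ := hig ▸ e₂
  have e : U.ι ''ᵁ (i ⁻¹ᵁ W') ≤ f ⁻¹ᵁ V₀ := by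
    rintro _ ⟨z, hz, rfl⟩
    exact e₃ hz
  have hcomp : f.appLE V₀ (U.ι ''ᵁ (i ⁻¹ᵁ W')) e =
      g.appLE V₀ W' e₁ ≫ i.appLE W' (i ⁻¹ᵁ W') le_rfl := by
    rw [Scheme.Hom.appLE_comp_appLE]
    have key : (U.ι ≫ f).appLE V₀ (i ⁻¹ᵁ W') e₃ = f.appLE V₀ (U.ι ''ᵁ (i ⁻¹ᵁ W')) e := by
      rw [Scheme.Hom.comp_appLE, Scheme.Opens.ι_appLE]
      rfl
    rw [← key]
    exact appLE_congr_hom hig.symm _ _ _ _
  rw [mem_support_iff_kaehler f p hW hV₀ e x hxW]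
  letI := algΓ f e
  letI : Algebra Γ(Y, V₀) Γ(U', W') := (g.appLE V₀ W' e₁).hom.toAlgebra
  letI : Algebra Γ(U', W') Γ(X, U.ι ''ᵁ (i ⁻¹ᵁ W')) :=
    (i.appLE W' (i ⁻¹ᵁ W') le_rfl).hom.toAlgebra
  haveI : IsScalarTower Γ(Y, V₀) Γ(U', W') Γ(X, U.ι ''ᵁ (i ⁻¹ᵁ W')) := by
    apply IsScalarTower.of_algebraMap_eq'
    change (f.appLE V₀ (U.ι ''ᵁ (i ⁻¹ᵁ W')) e).hom =
      (i.appLE W' (i ⁻¹ᵁ W') le_rfl).hom.comp (g.appLE V₀ W' e₁).hom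
    rw [hcomp]
    rfl
  haveI : Algebra.IsStandardSmoothOfRelativeDimension p Γ(Y, V₀) Γ(U', W') := hsm
  have hsurj : Function.Surjective (algebraMap Γ(U', W') Γ(X, U.ι ''ᵁ (i ⁻¹ᵁ W'))) := by
    change Function.Surjective (i.appLE W' (i ⁻¹ᵁ W') le_rfl).hom
    rw [← Scheme.Hom.app_eq_appLE]
    exact i.app_surjective W' hW'
  rw [fitt_eq_top_of_surjective p hsurj, top_le_iff]
  exact (hW.primeIdealOf ⟨x, hxW⟩).2.ne_top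

end Groth.Agent.Lib.Helper25.JacLocus
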