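import Groth.Agent.Lib.Helper25.JacLocusAlg8
import Groth.Agent.Lib.Helper2.CauchyBinet

/-!
# Jacobian loci: algebra, part 9
A formally smooth quotient of a standard smooth algebra of relative dimension `m + c` by an
`H_1`-regular sequence of length `c` has `Fit_m(Ω) = ⊤`.
-/

set_option autoImplicit false
set_option linter.style.haveILetI false
universe u
open scoped TensorProduct

namespace Groth.Agent.Lib.Helper25.JacLocus

open Groth.Agent.Helper19.FittLib Algebra

variable {A C B : Type u} [CommRing A] [CommRing C] [CommRing B]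
  [Algebra A C] [Algebra C B] [Algebra A B] [IsScalarTower A C B]

theorem fitt_eq_top_of_formallySmooth (m c : ℕ)
    [hsm : Algebra.IsStandardSmoothOfRelativeDimension (m + c) A C]
    (h : Function.Surjective (algebraMap C B)) (f : Fin c → C)
    (hker : RingHom.ker (algebraMap C B) = Ideal.span (Set.range f))
    (hf : CAlgX.IsH1Regular f) [Algebra.FormallySmooth A B] :
    Fitt.ideal B Ω[B⁄A] m = ⊤ := by
  classical
  haveI : Algebra.IsStandardSmooth A C := hsm.isStandardSmooth
  haveI : Algebra.FormallySmooth A C := inferInstance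
  obtain ⟨l, hl⟩ := (Algebra.FormallySmooth.iff_split_injection (R := A) (P := C) (A := B) h).mp
    inferInstance
  obtain ⟨ι, σ, _, _, P₀, hP₀⟩ := hsm.out
  have hcard : Nat.card ((Set.range P₀.map)ᶜ : Set ι) = m + c :=
    (card_compl_range_map P₀).trans hP₀
  let eq : Fin (m + c) ≃ ((Set.range P₀.map)ᶜ : Set ι) := (Finite.equivFinOfCardEq hcard).symm
  let ω : Module.Basis (Fin (m + c)) C Ω[C⁄A] := P₀.basisKaehler.reindex eq.symm
  let bB : Module.Basis (Fin (m + c)) B (B ⊗[C] Ω[C⁄A]) := ω.baseChange B
  have hfI : ∀ i, f i ∈ RingHom.ker (algebraMap C B) := fun i => by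
    rw [hker]; exact Ideal.subset_span ⟨i, rfl⟩
  let fbar : Fin c → (RingHom.ker (algebraMap C B)).Cotangent :=
    fun i => (RingHom.ker (algebraMap C B)).toCotangent ⟨f i, hfI i⟩
  let x : Fin (m + c) → Ω[B⁄A] := fun j => KaehlerDifferential.mapBaseChange A C B (bB j)
  have hx : Submodule.span B (Set.range x) = ⊤ := by
    have : Set.range x = KaehlerDifferential.mapBaseChange A C B '' Set.range bB := by
      rw [← Set.range_comp]; rfl
    rw [this, ← Submodule.map_span, bB.span_eq, Submodule.map_top,
      LinearMap.range_eq_top.mpr (KaehlerDifferential.mapBaseChange_surjective A C B h)]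
  have hspan : Submodule.span C (Set.range fbar) = ⊤ := by
    rw [_root_.eq_top_iff]
    rintro y -
    obtain ⟨⟨y, hy⟩, rfl⟩ := (RingHom.ker (algebraMap C B)).toCotangent_surjective y
    have hy' : y ∈ Ideal.span (Set.range f) := hker ▸ hy
    obtain ⟨a, ha⟩ := Ideal.mem_span_range_iff_exists_fun.mp hy'
    have : (⟨y, hy⟩ : RingHom.ker (algebraMap C B)) = ∑ i, a i • (⟨f i, hfI i⟩ : RingHom.ker (algebraMap C B)) := by
      apply Subtype.ext
      rw [AddSubmonoidClass.coe_finset_sum]
      exact ha.symm
    rw [this, map_sum]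
    refine Submodule.sum_mem _ fun i _ => ?_
    rw [map_smul]
    exact Submodule.smul_mem _ _ (Submodule.subset_span ⟨i, rfl⟩)
  have hL : ∀ j, ∃ L : Fin c → C, l (bB j) = ∑ i, L i • fbar i := fun j => by
    have h1 : l (bB j) ∈ Submodule.span C (Set.range fbar) := by rw [hspan]; trivial
    obtain ⟨L, hL⟩ := (Submodule.mem_span_range_iff_exists_fun C).mp h1
    exact ⟨L, hL.symm⟩
  choose L hL using hL
  have hJ : ∀ i j, ∃ a : C, algebraMap C B a =
      bB.repr (KaehlerDifferential.kerCotangentToTensor A C B (fbar i)) j := fun i j => h _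
  choose J hJ using hJ
  have hk : ∀ i, KaehlerDifferential.kerCotangentToTensor A C B (fbar i) = ∑ j, J i j • bB j := by
    intro i
    conv_lhs => rw [← bB.sum_repr (KaehlerDifferential.kerCotangentToTensor A C B (fbar i))]
    refine Finset.sum_congr rfl fun j _ => ?_
    rw [← hJ i j, algebraMap_smul]
  have hlk : ∀ i, fbar i = ∑ i', (∑ j, J i j * L j i') • fbar i' := by
    intro i
    have h1 : l (KaehlerDifferential.kerCotangentToTensor A C B (fbar i)) = fbar i :=
      congrArg (fun φ => φ (fbar i)) hl
    rw [hk i, map_sum] at h1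
    simp only [map_smul, hL, Finset.smul_sum, smul_smul] at h1
    rw [Finset.sum_comm] at h1
    rw [← h1]
    refine Finset.sum_congr rfl fun i' _ => ?_
    rw [Finset.sum_smul]
  have hJL : ∀ i i', (∑ j, J i j * L j i') - (if i = i' then 1 else 0) ∈
      RingHom.ker (algebraMap C B) := by
    intro i
    apply mem_of_sum_smul_toCotangent_eq_zero f hf _ hker hfI
    simp only [sub_smul, Finset.sum_sub_distrib]
    rw [sub_eq_zero]
    have h2 : ∑ i', (if i = i' then (1 : C) else 0) •
        (RingHom.ker (algebraMap C B)).toCotangent ⟨f i', hfI i'⟩ = fbar i := by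
      simp [fbar]
    rw [h2]
    exact (hlk i).symm
  let JB : Matrix (Fin c) (Fin (m + c)) B := Matrix.of fun i j => algebraMap C B (J i j)
  let LB : Matrix (Fin (m + c)) (Fin c) B := Matrix.of fun j i => algebraMap C B (L j i)
  have hprod : JB * LB = 1 := by
    ext i i'
    simp only [Matrix.mul_apply, Matrix.of_apply, Matrix.one_apply, JB, LB]
    have h1 := hJL i i'
    rw [RingHom.mem_ker, map_sub, map_sum, sub_eq_zero] at h1
    simp only [map_mul] at h1
    rw [h1]
    split_ifs <;> simp
  have hrel : ∀ i, ∑ j, JB i j • x j = 0 := by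
    intro i
    have h1 : KaehlerDifferential.mapBaseChange A C B
        (KaehlerDifferential.kerCotangentToTensor A C B (fbar i)) = 0 :=
      (KaehlerDifferential.exact_kerCotangentToTensor_mapBaseChange A C B h).apply_apply_eq_zero _
    rw [hk i, map_sum] at h1
    rw [← h1]
    refine Finset.sum_congr rfl fun j _ => ?_
    simp only [JB, Matrix.of_apply, x]
    rw [algebraMap_smul, ← LinearMap.map_smul_of_tower]
  rw [Ideal.eq_top_iff_one, ideal_eq_Mn x hx m]
  have hc : m + c - m = c := by omega
  rw [hc]
  have h1 : (1 : B) = (JB * LB).det := by rw [hprod, Matrix.det_one]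
  rw [h1, Groth.Agent.Lib.Helper2.CauchyBinet.det_mul_eq_sum_fun]
  refine Ideal.sum_mem _ fun p _ => Ideal.mul_mem_right _ _ ?_
  have h2 : (JB.submatrix id p).det = (Matrix.of fun a b => JB b (p a)).det := by
    rw [← Matrix.det_transpose]
    rfl
  rw [h2]
  exact minor_mem_Mn x c (fun b => JB b) p hrel

end Groth.Agent.Lib.Helper25.JacLocus
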