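import Groth.Agent.Lib.Helper25.JacLocus2
import Groth.Agent.Lib.Helper25.JacLocusAlg9
import Groth.Agent.Lib.Helper25.BlowUpKoszBC
import Groth.Agent.Helper19.RegInter4

/-!
# Jacobian loci: charts for a local complete intersection factorisation
-/

set_option autoImplicit false
set_option linter.style.haveILetI false
universe u
open CategoryTheory CategoryTheory.Limits AlgebraicGeometry TopologicalSpace
open scoped TensorProduct

namespace Groth.Agent.Lib.Helper25.JacLocus

open Groth.Agent.Helper19.OmegaLocal Groth.Agent.Helper19.FittSheaf Groth.Agent.Helper19.FittLib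
  Groth.Agent.Lib.Helper29.QCoh

variable {Z P X : Scheme.{u}}

/-- A common affine chart for a Koszul-regular immersion of codimension `c` and a smooth morphism
of relative dimension `n`, inside a given open neighbourhood. -/
theorem exists_lci_chart (i : Z ⟶ P) (π : P ⟶ X) (c n : ℕ)
    (hi : RegImm.IsRegularImmersionOfCodim RegImm.Kind.koszul c i)
    [hπ : SmoothOfRelativeDimension n π] (z : Z) (O : P.Opens) (hzO : i z ∈ O) :
    ∃ (D : P.Opens) (_ : IsAffineOpen D) (V₀ : X.Opens) (_ : IsAffineOpen V₀)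
      (e₁ : D ≤ π ⁻¹ᵁ V₀), i z ∈ D ∧ D ≤ O ∧ IsClosedImmersion (i ∣_ D) ∧
      (π.appLE V₀ D e₁).hom.IsStandardSmoothOfRelativeDimension n ∧
      ∃ fs : Fin c → Γ(P, D), CAlgX.IsH1Regular fs ∧
        RingHom.ker (i.app D).hom = Ideal.span (Set.range fs) := by
  obtain ⟨U₀, hzU₀, hcl, rs, hlen, hrs, hker⟩ := hi.2 z
  haveI := hcl
  obtain ⟨V₀, hV₀, W', hW', hzW', e₁', hsm⟩ :=
    hπ.exists_isStandardSmoothOfRelativeDimension (i z)
  obtain ⟨g', hg'le, hzg'⟩ := hW'.exists_basicOpen_le (V := U₀.1 ⊓ O) ⟨i z, hzU₀, hzO⟩ hzW'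
  have hD : IsAffineOpen (P.basicOpen g') := hW'.basicOpen g'
  have hDU₀ : P.basicOpen g' ≤ U₀.1 := hg'le.trans inf_le_left
  have hDO : P.basicOpen g' ≤ O := hg'le.trans inf_le_right
  have e₁ : P.basicOpen g' ≤ π ⁻¹ᵁ V₀ := (P.basicOpen_le g').trans e₁'
  obtain ⟨hclD, hrsD, hkerD⟩ :=
    Groth.Agent.Helper19.RegInter.koszul_chart_restrict i z U₀ ⟨P.basicOpen g', hD⟩ hDU₀ hzg' rs hrs
      hker
  refine ⟨P.basicOpen g', hD, V₀, hV₀, e₁, hzg', hDO, hclD, ?_, ?_⟩
  · have heq : π.appLE V₀ (P.basicOpen g') e₁ = π.appLE V₀ W' e₁' ≫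
        CommRingCat.ofHom (algebraMap Γ(P, W') Γ(P, P.basicOpen g')) := by
      rw [RingHom.algebraMap_toAlgebra, CommRingCat.ofHom_hom, Scheme.Hom.appLE_map]
    rw [heq]
    have : IsLocalization.Away g' Γ(P, P.basicOpen g') := hW'.isLocalization_basicOpen g'
    exact (RingHom.isStandardSmoothOfRelativeDimension_stableUnderCompositionWithLocalizationAway
      n).right _ g' _ hsm
  · set rs' := rs.map (P.presheaf.map (homOfLE hDU₀).op).hom with hrs'
    have hlen' : rs'.length = c := by rw [hrs', List.length_map, hlen]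
    have hH1 : CAlgX.IsH1Regular rs'.get :=
      Groth.Agent.Helper19.RegInter.isH1Regular_of_koszul rs' hrsD
    refine ⟨fun k => rs'.get (Fin.cast hlen'.symm k), ?_, ?_⟩
    · exact Groth.Agent.Lib.Helper25.BlowUpKoszBC.isH1Regular_cast hlen' rs'.get _
        (fun k => by simp) hH1
    · rw [hkerD, Ideal.ofList]
      congr 1
      ext a
      constructor
      · intro ha
        obtain ⟨k, hk⟩ := List.mem_iff_get.mp ha
        exact ⟨Fin.cast hlen' k, by simpa using hk⟩
      · rintro ⟨k, rfl⟩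
        exact List.get_mem _ _

end Groth.Agent.Lib.Helper25.JacLocus
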