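import Groth.Agent.Lib.Helper25.JacLocus3

/-!
# Jacobian loci: the Jacobian criterion on an lci chart
-/

set_option autoImplicit false
set_option linter.style.haveILetI false
universe u
open CategoryTheory CategoryTheory.Limits AlgebraicGeometry TopologicalSpace
open scoped TensorProduct

namespace Groth.Agent.Lib.Helper25.JacLocus

open Groth.Agent.Helper19.OmegaLocal Groth.Agent.Helper19.FittSheaf Groth.Agent.Helper19.FittLib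
  Groth.Agent.Lib.Helper29.QCoh Groth.Agent.Helper19.RegImmBC

variable {Y X P : Scheme.{u}} (f : Y ⟶ X) [LocallyOfFinitePresentation f] [QuasiSeparated f]
  (m c : ℕ) (U : Y.Opens) (i : (U : Scheme.{u}) ⟶ P) (π : P ⟶ X) (hcomm : i ≫ π = U.ι ≫ f)
  (D : P.Opens) (hD : IsAffineOpen D) (V₀ : X.Opens) (hV₀ : IsAffineOpen V₀) (e₁ : D ≤ π ⁻¹ᵁ V₀)
  [hcl : IsClosedImmersion (i ∣_ D)]
  (hsm : (π.appLE V₀ D e₁).hom.IsStandardSmoothOfRelativeDimension (m + c))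
  (fs : Fin c → Γ(P, D)) (hker : RingHom.ker (i.app D).hom = Ideal.span (Set.range fs))
  (y : Y) (hyU : y ∈ U) (hzD : i ⟨y, hyU⟩ ∈ D)

include hcomm hD hV₀ hsm hker hzD in
theorem chart_main :
    (y ∉ (Fitt.sheafIdeal (Omega.sheaf f) m).support → y ∈ f.smoothLocus) ∧
    (CAlgX.IsH1Regular fs → U.ι ''ᵁ (i ⁻¹ᵁ D) ≤ f.smoothLocus →
      y ∉ (Fitt.sheafIdeal (Omega.sheaf f) m).support) := by
  have hW₁ : IsAffineOpen (i ⁻¹ᵁ D) := isAffineOpen_preimage_of_restrict i hD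
  have hW : IsAffineOpen (U.ι ''ᵁ (i ⁻¹ᵁ D)) := hW₁.image_of_isOpenImmersion U.ι
  have hyW : y ∈ U.ι ''ᵁ (i ⁻¹ᵁ D) := ⟨⟨y, hyU⟩, hzD, rfl⟩
  have e₂ : i ⁻¹ᵁ D ≤ (i ≫ π) ⁻¹ᵁ V₀ := fun z hz => e₁ hz
  have e₃ : i ⁻¹ᵁ D ≤ (U.ι ≫ f) ⁻¹ᵁ V₀ := hcomm ▸ e₂
  have e : U.ι ''ᵁ (i ⁻¹ᵁ D) ≤ f ⁻¹ᵁ V₀ := by
    rintro _ ⟨z, hz, rfl⟩
    exact e₃ hz
  have hcomp : f.appLE V₀ (U.ι ''ᵁ (i ⁻¹ᵁ D)) e =
      π.appLE V₀ D e₁ ≫ i.appLE D (i ⁻¹ᵁ D) le_rfl := by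
    rw [Scheme.Hom.appLE_comp_appLE]
    have key : (U.ι ≫ f).appLE V₀ (i ⁻¹ᵁ D) e₃ = f.appLE V₀ (U.ι ''ᵁ (i ⁻¹ᵁ D)) e := by
      rw [Scheme.Hom.comp_appLE, Scheme.Opens.ι_appLE]
      rfl
    rw [← key]
    exact appLE_congr_hom hcomm.symm _ _ _ _
  letI := algΓ f e
  letI : Algebra Γ(X, V₀) Γ(P, D) := (π.appLE V₀ D e₁).hom.toAlgebra
  letI : Algebra Γ(P, D) Γ(Y, U.ι ''ᵁ (i ⁻¹ᵁ D)) :=
    (i.appLE D (i ⁻¹ᵁ D) le_rfl).hom.toAlgebra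
  haveI : IsScalarTower Γ(X, V₀) Γ(P, D) Γ(Y, U.ι ''ᵁ (i ⁻¹ᵁ D)) := by
    apply IsScalarTower.of_algebraMap_eq'
    change (f.appLE V₀ (U.ι ''ᵁ (i ⁻¹ᵁ D)) e).hom =
      (i.appLE D (i ⁻¹ᵁ D) le_rfl).hom.comp (π.appLE V₀ D e₁).hom
    rw [hcomp]
    rfl
  haveI : Algebra.IsStandardSmoothOfRelativeDimension (m + c) Γ(X, V₀) Γ(P, D) := hsm
  have halg : (algebraMap Γ(P, D) Γ(Y, U.ι ''ᵁ (i ⁻¹ᵁ D))) = (i.app D).hom := by
    change (i.appLE D (i ⁻¹ᵁ D) le_rfl).hom = _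
    rw [← Scheme.Hom.app_eq_appLE]
  have hsurj : Function.Surjective (algebraMap Γ(P, D) Γ(Y, U.ι ''ᵁ (i ⁻¹ᵁ D))) := by
    rw [halg]
    exact app_surjective_of_restrict i hD
  have hker' : RingHom.ker (algebraMap Γ(P, D) Γ(Y, U.ι ''ᵁ (i ⁻¹ᵁ D))) =
      Ideal.span (Set.range fs) := by
    rw [halg]
    exact hker
  haveI : Algebra.FinitePresentation Γ(X, V₀) Γ(Y, U.ι ''ᵁ (i ⁻¹ᵁ D)) := by
    have := f.finitePresentation_appLE hV₀ hW e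
    exact this
  constructor
  · intro hfit
    rw [mem_support_iff_kaehler f m hW hV₀ e y hyW] at hfit
    obtain ⟨g, hg, hBg⟩ := exists_standardSmooth_away_of_quotient m c hsurj fs hker'
      (hW.primeIdealOf ⟨y, hyW⟩).asIdeal hfit
    haveI : Algebra.IsStandardSmoothOfRelativeDimension m Γ(X, V₀) (Localization.Away g) :=
      hBg (Localization.Away g)
    haveI : Algebra.IsStandardSmooth Γ(X, V₀) (Localization.Away g) :=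
      Algebra.IsStandardSmoothOfRelativeDimension.isStandardSmooth m
    have hsmooth : Algebra.Smooth Γ(X, V₀) (Localization.Away g) := inferInstance
    have hsub := (Algebra.basicOpen_subset_smoothLocus_iff_smooth
      (R := Γ(X, V₀)) (A := Γ(Y, U.ι ''ᵁ (i ⁻¹ᵁ D))) (f := g)).mpr hsmooth
    have hmem : hW.primeIdealOf ⟨y, hyW⟩ ∈ Algebra.smoothLocus Γ(X, V₀)
        Γ(Y, U.ι ''ᵁ (i ⁻¹ᵁ D)) := hsub hg
    exact (formallySmooth_stalkMap_iff V₀ hV₀ _ hW e hyW).mpr hmem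
  · intro hfs hWle
    haveI : Algebra.FormallySmooth Γ(X, V₀) Γ(Y, U.ι ''ᵁ (i ⁻¹ᵁ D)) := by
      rw [← Algebra.smoothLocus_eq_univ_iff, Set.eq_univ_iff_forall]
      intro 𝔮
      have hw : hW.fromSpec 𝔮 ∈ U.ι ''ᵁ (i ⁻¹ᵁ D) := by
        have : hW.fromSpec 𝔮 ∈ Set.range hW.fromSpec := ⟨𝔮, rfl⟩
        rw [hW.range_fromSpec] at this
        exact this
      have h1 : (f.stalkMap (hW.fromSpec 𝔮)).hom.FormallySmooth := hWle hw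
      have h2 := (formallySmooth_stalkMap_iff V₀ hV₀ _ hW e hw).mp h1
      have h3 : hW.primeIdealOf ⟨hW.fromSpec 𝔮, hw⟩ = 𝔮 := by
        apply hW.fromSpec.isOpenEmbedding.injective
        exact hW.fromSpec_primeIdealOf ⟨hW.fromSpec 𝔮, hw⟩
      rw [h3] at h2
      exact h2
    rw [mem_support_iff_kaehler f m hW hV₀ e y hyW,
      fitt_eq_top_of_formallySmooth m c hsurj fs hker' hfs, top_le_iff]
    exact (hW.primeIdealOf ⟨y, hyW⟩).2.ne_top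

end Groth.Agent.Lib.Helper25.JacLocus
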