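import Mathlib
import Groth.Prelude.Def_Fitting
import Groth.Agent.Helper19.FittLib2

/-!
# Jacobian loci: algebra, part 1
A quotient of a standard smooth algebra of relative dimension `p` has `Fit_p(Ω) = ⊤`.
-/

set_option autoImplicit false
universe u
open scoped TensorProduct

namespace Groth.Agent.Lib.Helper25.JacLocus

open Groth.Agent.Helper19.FittLib Algebra

attribute [local instance] Fintype.ofFinite in
theorem card_compl_range_map {A C : Type u} [CommRing A] [CommRing C] [Algebra A C]
    {ι σ : Type} [Finite ι] [Finite σ] (P : SubmersivePresentation A C ι σ) :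
    Nat.card ((Set.range P.map)ᶜ : Set ι) = P.dimension := by
  classical
  simp only [Fintype.card_compl_set, Presentation.dimension, Nat.card_eq_fintype_card,
    Set.card_range_of_injective P.map_inj]

theorem fitt_eq_top_of_surjective {A C B : Type u} [CommRing A] [CommRing C] [CommRing B]
    [Algebra A C] [Algebra C B] [Algebra A B] [IsScalarTower A C B] (p : ℕ)
    [hsm : Algebra.IsStandardSmoothOfRelativeDimension p A C]
    (h : Function.Surjective (algebraMap C B)) : Fitt.ideal B Ω[B⁄A] p = ⊤ := by
  obtain ⟨ι, σ, _, _, P, hP⟩ := hsm.out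
  have hcard : Nat.card ((Set.range P.map)ᶜ : Set ι) = p := (card_compl_range_map P).trans hP
  haveI : Finite ((Set.range P.map)ᶜ : Set ι) := inferInstance
  let b := P.basisKaehler
  let e : Fin p ≃ ((Set.range P.map)ᶜ : Set ι) := (Finite.equivFinOfCardEq hcard).symm
  let x : Fin p → Ω[B⁄A] := fun i => KaehlerDifferential.map A A C B (b (e i))
  have hx : Submodule.span B (Set.range x) = ⊤ := by
    rw [_root_.eq_top_iff]
    rintro ω -
    obtain ⟨ω', rfl⟩ := KaehlerDifferential.map_surjective_of_surjective A A C B h ω
    have hω' : ω' ∈ Submodule.span C (Set.range b) := by rw [b.span_eq]; trivial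
    induction hω' using Submodule.span_induction with
    | mem y hy =>
      obtain ⟨k, rfl⟩ := hy
      refine Submodule.subset_span ⟨e.symm k, ?_⟩
      simp [x]
    | zero => rw [map_zero]; exact zero_mem _
    | add y z _ _ hy hz => rw [map_add]; exact add_mem hy hz
    | smul c y _ hy =>
      rw [map_smul, ← algebraMap_smul B c]
      exact Submodule.smul_mem _ _ hy
  exact ideal_eq_top_of_le x hx le_rfl

end Groth.Agent.Lib.Helper25.JacLocus
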