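import Groth.Agent.Lib.Helper25.JacLocusAlg1

/-!
# Jacobian loci: algebra, part 2
From `Fit_p(Ω_{B/A}) ⊄ 𝔭` to elements of the kernel of a presentation with a Jacobian minor
outside `𝔭`.
-/

set_option autoImplicit false
universe u
open scoped TensorProduct

namespace Groth.Agent.Lib.Helper25.JacLocus

open Groth.Agent.Helper19.FittLib Algebra MvPolynomial

variable {A B : Type u} [CommRing A] [CommRing B] [Algebra A B]

theorem span_D_val {n : ℕ} (G : Algebra.Generators A B (Fin n)) :
    Submodule.span B (Set.range fun i => KaehlerDifferential.D A B (G.val i)) = ⊤ := by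
  have h1 : Set.range (fun i => KaehlerDifferential.D A B (G.val i)) =
      G.toExtension.toKaehler '' Set.range G.cotangentSpaceBasis := by
    rw [← Set.range_comp]
    congr 1
    ext i
    simp
  rw [h1, ← Submodule.map_span, G.cotangentSpaceBasis.span_eq, Submodule.map_top,
    LinearMap.range_eq_top.mpr G.toExtension.toKaehler_surjective]

/-- Every relation among the `d(xᵢ)` is the gradient of an element of the kernel. -/
theorem exists_ker_of_rel {n : ℕ} (G : Algebra.Generators A B (Fin n)) (z : Fin n → B)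
    (hz : ∑ i, z i • KaehlerDifferential.D A B (G.val i) = 0) :
    ∃ r : MvPolynomial (Fin n) A, r ∈ G.ker ∧ ∀ i, aeval G.val (pderiv i r) = z i := by
  let w : G.toExtension.CotangentSpace := ∑ i, z i • G.cotangentSpaceBasis i
  have hw : G.toExtension.toKaehler w = 0 := by
    simp only [w, map_sum, map_smul, Generators.toKaehler_cotangentSpaceBasis]
    exact hz
  obtain ⟨c, hc⟩ := (G.toExtension.exact_cotangentComplex_toKaehler w).mp hw
  obtain ⟨k, rfl⟩ := Extension.Cotangent.mk_surjective c
  refine ⟨k.1, k.2, fun i => ?_⟩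
  have h1 := G.cotangentSpaceBasis_repr_one_tmul k.1 i
  rw [← h1, ← Extension.cotangentComplex_mk, hc]
  simp only [w, map_sum, map_smul, Module.Basis.repr_self, Finsupp.coe_finset_sum,
    Finsupp.coe_smul, Finset.sum_apply, Pi.smul_apply, smul_eq_mul]
  rw [Finset.sum_eq_single i]
  · simp
  · intro j _ hji
    simp [Finsupp.single_apply, hji]
  · intro hi
    exact absurd (Finset.mem_univ i) hi

theorem exists_relations {n : ℕ} (G : Algebra.Generators A B (Fin n)) (p : ℕ)
    (𝔭 : Ideal B) [𝔭.IsPrime] (h : ¬ Fitt.ideal B Ω[B⁄A] p ≤ 𝔭) :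
    ∃ (r : Fin (n - p) → MvPolynomial (Fin n) A) (e : Fin (n - p) → Fin n),
      Function.Injective e ∧ (∀ j, r j ∈ G.ker) ∧
      aeval G.val (Matrix.det (Matrix.of fun a b => pderiv (e a) (r b))) ∉ 𝔭 := by
  rw [ideal_eq_Mn _ (span_D_val G) p, Mn, Ideal.span_le] at h
  obtain ⟨_, ⟨z, e, hz, rfl⟩, hd⟩ := Set.not_subset.mp h
  have hr := fun j => exists_ker_of_rel G (z j) (hz j)
  choose r hr1 hr2 using hr
  have hdet : aeval G.val (Matrix.det (Matrix.of fun a b => pderiv (e a) (r b))) =
      (Matrix.of fun a b => z b (e a)).det := by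
    rw [AlgHom.map_det]
    congr 1
    ext a b
    simp [hr2]
  refine ⟨r, e, ?_, hr1, ?_⟩
  · intro a a' haa'
    by_contra hne
    apply hd
    rw [Matrix.det_zero_of_row_eq hne]
    · exact zero_mem _
    · ext b
      simp [haa']
  · rw [hdet]
    exact hd

end Groth.Agent.Lib.Helper25.JacLocus
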