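import Groth.Agent.Lib.Helper25.JacLocusAlg2

/-!
# Jacobian loci: algebra, part 3
Construction of a standard smooth algebra of relative dimension `n - s` from `s` elements of the
kernel of a presentation in `n` variables with an invertible Jacobian minor.
-/

set_option autoImplicit false
set_option linter.style.haveILetI false
universe u
open scoped TensorProduct

namespace Groth.Agent.Lib.Helper25.JacLocus

open Groth.Agent.Helper19.FittLib Algebra MvPolynomial

variable {A B : Type u} [CommRing A] [CommRing B] [Algebra A B]

theorem exists_standardSmooth_of_relations {n : ℕ} (G : Algebra.Generators A B (Fin n)) (s : ℕ)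
    (r : Fin s → MvPolynomial (Fin n) A) (e : Fin s → Fin n) (he : Function.Injective e)
    (hr : ∀ j, r j ∈ G.ker) :
    ∃ (C : Type u) (_ : CommRing C) (_ : Algebra A C),
      Algebra.IsStandardSmoothOfRelativeDimension (n - s) A C ∧
      ∀ (Bg : Type u) [CommRing Bg] [Algebra B Bg] [Algebra A Bg] [IsScalarTower A B Bg]
        [IsLocalization.Away
          (aeval G.val (Matrix.det (Matrix.of fun a b => pderiv (e a) (r b)))) Bg],
        ∃ φ : C →ₐ[A] Bg, Function.Surjective φ := by
  classical
  let I : Ideal (MvPolynomial (Fin n) A) := Ideal.span (Set.range r)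
  let N : PreSubmersivePresentation A (MvPolynomial (Fin n) A ⧸ I) (Fin n) (Fin s) :=
    PreSubmersivePresentation.naive (v := r) e he
  let δ : MvPolynomial (Fin n) A := Matrix.det (Matrix.of fun a b => pderiv (e a) (r b))
  let d₀ : MvPolynomial (Fin n) A ⧸ I := Ideal.Quotient.mk I δ
  have hNjac : N.jacobian = d₀ := by
    rw [PreSubmersivePresentation.jacobian_eq_jacobiMatrix_det]
    have : N.jacobiMatrix = Matrix.of fun a b => pderiv (e a) (r b) := by
      funext a b
      exact N.jacobiMatrix_apply a b
    rw [this]
    rfl
  let L : PreSubmersivePresentation (MvPolynomial (Fin n) A ⧸ I) (Localization.Away d₀) Unit Unit :=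
    PreSubmersivePresentation.localizationAway (Localization.Away d₀) d₀
  have hunit : IsUnit (L.comp N).jacobian := by
    rw [PreSubmersivePresentation.comp_jacobian_eq_jacobian_smul_jacobian,
      PreSubmersivePresentation.localizationAway_jacobian, hNjac, Algebra.smul_def]
    exact (IsLocalization.Away.algebraMap_isUnit d₀).mul (IsLocalization.Away.algebraMap_isUnit d₀)
  let Q : SubmersivePresentation A (Localization.Away d₀) (Unit ⊕ Fin n) (Unit ⊕ Fin s) :=
    { toPreSubmersivePresentation := L.comp N, jacobian_isUnit := hunit }
  have hdim : Q.dimension = n - s := by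
    change (L.comp N).dimension = n - s
    rw [PreSubmersivePresentation.dimension_comp_eq_dimension_add_dimension]
    have h1 : L.dimension = 0 := Presentation.localizationAway_dimension_zero d₀
    have h2 : N.dimension = n - s := by
      simp [Presentation.dimension]
    rw [h1, h2, zero_add]
  refine ⟨Localization.Away d₀, inferInstance, inferInstance,
    Q.isStandardSmoothOfRelativeDimension hdim, ?_⟩
  intro Bg _ _ _ _ hloc
  have hI : ∀ a ∈ I, aeval G.val a = 0 := by
    intro a ha
    have hle : I ≤ RingHom.ker (aeval G.val) := by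
      rw [Ideal.span_le]
      rintro _ ⟨j, rfl⟩
      have := hr j
      rw [Generators.ker_eq_ker_aeval_val] at this
      exact this
    exact hle ha
  let ψ₀ : (MvPolynomial (Fin n) A ⧸ I) →ₐ[A] B := Ideal.Quotient.liftₐ I (aeval G.val) hI
  have hψ₀ : Function.Surjective ψ₀ := by
    intro b
    obtain ⟨q, hq⟩ := G.algebraMap_surjective b
    refine ⟨Ideal.Quotient.mk I q, ?_⟩
    change aeval G.val q = b
    rw [← Generators.algebraMap_apply]
    exact hq
  have hψd : ψ₀ d₀ = aeval G.val δ := rfl
  haveI : IsLocalization.Away (ψ₀ d₀) Bg := by rw [hψd]; exact hloc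
  exact ⟨IsLocalization.Away.mapₐ (Localization.Away d₀) Bg ψ₀ d₀,
    IsLocalization.Away.mapₐ_surjective_of_surjective d₀ hψ₀⟩

end Groth.Agent.Lib.Helper25.JacLocus
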