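import Groth.Agent.Lib.Helper25.JacLocusAlg3

/-!
# Jacobian loci: algebra, part 4
If `Fit_p(Ω_{B/A}) ⊄ 𝔭` for a finite type algebra `B`, then a principal localization of `B` at an
element outside `𝔭` is a quotient of a standard smooth algebra of relative dimension `p`.
-/

set_option autoImplicit false
set_option linter.style.haveILetI false
universe u
open scoped TensorProduct

namespace Groth.Agent.Lib.Helper25.JacLocus

open Groth.Agent.Helper19.FittLib Algebra MvPolynomial

variable {A B : Type u} [CommRing A] [CommRing B] [Algebra A B]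

theorem exists_standardSmooth_surjective [Algebra.FiniteType A B] (p : ℕ) (𝔭 : Ideal B)
    [𝔭.IsPrime] (h : ¬ Fitt.ideal B Ω[B⁄A] p ≤ 𝔭) :
    ∃ (g : B) (_ : g ∉ 𝔭) (C : Type u) (_ : CommRing C) (_ : Algebra A C),
      Algebra.IsStandardSmoothOfRelativeDimension p A C ∧
      ∀ (Bg : Type u) [CommRing Bg] [Algebra B Bg] [Algebra A Bg] [IsScalarTower A B Bg]
        [IsLocalization.Away g Bg], ∃ φ : C →ₐ[A] Bg, Function.Surjective φ := by
  obtain ⟨n₀, f, hf⟩ := Algebra.FiniteType.iff_quotient_mvPolynomial''.mp
    (inferInstance : Algebra.FiniteType A B)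
  let val : Fin (n₀ + p) → B := Fin.append (fun i => f (X i)) (fun _ => 0)
  have hsurj : Function.Surjective (aeval (R := A) val) := by
    intro b
    obtain ⟨q, rfl⟩ := hf b
    refine ⟨rename (Fin.castAdd p) q, ?_⟩
    rw [aeval_rename]
    have h1 : val ∘ Fin.castAdd p = fun i => f (X i) := by
      funext i
      simp [val]
    rw [h1]
    have h2 : (aeval fun i => f (X i)) = f := by
      apply MvPolynomial.algHom_ext
      intro i
      simp
    rw [h2]
  let G : Algebra.Generators A B (Fin (n₀ + p)) := Generators.ofSurjective val hsurj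
  obtain ⟨r, e, he, hr, hd⟩ := exists_relations G p 𝔭 h
  obtain ⟨C, _, _, hC, hφ⟩ := exists_standardSmooth_of_relations G (n₀ + p - p) r e he hr
  have hdim : n₀ + p - (n₀ + p - p) = p := by omega
  exact ⟨_, hd, C, inferInstance, inferInstance, hdim ▸ hC, hφ⟩

end Groth.Agent.Lib.Helper25.JacLocus
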