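import Groth.Agent.Lib.Helper25.JacLocusAlg5

/-!
# Jacobian loci: algebra, part 6 (Jacobian criterion)
If `B` has a presentation over `A` with `n` variables and `n - m` relations, then away from
`V(Fit_m Ω_{B/A})` the algebra `B` is locally standard smooth of relative dimension `m`.
-/

set_option autoImplicit false
set_option linter.style.haveILetI false
universe u
open scoped TensorProduct

namespace Groth.Agent.Lib.Helper25.JacLocus

open Groth.Agent.Helper19.FittLib Algebra MvPolynomial

variable {A B : Type u} [CommRing A] [CommRing B] [Algebra A B]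

/-- The chain rule. -/
theorem sum_pderiv_smul_D {n : ℕ} (G : Algebra.Generators A B (Fin n))
    (k : MvPolynomial (Fin n) A) :
    ∑ i, aeval G.val (pderiv i k) • KaehlerDifferential.D A B (G.val i) =
      KaehlerDifferential.D A B (aeval G.val k) := by
  have h1 : G.toExtension.toKaehler ((1 : B) ⊗ₜ[G.toExtension.Ring]
      KaehlerDifferential.D A G.toExtension.Ring k) = KaehlerDifferential.D A B (aeval G.val k) := by
    rw [Extension.toKaehler, KaehlerDifferential.mapBaseChange_tmul, one_smul,
      KaehlerDifferential.map_D]
    congr 1
    exact Generators.algebraMap_apply G k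
  rw [← h1, ← G.cotangentSpaceBasis.sum_repr ((1 : B) ⊗ₜ[G.toExtension.Ring]
      KaehlerDifferential.D A G.toExtension.Ring k), map_sum]
  refine Finset.sum_congr rfl fun i _ => ?_
  rw [map_smul, Generators.toKaehler_cotangentSpaceBasis, G.cotangentSpaceBasis_repr_one_tmul]

theorem span_gradients_eq_ker {n s : ℕ} (P : Algebra.Presentation A B (Fin n) (Fin s)) :
    Submodule.span B (Set.range fun (j : Fin s) (i : Fin n) =>
      aeval P.val (pderiv i (P.relation j))) =
    LinearMap.ker (Fintype.linearCombination B
      fun i => KaehlerDifferential.D A B (P.val i)) := by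
  apply le_antisymm
  · rw [Submodule.span_le]
    rintro _ ⟨j, rfl⟩
    rw [SetLike.mem_coe, LinearMap.mem_ker, Fintype.linearCombination_apply]
    have := sum_pderiv_smul_D P.toGenerators (P.relation j)
    rw [P.aeval_val_relation j, map_zero] at this
    exact this
  · intro z hz
    rw [LinearMap.mem_ker, Fintype.linearCombination_apply] at hz
    obtain ⟨r, hr, hrz⟩ := exists_ker_of_rel P.toGenerators z hz
    have hz' : z = fun i => aeval P.val (pderiv i r) := funext fun i => (hrz i).symm
    rw [hz']
    rw [← P.span_range_relation_eq_ker] at hr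
    have hle : Ideal.span (Set.range P.relation) ≤ RingHom.ker (aeval (R := A) P.val) := by
      rw [P.span_range_relation_eq_ker, Generators.ker_eq_ker_aeval_val]
    clear hrz hz' hz
    induction hr using Submodule.span_induction with
    | mem y hy =>
      obtain ⟨j, rfl⟩ := hy
      exact Submodule.subset_span ⟨j, rfl⟩
    | zero =>
      have : (fun i : Fin n => aeval P.val (pderiv i (0 : MvPolynomial (Fin n) A))) = 0 := by
        funext i
        simp
      rw [this]
      exact zero_mem _
    | add y y' _ _ hy hy' =>
      have : (fun i : Fin n => aeval P.val (pderiv i (y + y'))) =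
          (fun i => aeval P.val (pderiv i y)) + fun i => aeval P.val (pderiv i y') := by
        funext i
        simp
      rw [this]
      exact add_mem hy hy'
    | smul a y hy hy' =>
      have hy0 : aeval P.val y = 0 := hle hy
      have : (fun i : Fin n => aeval P.val (pderiv i (a • y))) =
          aeval P.val a • fun i => aeval P.val (pderiv i y) := by
        funext i
        simp [Derivation.leibniz, hy0]
      rw [this]
      exact Submodule.smul_mem _ _ hy'

theorem exists_standardSmooth_away_of_presentation {n : ℕ} (m : ℕ) (hm : m ≤ n)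
    (P : Algebra.Presentation A B (Fin n) (Fin (n - m))) (𝔭 : Ideal B) [𝔭.IsPrime]
    (h : ¬ Fitt.ideal B Ω[B⁄A] m ≤ 𝔭) :
    ∃ g : B, g ∉ 𝔭 ∧ ∀ (Bg : Type u) [CommRing Bg] [Algebra B Bg] [Algebra A Bg]
      [IsScalarTower A B Bg] [IsLocalization.Away g Bg],
      Algebra.IsStandardSmoothOfRelativeDimension m A Bg := by
  rw [ideal_eq_Mn _ (span_D_val P.toGenerators) m,
    Mn_eq_span_gens _ _ (span_gradients_eq_ker P) (n - m), Ideal.span_le] at h
  obtain ⟨_, ⟨z, e, hz, rfl⟩, hd⟩ := Set.not_subset.mp h
  choose τ hτ using hz
  have hτi : Function.Injective τ := by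
    intro a a' haa'
    by_contra hne
    apply hd
    rw [Matrix.det_zero_of_column_eq hne]
    · exact zero_mem _
    · intro k
      simp only [Matrix.of_apply]
      rw [← hτ a, ← hτ a', haa']
  have hτs : Function.Surjective τ := (Finite.injective_iff_surjective.mp hτi)
  have hei : Function.Injective e := by
    intro a a' haa'
    by_contra hne
    apply hd
    rw [Matrix.det_zero_of_row_eq hne]
    · exact zero_mem _
    · ext b
      simp [haa']
  have hspan : Ideal.span (Set.range (P.relation ∘ τ)) = P.toGenerators.ker := by
    rw [hτs.range_comp, P.span_range_relation_eq_ker]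
  have hdet : aeval P.val (Matrix.det (Matrix.of fun a b => pderiv (e a) ((P.relation ∘ τ) b))) =
      (Matrix.of fun a b => z b (e a)).det := by
    rw [AlgHom.map_det]
    congr 1
    ext a b
    simp only [AlgHom.mapMatrix_apply, Matrix.map_apply, Matrix.of_apply, Function.comp_apply]
    rw [← hτ b]
  refine ⟨_, hd, ?_⟩
  intro Bg _ _ _ _ hloc
  have hdim : n - (n - m) = m := by omega
  rw [← hdet] at hloc
  have := isStandardSmooth_away_of_relations P.toGenerators (n - m) (P.relation ∘ τ) e hei hspan Bg
  exact hdim ▸ this

end Groth.Agent.Lib.Helper25.JacLocus
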