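import Groth.Agent.Lib.Helper25.JacLocusAlg6

/-!
# Jacobian loci: algebra, part 7
A quotient of a standard smooth algebra of relative dimension `m + c` by `c` elements is locally
standard smooth of relative dimension `m` away from `V(Fit_m Ω)`.
-/

set_option autoImplicit false
set_option linter.style.haveILetI false
universe u
open scoped TensorProduct

namespace Groth.Agent.Lib.Helper25.JacLocus

open Groth.Agent.Helper19.FittLib Algebra MvPolynomial

/-- The presentation without variables of a quotient. -/
noncomputable def quotPresentation {C B : Type u} [CommRing C] [CommRing B] [Algebra C B]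
    (h : Function.Surjective (algebraMap C B)) {c : ℕ} (f : Fin c → C)
    (hker : RingHom.ker (algebraMap C B) = Ideal.span (Set.range f)) :
    Algebra.Presentation C B PEmpty.{1} (Fin c) where
  toGenerators := Generators.ofSurjectiveAlgebraMap h
  relation k := MvPolynomial.C (f k)
  span_range_relation_eq_ker := by
    rw [Generators.ker_eq_ker_aeval_val]
    apply le_antisymm
    · rw [Ideal.span_le]
      rintro _ ⟨k, rfl⟩
      rw [SetLike.mem_coe, RingHom.mem_ker, aeval_C]
      have : f k ∈ RingHom.ker (algebraMap C B) := by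
        rw [hker]
        exact Ideal.subset_span ⟨k, rfl⟩
      exact this
    · intro p hp
      rw [p.eq_C_of_isEmpty] at hp ⊢
      rw [RingHom.mem_ker, aeval_C] at hp
      have h1 : coeff 0 p ∈ Ideal.span (Set.range f) := by
        rw [← hker]
        exact hp
      have h2 := Ideal.mem_map_of_mem (MvPolynomial.C (σ := PEmpty.{1})) h1
      rw [Ideal.map_span, ← Set.range_comp] at h2
      exact h2

variable {A C B : Type u} [CommRing A] [CommRing C] [CommRing B]
  [Algebra A C] [Algebra C B] [Algebra A B] [IsScalarTower A C B]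

theorem exists_presentation_of_quotient (m c : ℕ)
    [hsm : Algebra.IsStandardSmoothOfRelativeDimension (m + c) A C]
    (h : Function.Surjective (algebraMap C B)) (f : Fin c → C)
    (hker : RingHom.ker (algebraMap C B) = Ideal.span (Set.range f)) :
    ∃ n : ℕ, m ≤ n ∧ Nonempty (Algebra.Presentation A B (Fin n) (Fin (n - m))) := by
  obtain ⟨ι, σ, _, _, P₀, hP₀⟩ := hsm.out
  have hle : Nat.card σ ≤ Nat.card ι :=
    P₀.toPreSubmersivePresentation.card_relations_le_card_vars_of_isFinite
  have hdim : Nat.card ι - Nat.card σ = m + c := hP₀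
  let PB := (quotPresentation h f hker).comp P₀.toPresentation
  have h1 : Nat.card (PEmpty.{1} ⊕ ι) = Nat.card ι := by
    rw [Nat.card_sum]
    simp
  have h2 : Nat.card (Fin c ⊕ σ) = Nat.card ι - m := by
    rw [Nat.card_sum, Nat.card_fin]
    omega
  refine ⟨Nat.card ι, by omega, ⟨PB.reindex (Finite.equivFinOfCardEq h1).symm
    (Finite.equivFinOfCardEq h2).symm⟩⟩

theorem exists_standardSmooth_away_of_quotient (m c : ℕ)
    [hsm : Algebra.IsStandardSmoothOfRelativeDimension (m + c) A C]
    (h : Function.Surjective (algebraMap C B)) (f : Fin c → C)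
    (hker : RingHom.ker (algebraMap C B) = Ideal.span (Set.range f))
    (𝔭 : Ideal B) [𝔭.IsPrime] (hfit : ¬ Fitt.ideal B Ω[B⁄A] m ≤ 𝔭) :
    ∃ g : B, g ∉ 𝔭 ∧ ∀ (Bg : Type u) [CommRing Bg] [Algebra B Bg] [Algebra A Bg]
      [IsScalarTower A B Bg] [IsLocalization.Away g Bg],
      Algebra.IsStandardSmoothOfRelativeDimension m A Bg := by
  obtain ⟨n, hmn, ⟨P⟩⟩ := exists_presentation_of_quotient (A := A) m c h f hker
  exact exists_standardSmooth_away_of_presentation m hmn P 𝔭 hfit

end Groth.Agent.Lib.Helper25.JacLocus
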