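import Groth.Agent.Lib.Helper25.JacLocusAlg7
import Groth.Prelude.Def_CAlgX

/-!
# Jacobian loci: algebra, part 8
Classes of an `H_1`-regular sequence are independent in the conormal module.
-/

set_option autoImplicit false
set_option linter.style.haveILetI false
universe u
open scoped TensorProduct

namespace Groth.Agent.Lib.Helper25.JacLocus

variable {C : Type u} [CommRing C]

theorem mem_of_sum_smul_toCotangent_eq_zero {c : ℕ} (f : Fin c → C) (hf : CAlgX.IsH1Regular f)
    (I : Ideal C) (hI : I = Ideal.span (Set.range f)) (hfI : ∀ i, f i ∈ I) (a : Fin c → C)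
    (ha : ∑ i, a i • I.toCotangent ⟨f i, hfI i⟩ = 0) : ∀ i, a i ∈ I := by
  have h1 : I.toCotangent (∑ i, a i • (⟨f i, hfI i⟩ : I)) = 0 := by
    rw [map_sum]
    simp only [map_smul]
    exact ha
  rw [Ideal.toCotangent_eq_zero] at h1
  have h2 : ((∑ i, a i • (⟨f i, hfI i⟩ : I) : I) : C) = ∑ i, a i * f i := by
    rw [AddSubmonoidClass.coe_finset_sum]
    rfl
  rw [h2, pow_two, ← Ideal.smul_eq_mul] at h1
  have h1' : ∑ i, a i * f i ∈ I • Submodule.span C (Set.range f) := by
    have : I • Submodule.span C (Set.range f) = I • I := by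
      congr 1
      exact hI.symm
    rw [this]
    exact h1
  rw [Submodule.mem_ideal_smul_span_iff_exists_sum] at h1'
  obtain ⟨b, hb, hsum⟩ := h1'
  have h3 : ∑ i, (a i - b i) * f i = 0 := by
    rw [Finsupp.sum_fintype _ _ (fun i => by simp)] at hsum
    simp only [sub_mul, Finset.sum_sub_distrib]
    rw [sub_eq_zero, ← hsum]
    rfl
  have h4 := hf (fun i => a i - b i) h3
  have h5 : ∀ v ∈ Submodule.span C {v : Fin c → C | ∃ i j : Fin c,
      v = Pi.single i (f j) - Pi.single j (f i)}, ∀ k, v k ∈ I := by
    intro v hv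
    induction hv using Submodule.span_induction with
    | mem v hv =>
      obtain ⟨i, j, rfl⟩ := hv
      intro k
      simp only [Pi.sub_apply, Pi.single_apply]
      split_ifs
      · exact I.sub_mem (hfI j) (hfI i)
      · simpa using hfI j
      · simpa using hfI i
      · simp
    | zero => intro k; exact I.zero_mem
    | add x y _ _ hx hy => intro k; exact I.add_mem (hx k) (hy k)
    | smul r x _ hx => intro k; exact I.mul_mem_left r (hx k)
  intro i
  have h6 := h5 _ h4 i
  have h7 : a i = (a i - b i) + b i := by ring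
  rw [h7]
  exact I.add_mem h6 (hb i)

end Groth.Agent.Lib.Helper25.JacLocus
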