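import Mathlib
import Groth.Agent.Lib.Helper25.OrbitSmooth

/-!
Kleiman transversality, part 1: the map `G × Y → X`, `(σ, y) ↦ σ · f(y)`, its equivariance and
its sections (helper25).
-/

set_option autoImplicit false
universe u
open CategoryTheory CategoryTheory.Limits MonoidalCategory CartesianMonoidalCategory MonObj GrpObj AlgebraicGeometry

namespace Groth.Agent.Lib.Helper25.Kleiman

open Groth.Agent.Lib.Helper25.OrbitSmooth

variable {S : Scheme.{u}} {G X Yo : Over S} [GrpObj G] (a : AlgGrp.Action G X) (fo : Yo ⟶ X)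

/-- The map `G × Y → X`, `(σ, y) ↦ σ · f(y)`. -/
noncomputable def hh : G ⊗ Yo ⟶ X := (G ◁ fo) ≫ a.act

theorem lift_hh {T : Over S} (g : T ⟶ G) (y : T ⟶ Yo) :
    lift g y ≫ hh a fo = lift g (y ≫ fo) ≫ a.act := by
  unfold hh
  rw [lift_whiskerLeft_assoc]

/-- Translation on `G × Y` by a point of `G`. -/
noncomputable def trL (σ : 𝟙_ (Over S) ⟶ G) : G ⊗ Yo ⟶ G ⊗ Yo := mulL σ ▷ Yo

noncomputable def trLIso (σ : 𝟙_ (Over S) ⟶ G) : G ⊗ Yo ≅ G ⊗ Yo :=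
  whiskerRightIso (mulLIso σ) Yo

theorem trLIso_hom (σ : 𝟙_ (Over S) ⟶ G) : (trLIso (Yo := Yo) σ).hom = trL σ := rfl

theorem lift_trL {T : Over S} (σ : 𝟙_ (Over S) ⟶ G) (g : T ⟶ G) (y : T ⟶ Yo) :
    lift g y ≫ trL σ = lift ((toUnit T ≫ σ) * g) y := by
  unfold trL mulL
  rw [lift_whiskerRight, MonObj.comp_mul, Category.comp_id, ← Category.assoc,
    toUnit_unique (g ≫ toUnit G) (toUnit T)]

theorem lift_actL {T : Over S} (σ : 𝟙_ (Over S) ⟶ G) (x : T ⟶ X) :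
    x ≫ actL a σ = lift (toUnit T ≫ σ) x ≫ a.act := by
  unfold actL
  rw [comp_lift_assoc, Category.comp_id, ← Category.assoc,
    toUnit_unique (x ≫ toUnit X) (toUnit T)]

/-- Equivariance of `hh`. -/
theorem trL_hh (σ : 𝟙_ (Over S) ⟶ G) : trL σ ≫ hh a fo = hh a fo ≫ actL a σ := by
  apply AlgGrp.Action.hom_ext_lift₂
  intro T g y
  rw [← Category.assoc, lift_trL, lift_hh, ← Category.assoc, lift_hh, lift_actL,
    AlgGrp.Action.lift_mul_act]

/-- The section `y ↦ (σ, y)`. -/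
noncomputable def sec (σ : 𝟙_ (Over S) ⟶ G) : Yo ⟶ G ⊗ Yo := lift (toUnit Yo ≫ σ) (𝟙 Yo)

theorem sec_hh (σ : 𝟙_ (Over S) ⟶ G) :
    sec σ ≫ hh a fo = lift (toUnit Yo ≫ σ) fo ≫ a.act := by
  unfold sec
  rw [lift_hh, Category.id_comp]

theorem sec_fst (σ : 𝟙_ (Over S) ⟶ G) : sec (Yo := Yo) σ ≫ fst G Yo = toUnit Yo ≫ σ := by
  unfold sec; rw [lift_fst]

theorem sec_snd (σ : 𝟙_ (Over S) ⟶ G) : sec (Yo := Yo) σ ≫ snd G Yo = 𝟙 Yo := by
  unfold sec; rw [lift_snd]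

/-- `Y` is the fibre of `G × Y → G` over the point `σ`. -/
theorem isPullback_sec (σ : 𝟙_ (Over S) ⟶ G) :
    IsPullback (sec (Yo := Yo) σ) (toUnit Yo) (fst G Yo) σ := by
  refine ⟨⟨sec_fst σ⟩, ⟨PullbackCone.IsLimit.mk _ (fun s => s.fst ≫ snd G Yo) ?_ ?_ ?_⟩⟩
  · intro s
    apply CartesianMonoidalCategory.hom_ext
    · rw [Category.assoc, sec_fst, s.condition, ← Category.assoc,
        toUnit_unique ((s.fst ≫ snd G Yo) ≫ toUnit Yo) s.snd]
    · rw [Category.assoc, sec_snd, Category.comp_id]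
  · intro s
    exact toUnit_unique _ _
  · intro s m h1 h2
    rw [← h1, Category.assoc, sec_snd, Category.comp_id]

end Groth.Agent.Lib.Helper25.Kleiman
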