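import Mathlib
import Groth.Agent.Lib.Helper25.Kleiman1
import Groth.Agent.Lib.Helper25.GrpSmoothNonempty
import Groth.Agent.Lib.Helper25.CotangentSmooth
import Groth.Agent.Lib.Helper4.GenericSmooth

/-!
Kleiman transversality, part 2: smoothness of `G`, of the homogeneous space `X` and of
`G × Y → X` (helper25).
-/

set_option autoImplicit false
universe u
open CategoryTheory CategoryTheory.Limits MonoidalCategory CartesianMonoidalCategory MonObj GrpObj AlgebraicGeometry

namespace Groth.Agent.Lib.Helper25.Kleiman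

open Groth.Agent.Lib.Helper25.OrbitSmooth

section general

variable {k : Type u} [Field k] [IsAlgClosed k]

/-- Translation principle: a morphism `hl : P ⟶ Q` of schemes locally of finite type over an
algebraically closed field, with `P` Noetherian and `Q` integral, which is smooth at all points
over the generic point of `Q` and is equivariant for families of automorphisms acting
transitively on the closed points of `Q`, is smooth. -/
theorem smooth_of_equivariant {P Q : Scheme.{u}} (qP : P ⟶ Spec (CommRingCat.of k))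
    (qQ : Q ⟶ Spec (CommRingCat.of k)) [LocallyOfFiniteType qP] [LocallyOfFiniteType qQ]
    [QuasiCompact qP] [IsIntegral Q] (hl : P ⟶ Q) (hw : hl ≫ qQ = qP)
    [LocallyOfFinitePresentation hl]
    (hgen : ∀ p : P, hl p = genericPoint Q → p ∈ hl.smoothLocus)
    (hequiv : ∀ x₀ x₁ : Q, IsClosed ({x₀} : Set Q) → IsClosed ({x₁} : Set Q) →
      ∃ (α : P ⟶ P) (β : Q ⟶ Q), IsIso α ∧ IsIso β ∧ α ≫ hl = hl ≫ β ∧ β x₁ = x₀) :
    Smooth hl := by
  haveI : IsLocallyNoetherian P := LocallyOfFiniteType.isLocallyNoetherian qP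
  haveI : CompactSpace P := QuasiCompact.compactSpace_of_compactSpace qP
  haveI : IsNoetherian P := {}
  haveI := LocallyOfFiniteType.jacobsonSpace qP
  haveI := LocallyOfFiniteType.jacobsonSpace qQ
  haveI : LocallyOfFiniteType (hl ≫ qQ) := by rw [hw]; infer_instance
  have hB := Groth.Agent.Lib.Helper4.not_mem_closure_image_compl_of_fibre_subset
    hl.continuous (genericPoint_spec Q) hl.smoothLocus.isOpen hgen
  rw [← Scheme.Hom.smoothLocus_eq_top_iff, ← TopologicalSpace.Opens.coe_eq_univ,
    ← not_ne_iff, ← Set.nonempty_compl]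
  intro H
  obtain ⟨t, ht, htc⟩ := nonempty_inter_closedPoints H
    hl.smoothLocus.2.isClosed_compl.isLocallyClosed
  have hne : ((closure (hl '' (hl.smoothLocus : Set P)ᶜ))ᶜ : Set Q).Nonempty :=
    ⟨genericPoint Q, hB⟩
  obtain ⟨x₀, hx₀, hx₀c⟩ := nonempty_inter_closedPoints hne
    isClosed_closure.isOpen_compl.isLocallyClosed
  have hx₁c : IsClosed ({hl t} : Set Q) :=
    Groth.Agent.Lib.Helper25.CotangentSmooth.isClosed_image hl qQ t htc
  obtain ⟨α, β, hα, hβ, hαβ, hβx⟩ := hequiv x₀ (hl t) hx₀c hx₁c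
  have h1 : hl (α t) = x₀ := by
    rw [← Scheme.Hom.comp_apply, hαβ, Scheme.Hom.comp_apply, hβx]
  have h2 : α t ∈ hl.smoothLocus := by
    by_contra hn
    exact hx₀ (subset_closure ⟨α t, hn, h1⟩)
  have h3 : t ∈ α ⁻¹ᵁ hl.smoothLocus := h2
  rw [Scheme.Hom.preimage_smoothLocus_eq] at h3
  haveI : LocallyOfFinitePresentation (hl ≫ β) := inferInstance
  exact ht ((mem_smoothLocus_comp_iso hl β t).mp (mem_smoothLocus_congr hαβ h3))

end general

section grp

variable (k : Type u) [Field k] [IsAlgClosed k]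
  (G X : Over (Spec (CommRingCat.of k))) [GrpObj G] (a : AlgGrp.Action G X)

/-- An integral group scheme locally of finite type over an algebraically closed field is
smooth. -/
theorem smooth_grp [IsIntegral G.left] [LocallyOfFiniteType G.hom] : Smooth G.hom := by
  haveI : LocallyOfFinitePresentation G.hom :=
    LocallyOfFinitePresentation.iff_locallyOfFiniteType.mpr inferInstance
  exact Groth.Agent.Lib.Helper25.GrpSmoothNonempty.smooth_of_nonempty_smoothLocus k G
    ⟨genericPoint G.left, G.hom.genericPoint_mem_smoothLocus_of_perfectField⟩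

variable {k G X}

/-- A closed point as a section. -/
noncomputable def ptOf [LocallyOfFiniteType X.hom] (x : X.left) (hx : IsClosed ({x} : Set X.left)) :
    𝟙_ (Over (Spec (CommRingCat.of k))) ⟶ X :=
  Over.homMk _ ((pointEquivClosedPoint X.hom).symm ⟨x, hx⟩).2

theorem ptOf_apply [LocallyOfFiniteType X.hom] (x : X.left) (hx : IsClosed ({x} : Set X.left)) :
    (ptOf x hx).left (IsLocalRing.closedPoint k) = x := by
  simp [ptOf, pointEquivClosedPoint]

/-- Transitivity on closed points. -/
theorem exists_actL_apply_eq [LocallyOfFiniteType X.hom]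
    (htrans : ∀ x x' : 𝟙_ (Over (Spec (CommRingCat.of k))) ⟶ X,
      ∃ σ : 𝟙_ (Over (Spec (CommRingCat.of k))) ⟶ G, lift σ x ≫ a.act = x')
    (x₀ x₁ : X.left) (hx₀ : IsClosed ({x₀} : Set X.left)) (hx₁ : IsClosed ({x₁} : Set X.left)) :
    ∃ σ : 𝟙_ (Over (Spec (CommRingCat.of k))) ⟶ G, (actL a σ).left x₁ = x₀ := by
  obtain ⟨σ, hσ⟩ := htrans (ptOf x₁ hx₁) (ptOf x₀ hx₀)
  refine ⟨σ, ?_⟩
  have h1 : ptOf x₁ hx₁ ≫ actL a σ = ptOf x₀ hx₀ := by
    rw [lift_actL, toUnit_unique (toUnit _) (𝟙 _), Category.id_comp, hσ]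
  have h2 := congr(($h1).left (IsLocalRing.closedPoint k))
  rw [Over.comp_left, Scheme.Hom.comp_apply, ptOf_apply, ptOf_apply] at h2
  exact h2

/-- A homogeneous space (integral, locally of finite type over an algebraically closed field)
is smooth. -/
theorem smooth_homogeneous [IsIntegral X.left] [LocallyOfFiniteType X.hom]
    (htrans : ∀ x x' : 𝟙_ (Over (Spec (CommRingCat.of k))) ⟶ X,
      ∃ σ : 𝟙_ (Over (Spec (CommRingCat.of k))) ⟶ G, lift σ x ≫ a.act = x') :
    Smooth X.hom := by
  haveI : LocallyOfFinitePresentation X.hom :=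
    LocallyOfFinitePresentation.iff_locallyOfFiniteType.mpr inferInstance
  haveI := LocallyOfFiniteType.jacobsonSpace X.hom
  rw [← Scheme.Hom.smoothLocus_eq_top_iff, ← TopologicalSpace.Opens.coe_eq_univ,
    ← not_ne_iff, ← Set.nonempty_compl]
  intro H
  obtain ⟨x, hx, hxc⟩ := nonempty_inter_closedPoints H
    X.hom.smoothLocus.2.isClosed_compl.isLocallyClosed
  obtain ⟨y, hy, hyc⟩ := nonempty_inter_closedPoints
    (⟨genericPoint X.left, X.hom.genericPoint_mem_smoothLocus_of_perfectField⟩ :
      (X.hom.smoothLocus : Set X.left).Nonempty) X.hom.smoothLocus.2.isLocallyClosed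
  obtain ⟨σ, hσ⟩ := exists_actL_apply_eq a htrans y x hyc hxc
  haveI : IsIso (actL a σ).left := (Over.forget _).map_isIso (actLIso a σ).hom
  have h1 : x ∈ (actL a σ).left ⁻¹ᵁ X.hom.smoothLocus := by
    change (actL a σ).left x ∈ X.hom.smoothLocus
    rw [hσ]; exact hy
  rw [Scheme.Hom.preimage_smoothLocus_eq] at h1
  exact hx (mem_smoothLocus_congr (Over.w (actL a σ)) h1)

/-- **Smoothness of `G × Y → X`**, `(σ, y) ↦ σ · f(y)`, for a homogeneous space `X` in
characteristic zero and `Y` smooth. -/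
theorem smooth_hh [CharZero k] [IsIntegral G.left] [LocallyOfFiniteType G.hom] [QuasiCompact G.hom]
    [IsIntegral X.left] [LocallyOfFiniteType X.hom]
    (htrans : ∀ x x' : 𝟙_ (Over (Spec (CommRingCat.of k))) ⟶ X,
      ∃ σ : 𝟙_ (Over (Spec (CommRingCat.of k))) ⟶ G, lift σ x ≫ a.act = x')
    {Yo : Over (Spec (CommRingCat.of k))} [Smooth Yo.hom] [QuasiCompact Yo.hom] (fo : Yo ⟶ X) :
    Smooth (hh a fo).left := by
  haveI := smooth_grp k G
  have hGY : (G ⊗ Yo).hom = pullback.fst G.hom Yo.hom ≫ G.hom := rfl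
  haveI : Smooth (G ⊗ Yo).hom := by rw [hGY]; infer_instance
  haveI : QuasiCompact (G ⊗ Yo).hom := by rw [hGY]; infer_instance
  have hw : (hh a fo).left ≫ X.hom = (G ⊗ Yo).hom := Over.w _
  haveI : LocallyOfFiniteType ((hh a fo).left ≫ X.hom) := by rw [hw]; infer_instance
  haveI : LocallyOfFiniteType (hh a fo).left := locallyOfFiniteType_of_comp _ X.hom
  haveI : IsLocallyNoetherian X.left := LocallyOfFiniteType.isLocallyNoetherian X.hom
  haveI : LocallyOfFinitePresentation (hh a fo).left :=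
    LocallyOfFinitePresentation.iff_locallyOfFiniteType.mpr inferInstance
  haveI : Smooth ((hh a fo).left ≫ X.hom) := by rw [hw]; infer_instance
  apply smooth_of_equivariant (G ⊗ Yo).hom X.hom (hh a fo).left hw
  · intro p hp
    exact Groth.Agent.Lib.Helper4.mem_smoothLocus_of_eq_genericPoint k X.hom (hh a fo).left p hp
  · intro x₀ x₁ hx₀ hx₁
    obtain ⟨σ, hσ⟩ := exists_actL_apply_eq a htrans x₀ x₁ hx₀ hx₁
    refine ⟨(trL σ).left, (actL a σ).left, ?_, ?_, ?_, hσ⟩
    · exact (Over.forget _).map_isIso (trLIso σ).hom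
    · exact (Over.forget _).map_isIso (actLIso a σ).hom
    · rw [← Over.comp_left, ← Over.comp_left, trL_hh]

end grp

end Groth.Agent.Lib.Helper25.Kleiman
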