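import Mathlib
import Groth.Agent.Lib.Helper25.Kleiman2
import Groth.Agent.Lib.Helper25.Kleiman3
import Groth.Agent.Lib.Helper25.SmoothRelDimScheme
import Groth.Agent.Lib.Helper21.ChartPt7

/-!
Kleiman transversality, part 4: assembly (helper25).
-/

set_option autoImplicit false
universe u
open CategoryTheory CategoryTheory.Limits MonoidalCategory CartesianMonoidalCategory MonObj GrpObj AlgebraicGeometry

namespace Groth.Agent.Lib.Helper25.Kleiman

open Groth.Agent.Lib.Helper25.OrbitSmooth Groth.Agent.Lib.Helper25.SmoothRelDimRank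

/-- Finite dimensionality of an irreducible scheme locally of finite type over a field. -/
theorem exists_nat_dim (k : Type u) [Field k] {T : Scheme.{u}} (pT : T ⟶ Spec (CommRingCat.of k))
    [LocallyOfFiniteType pT] [IrreducibleSpace T] :
    ∃ d : ℕ, topologicalKrullDim T = (d : WithBot ℕ∞) := by
  letI : T.Over (Spec (CommRingCat.of k)) := ⟨pT⟩
  haveI : LocallyOfFiniteType (T ↘ Spec (CommRingCat.of k)) := ‹LocallyOfFiniteType pT›
  obtain ⟨d, hd⟩ := Groth.Agent.Lib.Helper21.ChartPt.exists_nat_trdeg_genericPoint k T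
  exact ⟨d, Groth.Agent.Lib.Helper21.ChartPt.topologicalKrullDim_eq_of_irreducible k T d hd⟩

/-- **Kleiman transversality** (Hartshorne III.10.8). -/
theorem kleiman (k : Type u) [Field k] [IsAlgClosed k] [CharZero k]
    (G X : Over (Spec (CommRingCat.of k))) [GrpObj G] (a : AlgGrp.Action G X)
    [IsIntegral G.left] [LocallyOfFiniteType G.hom] [QuasiCompact G.hom]
    [IsIntegral X.left] [IsSeparated X.hom] [LocallyOfFiniteType X.hom]
    (htrans : ∀ x x' : 𝟙_ (Over (Spec (CommRingCat.of k))) ⟶ X,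
      ∃ σ : 𝟙_ (Over (Spec (CommRingCat.of k))) ⟶ G, lift σ x ≫ a.act = x')
    {Y Z : Scheme.{u}} (f : Y ⟶ X.left) (g : Z ⟶ X.left)
    [IsIntegral Y] [QuasiCompact (f ≫ X.hom)] [Smooth (f ≫ X.hom)]
    [IsIntegral Z] [QuasiCompact (g ≫ X.hom)] [Smooth (g ≫ X.hom)]
    (n r s : ℕ) (hn : topologicalKrullDim ↥X.left = n) (hr : topologicalKrullDim ↥Y = r)
    (hs : topologicalKrullDim ↥Z = s) :
    ∃ V : G.left.Opens, (V : Set ↥G.left).Nonempty ∧
      ∀ σ : 𝟙_ (Over (Spec (CommRingCat.of k))) ⟶ G, Set.range σ.left.base ⊆ (V : Set ↥G.left) →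
        ∀ fσ : Y ⟶ X.left,
          fσ = (lift (toUnit (Over.mk (f ≫ X.hom)) ≫ σ) (Over.homMk f) ≫ a.act).left →
          Smooth (pullback.fst fσ g ≫ f ≫ X.hom) ∧
            (IsEmpty ↥(pullback fσ g) ∨ (n ≤ r + s ∧
              topologicalKrullDim ↥(pullback fσ g) = ((r + s - n : ℕ) : WithBot ℕ∞))) := by
  classical
  let Yo : Over (Spec (CommRingCat.of k)) := Over.mk (f ≫ X.hom)
  let fo : Yo ⟶ X := Over.homMk f rfl
  haveI : Smooth Yo.hom := ‹Smooth (f ≫ X.hom)›
  haveI : QuasiCompact Yo.hom := ‹QuasiCompact (f ≫ X.hom)›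
  haveI hG : Smooth G.hom := smooth_grp k G
  haveI hX : Smooth X.hom := smooth_homogeneous a htrans
  haveI hhs : Smooth (hh a fo).left := smooth_hh a htrans fo
  obtain ⟨dG, hdG⟩ := exists_nat_dim k G.hom
  haveI : SmoothOfRelativeDimension dG G.hom := smoothOfRelativeDimension_of_isIntegral G.hom dG hdG
  haveI : SmoothOfRelativeDimension n X.hom := smoothOfRelativeDimension_of_isIntegral X.hom n hn
  haveI : SmoothOfRelativeDimension r Yo.hom :=
    smoothOfRelativeDimension_of_isIntegral (f ≫ X.hom) r hr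
  haveI : SmoothOfRelativeDimension s (g ≫ X.hom) :=
    smoothOfRelativeDimension_of_isIntegral (g ≫ X.hom) s hs
  haveI := smoothOfRelativeDimension_isStableUnderBaseChange r
  haveI : SmoothOfRelativeDimension r (pullback.fst G.hom Yo.hom) :=
    MorphismProperty.pullback_fst (P := @SmoothOfRelativeDimension r) _ _ inferInstance
  have hGY : (G ⊗ Yo).hom = pullback.fst G.hom Yo.hom ≫ G.hom := rfl
  haveI : SmoothOfRelativeDimension (r + dG) (G ⊗ Yo).hom := by rw [hGY]; infer_instance
  haveI : QuasiCompact (G ⊗ Yo).hom := by rw [hGY]; infer_instance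
  have hwh : (hh a fo).left ≫ X.hom = (G ⊗ Yo).hom := Over.w _
  haveI : SmoothOfRelativeDimension (r + dG) ((hh a fo).left ≫ X.hom) := by
    rw [hwh]; infer_instance
  haveI : QuasiCompact ((hh a fo).left ≫ X.hom) := by rw [hwh]; infer_instance
  haveI : QuasiCompact (hh a fo).left := QuasiCompact.of_comp (hh a fo).left X.hom
  obtain ⟨hne1, hrel1⟩ := relDim_of_comp (hh a fo).left X.hom n (r + dG)
  -- the incidence scheme `W`
  haveI := smoothOfRelativeDimension_isStableUnderBaseChange (r + dG - n)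
  haveI : SmoothOfRelativeDimension (r + dG - n) (pullback.snd (hh a fo).left g) :=
    MorphismProperty.pullback_snd (P := @SmoothOfRelativeDimension (r + dG - n)) _ _ hrel1
  let pW : pullback (hh a fo).left g ⟶ Spec (CommRingCat.of k) :=
    pullback.snd (hh a fo).left g ≫ g ≫ X.hom
  haveI : SmoothOfRelativeDimension (r + dG - n + s) pW := inferInstance
  haveI : QuasiCompact pW := inferInstance
  let q : pullback (hh a fo).left g ⟶ G.left := pullback.fst (hh a fo).left g ≫ (fst G Yo).left
  have hq : q ≫ G.hom = pW := by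
    simp only [q, pW, Category.assoc]
    rw [Over.w (fst G Yo), ← hwh, pullback.condition_assoc]
  haveI : Smooth pW := SmoothOfRelativeDimension.smooth (r + dG - n + s) pW
  haveI : Smooth (q ≫ G.hom) := by rw [hq]; infer_instance
  haveI : LocallyOfFiniteType (q ≫ G.hom) := inferInstance
  haveI : LocallyOfFiniteType q := locallyOfFiniteType_of_comp q G.hom
  haveI : IsLocallyNoetherian G.left := LocallyOfFiniteType.isLocallyNoetherian G.hom
  haveI : LocallyOfFinitePresentation q :=
    LocallyOfFinitePresentation.iff_locallyOfFiniteType.mpr inferInstance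
  obtain ⟨hne2, hrel2⟩ := relDim_smoothLocus pW G.hom q hq dG (r + dG - n + s)
  haveI : IsLocallyNoetherian (pullback (hh a fo).left g : Scheme.{u}) :=
    LocallyOfFiniteType.isLocallyNoetherian pW
  haveI : CompactSpace ↥(pullback (hh a fo).left g : Scheme.{u}) :=
    QuasiCompact.compactSpace_of_compactSpace pW
  haveI : IsNoetherian (pullback (hh a fo).left g : Scheme.{u}) := {}
  have hA : ∀ w : ↥(pullback (hh a fo).left g), q w = genericPoint G.left → w ∈ q.smoothLocus :=
    fun w hw => Groth.Agent.Lib.Helper4.mem_smoothLocus_of_eq_genericPoint k G.hom q w hw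
  have hB := Groth.Agent.Lib.Helper4.not_mem_closure_image_compl_of_fibre_subset
    q.continuous (genericPoint_spec G.left) q.smoothLocus.isOpen hA
  let V : G.left.Opens := ⟨(closure (q '' (q.smoothLocus : Set ↥(pullback (hh a fo).left g))ᶜ))ᶜ,
    isClosed_closure.isOpen_compl⟩
  refine ⟨V, ⟨genericPoint G.left, hB⟩, ?_⟩
  intro σ hσ fσ hfσ
  have hfσ' : fσ = (sec (Yo := Yo) σ).left ≫ (hh a fo).left := by
    rw [hfσ, ← Over.comp_left, sec_hh]
  -- the map `P ⟶ W`
  have hcond : (pullback.fst fσ g ≫ (sec (Yo := Yo) σ).left) ≫ (hh a fo).left =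
      pullback.snd fσ g ≫ g := by
    rw [Category.assoc, ← hfσ', pullback.condition]
  let j : pullback fσ g ⟶ pullback (hh a fo).left g :=
    pullback.lift (pullback.fst fσ g ≫ (sec (Yo := Yo) σ).left) (pullback.snd fσ g) hcond
  have hAsq : IsPullback j (pullback.fst fσ g) (pullback.fst (hh a fo).left g) (sec (Yo := Yo) σ).left := by
    refine IsPullback.of_right ?_ (pullback.lift_fst _ _ _)
      (IsPullback.of_hasPullback (hh a fo).left g).flip
    rw [pullback.lift_snd, ← hfσ']
    exact (IsPullback.of_hasPullback fσ g).flip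
  have hBsq : IsPullback (sec (Yo := Yo) σ).left Yo.hom (fst G Yo).left σ.left :=
    (isPullback_sec (Yo := Yo) σ).map (Over.forget _)
  have hCsq : IsPullback j (pullback.fst fσ g ≫ Yo.hom) q σ.left := hAsq.paste_vert hBsq
  -- `j` factors through the smooth locus of `q`
  have hrange : Set.range j ⊆ Set.range q.smoothLocus.ι := by
    rintro _ ⟨p, rfl⟩
    rw [Scheme.Opens.range_ι]
    by_contra hn
    have h1 : q (j p) ∈ (V : Set ↥G.left) := by
      have : q (j p) = σ.left ((pullback.fst fσ g ≫ Yo.hom) p) := by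
        rw [← Scheme.Hom.comp_apply, ← Scheme.Hom.comp_apply, hCsq.w]
      rw [this]
      exact hσ ⟨_, rfl⟩
    exact h1 (subset_closure ⟨j p, hn, rfl⟩)
  let j' : pullback fσ g ⟶ q.smoothLocus.toScheme := IsOpenImmersion.lift q.smoothLocus.ι j hrange
  have hj' : j' ≫ q.smoothLocus.ι = j := IsOpenImmersion.lift_fac _ _ _
  have hDsq : IsPullback j' (pullback.fst fσ g ≫ Yo.hom) (q.smoothLocus.ι ≫ q) σ.left :=
    isPullback_of_mono_factor hCsq q.smoothLocus.ι j' hj'
  haveI := smoothOfRelativeDimension_isStableUnderBaseChange (r + dG - n + s - dG)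
  haveI hrelP : SmoothOfRelativeDimension (r + dG - n + s - dG) (pullback.fst fσ g ≫ Yo.hom) :=
    MorphismProperty.of_isPullback (P := @SmoothOfRelativeDimension (r + dG - n + s - dG))
      hDsq hrel2
  refine ⟨SmoothOfRelativeDimension.smooth (r + dG - n + s - dG) (pullback.fst fσ g ≫ Yo.hom), ?_⟩
  by_cases hP : IsEmpty ↥(pullback fσ g)
  · exact Or.inl hP
  · right
    rw [not_isEmpty_iff] at hP
    obtain ⟨p⟩ := hP
    have h1 : dG ≤ r + dG - n + s := hne2 ⟨j' p⟩
    have h2 : n ≤ r + dG := hne1 ⟨pullback.fst (hh a fo).left g (j p)⟩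
    have h3 : r + dG - n + s - dG = r + s - n := by omega
    refine ⟨by omega, ?_⟩
    haveI : Nonempty ↥(pullback fσ g) := ⟨p⟩
    rw [← h3]
    exact topologicalKrullDim_eq_of_smoothOfRelativeDimension (pullback.fst fσ g ≫ Yo.hom)
      (r + dG - n + s - dG)

end Groth.Agent.Lib.Helper25.Kleiman
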