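import Mathlib

/-!
# Formal smoothness of Kummer algebras over coordinates (helper25)

`formallySmooth_kummer`: if `R[Y_j] → A`, `Y_j ↦ t_j` is formally smooth (e.g. étale), then the Kummer
algebra `A[T_i]/(T_i^{n_i} - t_{e i})` (for an injective `e`) is formally smooth over `R`,
for arbitrary exponents `n_i`.
-/

set_option autoImplicit false
universe u v w

namespace Groth.Agent.Lib.Helper25.KummerSmooth

open MvPolynomial

theorem formallySmooth_kummer {R A : Type u} [CommRing R] [CommRing A] [Algebra R A]
    {d : Type v} {I : Type w} (t : d → A)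
    (hsm : (MvPolynomial.aeval (R := R) t).toRingHom.FormallySmooth)
    (e : I → d) (he : Function.Injective e) (n : I → ℕ) :
    Algebra.FormallySmooth R
      (MvPolynomial I A ⧸ Ideal.span (Set.range fun i =>
        (MvPolynomial.X i : MvPolynomial I A) ^ n i - MvPolynomial.C (t (e i)))) := by
  classical
  set J : Ideal (MvPolynomial I A) := Ideal.span (Set.range fun i =>
        (MvPolynomial.X i : MvPolynomial I A) ^ n i - MvPolynomial.C (t (e i))) with hJ
  refine Algebra.FormallySmooth.of_comp_surjective ?_
  intro T _ _ N hN g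
  let mkK : MvPolynomial I A →ₐ[R] MvPolynomial I A ⧸ J := Ideal.Quotient.mkₐ R J
  let gA : A →ₐ[R] T ⧸ N := (g.comp mkK).comp (IsScalarTower.toAlgHom R A (MvPolynomial I A))
  have hsurj : Function.Surjective (Ideal.Quotient.mk N) := Ideal.Quotient.mk_surjective
  choose c hc using fun i : I => hsurj (g (Ideal.Quotient.mk J (X i)))
  choose s hs using fun j : d => hsurj (gA (t j))
  let y : d → T := fun j => if h : ∃ i, e i = j then (c h.choose) ^ n h.choose else s j
  have hye : ∀ i, y (e i) = c i ^ n i := by
    intro i
    have h : ∃ i', e i' = e i := ⟨i, rfl⟩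
    have h2 : h.choose = i := he h.choose_spec
    show (if h : ∃ i', e i' = e i then (c h.choose) ^ n h.choose else s (e i)) = _
    rw [dif_pos h, h2]
  have hgen : ∀ i, g (Ideal.Quotient.mk J (X i)) ^ n i = gA (t (e i)) := by
    intro i
    have h1 : Ideal.Quotient.mk J ((X i : MvPolynomial I A) ^ n i) =
        Ideal.Quotient.mk J (C (t (e i))) := by
      rw [Ideal.Quotient.eq]
      exact Ideal.subset_span ⟨i, rfl⟩
    rw [← map_pow, ← map_pow, h1]
    rfl
  have hy : ∀ j, Ideal.Quotient.mk N (y j) = gA (t j) := by
    intro j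
    by_cases h : ∃ i, e i = j
    · obtain ⟨i, rfl⟩ := h
      rw [hye, map_pow, hc, hgen]
    · show Ideal.Quotient.mk N (if h : ∃ i, e i = j then (c h.choose) ^ n h.choose else s j) = _
      rw [dif_neg h, hs]
  -- algebra structures over the polynomial ring
  letI algPA : Algebra (MvPolynomial d R) A := (aeval (R := R) t).toRingHom.toAlgebra
  letI algPC : Algebra (MvPolynomial d R) T := (aeval (R := R) y).toRingHom.toAlgebra
  haveI towA : IsScalarTower R (MvPolynomial d R) A :=
    IsScalarTower.of_algebraMap_eq fun r => ((aeval (R := R) t).commutes r).symm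
  haveI towC : IsScalarTower R (MvPolynomial d R) T :=
    IsScalarTower.of_algebraMap_eq fun r => ((aeval (R := R) y).commutes r).symm
  haveI : Algebra.FormallySmooth (MvPolynomial d R) A := hsm
  have hcomm : gA.comp (aeval (R := R) t) = (Ideal.Quotient.mkₐ R N).comp (aeval (R := R) y) := by
    apply MvPolynomial.algHom_ext
    intro j
    simp only [AlgHom.comp_apply, aeval_X, Ideal.Quotient.mkₐ_eq_mk]
    exact (hy j).symm
  let gA' : A →ₐ[MvPolynomial d R] T ⧸ N :=
    { gA.toRingHom with
      commutes' := fun p => by
        have := DFunLike.congr_fun hcomm p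
        exact this }
  obtain ⟨h, hh⟩ := Algebra.FormallySmooth.comp_surjective (MvPolynomial d R) A N hN gA'
  have hh' : ∀ a, Ideal.Quotient.mk N (h a) = gA a := fun a => DFunLike.congr_fun hh a
  have hht : ∀ i, h (t (e i)) = c i ^ n i := by
    intro i
    have h1 : t (e i) = algebraMap (MvPolynomial d R) A (X (e i)) := by
      show _ = aeval t (X (e i))
      rw [aeval_X]
    rw [h1, h.commutes]
    show aeval y (X (e i)) = _
    rw [aeval_X, hye]
  letI algAC : Algebra A T := h.toRingHom.toAlgebra
  haveI towAC : IsScalarTower R A T :=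
    IsScalarTower.of_algebraMap_eq fun r => ((h.restrictScalars R).commutes r).symm
  let F : MvPolynomial I A →ₐ[R] T := (aeval (R := A) c).restrictScalars R
  have hF : ∀ p ∈ J, F p = 0 := by
    intro p hp
    have hle : J ≤ RingHom.ker F.toRingHom := by
      rw [hJ, Ideal.span_le]
      rintro _ ⟨i, rfl⟩
      rw [SetLike.mem_coe, RingHom.mem_ker]
      show aeval c ((X i : MvPolynomial I A) ^ n i - C (t (e i))) = 0
      rw [map_sub, map_pow, aeval_X, aeval_C]
      show c i ^ n i - h (t (e i)) = 0
      rw [hht, sub_self]
    exact hle hp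
  refine ⟨Ideal.Quotient.liftₐ J F hF, ?_⟩
  apply Ideal.Quotient.algHom_ext
  have hring : ((Ideal.Quotient.mk N).comp F.toRingHom : MvPolynomial I A →+* T ⧸ N) =
      (g.toRingHom.comp (Ideal.Quotient.mk J)) := by
    apply MvPolynomial.ringHom_ext
    · intro a
      show Ideal.Quotient.mk N (aeval c (C a)) = g (Ideal.Quotient.mk J (C a))
      rw [aeval_C]
      exact hh' a
    · intro i
      show Ideal.Quotient.mk N (aeval c (X i)) = g (Ideal.Quotient.mk J (X i))
      rw [aeval_X, hc]
  refine AlgHom.ext fun p => ?_
  exact RingHom.congr_fun hring p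

/-- variant with the coefficients `a i = t (e i)` as a separate family. -/
theorem formallySmooth_kummer' {R A : Type u} [CommRing R] [CommRing A] [Algebra R A]
    {d : Type v} {I : Type w} (t : d → A)
    (hsm : (MvPolynomial.aeval (R := R) t).toRingHom.FormallySmooth)
    (e : I → d) (he : Function.Injective e) (n : I → ℕ) (a : I → A) (ha : ∀ i, a i = t (e i)) :
    Algebra.FormallySmooth R
      (MvPolynomial I A ⧸ Ideal.span (Set.range fun i =>
        (MvPolynomial.X i : MvPolynomial I A) ^ n i - MvPolynomial.C (a i))) := by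
  have h : a = fun i => t (e i) := funext ha
  subst h
  exact formallySmooth_kummer t hsm e he n

end Groth.Agent.Lib.Helper25.KummerSmooth
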