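import Mathlib
import Groth.Prelude.Def_SGA1t
import Groth.Agent.Lib.Helper25.KummerSmooth1
import Groth.Agent.Lib.Helper25.KummerSmooth2
import Groth.Agent.Lib.Helper25.RegSmooth4

/-!
# Kummer schemes along a relative strict normal crossings divisor are smooth (helper25)
-/

set_option autoImplicit false
universe u

open CategoryTheory CategoryTheory.Limits AlgebraicGeometry TopologicalSpace

namespace Groth.Agent.Lib.Helper25.KummerSmooth

open Groth.Agent.Lib.Helper25.RegSmooth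

theorem formallySmooth_stalkMap_kummer {X S : Scheme.{u}} (f : X ⟶ S) {r : ℕ}
    (φ : Fin r → Γ(X, ⊤)) (hD : SGA1t.IsRelSNC f φ) (x : X)
    (hx : Nonempty (SGA1t.vanishingAt φ x)) (n : SGA1t.vanishingAt φ x → ℕ)
    (x' : Spec (CommRingCat.of (SGA1t.kummer (X.presheaf.stalk x)
      (fun i : SGA1t.vanishingAt φ x => (X.presheaf.germ ⊤ x trivial).hom (φ i.1)) n))) :
    ((Spec.map (CommRingCat.ofHom (algebraMap (X.presheaf.stalk x)
      (SGA1t.kummer (X.presheaf.stalk x)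
        (fun i : SGA1t.vanishingAt φ x => (X.presheaf.germ ⊤ x trivial).hom (φ i.1)) n))) ≫
      X.fromSpecStalk x ≫ f).stalkMap x').hom.FormallySmooth := by
  obtain ⟨W, hxW, d, v, e, he, hEt, hv⟩ := hD x hx
  -- charts
  obtain ⟨_, ⟨U, hU, rfl⟩, hxU, -⟩ :=
    S.isBasis_affineOpens.exists_subset_of_mem_open (Set.mem_univ (f x)) isOpen_univ
  have hxWU : x ∈ W ⊓ f ⁻¹ᵁ U := ⟨hxW, hxU⟩
  obtain ⟨_, ⟨V, hV, rfl⟩, hxV, hVWU⟩ :=
    X.isBasis_affineOpens.exists_subset_of_mem_open hxWU (W ⊓ f ⁻¹ᵁ U).2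
  have hU' : IsAffineOpen U := hU
  have hV' : IsAffineOpen V := hV
  have hVW : V ≤ W := fun z hz => (hVWU hz).1
  have hVU : V ≤ f ⁻¹ᵁ U := fun z hz => (hVWU hz).2
  have hxV' : x ∈ V := hxV
  -- algebra
  let ρ : Γ(S, U) →+* X.presheaf.stalk x :=
    (X.presheaf.germ V x hxV').hom.comp (f.appLE U V hVU).hom
  letI algRA : Algebra Γ(S, U) (X.presheaf.stalk x) := ρ.toAlgebra
  let t : ULift.{u} (Fin d) → X.presheaf.stalk x :=
    fun j => (X.presheaf.germ W x hxW).hom (W.topIso.hom.hom (v j))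
  have hsm : (MvPolynomial.aeval (R := Γ(S, U)) t).toRingHom.FormallySmooth :=
    formallySmooth_eval₂Hom_germ_of_etale f W x hxW d v hEt U hU' V hV' hVU hVW hxV'
  have hpt : ∀ i : SGA1t.vanishingAt φ x,
      (X.presheaf.germ ⊤ x trivial).hom (φ i.1) = t (ULift.up (e i)) := by
    intro i
    show _ = (X.presheaf.germ W x hxW) (W.topIso.hom (v (ULift.up (e i))))
    rw [hv i]
    have h1 : W.topIso.hom (W.topIso.inv ((X.presheaf.map (homOfLE le_top).op) (φ i.1))) =
        (X.presheaf.map (homOfLE le_top).op) (φ i.1) := by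
      rw [← CommRingCat.comp_apply, Iso.inv_hom_id]
      rfl
    rw [h1]
    exact (TopCat.Presheaf.germ_res_apply X.presheaf (homOfLE le_top) x hxW (φ i.1)).symm
  haveI hK : Algebra.FormallySmooth Γ(S, U) (SGA1t.kummer (X.presheaf.stalk x)
      (fun i : SGA1t.vanishingAt φ x => (X.presheaf.germ ⊤ x trivial).hom (φ i.1)) n) :=
    formallySmooth_kummer' (R := Γ(S, U)) (A := X.presheaf.stalk x) t hsm
      (fun i : SGA1t.vanishingAt φ x => ULift.up (e i))
      (fun i j hij => he (ULift.up_injective hij)) n _ hpt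
  let φ' : X.presheaf.stalk x ⟶ CommRingCat.of (SGA1t.kummer (X.presheaf.stalk x)
      (fun i : SGA1t.vanishingAt φ x => (X.presheaf.germ ⊤ x trivial).hom (φ i.1)) n) :=
    CommRingCat.ofHom (algebraMap (X.presheaf.stalk x) (SGA1t.kummer (X.presheaf.stalk x)
      (fun i : SGA1t.vanishingAt φ x => (X.presheaf.germ ⊤ x trivial).hom (φ i.1)) n))
  show ((Spec.map φ' ≫ X.fromSpecStalk x ≫ f).stalkMap x').hom.FormallySmooth
  have hrange : ∀ w : Spec (X.presheaf.stalk x), X.fromSpecStalk x w ∈ V := by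
    intro w
    have h1 : X.fromSpecStalk x w ∈ Set.range (X.fromSpecStalk x) := ⟨w, rfl⟩
    rw [Scheme.range_fromSpecStalk] at h1
    exact h1.mem_open V.2 hxV'
  have hle : (⊤ : (Spec (CommRingCat.of (SGA1t.kummer (X.presheaf.stalk x)
      (fun i : SGA1t.vanishingAt φ x => (X.presheaf.germ ⊤ x trivial).hom (φ i.1)) n))).Opens) ≤
      (Spec.map φ' ≫ X.fromSpecStalk x ≫ f) ⁻¹ᵁ U := by
    intro z _
    show f (X.fromSpecStalk x (Spec.map φ' z)) ∈ U
    exact hVU (hrange _)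
  rw [formallySmooth_stalkMap_iff_germ (Spec.map φ' ≫ X.fromSpecStalk x ≫ f) x' U hU' ⊤
    (isAffineOpen_top _) hle trivial]
  have h1 : (⊤ : (Spec (X.presheaf.stalk x)).Opens) ≤ X.fromSpecStalk x ⁻¹ᵁ V :=
    fun w _ => hrange w
  have h2 : (⊤ : (Spec (CommRingCat.of (SGA1t.kummer (X.presheaf.stalk x)
      (fun i : SGA1t.vanishingAt φ x => (X.presheaf.germ ⊤ x trivial).hom (φ i.1)) n))).Opens) ≤
      Spec.map φ' ⁻¹ᵁ ⊤ := fun _ _ => trivial
  have hkey : (Spec.map φ' ≫ X.fromSpecStalk x ≫ f).appLE U ⊤ hle =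
      f.appLE U V hVU ≫ X.presheaf.germ V x hxV' ≫ φ' ≫ (Scheme.ΓSpecIso _).inv := by
    have e1 : (Spec.map φ' ≫ X.fromSpecStalk x ≫ f).appLE U ⊤ hle =
        f.appLE U V hVU ≫ (X.fromSpecStalk x).appLE V ⊤ h1 ≫ (Spec.map φ').appLE ⊤ ⊤ h2 := by
      rw [Scheme.Hom.appLE_comp_appLE, Scheme.Hom.appLE_comp_appLE]
      simp only [Category.assoc]
    have e2 : (X.fromSpecStalk x).appLE V ⊤ h1 =
        X.presheaf.germ V x hxV' ≫ (Scheme.ΓSpecIso (X.presheaf.stalk x)).inv := by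
      rw [Scheme.Hom.appLE, Scheme.fromSpecStalk_app hxV', Category.assoc, Category.assoc,
        ← Functor.map_comp]
      have : ((homOfLE le_top).op ≫ (homOfLE h1).op :
          Opposite.op (⊤ : (Spec (X.presheaf.stalk x)).Opens) ⟶ Opposite.op ⊤) = 𝟙 _ :=
        Subsingleton.elim _ _
      rw [this, CategoryTheory.Functor.map_id, Category.comp_id]
    have e3 : (Spec.map φ').appLE ⊤ ⊤ h2 = (Spec.map φ').appTop :=
      (Scheme.Hom.app_eq_appLE (Spec.map φ')).symm
    rw [e1, e2, e3, Category.assoc, ← Scheme.ΓSpecIso_inv_naturality]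
  rw [hkey]
  have hcomp : ((Spec (CommRingCat.of (SGA1t.kummer (X.presheaf.stalk x)
      (fun i : SGA1t.vanishingAt φ x => (X.presheaf.germ ⊤ x trivial).hom (φ i.1)) n))).presheaf.germ
        ⊤ x' trivial).hom.comp
      (f.appLE U V hVU ≫ X.presheaf.germ V x hxV' ≫ φ' ≫ (Scheme.ΓSpecIso _).inv).hom =
      (((Spec (CommRingCat.of (SGA1t.kummer (X.presheaf.stalk x)
      (fun i : SGA1t.vanishingAt φ x => (X.presheaf.germ ⊤ x trivial).hom (φ i.1)) n))).presheaf.germ
        ⊤ x' trivial).hom.comp (Scheme.ΓSpecIso (CommRingCat.of (SGA1t.kummer (X.presheaf.stalk x)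
      (fun i : SGA1t.vanishingAt φ x => (X.presheaf.germ ⊤ x trivial).hom (φ i.1)) n))).inv.hom).comp
        (algebraMap Γ(S, U) (SGA1t.kummer (X.presheaf.stalk x)
      (fun i : SGA1t.vanishingAt φ x => (X.presheaf.germ ⊤ x trivial).hom (φ i.1)) n)) := by
    refine RingHom.ext fun r => ?_
    rfl
  rw [hcomp]
  refine RingHom.FormallySmooth.comp (RingHom.formallySmooth_algebraMap.mpr hK) ?_
  refine RingHom.FormallySmooth.comp
    (RingHom.FormallySmooth.of_bijective (ConcreteCategory.bijective_of_isIso _)) ?_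
  have hT : IsAffineOpen (⊤ : (Spec (CommRingCat.of (SGA1t.kummer (X.presheaf.stalk x)
      (fun i : SGA1t.vanishingAt φ x => (X.presheaf.germ ⊤ x trivial).hom (φ i.1)) n))).Opens) :=
    isAffineOpen_top _
  have hx'T : x' ∈ (⊤ : (Spec (CommRingCat.of (SGA1t.kummer (X.presheaf.stalk x)
      (fun i : SGA1t.vanishingAt φ x => (X.presheaf.germ ⊤ x trivial).hom (φ i.1)) n))).Opens) :=
    trivial
  letI algBL : Algebra Γ(Spec (CommRingCat.of (SGA1t.kummer (X.presheaf.stalk x)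
      (fun i : SGA1t.vanishingAt φ x => (X.presheaf.germ ⊤ x trivial).hom (φ i.1)) n)), ⊤)
      ((Spec (CommRingCat.of (SGA1t.kummer (X.presheaf.stalk x)
      (fun i : SGA1t.vanishingAt φ x => (X.presheaf.germ ⊤ x trivial).hom (φ i.1)) n))).presheaf.stalk x') :=
    TopCat.Presheaf.algebra_section_stalk _ ⟨x', hx'T⟩
  haveI hloc : IsLocalization.AtPrime ((Spec (CommRingCat.of (SGA1t.kummer (X.presheaf.stalk x)
      (fun i : SGA1t.vanishingAt φ x => (X.presheaf.germ ⊤ x trivial).hom (φ i.1)) n))).presheaf.stalk x')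
      (hT.primeIdealOf ⟨x', hx'T⟩).asIdeal :=
    hT.isLocalization_stalk ⟨x', hx'T⟩
  have : Algebra.FormallySmooth Γ(Spec (CommRingCat.of (SGA1t.kummer (X.presheaf.stalk x)
      (fun i : SGA1t.vanishingAt φ x => (X.presheaf.germ ⊤ x trivial).hom (φ i.1)) n)), ⊤)
      ((Spec (CommRingCat.of (SGA1t.kummer (X.presheaf.stalk x)
      (fun i : SGA1t.vanishingAt φ x => (X.presheaf.germ ⊤ x trivial).hom (φ i.1)) n))).presheaf.stalk x') :=
    Algebra.FormallySmooth.of_isLocalization (hT.primeIdealOf ⟨x', hx'T⟩).asIdeal.primeCompl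
  exact this

end Groth.Agent.Lib.Helper25.KummerSmooth
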