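import Mathlib.AlgebraicGeometry.Sites.Etale
import Mathlib.AlgebraicGeometry.Sites.Fpqc
import Mathlib.AlgebraicGeometry.Morphisms.Etale
import Mathlib.AlgebraicGeometry.Morphisms.Flat
import Mathlib.AlgebraicGeometry.Morphisms.FinitePresentation
import Mathlib.CategoryTheory.MorphismProperty.Local

set_option autoImplicit false
universe u
open CategoryTheory AlgebraicGeometry

namespace Groth.Agent.Lib.Helper25

variable {P Q : MorphismProperty Scheme.{u}}

/-- Precomposition with a `Q`-morphism preserves `P` if `P` is `Q`-local at the source. -/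
theorem precomp_of_isLocalAtSource [Q.ContainsIdentities] [Q.RespectsIso]
    [P.IsLocalAtSource (Scheme.precoverage Q)] {X' X Y : Scheme.{u}} (g : X' ⟶ X) (hg : Q g)
    (f : X ⟶ Y) (hf : P f) : P (g ≫ f) := by
  let 𝒰 : Scheme.Cover.{0} (Scheme.precoverage Q) X := (Scheme.coverOfIsIso.{0} (𝟙 X)).add g hg
  exact (MorphismProperty.IsLocalAtSource.iff_of_zeroHypercover (P := P) 𝒰).mp hf none

/-- Descent of `P` along a surjective `Q`-morphism. -/
theorem of_precomp_of_isLocalAtSource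
    [P.IsLocalAtSource (Scheme.precoverage Q)] {X' X Y : Scheme.{u}} (g : X' ⟶ X) (hg : Q g)
    (hs : Function.Surjective g) (f : X ⟶ Y) (hf : P (g ≫ f)) : P f := by
  refine MorphismProperty.IsLocalAtSource.of_forall_comp (K := Scheme.precoverage Q)
    (R := Presieve.singleton g) ?_ ?_
  · rw [Scheme.singleton_mem_precoverage_iff]
    exact ⟨hs, hg⟩
  · rintro U g' ⟨⟩
    exact hf


theorem exists_largest_open_of_isLocalAtSource
    [Q.IsStableUnderBaseChange] [Q.IsStableUnderComposition]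
    (hQ₁ : @IsOpenImmersion ≤ Q)
    (hQ₂ : ∀ {X Y : Scheme.{u}} (g : X ⟶ Y), Q g → IsOpenMap g)
    [P.IsLocalAtSource (Scheme.precoverage Q)] {X Y : Scheme.{u}} (f : X ⟶ Y) :
    ∃ W : X.Opens, (P (W.ι ≫ f) ∧ ∀ W' : X.Opens, P (W'.ι ≫ f) → W' ≤ W) ∧
      ∀ (X' : Scheme.{u}) (g : X' ⟶ X) (_ : Q g) (V : X'.Opens),
        (P (V.ι ≫ g ≫ f) ∧ ∀ V' : X'.Opens, P (V'.ι ≫ g ≫ f) → V' ≤ V) → V = g ⁻¹ᵁ W := by
  have hZ : IsZariskiLocalAtSource P := .of_le (Scheme.precoverage_mono hQ₁)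
  have hI : Q.ContainsIdentities := ⟨fun X ↦ hQ₁ _ inferInstance⟩
  -- the largest open
  have key : ∀ {X : Scheme.{u}} (f : X ⟶ Y),
      P ((sSup {W' : X.Opens | P (W'.ι ≫ f)}).ι ≫ f) := by
    intro X f
    set S : Set X.Opens := {W' : X.Opens | P (W'.ι ≫ f)} with hS
    set W : X.Opens := sSup S with hW
    refine IsZariskiLocalAtSource.of_iSup_eq_top (P := P)
      (fun W' : S ↦ W.ι ⁻¹ᵁ W'.1) ?_ ?_
    · rw [eq_top_iff]
      rintro ⟨x, hx⟩ -
      rw [hW] at hx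
      obtain ⟨W', hW', hxW'⟩ := TopologicalSpace.Opens.mem_sSup.mp hx
      exact TopologicalSpace.Opens.mem_iSup.mpr ⟨⟨W', hW'⟩, hxW'⟩
    · rintro ⟨W', hW'⟩
      change P ((W.ι ⁻¹ᵁ W').ι ≫ W.ι ≫ f)
      rw [← Category.assoc, ← morphismRestrict_ι, Category.assoc]
      exact IsZariskiLocalAtSource.comp hW' _
  refine ⟨sSup {W' : X.Opens | P (W'.ι ≫ f)}, ⟨key f, fun W' hW' ↦ le_sSup hW'⟩, ?_⟩
  intro X' g hg V ⟨hV, hVmax⟩
  set W : X.Opens := sSup {W' : X.Opens | P (W'.ι ≫ f)} with hW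
  apply le_antisymm
  · -- V ≤ g⁻¹ W
    let W'' : X.Opens := ⟨g '' V, hQ₂ g hg _ V.2⟩
    have e : V ≤ g ⁻¹ᵁ W'' := fun x hx ↦ ⟨x, hx, rfl⟩
    have hres : Q (g.resLE W'' V e) :=
      Q.comp_mem _ _ (hQ₁ _ inferInstance)
        (Q.of_isPullback (isPullback_morphismRestrict g W'').flip hg)
    have hsurj : Function.Surjective (g.resLE W'' V e) := by
      rintro ⟨y, x, hx, rfl⟩
      refine ⟨⟨x, hx⟩, ?_⟩
      apply W''.ι.isOpenEmbedding.injective
      rw [← Scheme.Hom.comp_apply, Scheme.Hom.resLE_comp_ι]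
      rfl
    have hP : P (W''.ι ≫ f) := by
      apply of_precomp_of_isLocalAtSource (Q := Q) (g.resLE W'' V e) hres hsurj
      rw [Scheme.Hom.resLE_comp_ι_assoc]
      exact hV
    have hle : W'' ≤ W := le_sSup hP
    exact e.trans (fun x hx ↦ hle hx)
  · -- g⁻¹ W ≤ V
    apply hVmax
    rw [← morphismRestrict_ι_assoc]
    refine precomp_of_isLocalAtSource (Q := Q) _ ?_ _ (key f)
    exact Q.of_isPullback (isPullback_morphismRestrict g W).flip hg

end Groth.Agent.Lib.Helper25
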