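import Mathlib.RingTheory.Polynomial.GaussLemma
import Mathlib.RingTheory.Polynomial.UniqueFactorization
import Mathlib.RingTheory.Localization.Away.Basic
import Mathlib.RingTheory.Localization.Ideal
import Mathlib.Algebra.MvPolynomial.Eval

/-!
# Irreducibility of `F(X₁ T, …, X_r T)` over `k(X₁, …, X_r)`
-/

set_option autoImplicit false
universe u

namespace Groth.Agent.Lib.Helper25.LineSubst

open Polynomial

section Transfer

variable {S : Type*} [CommRing S] [IsDomain S]

theorem dvd_of_mul_pow_eq {t g : S} (ht : Prime t) (htg : ¬ t ∣ g) :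
    ∀ (n : ℕ) (a c : S), a * t ^ n = g * c → g ∣ a := by
  intro n
  induction n with
  | zero =>
    intro a c h
    rw [pow_zero, mul_one] at h
    exact ⟨c, h⟩
  | succ n ih =>
    intro a c h
    have h1 : t ∣ g * c := ⟨a * t ^ n, by rw [← h, pow_succ]; ring⟩
    rcases ht.dvd_or_dvd h1 with h2 | h2
    · exact absurd h2 htg
    · obtain ⟨c', rfl⟩ := h2
      apply ih a c'
      apply mul_left_cancel₀ ht.ne_zero
      rw [pow_succ] at h
      calc t * (a * t ^ n) = a * (t ^ n * t) := by ring
        _ = g * (t * c') := h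
        _ = t * (g * c') := by ring

/-- prime in the localization away from a prime `t` not dividing `g` implies prime -/
theorem prime_of_prime_away {L : Type*} [CommRing L] [Algebra S L] (t g : S)
    [IsLocalization.Away t L] (ht : Prime t) (htg : ¬ t ∣ g)
    (hg : Prime (algebraMap S L g)) : Prime g := by
  have hinj : Function.Injective (algebraMap S L) :=
    IsLocalization.injective L (powers_le_nonZeroDivisors_of_noZeroDivisors ht.ne_zero)
  have key : ∀ a : S, algebraMap S L g ∣ algebraMap S L a → g ∣ a := by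
    rintro a ⟨ℓ, hℓ⟩
    obtain ⟨n, c, hc⟩ := IsLocalization.Away.surj t ℓ
    apply dvd_of_mul_pow_eq ht htg n a c
    apply hinj
    rw [map_mul, map_mul, map_pow, hℓ, mul_assoc, hc]
  refine ⟨?_, ?_, ?_⟩
  · rintro rfl
    exact hg.ne_zero (map_zero _)
  · intro hu
    exact hg.not_isUnit (hu.map _)
  · intro a b hab
    have h1 : algebraMap S L g ∣ algebraMap S L a * algebraMap S L b := by
      rw [← map_mul]
      exact (algebraMap S L).map_dvd hab
    rcases hg.dvd_or_dvd h1 with h2 | h2
    · exact Or.inl (key a h2)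
    · exact Or.inr (key b h2)

end Transfer

section Main

variable {k : Type u} [Field k] {r : ℕ}

/-- the substitution `X_j ↦ X_j T` -/
noncomputable def sigma : MvPolynomial (Fin r) k →+* (MvPolynomial (Fin r) k)[X] :=
  MvPolynomial.eval₂Hom (Polynomial.C.comp MvPolynomial.C)
    (fun j => Polynomial.C (MvPolynomial.X j) * Polynomial.X)

theorem sigma_C (c : k) : sigma (r := r) (MvPolynomial.C c) = Polynomial.C (MvPolynomial.C c) := by
  simp [sigma]

theorem sigma_X (j : Fin r) :
    sigma (k := k) (MvPolynomial.X j) = Polynomial.C (MvPolynomial.X j) * Polynomial.X := by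
  simp [sigma]

theorem coeff_zero_sigma (F : MvPolynomial (Fin r) k) :
    (sigma F).coeff 0 = MvPolynomial.C (MvPolynomial.eval (fun _ => (0 : k)) F) := by
  rw [Polynomial.coeff_zero_eq_eval_zero]
  have h : (Polynomial.evalRingHom (0 : MvPolynomial (Fin r) k)).comp sigma =
      MvPolynomial.C.comp (MvPolynomial.eval (fun _ => (0 : k))) := by
    apply MvPolynomial.ringHom_ext
    · intro c
      simp [sigma_C]
    · intro j
      simp [sigma_X]
  exact RingHom.congr_fun h F

end Main

section Laurent

variable {k : Type u} [Field k] {r : ℕ}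

local notation "RR" => MvPolynomial (Fin r) k
local notation "LL" => Localization.Away (Polynomial.X : (MvPolynomial (Fin r) k)[X])

/-- `ι : R[T] → R[T, T⁻¹]` -/
noncomputable abbrev iota : (MvPolynomial (Fin r) k)[X] →+* LL := algebraMap _ _

noncomputable abbrev invT : LL := IsLocalization.Away.invSelf (Polynomial.X : (MvPolynomial (Fin r) k)[X])

theorem iotaX_mul_invT : iota (k := k) (r := r) Polynomial.X * invT = 1 :=
  IsLocalization.Away.mul_invSelf _

/-- `X_j ↦ X_j T`, `T ↦ T` on the polynomial ring -/
noncomputable def phi₀ : (MvPolynomial (Fin r) k)[X] →+* LL :=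
  Polynomial.eval₂RingHom (iota.comp sigma) (iota Polynomial.X)

/-- `X_j ↦ X_j T⁻¹` on coefficients -/
noncomputable def rho : MvPolynomial (Fin r) k →+* LL :=
  MvPolynomial.eval₂Hom ((iota.comp Polynomial.C).comp MvPolynomial.C)
    (fun j => iota (Polynomial.C (MvPolynomial.X j)) * invT)

noncomputable def psi₀ : (MvPolynomial (Fin r) k)[X] →+* LL :=
  Polynomial.eval₂RingHom rho (iota Polynomial.X)

theorem phi₀_X : phi₀ (k := k) (r := r) Polynomial.X = iota Polynomial.X := by
  simp [phi₀]

theorem psi₀_X : psi₀ (k := k) (r := r) Polynomial.X = iota Polynomial.X := by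
  simp [psi₀]

theorem isUnit_iotaX : IsUnit (iota (k := k) (r := r) Polynomial.X) :=
  IsLocalization.Away.algebraMap_isUnit _

noncomputable def phi : LL →+* LL :=
  IsLocalization.Away.lift (Polynomial.X : (MvPolynomial (Fin r) k)[X]) (g := phi₀)
    (by rw [phi₀_X]; exact isUnit_iotaX)

noncomputable def psi : LL →+* LL :=
  IsLocalization.Away.lift (Polynomial.X : (MvPolynomial (Fin r) k)[X]) (g := psi₀)
    (by rw [psi₀_X]; exact isUnit_iotaX)

theorem phi_iota (p : (MvPolynomial (Fin r) k)[X]) : phi (iota p) = phi₀ p :=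
  IsLocalization.Away.lift_eq _ _ p

theorem psi_iota (p : (MvPolynomial (Fin r) k)[X]) : psi (iota p) = psi₀ p :=
  IsLocalization.Away.lift_eq _ _ p

theorem phi_invT : phi (k := k) (r := r) invT = invT := by
  have h1 : phi (k := k) (r := r) invT * iota Polynomial.X = 1 := by
    rw [← phi₀_X, ← phi_iota, ← map_mul, mul_comm, iotaX_mul_invT, map_one]
  calc phi (k := k) (r := r) invT = phi invT * (iota Polynomial.X * invT) := by
        rw [iotaX_mul_invT, mul_one]
    _ = invT := by rw [← mul_assoc, h1, one_mul]

theorem phi₀_C (a : MvPolynomial (Fin r) k) : phi₀ (Polynomial.C a) = iota (sigma a) := by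
  simp [phi₀]

theorem psi₀_C (a : MvPolynomial (Fin r) k) : psi₀ (Polynomial.C a) = rho a := by
  simp [psi₀]

theorem rho_C (c : k) : rho (r := r) (MvPolynomial.C c) = iota (Polynomial.C (MvPolynomial.C c)) := by
  simp [rho]

theorem rho_X (j : Fin r) :
    rho (k := k) (MvPolynomial.X j) = iota (Polynomial.C (MvPolynomial.X j)) * invT := by
  simp [rho]

theorem phi_rho (a : MvPolynomial (Fin r) k) : phi (rho a) = iota (Polynomial.C a) := by
  have h : (phi.comp rho : MvPolynomial (Fin r) k →+* LL) = iota.comp Polynomial.C := by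
    apply MvPolynomial.ringHom_ext
    · intro c
      rw [RingHom.comp_apply, rho_C, phi_iota, phi₀_C, sigma_C]
      rfl
    · intro j
      rw [RingHom.comp_apply, rho_X, map_mul, phi_iota, phi_invT, phi₀_C, sigma_X, map_mul,
        mul_assoc, iotaX_mul_invT, mul_one]
      rfl
  exact RingHom.congr_fun h a

theorem phi_psi (ℓ : LL) : phi (psi ℓ) = ℓ := by
  have h : (phi.comp psi : LL →+* LL) = RingHom.id _ := by
    apply IsLocalization.ringHom_ext (Submonoid.powers (Polynomial.X : (MvPolynomial (Fin r) k)[X]))
    apply Polynomial.ringHom_ext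
    · intro a
      change phi (psi (iota (Polynomial.C a))) = iota (Polynomial.C a)
      rw [psi_iota, psi₀_C, phi_rho]
    · change phi (psi (iota Polynomial.X)) = iota Polynomial.X
      rw [psi_iota, psi₀_X, phi_iota, phi₀_X]
  exact RingHom.congr_fun h ℓ

theorem psi_iota_sigma (F : MvPolynomial (Fin r) k) :
    psi (iota (sigma F)) = iota (Polynomial.C F) := by
  have h : ((psi.comp iota).comp sigma : MvPolynomial (Fin r) k →+* LL) =
      iota.comp Polynomial.C := by
    apply MvPolynomial.ringHom_ext
    · intro c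
      change psi (iota (sigma (MvPolynomial.C c))) = iota (Polynomial.C (MvPolynomial.C c))
      rw [sigma_C, psi_iota, psi₀_C, rho_C]
    · intro j
      change psi (iota (sigma (MvPolynomial.X j))) = iota (Polynomial.C (MvPolynomial.X j))
      rw [sigma_X, psi_iota, map_mul, psi₀_C, psi₀_X, rho_X, mul_assoc, mul_comm invT,
        iotaX_mul_invT, mul_one]
  exact RingHom.congr_fun h F

theorem phi_iota_C (F : MvPolynomial (Fin r) k) :
    phi (iota (Polynomial.C F)) = iota (sigma F) := by
  rw [phi_iota, phi₀_C]

end Laurent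

section Final

variable {k : Type u} [Field k] {r : ℕ}

theorem prime_iota_C {F : MvPolynomial (Fin r) k} (hF : Irreducible F) :
    Prime (iota (Polynomial.C F)) := by
  have hFp : Prime F := hF.prime
  have hCF : Prime (Polynomial.C F) := Polynomial.prime_C_iff.2 hFp
  have hI : (Ideal.span {Polynomial.C F}).IsPrime :=
    (Ideal.span_singleton_prime hCF.ne_zero).2 hCF
  have hdisj : Disjoint
      (↑(Submonoid.powers (Polynomial.X : (MvPolynomial (Fin r) k)[X])) :
        Set (MvPolynomial (Fin r) k)[X])
      (↑(Ideal.span {Polynomial.C F} : Ideal (MvPolynomial (Fin r) k)[X]) :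
        Set (MvPolynomial (Fin r) k)[X]) := by
    rw [Set.disjoint_left]
    rintro _ ⟨n, rfl⟩ hmem
    have h1 : Polynomial.C F ∣ (Polynomial.X : (MvPolynomial (Fin r) k)[X]) ^ n :=
      Ideal.mem_span_singleton.1 hmem
    have h2 := (Polynomial.C_dvd_iff_dvd_coeff _ _).1 h1 n
    rw [Polynomial.coeff_X_pow, if_pos rfl] at h2
    exact hF.not_isUnit (isUnit_of_dvd_one h2)
  have hmap := IsLocalization.isPrime_of_isPrime_disjoint
    (Submonoid.powers (Polynomial.X : (MvPolynomial (Fin r) k)[X]))
    (Localization.Away (Polynomial.X : (MvPolynomial (Fin r) k)[X])) _ hI hdisj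
  rw [Ideal.map_span, Set.image_singleton] at hmap
  have hne : iota (Polynomial.C F) ≠ 0 := by
    intro h0
    have hinj : Function.Injective (iota (k := k) (r := r)) :=
      IsLocalization.injective _ (powers_le_nonZeroDivisors_of_noZeroDivisors Polynomial.X_ne_zero)
    exact hCF.ne_zero (hinj (by rw [h0, map_zero]))
  exact (Ideal.span_singleton_prime hne).1 hmap

theorem prime_iota_sigma {F : MvPolynomial (Fin r) k} (hF : Irreducible F) :
    Prime (iota (sigma F)) := by
  have hp := prime_iota_C hF
  refine ⟨?_, ?_, ?_⟩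
  · intro h0
    apply hp.ne_zero
    rw [← psi_iota_sigma, h0, map_zero]
  · intro hu
    apply hp.not_isUnit
    rw [← psi_iota_sigma]
    exact hu.map _
  · intro a b hab
    have h1 : iota (Polynomial.C F) ∣ psi a * psi b := by
      rw [← psi_iota_sigma, ← map_mul]
      exact map_dvd psi hab
    have key : ∀ c, iota (Polynomial.C F) ∣ psi c → iota (sigma F) ∣ c := by
      intro c hc
      have h3 : phi (iota (Polynomial.C F)) ∣ phi (psi c) := map_dvd phi hc
      rwa [phi_iota_C, phi_psi] at h3
    rcases hp.dvd_or_dvd h1 with h2 | h2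
    · exact Or.inl (key a h2)
    · exact Or.inr (key b h2)

theorem prime_sigma {F : MvPolynomial (Fin r) k} (hF : Irreducible F)
    (hF0 : MvPolynomial.eval (fun _ => (0 : k)) F ≠ 0) : Prime (sigma F) := by
  apply prime_of_prime_away (L := Localization.Away (Polynomial.X : (MvPolynomial (Fin r) k)[X]))
    Polynomial.X (sigma F) Polynomial.prime_X
  · rw [Polynomial.X_dvd_iff, coeff_zero_sigma]
    intro h
    exact hF0 (MvPolynomial.C_injective _ _ (by rw [h, map_zero]))
  · exact prime_iota_sigma hF

theorem isPrimitive_sigma {F : MvPolynomial (Fin r) k}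
    (hF0 : MvPolynomial.eval (fun _ => (0 : k)) F ≠ 0) : (sigma F).IsPrimitive := by
  rw [Polynomial.isPrimitive_iff_isUnit_of_C_dvd]
  intro a ha
  have h1 := (Polynomial.C_dvd_iff_dvd_coeff _ _).1 ha 0
  rw [coeff_zero_sigma] at h1
  have hu : IsUnit (MvPolynomial.C (σ := Fin r) (MvPolynomial.eval (fun _ => (0 : k)) F)) :=
    (isUnit_iff_ne_zero.2 hF0).map _
  exact isUnit_of_dvd_unit h1 hu

theorem irreducible_map_sigma {F : MvPolynomial (Fin r) k} (hF : Irreducible F)
    (hF0 : MvPolynomial.eval (fun _ => (0 : k)) F ≠ 0) :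
    Irreducible ((sigma F).map (algebraMap (MvPolynomial (Fin r) k)
      (FractionRing (MvPolynomial (Fin r) k)))) :=
  ((isPrimitive_sigma hF0).irreducible_iff_irreducible_map_fraction_map).1
    (prime_sigma hF hF0).irreducible

end Final

end Groth.Agent.Lib.Helper25.LineSubst
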