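import Groth.Agent.Lib.Helper25.GenDegOneSurj
import Groth.Agent.Lib.Helper25.HProjective
import Groth.Agent.Lib.Helper3.ProjAux3
/-!
# Locally projective morphisms are locally H-projective
-/
universe u
open CategoryTheory CategoryTheory.Limits AlgebraicGeometry Opposite TopologicalSpace
open scoped HomogeneousIdeal
open RelSpec RelProj

namespace Groth.Agent.Lib.Helper25.LocHProj
open Groth.Agent.Lib.Helper3 Groth.Agent.Lib.Helper25.PolyRelProj Groth.Agent.Lib.Helper25.GenDegOneSurj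

section general
variable {A B σ τ : Type*} [CommRing A] [CommRing B] [SetLike σ A] [AddSubgroupClass σ A]
  [SetLike τ B] [AddSubgroupClass τ B] {𝒜 : ℕ → σ} {ℬ : ℕ → τ} [GradedRing 𝒜] [GradedRing ℬ]

theorem irr_le_map_of_surj_pos (φ : 𝒜 →+*ᵍ ℬ)
    (h : ∀ (d : ℕ), 0 < d → ∀ b ∈ ℬ d, ∃ a ∈ 𝒜 d, φ a = b) :
    ℬ₊ ≤ (𝒜₊).map φ := by
  rw [HomogeneousIdeal.irrelevant_le]
  intro i hi b hb
  obtain ⟨a, ha, rfl⟩ := h i hi b hb
  change φ a ∈ Ideal.map φ (𝒜₊.toIdeal)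
  exact Ideal.mem_map_of_mem _ (HomogeneousIdeal.mem_irrelevant_of_mem _ hi ha)

end general

/-- over an affine open, a graded algebra generated in degree one with degree one part of finite type is a quotient, in
positive degrees, of a polynomial algebra -/
theorem exists_graded_surj {S : Scheme.{u}} (𝒮 : QCGrAlg S) (h1 : 𝒮.IsGenDegOne) (h2 : 𝒮.IsFTDeg 1)
    (V : S.Opens) (hV : IsAffineOpen V) :
    ∃ (n : ℕ) (φ : CohB1.polyGrading n Γ(S, V) →+*ᵍ 𝒮.deg V hV),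
      (∀ a : Γ(S, V), φ (MvPolynomial.C a) = (𝒮.str.app (op V)).hom a) ∧
      (∀ d : ℕ, 0 < d → ∀ b ∈ 𝒮.deg V hV d, ∃ p ∈ CohB1.polyGrading n Γ(S, V) d, φ p = b) := by
  classical
  obtain ⟨T, hT, hgen⟩ := h2 V hV
  set m := T.card with hm
  let e : ↥T ≃ Fin m := T.equivFin
  let v : Fin (m + 1) → 𝒮.presheaf.obj (op V) := fun i =>
    if h : (i : ℕ) < m then ((e.symm ⟨i, h⟩ : ↥T) : 𝒮.presheaf.obj (op V)) else 0
  have hv : ∀ i, v i ∈ 𝒮.deg V hV 1 := by
    intro i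
    by_cases h : (i : ℕ) < m
    · simp only [v, dif_pos h]
      exact hT (Finset.mem_coe.mpr (e.symm ⟨i, h⟩).2)
    · simp only [v, dif_neg h]
      exact zero_mem _
  have hvt : ∀ t : ↥T, v (Fin.castSucc (e t)) = (t : 𝒮.presheaf.obj (op V)) := by
    intro t
    have h : ((Fin.castSucc (e t) : Fin (m + 1)) : ℕ) < m := (e t).2
    simp only [v, dif_pos h]
    congr 1
    exact e.symm_apply_apply t
  let str : Γ(S, V) →+* 𝒮.presheaf.obj (op V) := (𝒮.str.app (op V)).hom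
  have hstr : ∀ a, str a ∈ 𝒮.deg V hV 0 := 𝒮.str_mem V hV
  have hone : ∀ y ∈ 𝒮.deg V hV 1, y ∈ N str v 1 := by
    intro y hy
    obtain ⟨c, hc⟩ := hgen y hy
    refine (mem_N str v).mpr ⟨∑ t ∈ T.attach, MvPolynomial.C (c t.1) * MvPolynomial.X (Fin.castSucc (e t)), ?_, ?_⟩
    · refine MvPolynomial.IsHomogeneous.sum _ _ _ fun t _ => ?_
      have := (MvPolynomial.isHomogeneous_C (Fin (m + 1)) (c t.1)).mul
        (MvPolynomial.isHomogeneous_X Γ(S, V) (Fin.castSucc (e t)))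
      rwa [zero_add] at this
    · rw [map_sum, hc, ← Finset.sum_attach T]
      refine Finset.sum_congr rfl fun t _ => ?_
      rw [map_mul, ev_C, ev_X, hvt]
  refine ⟨m, evG (𝒮.deg V hV) str hstr v hv, fun a => ev_C str v a, fun d hd b hb => ?_⟩
  exact exists_ev_eq (𝒮.deg V hV) str hstr v hv hone (h1 V hV) hd hb

theorem isHProjective_of_arrow_iso {X S X' S' : Scheme.{u}} (g : X ⟶ S) (g' : X' ⟶ S')
    (e : Arrow.mk g ≅ Arrow.mk g') (h : RelProj.IsHProjective g) :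
    RelProj.IsHProjective g' := by
  obtain ⟨n, i, hi, hig⟩ := h
  obtain ⟨a, ha⟩ : ∃ a : X ⟶ X', a = e.hom.left := ⟨_, rfl⟩
  obtain ⟨b, hb⟩ : ∃ b : S ⟶ S', b = e.hom.right := ⟨_, rfl⟩
  have hw : a ≫ g' = g ≫ b := by rw [ha, hb]; exact e.hom.w
  haveI : IsIso a := by rw [ha]; infer_instance
  haveI : IsIso b := by rw [hb]; infer_instance
  let pb : CohB1.ProjSpaceOver n S ⟶ CohB1.ProjSpaceOver n S' :=
    pullback.map _ _ _ _ (𝟙 _) b (𝟙 _) (by simp) (specULiftZIsTerminal.hom_ext _ _)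
  haveI : IsIso pb := pullback.map_isIso _ _ _ _ _ _ _ _ _
  have hpb : pb ≫ CohB1.ProjSpaceOver.toBase n S' = CohB1.ProjSpaceOver.toBase n S ≫ b :=
    pullback.lift_snd _ _ _
  refine ⟨n, inv a ≫ i ≫ pb, inferInstance, ?_⟩
  rw [Category.assoc, Category.assoc, hpb, ← Category.assoc i, hig, ← hw, IsIso.inv_hom_id_assoc]

/-- **The relative Proj of a graded algebra generated in degree one with degree one part of finite type is H-projective
over every affine open.** -/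
theorem isHProjective_restrict {S P : Scheme.{u}} (𝒮 : QCGrAlg S) (p : P ⟶ S)
    (chart : ∀ (U : S.Opens) (hU : IsAffineOpen U), (((p ⁻¹ᵁ U : P.Opens) : Scheme.{u}) ≅ Proj (𝒮.deg U hU)))
    (hP : IsRelProj 𝒮 p chart) (h1 : 𝒮.IsGenDegOne) (h2 : 𝒮.IsFTDeg 1)
    (V : S.Opens) (hV : IsAffineOpen V) : RelProj.IsHProjective (p ∣_ V) := by
  obtain ⟨n, φ, hφC, hφs⟩ := exists_graded_surj 𝒮 h1 h2 V hV
  have hirr : (𝒮.deg V hV)₊ ≤ ((CohB1.polyGrading n Γ(S, V))₊).map φ := irr_le_map_of_surj_pos φ hφs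
  haveI cl : IsClosedImmersion (Proj.map φ hirr) := ProjAux.isClosedImmersion_map_of_pos _ _ φ hφs hirr
  have hcompat : Proj.map φ hirr ≫ Proj.toSpecZero (CohB1.polyGrading n Γ(S, V)) ≫
      Spec.map (CommRingCat.ofHom (algebraMap Γ(S, V) (CohB1.polyGrading n Γ(S, V) 0))) =
      Proj.toSpecZero (𝒮.deg V hV) ≫ Spec.map (𝒮.strZero V hV) := by
    rw [← Category.assoc, ProjAux.map_toSpecZero, Category.assoc, ← Spec.map_comp]
    congr 2
    ext a
    exact hφC a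
  have PB := @isPullback_projSpace n (ULift.{u} ℤ) Γ(S, V) _ _ (zAlg Γ(S, V))
  have PB' : IsPullback (Proj.map (@polyMapG n (ULift.{u} ℤ) Γ(S, V) _ _ (zAlg Γ(S, V)))
        (@polyMapG_irr n (ULift.{u} ℤ) Γ(S, V) _ _ (zAlg Γ(S, V))))
      (Proj.toSpecZero (CohB1.polyGrading n Γ(S, V)) ≫
        Spec.map (CommRingCat.ofHom (algebraMap Γ(S, V) (CohB1.polyGrading n Γ(S, V) 0))) ≫ hV.isoSpec.inv)
      (CohB1.ProjSpace.toSpec n (ULift.{u} ℤ)) (specULiftZIsTerminal.from (V : Scheme.{u})) := by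
    refine IsPullback.of_iso PB (Iso.refl _) (Iso.refl _) hV.isoSpec.symm (Iso.refl _) ?_ ?_ ?_ ?_
    · exact (Category.comp_id _).trans (Category.id_comp _).symm
    · rw [Iso.refl_hom, Category.id_comp, Iso.symm_hom]
      rfl
    · exact (Category.comp_id _).trans (Category.id_comp _).symm
    · exact specULiftZIsTerminal.hom_ext _ _
  let κ : Proj (CohB1.polyGrading n Γ(S, V)) ≅ CohB1.ProjSpaceOver n (V : Scheme.{u}) := PB'.isoPullback
  have hκ : κ.hom ≫ CohB1.ProjSpaceOver.toBase n (V : Scheme.{u}) =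
      Proj.toSpecZero (CohB1.polyGrading n Γ(S, V)) ≫
        Spec.map (CommRingCat.ofHom (algebraMap Γ(S, V) (CohB1.polyGrading n Γ(S, V) 0))) ≫ hV.isoSpec.inv :=
    PB'.isoPullback_hom_snd
  refine ⟨n, (chart V hV).hom ≫ Proj.map φ hirr ≫ κ.hom, inferInstance, ?_⟩
  rw [Category.assoc, Category.assoc, hκ, reassoc_of% hcompat, ← cancel_mono V.ι]
  simp only [Category.assoc, IsAffineOpen.isoSpec_inv_ι, morphismRestrict_ι]
  exact hP.chart_over V hV

/-- **Locally projective morphisms are exactly the locally H-projective ones.** -/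
theorem isLocallyProjective_iff {X S : Scheme.{u}} (f : X ⟶ S) :
    RelProj.IsLocallyProjective f ↔ ∀ s : S, ∃ U : S.Opens, s ∈ U ∧ RelProj.IsHProjective (f ∣_ U) := by
  constructor
  · intro h s
    obtain ⟨U, hs, 𝒮, P, p, chart, e, h1, h2, hP, he⟩ := h s
    obtain ⟨V, hV, hsV, -⟩ := exists_isAffineOpen_mem_and_subset (X := (U : Scheme.{u}))
      (x := ⟨s, hs⟩) (U := ⊤) trivial
    have key : RelProj.IsHProjective ((e.hom ≫ p) ∣_ V) := by
      have h0 := isHProjective_restrict 𝒮 p chart hP h1 h2 V hV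
      rw [morphismRestrict_comp]
      refine isHProjective_of_arrow_iso (p ∣_ V) _ ?_ h0
      refine Arrow.isoMk (asIso (e.hom ∣_ (p ⁻¹ᵁ V))).symm (Iso.refl _) ?_
      simp
    rw [he] at key
    refine ⟨U.ι ''ᵁ V, ⟨⟨s, hs⟩, hsV, rfl⟩, ?_⟩
    exact isHProjective_of_arrow_iso _ _ (morphismRestrictRestrict f U V) key
  · intro h s
    obtain ⟨U, hs, hU⟩ := h s
    exact ⟨U, hs, isProjective_of_isHProjective _ hU⟩

end Groth.Agent.Lib.Helper25.LocHProj
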