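import Groth.Agent.Lib.Helper25.LocHProj
import Groth.Agent.S9693
/-!
# Base change of locally projective morphisms
-/
universe u
open CategoryTheory CategoryTheory.Limits AlgebraicGeometry Opposite TopologicalSpace
open RelSpec RelProj

namespace Groth.Agent.Lib.Helper25.LocHProj

/-- restriction of a base change is the base change of the restriction -/
theorem exists_isPullback_restrict {X S S' : Scheme.{u}} (f : X ⟶ S) (g : S' ⟶ S) (U : S.Opens) :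
    ∃ t : ((pullback.snd f g ⁻¹ᵁ (g ⁻¹ᵁ U) : (pullback f g).Opens) : Scheme.{u}) ⟶ ((f ⁻¹ᵁ U : X.Opens) : Scheme.{u}),
      IsPullback t (pullback.snd f g ∣_ (g ⁻¹ᵁ U)) (f ∣_ U) (g ∣_ U) := by
  have PB1 := isPullback_morphismRestrict (pullback.snd f g) (g ⁻¹ᵁ U)
  have PB2 := IsPullback.of_hasPullback f g
  have PB12 : IsPullback ((pullback.snd f g ⁻¹ᵁ (g ⁻¹ᵁ U)).ι ≫ pullback.fst f g)
      (pullback.snd f g ∣_ (g ⁻¹ᵁ U)) f ((g ⁻¹ᵁ U).ι ≫ g) := PB1.flip.paste_horiz PB2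
  have PB3 := (isPullback_morphismRestrict f U).flip
  have hcomm : ((pullback.snd f g ⁻¹ᵁ (g ⁻¹ᵁ U)).ι ≫ pullback.fst f g) ≫ f =
      ((pullback.snd f g ∣_ (g ⁻¹ᵁ U)) ≫ (g ∣_ U)) ≫ U.ι := by
    rw [PB12.w, Category.assoc, morphismRestrict_ι]
  let t := PB3.lift _ _ hcomm
  have ht1 : t ≫ (f ⁻¹ᵁ U).ι = (pullback.snd f g ⁻¹ᵁ (g ⁻¹ᵁ U)).ι ≫ pullback.fst f g := PB3.lift_fst _ _ _
  have ht2 : t ≫ (f ∣_ U) = (pullback.snd f g ∣_ (g ⁻¹ᵁ U)) ≫ (g ∣_ U) := PB3.lift_snd _ _ _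
  refine ⟨t, IsPullback.of_right ?_ ht2 PB3⟩
  rw [ht1, morphismRestrict_ι]
  exact PB12

theorem isLocallyProjective_baseChange {X S S' : Scheme.{u}} (f : X ⟶ S)
    (hf : RelProj.IsLocallyProjective f) (g : S' ⟶ S) :
    RelProj.IsLocallyProjective (pullback.snd f g) := by
  rw [isLocallyProjective_iff] at hf ⊢
  intro s'
  obtain ⟨U, hs, hU⟩ := hf (g.base s')
  refine ⟨g ⁻¹ᵁ U, hs, ?_⟩
  obtain ⟨t, ht⟩ := exists_isPullback_restrict f g U
  have h1 := Groth.Agent.S9693.result (f ∣_ U) hU (g ∣_ U)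
  refine isHProjective_of_arrow_iso _ _ ?_ h1
  refine Arrow.isoMk ht.isoPullback.symm (Iso.refl _) ?_
  simp

end Groth.Agent.Lib.Helper25.LocHProj
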