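import Mathlib
import Groth.Agent.Lib.Helper25.GrpTangent

/-!
Formal smoothness of a local algebra can be tested against square-zero surjections of local rings
(helper25), with the scheme-theoretic translation: smoothness at a point and infinitesimal lifting
for local test rings.
-/

set_option autoImplicit false
universe u
open CategoryTheory AlgebraicGeometry IsLocalRing

namespace Groth.Agent.Lib.Helper25.LocalLifting

section ring

variable {R S : Type u} [CommRing R] [CommRing S] [Algebra R S] [IsLocalRing S]

theorem formallySmooth_of_local_lifting_aux {P : Type u} [CommRing P] [IsLocalRing P]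
    [Algebra R P] [Algebra.FormallySmooth R P] (f : P →ₐ[R] S) (hf : Function.Surjective f)
    (H : ∀ (B' : Type u) [CommRing B'] [IsLocalRing B'] [Algebra R B'] (φ : B' →ₐ[R] S),
      Function.Surjective φ → RingHom.ker φ ^ 2 = ⊥ → ∃ c : S →ₐ[R] B', φ.comp c = AlgHom.id R S) :
    Algebra.FormallySmooth R S := by
  have hne : RingHom.ker f.toRingHom ^ 2 ≠ ⊤ := by
    intro h
    have h1 : (1 : P) ∈ RingHom.ker f.toRingHom := Ideal.pow_le_self two_ne_zero (h ▸ trivial)
    rw [RingHom.mem_ker, map_one] at h1
    exact one_ne_zero h1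
  have : Nontrivial (P ⧸ RingHom.ker f.toRingHom ^ 2) := Ideal.Quotient.nontrivial_iff.mpr hne
  have : IsLocalRing (P ⧸ RingHom.ker f.toRingHom ^ 2) :=
    IsLocalRing.of_surjective' (Ideal.Quotient.mk _) Ideal.Quotient.mk_surjective
  have surj : Function.Surjective f.kerSquareLift :=
    Ideal.Quotient.lift_surjective_of_surjective _ _ hf
  have sqz : RingHom.ker f.kerSquareLift.toRingHom ^ 2 = ⊥ := by
    rw [AlgHom.ker_kerSquareLift, Ideal.cotangentIdeal_square]
  dsimp only [AlgHom.toRingHom_eq_coe, RingHom.ker_coe_toRingHom] at sqz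
  obtain ⟨c, hc⟩ := H _ f.kerSquareLift surj sqz
  exact Algebra.FormallySmooth.of_split f c hc

/-- A local `R`-algebra `S` is formally smooth as soon as every square-zero surjection of
`R`-algebras `B' → S` from a local ring splits. -/
theorem formallySmooth_of_local_lifting
    (H : ∀ (B' : Type u) [CommRing B'] [IsLocalRing B'] [Algebra R B'] (φ : B' →ₐ[R] S),
      Function.Surjective φ → RingHom.ker φ ^ 2 = ⊥ → ∃ c : S →ₐ[R] B', φ.comp c = AlgHom.id R S) :
    Algebra.FormallySmooth R S := by
  classical
  let f₀ : MvPolynomial S R →ₐ[R] S := MvPolynomial.aeval id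
  have hf₀ : Function.Surjective f₀ := fun s => ⟨MvPolynomial.X s, by
    simp only [f₀, MvPolynomial.aeval_X, id]⟩
  let q : Ideal (MvPolynomial S R) := (maximalIdeal S).comap f₀
  have hq : q.IsPrime := Ideal.IsPrime.comap _
  have hunit : ∀ y : q.primeCompl, IsUnit (f₀ y) := by
    intro y
    by_contra hy
    exact y.2 ((mem_maximalIdeal _).mpr hy)
  let f : Localization.AtPrime q →ₐ[R] S :=
    IsLocalization.liftAlgHom (M := q.primeCompl) (f := f₀) hunit
  have hfcomp : ∀ p : MvPolynomial S R, f (algebraMap _ (Localization.AtPrime q) p) = f₀ p :=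
    fun p => IsLocalization.lift_eq _ p
  have hf : Function.Surjective f := by
    intro s
    obtain ⟨p, rfl⟩ := hf₀ s
    exact ⟨algebraMap _ (Localization.AtPrime q) p, hfcomp p⟩
  have hsm1 : Algebra.FormallySmooth (MvPolynomial S R) (Localization.AtPrime q) :=
    Algebra.FormallySmooth.of_isLocalization q.primeCompl
  have hsm : Algebra.FormallySmooth R (Localization.AtPrime q) :=
    Algebra.FormallySmooth.comp R (MvPolynomial S R) (Localization.AtPrime q)
  exact formallySmooth_of_local_lifting_aux f hf H

end ring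

section hom

variable {R S : Type u} [CommRing R] [CommRing S]

/-- Ring-homomorphism form of the infinitesimal lifting property of a formally smooth map. -/
theorem exists_lift_of_formallySmooth (ψ : R →+* S) (hψ : ψ.FormallySmooth)
    {B B' : Type u} [CommRing B] [CommRing B'] (a : S →+* B) (b : R →+* B') (φ : B' →+* B)
    (hφ : Function.Surjective φ) (hker : RingHom.ker φ ^ 2 = ⊥) (h : a.comp ψ = φ.comp b) :
    ∃ c : S →+* B', φ.comp c = a ∧ c.comp ψ = b := by
  let _ : Algebra R S := ψ.toAlgebra
  let _ : Algebra R B' := b.toAlgebra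
  let _ : Algebra R B := (φ.comp b).toAlgebra
  have : Algebra.FormallySmooth R S := hψ
  let aA : S →ₐ[R] B := { a with commutes' := fun r => congrArg (fun g => g r) h }
  let φA : B' →ₐ[R] B := { φ with commutes' := fun r => rfl }
  let c := Algebra.FormallySmooth.liftOfSurjective aA φA hφ ⟨2, hker⟩
  have hc : ∀ s, φ (c s) = a s := Algebra.FormallySmooth.liftOfSurjective_apply aA φA hφ ⟨2, hker⟩
  refine ⟨c.toRingHom, RingHom.ext hc, RingHom.ext fun r => ?_⟩
  exact c.commutes r

/-- Ring-homomorphism form of `formallySmooth_of_local_lifting`. -/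
theorem formallySmooth_of_lifting (ψ : R →+* S) [IsLocalRing S]
    (H : ∀ (B' : Type u) [CommRing B'] [IsLocalRing B'] (b : R →+* B') (φ : B' →+* S),
      Function.Surjective φ → RingHom.ker φ ^ 2 = ⊥ → φ.comp b = ψ →
      ∃ c : S →+* B', φ.comp c = RingHom.id S ∧ c.comp ψ = b) : ψ.FormallySmooth := by
  let _ : Algebra R S := ψ.toAlgebra
  change Algebra.FormallySmooth R S
  apply formallySmooth_of_local_lifting
  intro B' _ _ _ φ hφ hker
  obtain ⟨c, hc1, hc2⟩ := H B' (algebraMap R B') φ.toRingHom hφ hker
    (RingHom.ext fun r => φ.commutes r)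
  refine ⟨{ c with commutes' := fun r => congrArg (fun g => g r) hc2 }, ?_⟩
  apply AlgHom.ext
  intro s
  exact congrArg (fun g => g s) hc1

end hom

end Groth.Agent.Lib.Helper25.LocalLifting
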