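import Mathlib
import Groth.Agent.Lib.Helper25.ArtinStepUnram
import Groth.Agent.Lib.Helper25.DualPoint

/-!
Formal unramifiedness of a local algebra essentially of finite type can be tested by uniqueness of
liftings against the dual numbers over the residue field (helper25), and conversely formally
unramified maps have unique liftings along square-zero surjections (ring-hom forms).
-/

set_option autoImplicit false
universe u
open IsLocalRing

namespace Groth.Agent.Lib.Helper25.LocalLiftingUnram

open Groth.Agent.Lib.Helper25

variable {R S : Type u} [CommRing R] [CommRing S]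

/-- Ring-homomorphism form of uniqueness of infinitesimal liftings for formally unramified maps. -/
theorem lift_unique_of_formallyUnramified (ψ : R →+* S) (hψ : ψ.FormallyUnramified)
    {B B' : Type u} [CommRing B] [CommRing B'] (φ : B' →+* B)
    (hker : RingHom.ker φ ^ 2 = ⊥) (c₁ c₂ : S →+* B')
    (h1 : c₁.comp ψ = c₂.comp ψ) (h2 : φ.comp c₁ = φ.comp c₂) : c₁ = c₂ := by
  let _ : Algebra R S := ψ.toAlgebra
  let _ : Algebra R B' := (c₁.comp ψ).toAlgebra
  have : Algebra.FormallyUnramified R S := hψ
  let a₁ : S →ₐ[R] B' := { c₁ with commutes' := fun r => rfl }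
  let a₂ : S →ₐ[R] B' :=
    { c₂ with commutes' := fun r => (congrArg (fun g => g r) h1).symm }
  have := Algebra.FormallyUnramified.ext' (R := R) φ ⟨2, hker⟩ a₁ a₂
    (fun s => congrArg (fun g => g s) h2)
  exact RingHom.ext fun s => congrArg (fun g => g s) this

/-- Uniqueness of liftings to the dual numbers over the residue field implies formally
unramified, for local algebras essentially of finite type. -/
theorem formallyUnramified_of_unique_lifting (ψ : R →+* S) [IsLocalRing S]
    (hfin : ψ.EssFiniteType)
    (H : ∀ c₁ c₂ : S →+* TrivSqZeroExt (ResidueField S) (ResidueField S),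
      (DualPoint.fstR (R := ResidueField S)).comp c₁ = residue S →
      (DualPoint.fstR (R := ResidueField S)).comp c₂ = residue S →
      c₁.comp ψ = c₂.comp ψ → c₁ = c₂) : ψ.FormallyUnramified := by
  let _ : Algebra R S := ψ.toAlgebra
  change Algebra.FormallyUnramified R S
  have : Algebra.EssFiniteType R S := hfin
  refine ⟨ArtinStepUnram.subsingleton_kaehler_of_derivation_eq_zero R S fun D => ?_⟩
  let g₁ : S →+* TrivSqZeroExt (ResidueField S) (ResidueField S) :=
    (TrivSqZeroExt.inlHom (ResidueField S) (ResidueField S)).comp (residue S)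
  let g₂ : S →+* TrivSqZeroExt (ResidueField S) (ResidueField S) := ArtinStepUnram.dualHom R S D
  have h12 : g₁ = g₂ := by
    apply H
    · exact RingHom.ext fun s => rfl
    · refine RingHom.ext fun s => ?_
      change (ArtinStepUnram.dualHom R S D s).fst = residue S s
      rw [ArtinStepUnram.dualHom_apply, TrivSqZeroExt.fst_add, TrivSqZeroExt.fst_inl,
        TrivSqZeroExt.fst_inr, add_zero]
    · refine RingHom.ext fun r => ?_
      change TrivSqZeroExt.inl (residue S (algebraMap R S r)) =
        ArtinStepUnram.dualHom R S D (algebraMap R S r)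
      rw [ArtinStepUnram.dualHom_apply, Derivation.map_algebraMap, TrivSqZeroExt.inr_zero,
        add_zero]
  ext s
  have h3 : (g₁ s).snd = (g₂ s).snd := by rw [h12]
  change (TrivSqZeroExt.inl (residue S s) : TrivSqZeroExt (ResidueField S) (ResidueField S)).snd
    = (ArtinStepUnram.dualHom R S D s).snd at h3
  rw [ArtinStepUnram.dualHom_apply, TrivSqZeroExt.snd_add, TrivSqZeroExt.snd_inl,
    TrivSqZeroExt.snd_inr, zero_add] at h3
  exact h3.symm

/-- The kernel of the augmentation of the dual numbers squares to zero. -/
theorem ker_fstR_sq (K : Type u) [CommRing K] :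
    RingHom.ker (DualPoint.fstR (R := K)) ^ 2 = ⊥ := by
  rw [eq_bot_iff, pow_two, Ideal.mul_le]
  intro r hr s hs
  rw [RingHom.mem_ker, DualPoint.fstR_apply] at hr hs
  rw [Ideal.mem_bot]
  apply TrivSqZeroExt.ext
  · rw [TrivSqZeroExt.fst_mul, hr, zero_mul, TrivSqZeroExt.fst_zero]
  · rw [TrivSqZeroExt.snd_mul, hr, hs, zero_smul, MulOpposite.op_zero, zero_smul, add_zero,
      TrivSqZeroExt.snd_zero]

theorem fstR_surjective (K : Type u) [CommRing K] :
    Function.Surjective (DualPoint.fstR (R := K)) :=
  fun k => ⟨TrivSqZeroExt.inl k, rfl⟩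

end Groth.Agent.Lib.Helper25.LocalLiftingUnram
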