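import Groth.Agent.Lib.Helper25.MLSys
import Mathlib.Algebra.Group.Subgroup.Ker
import Mathlib.Algebra.Category.Grp.Limits
import Mathlib.Tactic.Abel

/-!
# Lifting compatible families along a levelwise exact sequence with Mittag-Leffler kernel
-/

namespace Groth.Agent.Lib.Helper25.MLLift

open CategoryTheory CategoryTheory.Limits Opposite
open Groth.Agent.Lib.Helper25.MLSys

universe u

variable {P B C : ℕᵒᵖ ⥤ AddCommGrpCat.{u}} (p : P ⟶ B) (b : B ⟶ C)

/-- The set of "stably liftable" elements over `c i`. -/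
def Stable (c : ∀ i : ℕ, C.obj (op i)) (i : ℕ) (x : B.obj (op i)) : Prop :=
  (b.app (op i)).hom x = c i ∧ ∀ (k : ℕ) (hk : i ≤ k), ∃ y : B.obj (op k),
    (b.app (op k)).hom y = c k ∧ res B hk y = x

variable (hex : ∀ i, (b.app i).hom.ker = (p.app i).hom.range)
  (m : ℕ → ℕ) (hm : ∀ n, n ≤ m n)
  (hP : ∀ (n k : ℕ) (hk : n ≤ k) (x : P.obj (op (m n))), ∃ y : P.obj (op k),
    res P hk y = res P (hm n) x)
  (c : ∀ i : ℕ, C.obj (op i)) (hc : ∀ (n m : ℕ) (h : n ≤ m), res C h (c m) = c n)
  (hcb : ∀ i, ∃ y : B.obj (op i), (b.app (op i)).hom y = c i)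
include hex hP hc hcb

lemma stable_of_large (i M : ℕ) (hM : m i ≤ M) (y : B.obj (op M))
    (hy : (b.app (op M)).hom y = c M) :
    Stable b c i (res B ((hm i).trans hM) y) := by
  have hbp : ∀ (n : ℕ) (x : P.obj (op n)), (b.app (op n)).hom ((p.app (op n)).hom x) = 0 := by
    intro n x
    have h1 : (p.app (op n)).hom x ∈ (p.app (op n)).hom.range := ⟨x, rfl⟩
    rw [← hex] at h1
    exact h1
  refine ⟨by rw [res_naturality, hy, hc], fun k hk => ?_⟩
  obtain ⟨e, he⟩ := hcb (max k M)
  have h1 : res B (le_max_right k M) e - y ∈ (b.app (op M)).hom.ker := by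
    change (b.app (op M)).hom (res B (le_max_right k M) e - y) = 0
    rw [map_sub, res_naturality, he, hc, hy, sub_self]
  rw [hex] at h1
  obtain ⟨α, hα⟩ := h1
  obtain ⟨αK, hαK⟩ := hP i (max k M) (hk.trans (le_max_left k M)) (res P hM α)
  rw [res_res] at hαK
  refine ⟨res B (le_max_left k M) (e - (p.app (op (max k M))).hom αK), ?_, ?_⟩
  · rw [res_naturality, map_sub, he, hbp, sub_zero, hc]
  · rw [res_res, map_sub, ← res_naturality, hαK, res_naturality, hα, map_sub, res_res]
    abel

lemma stable_step (i : ℕ) (x : B.obj (op i)) (hx : Stable b c i x) :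
    ∃ x' : B.obj (op (i + 1)), Stable b c (i + 1) x' ∧ res B (Nat.le_succ i) x' = x := by
  obtain ⟨y, hy, hyx⟩ := hx.2 (max (m (i + 1)) (i + 1))
    ((Nat.le_succ i).trans (le_max_right _ _))
  have h1 := stable_of_large p b hex m hm hP c hc hcb (i + 1) (max (m (i + 1)) (i + 1))
    (le_max_left _ _) y hy
  refine ⟨_, h1, ?_⟩
  rw [res_res]
  exact hyx

lemma stable_base : ∃ x : B.obj (op 0), Stable b c 0 x := by
  obtain ⟨y, hy⟩ := hcb (m 0)
  exact ⟨_, stable_of_large p b hex m hm hP c hc hcb 0 (m 0) le_rfl y hy⟩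

theorem exists_lift_aux :
    ∃ β : ∀ i : ℕ, B.obj (op i), (∀ (n k : ℕ) (h : n ≤ k), res B h (β k) = β n) ∧
      ∀ i, (b.app (op i)).hom (β i) = c i := by
  classical
  let β : ∀ i : ℕ, {x : B.obj (op i) // Stable b c i x} := fun i =>
    Nat.rec (motive := fun i => {x : B.obj (op i) // Stable b c i x})
      ⟨(stable_base p b hex m hm hP c hc hcb).choose,
        (stable_base p b hex m hm hP c hc hcb).choose_spec⟩
      (fun i x => ⟨(stable_step p b hex m hm hP c hc hcb i x.1 x.2).choose,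
        (stable_step p b hex m hm hP c hc hcb i x.1 x.2).choose_spec.1⟩) i
  have hβ : ∀ i, res B (Nat.le_succ i) (β (i + 1)).1 = (β i).1 := fun i =>
    (stable_step p b hex m hm hP c hc hcb i (β i).1 (β i).2).choose_spec.2
  refine ⟨fun i => (β i).1, ?_, fun i => (β i).2.1⟩
  intro n k h
  induction k, h using Nat.le_induction with
  | base => exact res_self B _ _
  | succ k hk ih =>
    have h2 : res B (hk.trans (Nat.le_succ k)) (β (k + 1)).1 =
        res B hk (res B (Nat.le_succ k) (β (k + 1)).1) := by rw [res_res]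
    rw [h2, hβ k]
    exact ih

omit hex hP hc hcb in
/-- Compatible families in the image of `b` lift to compatible families, when the kernel of `b`
is the image of a Mittag-Leffler system. -/
theorem exists_lift (hex : ∀ i, (b.app i).hom.ker = (p.app i).hom.range)
    (hML : (P ⋙ forget AddCommGrpCat).IsMittagLeffler)
    (c : ∀ i : ℕ, C.obj (op i)) (hc : ∀ (n m : ℕ) (h : n ≤ m), res C h (c m) = c n)
    (hcb : ∀ i, ∃ y : B.obj (op i), (b.app (op i)).hom y = c i) :
    ∃ β : ∀ i : ℕ, B.obj (op i), (∀ (n k : ℕ) (h : n ≤ k), res B h (β k) = β n) ∧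
      ∀ i, (b.app (op i)).hom (β i) = c i := by
  rw [ml_iff] at hML
  choose m hm y hy using hML
  exact exists_lift_aux p b hex m hm (fun n k hk x => ⟨y n k hk x, hy n k hk x⟩) c hc hcb

end Groth.Agent.Lib.Helper25.MLLift
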