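import Groth.Agent.Lib.Helper25.MLSes
import Groth.Agent.Lib.Helper25.MLLift
import Mathlib.Algebra.Homology.HomologicalComplexLimits
import Mathlib.Algebra.Homology.ShortComplex.HomologicalComplex
import Mathlib.Algebra.Homology.ShortComplex.Ab
import Mathlib.Algebra.Category.Grp.Abelian
import Mathlib.Algebra.Category.Grp.EpiMono

/-!
# Cohomology of a limit of complexes of abelian groups (Mittag-Leffler case)
-/

namespace Groth.Agent.Lib.Helper25.MLCx

open CategoryTheory CategoryTheory.Limits Opposite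
open Groth.Agent.Lib.Helper25.MLSys Groth.Agent.Lib.Helper25.MLSes
open Groth.Agent.Lib.Helper25.MLLift

universe u

section Single

variable (M : HomologicalComplex AddCommGrpCat.{u} (ComplexShape.up ℤ))

lemma ker_homologyπ_eq (i j : ℤ) (hij : i + 1 = j) :
    (M.homologyπ j).hom.ker = (M.toCycles i j).hom.range := by
  have h1 : (ShortComplex.mk (M.toCycles i j) (M.homologyπ j)
      (M.toCycles_comp_homologyπ i j)).Exact :=
    ShortComplex.exact_of_g_is_cokernel _ (M.homologyIsCokernel i j (by subst hij; simp))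
  exact (ShortComplex.ab_exact_iff_range_eq_ker.1 h1).symm

lemma homologyπ_surjective (j : ℤ) : Function.Surjective (M.homologyπ j).hom :=
  (AddCommGrpCat.epi_iff_surjective _).1 inferInstance

lemma iCycles_injective (j : ℤ) : Function.Injective (M.iCycles j).hom :=
  (AddCommGrpCat.mono_iff_injective _).1 inferInstance

lemma ker_d_eq (j k : ℤ) (hjk : j + 1 = k) :
    (M.d j k).hom.ker = (M.iCycles j).hom.range := by
  have h1 : (ShortComplex.mk (M.iCycles j) (M.d j k) (M.iCycles_d j k)).Exact :=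
    ShortComplex.exact_of_f_is_kernel _ (M.cyclesIsKernel j k (by subst hjk; simp))
  exact (ShortComplex.ab_exact_iff_range_eq_ker.1 h1).symm

lemma iCycles_toCycles_apply (i j : ℤ) (x : M.X i) :
    (M.iCycles j).hom ((M.toCycles i j).hom x) = (M.d i j).hom x := by
  have h := M.toCycles_i i j
  exact congrArg (fun f => f.hom x) h

end Single

variable (K : ℕᵒᵖ ⥤ HomologicalComplex AddCommGrpCat.{u} (ComplexShape.up ℤ))

/-- The system of degree `j` terms. -/
noncomputable abbrev XSys (j : ℤ) : ℕᵒᵖ ⥤ AddCommGrpCat.{u} :=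
  K ⋙ HomologicalComplex.eval _ _ j

/-- The system of degree `j` cycles. -/
noncomputable abbrev ZSys (j : ℤ) : ℕᵒᵖ ⥤ AddCommGrpCat.{u} :=
  K ⋙ HomologicalComplex.cyclesFunctor _ _ j

/-- The system of degree `j` cohomologies. -/
noncomputable abbrev HSys (j : ℤ) : ℕᵒᵖ ⥤ AddCommGrpCat.{u} :=
  K ⋙ HomologicalComplex.homologyFunctor _ _ j

/-- `toCycles` as a morphism of systems. -/
noncomputable def toCycSys (i j : ℤ) : XSys K i ⟶ ZSys K j where
  app a := (K.obj a).toCycles i j
  naturality a b f := by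
    change (K.map f).f i ≫ (K.obj b).toCycles i j =
      (K.obj a).toCycles i j ≫ HomologicalComplex.cyclesMap (K.map f) j
    rw [← cancel_mono ((K.obj b).iCycles j), Category.assoc, Category.assoc,
      HomologicalComplex.toCycles_i, HomologicalComplex.cyclesMap_i,
      HomologicalComplex.toCycles_i_assoc, HomologicalComplex.Hom.comm]

/-- `iCycles` as a morphism of systems. -/
noncomputable def iCycSys (j : ℤ) : ZSys K j ⟶ XSys K j where
  app a := (K.obj a).iCycles j
  naturality a b f := HomologicalComplex.cyclesMap_i (K.map f) j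

/-- `homologyπ` as a morphism of systems. -/
noncomputable def homπSys (j : ℤ) : ZSys K j ⟶ HSys K j :=
  Functor.whiskerLeft K (HomologicalComplex.natTransHomologyπ _ _ j)

/-- The differential as a morphism of systems. -/
noncomputable def dSys (i j : ℤ) : XSys K i ⟶ XSys K j where
  app a := (K.obj a).d i j
  naturality a b f := (HomologicalComplex.Hom.comm (K.map f) i j)

lemma zsys_ml (n : ℤ)
    (h2 : (XSys K (n - 2) ⋙ forget AddCommGrpCat).IsMittagLeffler)
    {C₀ : AddCommGrpCat.{u}} {c : (Functor.const ℕᵒᵖ).obj C₀ ⟶ HSys K (n - 1)}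
    (hH : DerCA.IsEssConstant (HSys K (n - 1)) C₀ c) :
    (ZSys K (n - 1) ⋙ forget AddCommGrpCat).IsMittagLeffler :=
  ml_mid (toCycSys K (n - 2) (n - 1)) (homπSys K (n - 1))
    (fun i => homologyπ_surjective (K.obj i) (n - 1))
    (fun i => ker_homologyπ_eq (K.obj i) (n - 2) (n - 1) (by omega)) hH h2

section Cone

variable {F : ℕᵒᵖ ⥤ AddCommGrpCat.{u}} {c : Cone F} (hc : IsLimit c)
include hc

lemma cone_ext (x y : c.pt)
    (h : ∀ i : ℕ, (c.π.app (op i)).hom x = (c.π.app (op i)).hom y) : x = y :=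
  Concrete.isLimit_ext F hc x y (fun j => by
    obtain ⟨i⟩ := j
    exact h i)

lemma cone_exists (x : ∀ i : ℕ, F.obj (op i))
    (hx : ∀ (n m : ℕ) (h : n ≤ m), res F h (x m) = x n) :
    ∃ y : c.pt, ∀ i, (c.π.app (op i)).hom y = x i := by
  let s : (F ⋙ forget AddCommGrpCat).sections := ⟨fun j => x j.unop, by
    rintro ⟨m⟩ ⟨k⟩ f
    change (F.map f).hom (x m) = x k
    rw [map_eq_res]
    exact hx _ _ _⟩
  let e := Types.isLimitEquivSections (isLimitOfPreserves (forget AddCommGrpCat) hc)
  refine ⟨e.symm s, fun i => ?_⟩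
  exact Types.isLimitEquivSections_symm_apply
    (isLimitOfPreserves (forget AddCommGrpCat) hc) s (op i)

end Cone

section Main

variable (n : ℤ)

lemma post_π_apply (i : ℕ) (ξ : (limit K).homology n) :
    (limit.π (HSys K n) (op i)).hom
        ((limit.post K (HomologicalComplex.homologyFunctor _ _ n)).hom ξ) =
      (HomologicalComplex.homologyMap (limit.π K (op i)) n).hom ξ := by
  have h := limit.post_π K (HomologicalComplex.homologyFunctor _ _ n) (op i)
  exact congrArg (fun f => f.hom ξ) h

lemma homologyMap_homologyπ_apply {M N : HomologicalComplex AddCommGrpCat.{u} (ComplexShape.up ℤ)}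
    (φ : M ⟶ N) (z : M.cycles n) :
    (HomologicalComplex.homologyMap φ n).hom ((M.homologyπ n).hom z) =
      (N.homologyπ n).hom ((HomologicalComplex.cyclesMap φ n).hom z) := by
  have h := HomologicalComplex.homologyπ_naturality φ n
  exact congrArg (fun f => f.hom z) h

lemma iCycles_cyclesMap_apply {M N : HomologicalComplex AddCommGrpCat.{u} (ComplexShape.up ℤ)}
    (φ : M ⟶ N) (z : M.cycles n) :
    (N.iCycles n).hom ((HomologicalComplex.cyclesMap φ n).hom z) =
      (φ.f n).hom ((M.iCycles n).hom z) := by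
  have h := HomologicalComplex.cyclesMap_i φ n
  exact congrArg (fun f => f.hom z) h

lemma f_d_apply {M N : HomologicalComplex AddCommGrpCat.{u} (ComplexShape.up ℤ)}
    (φ : M ⟶ N) (i j : ℤ) (x : M.X i) :
    (φ.f j).hom ((M.d i j).hom x) = (N.d i j).hom ((φ.f i).hom x) := by
  have h := φ.comm i j
  exact (congrArg (fun f => f.hom x) h).symm

/-- The limit cone in degree `j`. -/
noncomputable def isLimitEval (j : ℤ) :
    IsLimit ((HomologicalComplex.eval AddCommGrpCat.{u} (ComplexShape.up ℤ) j).mapCone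
      (limit.cone K)) :=
  isLimitOfPreserves _ (limit.isLimit K)

lemma limX_ext (j : ℤ) (x y : (limit K).X j)
    (h : ∀ i : ℕ, ((limit.π K (op i)).f j).hom x = ((limit.π K (op i)).f j).hom y) : x = y :=
  cone_ext (isLimitEval K j) x y h

lemma limX_exists (j : ℤ) (x : ∀ i : ℕ, (K.obj (op i)).X j)
    (hx : ∀ (a b : ℕ) (h : a ≤ b), res (XSys K j) h (x b) = x a) :
    ∃ y : (limit K).X j, ∀ i, ((limit.π K (op i)).f j).hom y = x i :=
  cone_exists (isLimitEval K j) x hx

lemma res_XSys_π (j : ℤ) (a b : ℕ) (h : a ≤ b) (x : (limit K).X j) :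
    res (XSys K j) h (((limit.π K (op b)).f j).hom x) = ((limit.π K (op a)).f j).hom x := by
  have h1 := limit.w K (homOfLE h).op
  have h2 := congrArg (fun f => (HomologicalComplex.Hom.f f j)) h1
  exact congrArg (fun g => AddCommGrpCat.Hom.hom g x) h2

theorem post_injective
    (h2 : (XSys K (n - 2) ⋙ forget AddCommGrpCat).IsMittagLeffler)
    {C₀ : AddCommGrpCat.{u}} {c : (Functor.const ℕᵒᵖ).obj C₀ ⟶ HSys K (n - 1)}
    (hH : DerCA.IsEssConstant (HSys K (n - 1)) C₀ c) :
    Function.Injective (limit.post K (HomologicalComplex.homologyFunctor _ _ n)).hom := by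
  rw [injective_iff_map_eq_zero]
  intro ξ hξ
  obtain ⟨z, rfl⟩ := homologyπ_surjective (limit K) n ξ
  set w := ((limit K).iCycles n).hom z with hw
  -- each component of `w` is a boundary
  have hb : ∀ i : ℕ, ∃ y : (K.obj (op i)).X (n - 1),
      ((K.obj (op i)).d (n - 1) n).hom y = ((limit.π K (op i)).f n).hom w := by
    intro i
    have h1 := post_π_apply K n i (((limit K).homologyπ n).hom z)
    rw [hξ, map_zero, homologyMap_homologyπ_apply] at h1
    have h3 : (HomologicalComplex.cyclesMap (limit.π K (op i)) n).hom z ∈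
        ((K.obj (op i)).homologyπ n).hom.ker := h1.symm
    rw [ker_homologyπ_eq (K.obj (op i)) (n - 1) n (by omega)] at h3
    obtain ⟨y, hy⟩ := h3
    refine ⟨y, ?_⟩
    rw [hw, ← iCycles_cyclesMap_apply, ← hy, iCycles_toCycles_apply]
  -- lift to a compatible family
  obtain ⟨β, hβ1, hβ2⟩ := exists_lift (iCycSys K (n - 1)) (dSys K (n - 1) n)
    (fun i => ker_d_eq (K.obj i) (n - 1) n (by omega)) (zsys_ml K n h2 hH)
    (fun i => ((limit.π K (op i)).f n).hom w) (fun a b h => res_XSys_π K n a b h w) hb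
  obtain ⟨y, hy⟩ := limX_exists K (n - 1) β hβ1
  have hdy : ((limit K).d (n - 1) n).hom y = w := by
    apply limX_ext K n
    intro i
    rw [f_d_apply, hy]
    exact hβ2 i
  have hz : z = ((limit K).toCycles (n - 1) n).hom y := by
    apply iCycles_injective (limit K) n
    rw [iCycles_toCycles_apply, hdy]
  rw [hz]
  have h4 := (limit K).toCycles_comp_homologyπ (n - 1) n
  exact congrArg (fun f => f.hom y) h4

lemma res_cone_π {F : ℕᵒᵖ ⥤ AddCommGrpCat.{u}} (c : Cone F) (a b : ℕ) (h : a ≤ b) (x : c.pt) :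
    res F h ((c.π.app (op b)).hom x) = (c.π.app (op a)).hom x := by
  have h1 := c.w (homOfLE h).op
  exact congrArg (fun g => AddCommGrpCat.Hom.hom g x) h1

lemma iCycles_d_apply (M : HomologicalComplex AddCommGrpCat.{u} (ComplexShape.up ℤ)) (j k : ℤ)
    (z : M.cycles j) : (M.d j k).hom ((M.iCycles j).hom z) = 0 := by
  have h := M.iCycles_d j k
  exact congrArg (fun f => f.hom z) h

theorem post_surjective
    (h1 : (XSys K (n - 1) ⋙ forget AddCommGrpCat).IsMittagLeffler) :
    Function.Surjective (limit.post K (HomologicalComplex.homologyFunctor _ _ n)).hom := by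
  intro μ
  obtain ⟨ζ, hζ1, hζ2⟩ := exists_lift (toCycSys K (n - 1) n) (homπSys K n)
    (fun i => ker_homologyπ_eq (K.obj i) (n - 1) n (by omega)) h1
    (fun i => (limit.π (HSys K n) (op i)).hom μ)
    (fun a b h => res_cone_π (limit.cone (HSys K n)) a b h μ)
    (fun i => homologyπ_surjective (K.obj (op i)) n _)
  obtain ⟨w, hw⟩ := limX_exists K n (fun i => ((K.obj (op i)).iCycles n).hom (ζ i))
    (fun a b h => by
      have e := res_naturality (iCycSys K n) h (ζ b)
      rw [hζ1] at e
      exact e.symm)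
  have hdw : ((limit K).d n (n + 1)).hom w = 0 := by
    apply limX_ext K (n + 1)
    intro i
    rw [f_d_apply, hw, map_zero, iCycles_d_apply]
  have hw' : w ∈ ((limit K).d n (n + 1)).hom.ker := hdw
  rw [ker_d_eq (limit K) n (n + 1) rfl] at hw'
  obtain ⟨z, hz⟩ := hw'
  refine ⟨((limit K).homologyπ n).hom z, ?_⟩
  apply cone_ext (limit.isLimit (HSys K n))
  intro i
  have e1 : (HomologicalComplex.cyclesMap (limit.π K (op i)) n).hom z = ζ i := by
    apply iCycles_injective (K.obj (op i)) n
    rw [iCycles_cyclesMap_apply, hz, hw]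
  have e2 := post_π_apply K n i (((limit K).homologyπ n).hom z)
  rw [homologyMap_homologyπ_apply, e1] at e2
  exact e2.trans (hζ2 i)

theorem post_isIso
    (h2 : (XSys K (n - 2) ⋙ forget AddCommGrpCat).IsMittagLeffler)
    (h1 : (XSys K (n - 1) ⋙ forget AddCommGrpCat).IsMittagLeffler)
    {C₀ : AddCommGrpCat.{u}} {c : (Functor.const ℕᵒᵖ).obj C₀ ⟶ HSys K (n - 1)}
    (hH : DerCA.IsEssConstant (HSys K (n - 1)) C₀ c) :
    IsIso (limit.post K (HomologicalComplex.homologyFunctor _ _ n)) := by
  rw [ConcreteCategory.isIso_iff_bijective]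
  exact ⟨post_injective K n h2 hH, post_surjective K n h1⟩

end Main

end Groth.Agent.Lib.Helper25.MLCx
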