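import Groth.Agent.Lib.Helper25.MLSys
import Groth.Prelude.Def_DerCA

/-!
# Mittag-Leffler and essentially constant systems in short exact sequences
-/

namespace Groth.Agent.Lib.Helper25.MLSes

open CategoryTheory CategoryTheory.Limits Opposite
open Groth.Agent.Lib.Helper25.MLSys

universe u

/-- Element form of essential constancy. -/
lemma essConstant_elem {C : ℕᵒᵖ ⥤ AddCommGrpCat.{u}} {C₀ : AddCommGrpCat.{u}}
    {c : (Functor.const ℕᵒᵖ).obj C₀ ⟶ C} (hC : DerCA.IsEssConstant C C₀ c) :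
    ∃ (i : ℕ) (s : C.obj (op i) →+ C₀), (∀ z : C₀, s ((c.app (op i)).hom z) = z) ∧
      ∀ j : ℕ, ∃ (k : ℕ) (hi : i ≤ k) (hj : j ≤ k), ∀ x : C.obj (op k),
        res C hj x = (c.app (op j)).hom (s (res C hi x)) := by
  obtain ⟨i, s, hs, h⟩ := hC
  refine ⟨i, s.hom, fun z => ?_, fun j => ?_⟩
  · have := congrArg (fun f => f.hom z) hs
    simpa using this
  · obtain ⟨k, hi, hj, hk⟩ := h j
    refine ⟨k, hi, hj, fun x => ?_⟩
    have := congrArg (fun f => f.hom x) hk
    simpa [res, ARSys.tr] using this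

lemma cone_elem {C : ℕᵒᵖ ⥤ AddCommGrpCat.{u}} {C₀ : AddCommGrpCat.{u}}
    (c : (Functor.const ℕᵒᵖ).obj C₀ ⟶ C) {n m : ℕ} (h : n ≤ m) (z : C₀) :
    res C h ((c.app (op m)).hom z) = (c.app (op n)).hom z := by
  have h1 := c.naturality (homOfLE h).op
  have h2 := congrArg (fun f => f.hom z) h1
  simp only [res]
  simpa using h2.symm

variable {A B C : ℕᵒᵖ ⥤ AddCommGrpCat.{u}} (a : A ⟶ B) (b : B ⟶ C)

/-- `A`, `C` Mittag-Leffler (in the strong form given by essential constancy) implies `B`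
Mittag-Leffler. -/
lemma ml_mid (hb : ∀ i, Function.Surjective (b.app i).hom)
    (hex : ∀ i, (b.app i).hom.ker = (a.app i).hom.range)
    {C₀ : AddCommGrpCat.{u}} {c : (Functor.const ℕᵒᵖ).obj C₀ ⟶ C}
    (hC : DerCA.IsEssConstant C C₀ c)
    (hA : (A ⋙ forget AddCommGrpCat).IsMittagLeffler) :
    (B ⋙ forget AddCommGrpCat).IsMittagLeffler := by
  rw [ml_iff] at hA ⊢
  obtain ⟨i, s, hs, hess⟩ := essConstant_elem hC
  intro n
  obtain ⟨m1, hm1, hA1⟩ := hA n
  obtain ⟨m2, hi2, hm12, hk2⟩ := hess m1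
  refine ⟨m2, hm1.trans hm12, ?_⟩
  -- reduce to the case `k ≥ m2`
  suffices H : ∀ (K : ℕ) (hK : m2 ≤ K) (x : B.obj (op m2)),
      ∃ y : B.obj (op K), res B ((hm1.trans hm12).trans hK) y = res B (hm1.trans hm12) x by
    intro k hk x
    obtain ⟨y, hy⟩ := H (max k m2) (le_max_right _ _) x
    refine ⟨res B (le_max_left k m2) y, ?_⟩
    rw [res_res]
    exact hy
  intro K hK x
  set z : C₀ := s (res C hi2 ((b.app (op m2)).hom x)) with hz
  obtain ⟨y1, hy1⟩ := hb (op K) ((c.app (op K)).hom z)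
  have h1 : (b.app (op m1)).hom (res B hm12 x - res B (hm12.trans hK) y1) = 0 := by
    rw [map_sub, res_naturality, res_naturality, hy1, cone_elem, hk2, sub_self]
  have h2 : res B hm12 x - res B (hm12.trans hK) y1 ∈ (b.app (op m1)).hom.ker := h1
  rw [hex] at h2
  obtain ⟨α, hα⟩ := h2
  obtain ⟨αK, hαK⟩ := hA1 K ((hm1.trans hm12).trans hK) α
  refine ⟨y1 + (a.app (op K)).hom αK, ?_⟩
  rw [map_add, ← res_naturality, hαK, res_naturality, hα, map_sub, res_res, res_res]
  abel

/-- `B` Mittag-Leffler and `C` essentially constant implies `A` Mittag-Leffler. -/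
lemma ml_left (ha : ∀ i, Function.Injective (a.app i).hom)
    (hex : ∀ i, (b.app i).hom.ker = (a.app i).hom.range)
    {C₀ : AddCommGrpCat.{u}} {c : (Functor.const ℕᵒᵖ).obj C₀ ⟶ C}
    (hC : DerCA.IsEssConstant C C₀ c)
    (hB : (B ⋙ forget AddCommGrpCat).IsMittagLeffler) :
    (A ⋙ forget AddCommGrpCat).IsMittagLeffler := by
  rw [ml_iff] at hB ⊢
  obtain ⟨i, s, hs, hess⟩ := essConstant_elem hC
  have hba : ∀ (n : ℕ) (x : A.obj (op n)), (b.app (op n)).hom ((a.app (op n)).hom x) = 0 := by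
    intro n x
    have h1 : (a.app (op n)).hom x ∈ (a.app (op n)).hom.range := ⟨x, rfl⟩
    rw [← hex] at h1
    exact h1
  intro n
  obtain ⟨m, hm, hB1⟩ := hB (max n i)
  have hnm : n ≤ m := (le_max_left n i).trans hm
  refine ⟨m, hnm, ?_⟩
  suffices H : ∀ (K : ℕ) (hK : m ≤ K) (x : A.obj (op m)),
      ∃ y : A.obj (op K), res A (hm.trans hK) y = res A hm x by
    intro k hk x
    obtain ⟨y, hy⟩ := H (max k m) (le_max_right _ _) x
    refine ⟨res A (le_max_left k m) y, ?_⟩
    rw [res_res]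
    have h1 := congrArg (res A (le_max_left n i)) hy
    rw [res_res, res_res] at h1
    exact h1
  intro K hK x
  obtain ⟨K', hiK', hKK', hK'⟩ := hess K
  obtain ⟨y', hy'⟩ := hB1 K' ((hm.trans hK).trans hKK') ((a.app (op m)).hom x)
  have h1 : (b.app (op K)).hom (res B hKK' y') = 0 := by
    rw [res_naturality, hK']
    have h2 : res C hiK' ((b.app (op K')).hom y') = 0 := by
      have h3 : res C hiK' ((b.app (op K')).hom y') =
          res C (le_max_right n i) (res C ((hm.trans hK).trans hKK') ((b.app (op K')).hom y')) := by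
        rw [res_res]
      rw [h3, ← res_naturality b, hy', ← res_naturality a, hba, map_zero]
    rw [h2, map_zero, map_zero]
  have h2 : res B hKK' y' ∈ (b.app (op K)).hom.ker := h1
  rw [hex] at h2
  obtain ⟨yK, hyK⟩ := h2
  refine ⟨yK, ha (op (max n i)) ?_⟩
  rw [res_naturality, hyK, res_res, hy', res_naturality]

end Groth.Agent.Lib.Helper25.MLSes
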