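import Mathlib.CategoryTheory.CofilteredSystem
import Mathlib.Algebra.Category.Grp.Basic

/-!
# Inverse systems of abelian groups over `ℕ`: restriction maps and the Mittag-Leffler condition
-/

namespace Groth.Agent.Lib.Helper25.MLSys

open CategoryTheory Opposite

universe u

variable (X : ℕᵒᵖ ⥤ AddCommGrpCat.{u})

/-- The restriction map `X_m → X_n` for `n ≤ m`. -/
def res {n m : ℕ} (h : n ≤ m) : X.obj (op m) →+ X.obj (op n) := (X.map (homOfLE h).op).hom

lemma res_def {n m : ℕ} (h : n ≤ m) : res X h = (X.map (homOfLE h).op).hom := rfl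

lemma res_self {n : ℕ} (h : n ≤ n) (x : X.obj (op n)) : res X h x = x := by
  have h1 : (homOfLE h).op = 𝟙 (op n) := Subsingleton.elim _ _
  rw [res, h1, X.map_id]
  rfl

lemma res_res {n m k : ℕ} (h1 : n ≤ m) (h2 : m ≤ k) (x : X.obj (op k)) :
    res X h1 (res X h2 x) = res X (h1.trans h2) x := by
  have h3 : (homOfLE (h1.trans h2)).op = (homOfLE h2).op ≫ (homOfLE h1).op := Subsingleton.elim _ _
  rw [res, res, res, h3, X.map_comp]
  rfl

variable {X} in
lemma res_naturality {Y : ℕᵒᵖ ⥤ AddCommGrpCat.{u}} (a : X ⟶ Y) {n m : ℕ} (h : n ≤ m)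
    (x : X.obj (op m)) :
    (a.app (op n)).hom (res X h x) = res Y h ((a.app (op m)).hom x) := by
  have h1 := a.naturality (homOfLE h).op
  have h2 := congrArg (fun f => f.hom x) h1
  simp only [res]
  exact h2

lemma map_eq_res {n m : ℕ} (f : op m ⟶ op n) (x : X.obj (op m)) :
    (X.map f).hom x = res X (leOfHom f.unop) x := by
  have h1 : f = (homOfLE (leOfHom f.unop)).op := Subsingleton.elim _ _
  rw [res]
  rw [← h1]

/-- The Mittag-Leffler condition in terms of restriction maps. -/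
lemma ml_iff : (X ⋙ forget AddCommGrpCat).IsMittagLeffler ↔
    ∀ n : ℕ, ∃ (m : ℕ) (h : n ≤ m), ∀ (k : ℕ) (hk : n ≤ k) (x : X.obj (op m)),
      ∃ y : X.obj (op k), res X hk y = res X h x := by
  constructor
  · intro hML n
    obtain ⟨i, f, hf⟩ := hML (op n)
    obtain ⟨m⟩ := i
    refine ⟨m, leOfHom f.unop, fun k hk x => ?_⟩
    have h1 := hf (homOfLE hk).op ⟨x, rfl⟩
    obtain ⟨y, hy⟩ := h1
    refine ⟨y, ?_⟩
    have h2 : (X.map (homOfLE hk).op).hom y = (X.map f).hom x := hy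
    have h3 := map_eq_res X f x
    rw [h3] at h2
    exact h2
  · intro h j
    obtain ⟨n⟩ := j
    obtain ⟨m, hm, hk⟩ := h n
    refine ⟨op m, (homOfLE hm).op, ?_⟩
    rintro ⟨k⟩ g a ⟨x, rfl⟩
    obtain ⟨y, hy⟩ := hk k (leOfHom g.unop) x
    refine ⟨y, ?_⟩
    change (X.map g).hom y = (X.map (homOfLE hm).op).hom x
    rw [map_eq_res]
    exact hy

end Groth.Agent.Lib.Helper25.MLSys
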