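import Mathlib
import Groth.Agent.Lib.Helper25.UnramCompl
import Groth.Agent.Lib.Helper13.SchemeLocal

set_option autoImplicit false
universe u
open CategoryTheory CategoryTheory.Limits AlgebraicGeometry IsLocalRing

namespace Groth.Agent.Lib.Helper25.MonoStalk

open Groth.Agent.Lib.Helper25.UnramCompl

section ring
variable {R S : Type u} [CommRing R] [CommRing S] [IsLocalRing R] [IsLocalRing S] (φ : R →+* S)
  [IsLocalHom φ]

theorem map_le_maximalIdeal : (maximalIdeal R).map φ ≤ maximalIdeal S :=
  ((local_hom_TFAE φ).out 0 2 rfl rfl).mp ‹_›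

/-- `κ(R) → S/m_R S` is bijective iff the residue field map is surjective and `m_R S = m_S`. -/
theorem bijective_quotientMap_iff :
    Function.Bijective (Ideal.quotientMap ((maximalIdeal R).map φ) φ Ideal.le_comap_map) ↔
      Function.Surjective (ResidueField.map φ) ∧ (maximalIdeal R).map φ = maximalIdeal S := by
  constructor
  · rintro ⟨-, hsurj⟩
    have key : ∀ z : S, ∃ a : R, z - φ a ∈ (maximalIdeal R).map φ := by
      intro z
      obtain ⟨a, ha⟩ := hsurj (Ideal.Quotient.mk _ z)
      obtain ⟨a, rfl⟩ := Ideal.Quotient.mk_surjective a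
      rw [Ideal.quotientMap_mk, Ideal.Quotient.eq] at ha
      refine ⟨a, ?_⟩
      rw [← neg_sub]
      exact neg_mem ha
    have hJ : (maximalIdeal R).map φ = maximalIdeal S := by
      apply le_antisymm (map_le_maximalIdeal φ)
      intro z hz
      obtain ⟨a, ha⟩ := key z
      have h1 : φ a ∈ maximalIdeal S := by
        have h2 : φ a = z - (z - φ a) := by ring
        rw [h2]
        exact sub_mem hz (map_le_maximalIdeal φ ha)
      have h3 : a ∈ maximalIdeal R := by
        rw [mem_maximalIdeal, mem_nonunits_iff] at h1 ⊢
        exact fun hu => h1 (hu.map _)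
      have h4 : z = φ a + (z - φ a) := by ring
      rw [h4]
      exact add_mem (Ideal.mem_map_of_mem _ h3) ha
    refine ⟨?_, hJ⟩
    intro z
    obtain ⟨s, rfl⟩ := residue_surjective z
    obtain ⟨a, ha⟩ := key s
    refine ⟨residue R a, ?_⟩
    rw [ResidueField.map_residue, ← sub_eq_zero, ← map_sub, residue_eq_zero_iff, ← neg_sub]
    exact neg_mem (map_le_maximalIdeal φ ha)
  · rintro ⟨hres, hJ⟩
    constructor
    · haveI : Nontrivial (S ⧸ (maximalIdeal R).map φ) := by
        rw [hJ]; infer_instance
      let ψ : ResidueField R →+* S ⧸ (maximalIdeal R).map φ :=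
        Ideal.quotientMap ((maximalIdeal R).map φ) φ Ideal.le_comap_map
      exact ψ.injective
    · intro z
      obtain ⟨s, rfl⟩ := Ideal.Quotient.mk_surjective z
      obtain ⟨a, ha⟩ := hres (residue S s)
      obtain ⟨a, rfl⟩ := residue_surjective a
      rw [ResidueField.map_residue, ← sub_eq_zero, ← map_sub, residue_eq_zero_iff, ← hJ] at ha
      refine ⟨Ideal.Quotient.mk _ a, ?_⟩
      rw [Ideal.quotientMap_mk, Ideal.Quotient.eq]
      exact ha

end ring

theorem isPurelyInseparable_of_surjective {F E : Type u} [Field F] [Field E] [Algebra F E]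
    (h : Function.Surjective (algebraMap F E)) : IsPurelyInseparable F E := by
  rw [isPurelyInseparable_iff]
  intro x
  obtain ⟨a, rfl⟩ := h x
  exact ⟨isIntegral_algebraMap, fun _ => ⟨a, rfl⟩⟩

theorem isSeparable_of_surjective {F E : Type u} [Field F] [Field E] [Algebra F E]
    (h : Function.Surjective (algebraMap F E)) : Algebra.IsSeparable F E := by
  refine ⟨fun x => ?_⟩
  obtain ⟨a, rfl⟩ := h x
  exact isSeparable_algebraMap a

/-- EGA IV 17.2.6: a morphism locally of finite type is a monomorphism iff it is injective and
for every `x` the fibre ring `O_{X,x}/m_y O_{X,x}` is `κ(y)`. -/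
theorem mono_iff_stalk {X Y : Scheme.{u}} (f : X ⟶ Y) [LocallyOfFiniteType f] :
    Mono f ↔ ∀ x : X, (∀ x' : X, f x' = f x → x' = x) ∧
      Function.Bijective (Ideal.quotientMap
        ((maximalIdeal (Y.presheaf.stalk (f x))).map (f.stalkMap x).hom)
        (f.stalkMap x).hom Ideal.le_comap_map) := by
  constructor
  · intro hmono x
    haveI : IsIso (pullback.diagonal f) := (pullback.isIso_diagonal_iff f).mpr inferInstance
    haveI : FormallyUnramified f := inferInstance
    haveI : UniversallyInjective f := inferInstance
    have h3 := ((tfae_universallyInjective f).out 0 2).mp ‹UniversallyInjective f›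
    refine ⟨fun x' hx' => h3.1 hx', ?_⟩
    rw [bijective_quotientMap_iff]
    have hu := FormallyUnramified.stalkMap f x
    have hp := h3.2 x
    letI algT : Algebra (Y.presheaf.stalk (f x)) (X.presheaf.stalk x) :=
      (f.stalkMap x).hom.toAlgebra
    haveI : IsLocalHom (algebraMap (Y.presheaf.stalk (f x)) (X.presheaf.stalk x)) :=
      inferInstanceAs (IsLocalHom (f.stalkMap x).hom)
    haveI : Algebra.EssFiniteType (Y.presheaf.stalk (f x)) (X.presheaf.stalk x) :=
      LocallyOfFiniteType.stalkMap f x
    haveI : Algebra.FormallyUnramified (Y.presheaf.stalk (f x)) (X.presheaf.stalk x) := hu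
    have e : (f.residueFieldMap x).hom.toAlgebra =
        (inferInstance : Algebra (ResidueField (Y.presheaf.stalk (f x)))
          (ResidueField (X.presheaf.stalk x))) := Algebra.algebra_ext _ _ (fun r => rfl)
    haveI : IsPurelyInseparable (ResidueField (Y.presheaf.stalk (f x)))
      (ResidueField (X.presheaf.stalk x)) := by
      have hp2 : @IsPurelyInseparable (ResidueField (Y.presheaf.stalk (f x)))
        (ResidueField (X.presheaf.stalk x)) _ _ (f.residueFieldMap x).hom.toAlgebra := hp
      rw [e] at hp2
      exact hp2
    exact ⟨IsPurelyInseparable.surjective_algebraMap_of_isSeparable _ _,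
      Algebra.FormallyUnramified.map_maximalIdeal⟩
  · intro h
    have hinj : Function.Injective f := fun a b hab => (h b).1 a hab
    have hall : ∀ x : X, (f.stalkMap x).hom.FormallyUnramified ∧
        (f.residueFieldMap x).hom.IsPurelyInseparable := by
      intro x
      obtain ⟨hres, hJ⟩ := (bijective_quotientMap_iff (f.stalkMap x).hom).mp (h x).2
      letI algT : Algebra (Y.presheaf.stalk (f x)) (X.presheaf.stalk x) :=
        (f.stalkMap x).hom.toAlgebra
      haveI : IsLocalHom (algebraMap (Y.presheaf.stalk (f x)) (X.presheaf.stalk x)) :=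
        inferInstanceAs (IsLocalHom (f.stalkMap x).hom)
      haveI : Algebra.EssFiniteType (Y.presheaf.stalk (f x)) (X.presheaf.stalk x) :=
        LocallyOfFiniteType.stalkMap f x
      have hres' : Function.Surjective (algebraMap (ResidueField (Y.presheaf.stalk (f x)))
        (ResidueField (X.presheaf.stalk x))) := hres
      haveI := isSeparable_of_surjective hres'
      refine ⟨?_, ?_⟩
      · exact Algebra.FormallyUnramified.of_map_maximalIdeal hJ
      · have e : (f.residueFieldMap x).hom.toAlgebra =
            (inferInstance : Algebra (ResidueField (Y.presheaf.stalk (f x)))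
              (ResidueField (X.presheaf.stalk x))) := Algebra.algebra_ext _ _ (fun r => rfl)
        have hp2 : @IsPurelyInseparable (ResidueField (Y.presheaf.stalk (f x)))
            (ResidueField (X.presheaf.stalk x)) _ _ (f.residueFieldMap x).hom.toAlgebra := by
          rw [e]
          exact isPurelyInseparable_of_surjective hres'
        exact hp2
    haveI : FormallyUnramified f :=
      HasRingHomProperty.of_stalkMap RingHom.FormallyUnramified.ofLocalizationPrime
        (fun x => (hall x).1)
    haveI : UniversallyInjective f :=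
      ((tfae_universallyInjective f).out 0 2).mpr
        (⟨hinj, fun x => (hall x).2⟩ : Function.Injective f ∧
          ∀ x, (f.residueFieldMap x).hom.IsPurelyInseparable)
    haveI : Surjective (pullback.diagonal f) := (UniversallyInjective.iff_diagonal f).mp inferInstance
    haveI : IsIso (pullback.diagonal f) :=
      (isIso_iff_isOpenImmersion_and_surjective _).mpr ⟨inferInstance, inferInstance⟩
    exact (pullback.isIso_diagonal_iff f).mp inferInstance

end Groth.Agent.Lib.Helper25.MonoStalk
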