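import Groth.Agent.Lib.Helper22.ExtCompare
import Groth.Agent.Lib.Lead.Pn.HomologyOfMap

/-!
# Comparing `Ext¹` across a functor, naturally in endomorphisms

In the setting of `Helper22.ExtCompare`: a functor `Φ : 𝒜 ⥤ ℬ`, objects `P`, `P'` with a natural
identification `Hom(P, G) ≃ Hom(P', Φ G)`.  If `Φ` keeps the injective-hull sequence of `F` short
exact and `Ext¹(P', Φ I) = 0` for the injective hull `I`, then `Ext¹(P, F) ≃ Ext¹(P', Φ F)`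
compatibly with all endomorphisms of `F`.
-/

set_option autoImplicit false
set_option linter.unusedSectionVars false

universe w w' v v' u u'

open CategoryTheory Limits Abelian

namespace Groth.Agent.Lib.Helper25.NatPush

open Groth.Agent.Lib.Helper22.ExtCompare

section single

variable {𝒞 : Type u} [Category.{v} 𝒞] [Abelian 𝒞] [HasExt.{w} 𝒞]
  {S : ShortComplex 𝒞} (hS : S.ShortExact) (P : 𝒞)

/-- The connecting map `Hom(P, C) → Ext¹(P, A)`. -/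
noncomputable def δ₁ : Ext P S.X₃ 0 →+ Ext P S.X₁ 1 := hS.extClass.postcomp P (zero_add 1)

lemma δ₁_apply (y : Ext P S.X₃ 0) : δ₁ hS P y = y.comp hS.extClass (zero_add 1) := rfl

lemma δ₁_surjective (h : ∀ x : Ext P S.X₂ 1, x = 0) : Function.Surjective (δ₁ hS P) := by
  intro x
  obtain ⟨y, hy⟩ := Ext.covariant_sequence_exact₁ P hS x (h _) (zero_add 1)
  exact ⟨y, hy⟩

lemma δ₁_eq_zero_iff (y : Ext P S.X₃ 0) :
    δ₁ hS P y = 0 ↔ ∃ z : Ext P S.X₂ 0, z.comp (Ext.mk₀ S.g) (add_zero 0) = y := by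
  constructor
  · intro h
    obtain ⟨z, hz⟩ := Ext.covariant_sequence_exact₃ P hS y (zero_add 1) h
    exact ⟨z, hz⟩
  · rintro ⟨z, rfl⟩
    rw [δ₁_apply, Ext.comp_assoc_of_second_deg_zero, hS.comp_extClass, Ext.comp_zero]

lemma δ₁_naturality (Ψ : S ⟶ S) (y : Ext P S.X₃ 0) :
    (δ₁ hS P y).comp (Ext.mk₀ Ψ.τ₁) (add_zero 1) =
      δ₁ hS P (y.comp (Ext.mk₀ Ψ.τ₃) (add_zero 0)) := by
  rw [δ₁_apply, δ₁_apply, Ext.comp_assoc_of_second_deg_zero,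
    ← ShortComplex.ShortExact.extClass_naturality hS hS Ψ, Ext.comp_assoc_of_third_deg_zero]

end single

variable {𝒜 : Type u} [Category.{v} 𝒜] [Abelian 𝒜] [HasExt.{w} 𝒜] [EnoughInjectives 𝒜]
  {ℬ : Type u'} [Category.{v'} ℬ] [Abelian ℬ] [HasExt.{w'} ℬ]

/-- A lift of an endomorphism to the injective-hull sequence. -/
noncomputable def liftSC (F : 𝒜) (φ : F ⟶ F) : injSC F ⟶ injSC F where
  τ₁ := φ
  τ₂ := Injective.factorThru (φ ≫ Injective.ι F) (Injective.ι F)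
  τ₃ := cokernel.map _ _ φ (Injective.factorThru (φ ≫ Injective.ι F) (Injective.ι F))
    (by rw [Injective.comp_factorThru])
  comm₁₂ := by
    change φ ≫ Injective.ι F = Injective.ι F ≫ _
    rw [Injective.comp_factorThru]
  comm₂₃ := by
    change _ ≫ cokernel.π _ = cokernel.π _ ≫ _
    rw [cokernel.π_desc]

variable {Φ : 𝒜 ⥤ ℬ} {P : 𝒜} {P' : ℬ}

theorem exists_ext_one_addEquiv_natural [Φ.Additive] (d : Deg0Iso Φ P P') (F : 𝒜)
    (h1 : ((injSC F).map Φ).ShortExact)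
    (h3 : ∀ x : Ext P' (Φ.obj (injSC F).X₂) 1, x = 0) :
    ∃ e : Ext P F 1 ≃+ Ext P' (Φ.obj F) 1, ∀ (φ : F ⟶ F) (x : Ext P F 1),
      e (x.comp (Ext.mk₀ φ) (add_zero 1)) = (e x).comp (Ext.mk₀ (Φ.map φ)) (add_zero 1) := by
  have hS := injSC_shortExact F
  let ε : Ext P (injSC F).X₃ 0 ≃+ Ext P' ((injSC F).map Φ).X₃ 0 := d.e (injSC F).X₃
  let ε₂ : Ext P (injSC F).X₂ 0 ≃+ Ext P' ((injSC F).map Φ).X₂ 0 := d.e (injSC F).X₂
  have hε : ∀ z : Ext P (injSC F).X₂ 0, ε (z.comp (Ext.mk₀ (injSC F).g) (add_zero 0)) =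
      (ε₂ z).comp (Ext.mk₀ ((injSC F).map Φ).g) (add_zero 0) := fun z => d.nat (injSC F).g z
  let a' : Ext P (injSC F).X₃ 0 →+ Ext P' ((injSC F).map Φ).X₁ 1 :=
    (δ₁ h1 P').comp ε.toAddMonoidHom
  have ha'_apply : ∀ y, a' y = δ₁ h1 P' (ε y) := fun _ => rfl
  have hsurj : Function.Surjective (δ₁ hS P) :=
    δ₁_surjective hS P (fun x => Ext.eq_zero_of_injective x)
  have hsurj' : Function.Surjective a' := by
    intro x
    obtain ⟨y, hy⟩ := δ₁_surjective h1 P' h3 x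
    obtain ⟨z, rfl⟩ := ε.surjective y
    exact ⟨z, hy⟩
  have hk : ∀ y, δ₁ hS P y = 0 ↔ a' y = 0 := by
    intro y
    rw [ha'_apply, δ₁_eq_zero_iff, δ₁_eq_zero_iff]
    constructor
    · rintro ⟨z, rfl⟩
      exact ⟨ε₂ z, (hε z).symm⟩
    · rintro ⟨z', hz'⟩
      obtain ⟨z, rfl⟩ := ε₂.surjective z'
      exact ⟨z, ε.injective ((hε z).trans hz')⟩
  obtain ⟨e, he⟩ := Groth.Agent.Lib.Lead.Pn.exists_addEquiv_of_surjective_of_ker_eq (δ₁ hS P) a'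
    hsurj hsurj' hk
  refine ⟨e, fun φ x => ?_⟩
  obtain ⟨y, rfl⟩ := hsurj x
  let Ψ := liftSC F φ
  let Ψ' : (injSC F).map Φ ⟶ (injSC F).map Φ := Φ.mapShortComplex.map Ψ
  have n1 : (δ₁ hS P y).comp (Ext.mk₀ φ) (add_zero 1) =
      δ₁ hS P (y.comp (Ext.mk₀ Ψ.τ₃) (add_zero 0)) := δ₁_naturality hS P Ψ y
  have n2 : (δ₁ h1 P' (ε y)).comp (Ext.mk₀ (Φ.map φ)) (add_zero 1) =
      δ₁ h1 P' ((ε y).comp (Ext.mk₀ Ψ'.τ₃) (add_zero 0)) := δ₁_naturality h1 P' Ψ' (ε y)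
  have n3 : ε (y.comp (Ext.mk₀ Ψ.τ₃) (add_zero 0)) =
      (ε y).comp (Ext.mk₀ Ψ'.τ₃) (add_zero 0) := d.nat Ψ.τ₃ y
  exact (congrArg e n1).trans ((he _).trans ((congrArg (δ₁ h1 P') n3).trans (n2.symm.trans
    (congrArg (fun t : Ext P' ((injSC F).map Φ).X₁ 1 =>
      t.comp (Ext.mk₀ (Φ.map φ)) (add_zero 1)) (he y).symm))))

end Groth.Agent.Lib.Helper25.NatPush
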