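import Groth.Agent.Lib.Helper25.NatPush1
import Groth.Agent.Lib.Helper22.Cech.AffineMorphism
import Groth.Agent.Lib.Helper22.CohTop.Leray

/-!
# `H¹(X, F) ≃ H¹(Y, f_* F)` naturally in endomorphisms of `F`, when `R¹ f_* F = 0`
-/

set_option autoImplicit false

universe u

open CategoryTheory TopologicalSpace Opposite CategoryTheory.Limits Abelian AlgebraicGeometry

namespace Groth.Agent.Lib.Helper25.NatPush

open Groth.Agent.Lib.Helper22 Groth.Agent.Lib.Helper22.CohTop Groth.Agent.Lib.Helper22.ExtCompare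

section top

variable {X Y : TopCat.{u}} (f : X ⟶ Y)

theorem exists_H_one_addEquiv_push_natural (F : CohTop.Ab X)
    (h : IsZero ((CohTop.Rpush f 1).obj F)) :
    ∃ e : CohTop.H F 1 ≃+ CohTop.H ((CohTop.push f).obj F) 1,
      ∀ (φ : F ⟶ F) (x : CohTop.H F 1),
        e (Sheaf.H.map φ 1 x) = Sheaf.H.map ((CohTop.push f).map φ) 1 (e x) := by
  have h1 : ((ExtCompare.injSC F).map (CohTop.push f)).ShortExact :=
    shortExact_map_of_epi (CohTop.push f) (ExtCompare.injSC_shortExact F)
      ((DimShift.isZero_rightDerived_one_iff (CohTop.push f) (ExtCompare.injSC F)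
        (ExtCompare.injSC_shortExact F)).1 h)
  have h3 : ∀ x : Ext (constZ Y) ((CohTop.push f).obj (ExtCompare.injSC F).X₂) 1, x = 0 := by
    intro x
    have : TopCat.Sheaf.IsFlasque (ExtCompare.injSC F).X₂ := isFlasque_of_injective _
    have : TopCat.Sheaf.IsFlasque ((CohTop.push f).obj (ExtCompare.injSC F).X₂) :=
      TopCat.Sheaf.IsFlasque.pushforward_isFlasque _ f
    exact ext_succ_eq_zero_of_flasque (liftsFlasque_const Y) 0 _ x
  obtain ⟨e, he⟩ := exists_ext_one_addEquiv_natural (deg0Push f) F h1 h3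
  exact ⟨e, fun φ x => he φ x⟩

end top

section scheme

variable {X S : Scheme.{u}} (f : X ⟶ S) [IsAffineHom f] (M : X.Modules) [M.IsQuasicoherent]

/-- **Cohomology in degree one along an affine morphism**, compatibly with endomorphisms of the
underlying abelian sheaf. -/
theorem exists_HH_one_addEquiv_push_natural :
    ∃ e : Coh.HH X M 1 ≃+ Coh.HH S ((Coh.push f).obj M) 1,
      ∀ (φ : Coh.toAb M ⟶ Coh.toAb M) (x : Coh.HH X M 1),
        e (Sheaf.H.map φ 1 x) = Sheaf.H.map ((Coh.pushAb f).map φ) 1 (e x) := by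
  obtain ⟨e, he⟩ := exists_H_one_addEquiv_push_natural f.base (Coh.toAb M)
    (Groth.Agent.Lib.Helper22.Cech.isZero_RpushAb_succ f M 0)
  exact ⟨e, fun φ x => he φ x⟩

end scheme

end Groth.Agent.Lib.Helper25.NatPush
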