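import Mathlib
import Groth.Agent.Lib.Helper25.ConormalRank1

set_option autoImplicit false
set_option linter.unusedSectionVars false
set_option linter.style.haveILetI false
universe u
open scoped TensorProduct
open KaehlerDifferential

/-! # Formal smoothness of a quotient from injectivity of the conormal map -/

namespace Groth.Agent.Lib.Helper25.ConormalRank

variable (A : Type u) {B B' : Type u} [CommRing A] [CommRing B] [CommRing B'] [Algebra A B]
  [Algebra B B'] [Algebra A B'] [IsScalarTower A B B']

/-- `B' ⊗[B] ker ≃ ker / ker²` for a surjection `B → B'`. -/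
theorem toCotangent_eq_zero_of_one_tmul_eq_zero (hsurj : Function.Surjective (algebraMap B B'))
    (x : RingHom.ker (algebraMap B B'))
    (h : (1 : B') ⊗ₜ[B] x = (0 : B' ⊗[B] (RingHom.ker (algebraMap B B')))) :
    Ideal.toCotangent _ x = 0 := by
  let I := RingHom.ker (algebraMap B B')
  -- `B' ≃ B ⧸ I` as `B`-modules
  let g : (B ⧸ I) →ₗ[B] B' :=
    Submodule.liftQ I (Algebra.linearMap B B') (fun b hb => by
      rw [LinearMap.mem_ker, Algebra.linearMap_apply]
      exact RingHom.mem_ker.mp hb)
  have hg : Function.Bijective g := by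
    constructor
    · rw [← LinearMap.ker_eq_bot, LinearMap.ker_eq_bot']
      intro z hz
      obtain ⟨b, rfl⟩ := Submodule.Quotient.mk_surjective _ z
      rw [Submodule.Quotient.mk_eq_zero]
      have : algebraMap B B' b = 0 := hz
      exact RingHom.mem_ker.mpr this
    · intro c
      obtain ⟨b, rfl⟩ := hsurj c
      exact ⟨Submodule.Quotient.mk b, rfl⟩
  let e₁ : (B ⧸ I) ≃ₗ[B] B' := LinearEquiv.ofBijective g hg
  let e₂ : B' ⊗[B] I ≃ₗ[B] (B ⧸ I) ⊗[B] I :=
    TensorProduct.congr e₁.symm (LinearEquiv.refl B I)
  let e₃ : (B ⧸ I) ⊗[B] I ≃ₗ[B] I ⧸ (I • ⊤ : Submodule B I) :=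
    TensorProduct.quotTensorEquivQuotSMul I I
  have h1 : e₁.symm (1 : B') = Submodule.Quotient.mk (1 : B) := by
    rw [LinearEquiv.symm_apply_eq]
    change (1 : B') = algebraMap B B' 1
    rw [map_one]
  have h2 : e₃ (e₂ ((1 : B') ⊗ₜ[B] x)) = Submodule.Quotient.mk x := by
    change e₃ (e₁.symm (1 : B') ⊗ₜ[B] x) = _
    rw [h1]
    have := TensorProduct.quotTensorEquivQuotSMul_mk_tmul (M := I) I (1 : B) x
    rw [one_smul] at this
    exact this
  rw [h, map_zero, map_zero] at h2
  exact h2.symm

/-- If the conormal map `μ` is injective and `Ω[B'/A]` is projective, then `B'` is formally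
smooth over `A` (for `B` formally smooth over `A` and `B → B'` surjective). -/
theorem formallySmooth_of_μ_injective (hsurj : Function.Surjective (algebraMap B B'))
    [Algebra.FormallySmooth A B] (hμ : Function.Injective (μ A B B'))
    [Module.Projective B' Ω[B'⁄A]] : Algebra.FormallySmooth A B' := by
  rw [Algebra.formallySmooth_iff]
  refine ⟨inferInstance, ?_⟩
  rw [← Algebra.FormallySmooth.kerCotangentToTensor_injective_iff (R := A) (P := B) hsurj,
    injective_iff_map_eq_zero]
  intro z hz
  obtain ⟨x, rfl⟩ := Ideal.toCotangent_surjective _ z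
  rw [KaehlerDifferential.kerCotangentToTensor_toCotangent] at hz
  apply toCotangent_eq_zero_of_one_tmul_eq_zero hsurj
  apply hμ
  rw [μ_tmul, map_zero]
  exact hz

end Groth.Agent.Lib.Helper25.ConormalRank
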