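import Mathlib
import Groth.Agent.Lib.Helper25.NonsingSub1
import Groth.Agent.Lib.Helper25.ConormalRank2
import Groth.Agent.Lib.Helper25.NonsingOmega
import Groth.Agent.Lib.Helper25.SmoothRelDimScheme
import Groth.Agent.S5020
import Groth.Agent.S1488

set_option autoImplicit false
set_option linter.unusedSectionVars false
set_option linter.style.haveILetI false
universe u
open CategoryTheory CategoryTheory.Limits AlgebraicGeometry TopologicalSpace Opposite
open scoped TensorProduct
open Groth.Agent.Lib.Helper29.QCoh Groth.Agent.Helper19.OmegaD Groth.Agent.Helper19.OmegaLocal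
open Groth.Agent.Helper19.OmegaAlg Groth.Agent.Helper19.Conormal

/-! # Nonsingular closed subschemes of nonsingular varieties (Hartshorne II.8.17) -/

namespace Groth.Agent.Lib.Helper25.ConormalRank

section fieldbase

open Groth.Agent.Lib.Helper25.GrpTangent Groth.Agent.Lib.Helper25.NonsingOmega

/-- Over an algebraically closed field, regular local rings give smoothness. -/
theorem smooth_of_regular (k : Type u) [Field k] [IsAlgClosed k] {X : Scheme.{u}}
    (f : X ⟶ Spec (CommRingCat.of k)) [LocallyOfFiniteType f]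
    (hreg : ∀ x : X, IsRegularLocalRing (X.presheaf.stalk x)) : Smooth f := by
  have hsmloc : ∀ x : X, x ∈ f.smoothLocus := by
    intro x
    letI : Algebra k (X.presheaf.stalk x) := (τ (f x) ≫ f.stalkMap x).hom.toAlgebra
    haveI := hreg x
    haveI : Algebra.IsGeometricallyReduced k (IsLocalRing.ResidueField (X.presheaf.stalk x)) :=
      isGeometricallyReduced_of_isAlgClosed k _
    exact Groth.Agent.Lib.Helper25.RegularSepSmooth.mem_smoothLocus_of_regular f x
      (RingHom.algebraMap_toAlgebra _)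
  rw [← Scheme.Hom.smoothLocus_eq_top_iff]
  ext x
  simp only [hsmloc x, TopologicalSpace.Opens.coe_top, Set.mem_univ, SetLike.mem_coe]

/-- Smooth over a field implies regular local rings. -/
theorem regular_of_smooth (k : Type u) [Field k] {X : Scheme.{u}}
    (f : X ⟶ Spec (CommRingCat.of k)) [Smooth f] (x : X) :
    IsRegularLocalRing (X.presheaf.stalk x) := by
  have hnhd : ∃ U : X.Opens, x ∈ U ∧ Smooth (U.ι ≫ f) := ⟨⊤, trivial, inferInstance⟩
  rw [Groth.Agent.S4991.result f x hnhd]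
  refine Groth.Agent.Lib.Helper14.AS.isRegularLocalRing_of_isField ?_
  exact MulEquiv.isField (Field.toIsField k)
    (RingEquiv.ofBijective (τ (f x)).hom (bijective_τ (f x))).symm.toMulEquiv

end fieldbase

section B

variable {X Y S : Scheme.{u}} (f : X ⟶ S) [Smooth f] (i : Y ⟶ X) [IsImmersion i] [QuasiCompact i]
  [LocallyOfFinitePresentation (i ≫ f)]
  (ΩX : X.Modules) (dX : OmegaSh.Der f ΩX) (hX : OmegaSh.IsUniversal dX)
  (ΩY : Y.Modules) (dY : OmegaSh.Der (i ≫ f) ΩY) (hY : OmegaSh.IsUniversal dY)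
  (hfree : FlatMod.IsFinLocFree ΩY)
  (φ : Omega.conormal i ⟶ (Scheme.Modules.pullback i).obj ΩX)
  (hφ : OmegaSh.IsConormalDiff i dX φ) [Mono φ]

include hX hY hfree hφ in
/-- If the conormal map is a monomorphism and the differentials of the subscheme are locally
free, the subscheme is smooth. -/
theorem smooth_comp_of_mono_conormal : Smooth (i ≫ f) := by
  rw [HasRingHomProperty.iff_exists_appLE (P := @Smooth)
    (RingHom.Smooth.stableUnderComposition.stableUnderCompositionWithLocalizationAway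
      RingHom.Smooth.holdsForLocalizationAway).left]
  intro y
  obtain ⟨W, hW, hyW, -⟩ :=
    exists_isAffineOpen_mem_and_subset (x := f.base (i.base y)) (U := ⊤) trivial
  obtain ⟨U, hU, hUc, hUW, hyU, -⟩ := exists_cb i y ⊤ trivial (f ⁻¹ᵁ W) hyW
  have hU' : IsAffineOpen (i ⁻¹ᵁ U) := isAffineOpen_preimage_of_le_coborder i hU hUc
  have hUU : i ⁻¹ᵁ U ≤ i ⁻¹ᵁ U := le_rfl
  have hU'W := le_comp_preimage f i hUU hUW
  refine ⟨⟨W, hW⟩, ⟨i ⁻¹ᵁ U, hU'⟩, hyU, hU'W, ?_⟩
  letI := algΓ f hUW
  letI := algΓ (i ≫ f) hU'W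
  letI := algΓ i hUU
  haveI := isScalarTower_tri f i hUU hUW
  have hsurj := algebraMap_surjective_of_le_coborder i hU hUc
  haveI : Algebra.Smooth Γ(S, W) Γ(X, U) :=
    HasRingHomProperty.appLE (P := @Smooth) f inferInstance ⟨W, hW⟩ ⟨U, hU⟩ hUW
  haveI : Algebra.FinitePresentation Γ(S, W) Γ(Y, i ⁻¹ᵁ U) :=
    HasRingHomProperty.appLE (P := @LocallyOfFinitePresentation) (i ≫ f) inferInstance
      ⟨W, hW⟩ ⟨i ⁻¹ᵁ U, hU'⟩ hU'W
  obtain ⟨P, Q, -, hPQ⟩ := exists_local_conormalDiff f i dX hX φ hφ hU hW hUc hUW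
  have hφinj : Function.Injective (φ.app (i ⁻¹ᵁ U)) :=
    (mono_iff_app_injective φ).mp inferInstance _
  have hμeq : ∀ t, μ Γ(S, W) Γ(X, U) Γ(Y, i ⁻¹ᵁ U) t = P (φ.app _ (Q.symm t)) := by
    intro t
    induction t using TensorProduct.induction_on with
    | zero => simp
    | add a b ha hb => rw [map_add, ha, hb, map_add, map_add, map_add]
    | tmul c x => rw [μ_tmul, hPQ]
  have hμ : Function.Injective (μ Γ(S, W) Γ(X, U) Γ(Y, i ⁻¹ᵁ U)) := by
    intro a b hab
    rw [hμeq, hμeq] at hab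
    exact Q.symm.injective (hφinj (P.injective hab))
  obtain ⟨E, -⟩ := exists_linearEquiv_sections_of_universal (i ≫ f) dY hY hU' hW hU'W
  obtain ⟨hfin, hproj⟩ := finite_projective_sections_of_isFinLocFree hfree hU'
  haveI : Module.Projective Γ(Y, i ⁻¹ᵁ U) Ω[Γ(Y, i ⁻¹ᵁ U)⁄Γ(S, W)] :=
    Module.Projective.of_equiv E
  haveI : Algebra.FormallySmooth Γ(S, W) Γ(Y, i ⁻¹ᵁ U) :=
    formallySmooth_of_μ_injective Γ(S, W) hsurj hμ
  change (algebraMap Γ(S, W) Γ(Y, i ⁻¹ᵁ U)).Smooth
  rw [RingHom.smooth_algebraMap]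
  exact ⟨inferInstance, inferInstance⟩

end B

end Groth.Agent.Lib.Helper25.ConormalRank
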