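import Mathlib
import Groth.Agent.Lib.Helper25.NonsingSub2

set_option autoImplicit false
set_option linter.unusedSectionVars false
set_option linter.style.haveILetI false
universe u
open CategoryTheory CategoryTheory.Limits AlgebraicGeometry TopologicalSpace Opposite
open scoped TensorProduct

/-! # Hartshorne II.8.17 -/

namespace Groth.Agent.Lib.Helper25.ConormalRank

open Groth.Agent.Lib.Helper25.FibreDimRank

theorem nonsingular_sub_iff (k : Type u) [Field k] [IsAlgClosed k] (n q : ℕ)
    {X : Scheme.{u}} (f : X ⟶ Spec (CommRingCat.of k)) [IsIntegral X] [LocallyOfFiniteType f]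
    (hreg : ∀ x : X, IsRegularLocalRing (X.presheaf.stalk x))
    (hn : topologicalKrullDim X = (n : WithBot ℕ∞))
    {Y : Scheme.{u}} (i : Y ⟶ X) [IsClosedImmersion i] [IrreducibleSpace Y]
    (hq : topologicalKrullDim Y = (q : WithBot ℕ∞))
    (ΩX : X.Modules) (dX : OmegaSh.Der f ΩX) (hX : OmegaSh.IsUniversal dX)
    (ΩY : Y.Modules) (dY : OmegaSh.Der (i ≫ f) ΩY) (hY : OmegaSh.IsUniversal dY)
    (φ : Omega.conormal i ⟶ (Scheme.Modules.pullback i).obj ΩX)
    (hφ : OmegaSh.IsConormalDiff i dX φ) :
    ((∀ y : Y, IsRegularLocalRing (Y.presheaf.stalk y)) ↔ (FlatMod.IsFinLocFree ΩY ∧ Mono φ)) ∧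
      ((∀ y : Y, IsRegularLocalRing (Y.presheaf.stalk y)) →
        FlatMod.IsFinLocFreeOfRank (n - q) (Omega.conormal i)) := by
  haveI : Smooth f := smooth_of_regular k f hreg
  haveI : LocallyOfFiniteType (i ≫ f) := inferInstance
  haveI : LocallyOfFinitePresentation (i ≫ f) :=
    LocallyOfFinitePresentation.iff_locallyOfFiniteType.mpr inferInstance
  refine ⟨⟨fun hregY => ?_, fun ⟨hfree, hmono⟩ => ?_⟩, fun hregY => ?_⟩
  · haveI : Smooth (i ≫ f) := smooth_of_regular k (i ≫ f) hregY
    refine ⟨fun y => ?_, ?_⟩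
    · obtain ⟨U, m, hyU, hiso, -⟩ := exists_free_of_universal (i ≫ f) ΩY dY hY y
      exact ⟨U, m, hyU, hiso⟩
    · exact Groth.Agent.S5020.result i f
        ((Groth.Agent.S1488.result (i ≫ f)).1 inferInstance).2 ΩX dX hX φ hφ
  · haveI := hmono
    haveI : Smooth (i ≫ f) := smooth_comp_of_mono_conormal f i ΩX dX hX ΩY dY hY hfree φ hφ
    exact fun y => regular_of_smooth k (i ≫ f) y
  · haveI : Smooth (i ≫ f) := smooth_of_regular k (i ≫ f) hregY
    haveI : IsReduced Y := by
      haveI : ∀ y : Y, _root_.IsReduced (Y.presheaf.stalk y) := fun y => by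
        haveI := hregY y
        haveI := Groth.Agent.Lib.Helper21.isDomain_of_isRegularLocalRing (Y.presheaf.stalk y)
        infer_instance
      exact isReduced_of_isReduced_stalk Y
    haveI : IsIntegral Y := isIntegral_of_irreducibleSpace_of_isReduced Y
    haveI : SmoothOfRelativeDimension n f :=
      Groth.Agent.Lib.Helper25.SmoothRelDimRank.smoothOfRelativeDimension_of_isIntegral f n hn
    haveI : SmoothOfRelativeDimension q (i ≫ f) :=
      Groth.Agent.Lib.Helper25.SmoothRelDimRank.smoothOfRelativeDimension_of_isIntegral (i ≫ f) q hq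
    intro y
    obtain ⟨U, m, hyU, hiso, hdim⟩ := exists_free_conormal f i y
    rw [fibreDimAt_eq_of_smoothOfRelativeDimension n f,
      fibreDimAt_eq_of_smoothOfRelativeDimension q (i ≫ f)] at hdim
    have h1 : n = q + m := by exact_mod_cast hdim
    have hm : m = n - q := by omega
    subst hm
    exact ⟨U, hyU, hiso⟩

end Groth.Agent.Lib.Helper25.ConormalRank
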