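import Groth.Agent.Lib.Helper25.ProjClosedAlg2
/-!
# Image gradings along surjections with homogeneous kernel; kernels of the maps on degree-zero localizations
-/
universe u
open HomogeneousLocalization DirectSum
open Groth.Agent.Lib.Helper3

namespace Groth.Agent.Lib.Helper25.ProjClosedAlg

section imgDeg

variable {A B σ : Type u} [CommRing A] [CommRing B] [SetLike σ A] [AddSubgroupClass σ A]
  (𝒜 : ℕ → σ) [GradedRing 𝒜] (π : A →+* B)

/-- the image grading along a ring homomorphism -/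
def imgDeg (n : ℕ) : AddSubgroup B :=
  AddSubgroup.map π.toAddMonoidHom (AddSubgroup.ofClass (𝒜 n))

theorem mem_imgDeg {n : ℕ} {b : B} : b ∈ imgDeg 𝒜 π n ↔ ∃ a ∈ 𝒜 n, π a = b := Iff.rfl

theorem map_mem_imgDeg {n : ℕ} {a : A} (ha : a ∈ 𝒜 n) : π a ∈ imgDeg 𝒜 π n := ⟨a, ha, rfl⟩

instance imgDeg_gradedMonoid : SetLike.GradedMonoid (imgDeg 𝒜 π) where
  one_mem := ⟨1, SetLike.GradedOne.one_mem, map_one π⟩
  mul_mem := by
    rintro i j _ _ ⟨a, ha, rfl⟩ ⟨b, hb, rfl⟩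
    exact ⟨a * b, SetLike.mul_mem_graded ha hb, map_mul π a b⟩

/-- component maps -/
def imgComp (n : ℕ) : 𝒜 n →+ imgDeg 𝒜 π n where
  toFun a := ⟨π a.1, map_mem_imgDeg 𝒜 π a.2⟩
  map_zero' := Subtype.ext (by simp)
  map_add' a b := Subtype.ext (by simp)

theorem imgComp_surjective (n : ℕ) : Function.Surjective (imgComp 𝒜 π n) := by
  rintro ⟨_, a, ha, rfl⟩
  exact ⟨⟨a, ha⟩, rfl⟩

theorem coe_map_imgComp (y : ⨁ n, 𝒜 n) :
    DirectSum.coeAddMonoidHom (imgDeg 𝒜 π) (DirectSum.map (imgComp 𝒜 π) y) =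
      π (DirectSum.coeAddMonoidHom 𝒜 y) := by
  classical
  induction y using DirectSum.induction_on with
  | zero => simp
  | of i x =>
    rw [DirectSum.map_of, DirectSum.coeAddMonoidHom_of, DirectSum.coeAddMonoidHom_of]
    rfl
  | add x y hx hy => rw [map_add, map_add, map_add, map_add, hx, hy]

theorem img_isInternal (hπ : Function.Surjective π) (hker : (RingHom.ker π).IsHomogeneous 𝒜) :
    DirectSum.IsInternal (imgDeg 𝒜 π) := by
  classical
  constructor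
  · rw [injective_iff_map_eq_zero]
    intro x hx
    obtain ⟨y, rfl⟩ :=
      (DirectSum.map_surjective (f := imgComp 𝒜 π)).2 (imgComp_surjective 𝒜 π) x
    rw [coe_map_imgComp] at hx
    have hx' : DirectSum.coeAddMonoidHom 𝒜 y ∈ RingHom.ker π := hx
    ext n
    rw [DirectSum.map_apply]
    have h1 : (DirectSum.decompose 𝒜 (DirectSum.coeAddMonoidHom 𝒜 y) n : A) ∈ RingHom.ker π :=
      hker n hx'
    have h2 : DirectSum.decompose 𝒜 (DirectSum.coeAddMonoidHom 𝒜 y) = y :=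
      (DirectSum.decompose 𝒜).apply_symm_apply y
    rw [h2] at h1
    have : imgComp 𝒜 π n (y n) = 0 := Subtype.ext h1
    rw [this]
    rfl
  · intro b
    obtain ⟨a, rfl⟩ := hπ b
    refine ⟨DirectSum.map (imgComp 𝒜 π) (DirectSum.decompose 𝒜 a), ?_⟩
    rw [coe_map_imgComp]
    congr 1
    exact (DirectSum.decompose 𝒜).symm_apply_apply a

/-- the graded ring structure on the image -/
@[reducible] noncomputable def imgGradedRing (hπ : Function.Surjective π)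
    (hker : (RingHom.ker π).IsHomogeneous 𝒜) : GradedRing (imgDeg 𝒜 π) :=
  { imgDeg_gradedMonoid 𝒜 π with
    toDecomposition := (img_isInternal 𝒜 π hπ hker).chooseDecomposition }

/-- the homomorphism as a graded ring homomorphism to the image grading -/
def imgGradedHom : 𝒜 →+*ᵍ imgDeg 𝒜 π where
  toRingHom := π
  map_mem := fun hx => map_mem_imgDeg 𝒜 π hx

@[simp] theorem imgGradedHom_apply (a : A) : imgGradedHom 𝒜 π a = π a := rfl

end imgDeg

section ker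

variable {A σ : Type u} [CommRing A] [SetLike σ A] [AddSubgroupClass σ A]
  {𝒜 : ℕ → σ} [GradedRing 𝒜]
  {B τ : Type u} [CommRing B] [SetLike τ B] [AddSubgroupClass τ B]
  {ℬ : ℕ → τ} [GradedRing ℬ]

/-- the kernel of the map induced on degree-zero localizations by a graded homomorphism -/
theorem mk_mem_ker_awayMap_iff (π : 𝒜 →+*ᵍ ℬ) {d : ℕ} {s : A} (hs : s ∈ 𝒜 d) (k : ℕ) (a : A)
    (ha : a ∈ 𝒜 (k • d)) :
    Away.mk 𝒜 hs k a ha ∈ RingHom.ker (Away.map π s) ↔ ∃ N : ℕ, s ^ N * a ∈ RingHom.ker π.toRingHom := by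
  rw [RingHom.mem_ker, Away.map_mk, ← (val_injective _).eq_iff, Away.val_mk, val_zero,
    Localization.mk_eq_mk', IsLocalization.mk'_eq_zero_iff]
  constructor
  · rintro ⟨⟨_, N, rfl⟩, hN⟩
    refine ⟨N, ?_⟩
    rw [RingHom.mem_ker, map_mul, map_pow]
    exact hN
  · rintro ⟨N, hN⟩
    refine ⟨⟨π s ^ N, N, rfl⟩, ?_⟩
    rw [RingHom.mem_ker, map_mul, map_pow] at hN
    exact hN

variable (J : ∀ t : PosHom 𝒜, Ideal (Away 𝒜 t.elt))
  (hJ : ∀ (s t x : PosHom 𝒜) (hx : x.elt = s.elt * t.elt),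
    J x = Ideal.map (awayMap 𝒜 t.mem hx) (J s))

include hJ in
/-- **The closed subscheme `V₊(I J)` has ideal `J s` on `D₊(s)`.** -/
theorem ker_awayMap_eq {T : Finset (PosHom 𝒜)} (hT : Covers T) (π : 𝒜 →+*ᵍ ℬ)
    (hker : RingHom.ker π.toRingHom = I J) (s : PosHom 𝒜) :
    RingHom.ker (Away.map π s.elt) = J s := by
  ext x
  obtain ⟨k, a, ha, rfl⟩ := Away.mk_surjective 𝒜 s.mem x
  rw [mk_mem_ker_awayMap_iff π s.mem k a ha, hker, mk_mem_iff J hJ hT s k a ha]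

end ker

section loc

variable {A σ : Type u} [CommRing A] [SetLike σ A] [AddSubgroupClass σ A]
  {𝒜 : ℕ → σ} [GradedRing 𝒜]
  {A' σ' : Type u} [CommRing A'] [SetLike σ' A'] [AddSubgroupClass σ' A']
  {𝒜' : ℕ → σ'} [GradedRing 𝒜']
  {ρ : 𝒜 →+*ᵍ 𝒜'} {c : A} (hloc : ProjLoc.IsLocAt ρ c)

include hloc in
theorem exists_of_mem_map (I₀ : Ideal A) {y : A'} (hy : y ∈ Ideal.map ρ I₀) :
    ∃ (L : ℕ) (z : A), z ∈ I₀ ∧ y * ρ c ^ L = ρ z := by
  unfold Ideal.map at hy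
  induction hy using Submodule.span_induction with
  | mem y hy =>
    obtain ⟨z, hz, rfl⟩ := hy
    exact ⟨0, z, hz, by simp⟩
  | zero => exact ⟨0, 0, zero_mem _, by simp⟩
  | add y₁ y₂ _ _ h₁ h₂ =>
    obtain ⟨L₁, z₁, hz₁, e₁⟩ := h₁
    obtain ⟨L₂, z₂, hz₂, e₂⟩ := h₂
    refine ⟨L₁ + L₂, c ^ L₂ * z₁ + c ^ L₁ * z₂,
      add_mem (Ideal.mul_mem_left _ _ hz₁) (Ideal.mul_mem_left _ _ hz₂), ?_⟩
    rw [map_add, map_mul, map_mul, map_pow, map_pow, ← e₁, ← e₂, pow_add]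
    ring
  | smul b y _ h =>
    obtain ⟨L, z, hz, e⟩ := h
    obtain ⟨b₀, k', hk'⟩ := hloc.surj b
    refine ⟨L + k', b₀ * z, Ideal.mul_mem_left _ _ hz, ?_⟩
    rw [map_mul, ← e, ← hk', smul_eq_mul, pow_add]
    ring

include hloc in
theorem exists_pow_mul_mem_of_map_mem (I₀ : Ideal A) {b : A} (h : ρ b ∈ Ideal.map ρ I₀) :
    ∃ n : ℕ, c ^ n * b ∈ I₀ := by
  obtain ⟨L, z, hz, e⟩ := exists_of_mem_map hloc I₀ h
  have h0 : ρ (b * c ^ L - z) = 0 := by
    rw [map_sub, map_mul, map_pow, sub_eq_zero]; exact e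
  obtain ⟨k', hk'⟩ := hloc.ker _ h0
  refine ⟨k' + L, ?_⟩
  have : c ^ (k' + L) * b = c ^ k' * z := by
    have : c ^ k' * (b * c ^ L) = c ^ k' * z := by
      rw [mul_sub] at hk'; exact sub_eq_zero.mp hk'
    rw [← this, pow_add]; ring
  rw [this]
  exact Ideal.mul_mem_left _ _ hz

end loc

/-- locality of ideal membership with respect to elements generating the unit ideal -/
theorem mem_of_forall_exists_pow_mul_mem {A : Type u} [CommRing A] (I₀ : Ideal A) (s : Set A)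
    (hs : Ideal.span s = ⊤) (b : A) (H : ∀ r ∈ s, ∃ n : ℕ, r ^ n * b ∈ I₀) : b ∈ I₀ :=
  Submodule.mem_of_span_eq_top_of_smul_pow_mem I₀ s hs b fun r => by
    obtain ⟨n, hn⟩ := H r.1 r.2
    exact ⟨n, by simpa [smul_eq_mul] using hn⟩

end Groth.Agent.Lib.Helper25.ProjClosedAlg
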