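import Groth.Agent.Lib.Helper25.GrFromBasic
import Groth.Agent.Lib.Helper25.ProjClosedAlg3
import Groth.Agent.Lib.Helper3.OfAff
import Groth.Agent.Lib.Helper3.ProjAux2
import Groth.Prelude.Def_RelProj
/-!
# Quasi-coherent graded algebras from graded data on the affine opens
-/
universe u
open CategoryTheory CategoryTheory.Limits AlgebraicGeometry Opposite TopologicalSpace
open scoped HomogeneousIdeal
open RelSpec AlgebraicGeometry.Scheme.AffineZariskiSite

namespace Groth.Agent.Lib.Helper25.OfAffGr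
open Groth.Agent.Lib.Helper25.ProjClosedAlg RelProj
open Groth.Agent.Lib.Helper3

variable {S : Scheme.{u}} {F : S.AffineZariskiSiteᵒᵖ ⥤ CommRingCat.{u}}
  {α : (toOpensFunctor S).op ⋙ S.presheaf ⟶ F} (H : α.Coequifibered)

/-- sections of `OfAff.alg` over an affine open -/
noncomputable def γ (U : S.Opens) (hU : IsAffineOpen U) :
    (OfAff.alg H).presheaf.obj (op U) ⟶ F.obj (op (OfAff.aff U hU)) :=
  OfAff.gammaAff H U hU

instance (U : S.Opens) (hU : IsAffineOpen U) : IsIso (γ H U hU) :=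
  OfAff.isIso_gammaAff H U hU

/-- the inverse comparison, as a ring homomorphism -/
noncomputable def γi (U : S.Opens) (hU : IsAffineOpen U) :
    F.obj (op (OfAff.aff U hU)) →+* (OfAff.alg H).presheaf.obj (op U) :=
  (inv (γ H U hU)).hom

/-- the comparison, as a ring homomorphism -/
noncomputable def γh (U : S.Opens) (hU : IsAffineOpen U) :
    (OfAff.alg H).presheaf.obj (op U) →+* F.obj (op (OfAff.aff U hU)) :=
  (γ H U hU).hom

theorem γi_γh (U : S.Opens) (hU : IsAffineOpen U) (a : (OfAff.alg H).presheaf.obj (op U)) :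
    γi H U hU (γh H U hU a) = a :=
  congrArg (fun k => k.hom a) (IsIso.hom_inv_id (γ H U hU))

theorem γh_γi (U : S.Opens) (hU : IsAffineOpen U) (b : F.obj (op (OfAff.aff U hU))) :
    γh H U hU (γi H U hU b) = b :=
  congrArg (fun k => k.hom b) (IsIso.inv_hom_id (γ H U hU))

theorem γi_bijective (U : S.Opens) (hU : IsAffineOpen U) : Function.Bijective (γi H U hU) :=
  ConcreteCategory.bijective_of_isIso (inv (γ H U hU))

theorem γh_str (U : S.Opens) (hU : IsAffineOpen U) (r : Γ(S, U)) :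
    γh H U hU (strB (OfAff.alg H) U r) = (α.app (op (OfAff.aff U hU))).hom r :=
  congrArg (fun k => k.hom r) (OfAff.π_app_gammaAff H U hU)

theorem γi_str (U : S.Opens) (hU : IsAffineOpen U) (r : Γ(S, U)) :
    γi H U hU ((α.app (op (OfAff.aff U hU))).hom r) = strB (OfAff.alg H) U r := by
  rw [← γh_str H U hU r, γi_γh]

theorem γh_res {U : S.Opens} (hU : IsAffineOpen U) (f : Γ(S, U))
    (a : (OfAff.alg H).presheaf.obj (op U)) :
    γh H (S.basicOpen f) (hU.basicOpen f) (resB (OfAff.alg H) (S.basicOpen_le f) a) =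
      (F.map (homOfLE ((OfAff.aff U hU).basicOpen_le f)).op).hom (γh H U hU a) :=
  congrArg (fun k => k.hom a) (OfAff.gammaAff_naturality H
    (U := OfAff.aff U hU) (V := OfAff.aff (S.basicOpen f) (hU.basicOpen f))
    (homOfLE ((OfAff.aff U hU).basicOpen_le f)))

theorem γi_res {U : S.Opens} (hU : IsAffineOpen U) (f : Γ(S, U))
    (b : F.obj (op (OfAff.aff U hU))) :
    resB (OfAff.alg H) (S.basicOpen_le f) (γi H U hU b) =
      γi H (S.basicOpen f) (hU.basicOpen f)
        ((F.map (homOfLE ((OfAff.aff U hU).basicOpen_le f)).op).hom b) := by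
  have h1 := γh_res H hU f (γi H U hU b)
  rw [γh_γi] at h1
  rw [← h1, γi_γh]

section graded
variable (deg : ∀ (U : S.Opens) (hU : IsAffineOpen U), ℕ → AddSubgroup (F.obj (op (OfAff.aff U hU))))
  [gr : ∀ (U : S.Opens) (hU : IsAffineOpen U), GradedRing (deg U hU)]

/-- the grading of `OfAff.alg` over an affine open -/
noncomputable def pdeg (U : S.Opens) (hU : IsAffineOpen U) (d : ℕ) :
    AddSubgroup ((OfAff.alg H).presheaf.obj (op U)) :=
  imgDeg (deg U hU) (γi H U hU) d

omit gr in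
theorem mem_pdeg_iff (U : S.Opens) (hU : IsAffineOpen U) (d : ℕ) (x : (OfAff.alg H).presheaf.obj (op U)) :
    x ∈ pdeg H deg U hU d ↔ γh H U hU x ∈ deg U hU d := by
  constructor
  · rintro ⟨a, ha, rfl⟩
    change γh H U hU (γi H U hU a) ∈ deg U hU d
    rw [γh_γi]
    exact ha
  · intro h
    exact ⟨γh H U hU x, h, γi_γh H U hU x⟩

noncomputable instance pdeg_gradedRing (U : S.Opens) (hU : IsAffineOpen U) : GradedRing (pdeg H deg U hU) :=
  imgGradedRing (deg U hU) (γi H U hU) (γi_bijective H U hU).2 (by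
    have : RingHom.ker (γi H U hU) = ⊥ := (RingHom.injective_iff_ker_eq_bot _).mp (γi_bijective H U hU).1
    rw [this]
    intro i r hr
    rw [Ideal.mem_bot] at hr
    subst hr
    simp)

variable (hres : ∀ (U : S.Opens) (hU : IsAffineOpen U) (f : Γ(S, U)) (d : ℕ) (x : F.obj (op (OfAff.aff U hU))),
    x ∈ deg U hU d → (F.map (homOfLE ((OfAff.aff U hU).basicOpen_le f)).op).hom x ∈
      deg (S.basicOpen f) (hU.basicOpen f) d)
  (hstr : ∀ (U : S.Opens) (hU : IsAffineOpen U) (r : Γ(S, U)),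
    (α.app (op (OfAff.aff U hU))).hom r ∈ deg U hU 0)

omit gr in
include hres in
theorem resB_mem_basic (U : S.Opens) (hU : IsAffineOpen U) (f : Γ(S, U)) {d : ℕ}
    {x : (OfAff.alg H).presheaf.obj (op U)} (hx : x ∈ pdeg H deg U hU d) :
    resB (OfAff.alg H) (S.basicOpen_le f) x ∈ pdeg H deg (S.basicOpen f) (hU.basicOpen f) d := by
  rw [mem_pdeg_iff] at hx ⊢
  rw [γh_res]
  exact hres U hU f d _ hx

/-- **The quasi-coherent graded algebra attached to graded data on the affine opens.** -/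
noncomputable abbrev grAlg : QCGrAlg S where
  toQCAlg := OfAff.alg H
  deg := pdeg H deg
  graded U hU := inferInstance
  map_mem := fun {_ _} hU hV i {_ _} hx =>
    GrFromBasic.resB_mem (OfAff.alg H) (pdeg H deg)
      (fun U hU f _ _ hx => resB_mem_basic H deg hres U hU f hx) hU hV i hx
  str_mem U hU r := by
    rw [mem_pdeg_iff]
    have := γh_str H U hU r
    rw [show (((OfAff.alg H).str.app (op U)).hom r) = strB (OfAff.alg H) U r from rfl, this]
    exact hstr U hU r

/-- the graded comparison `F(U) → alg(U)` -/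
noncomputable def γiG (U : S.Opens) (hU : IsAffineOpen U) :
    deg U hU →+*ᵍ (grAlg H deg hres hstr).deg U hU :=
  { γi H U hU with
    map_mem := fun {d x} hx => (mem_pdeg_iff H deg U hU d _).mpr (by
      change γh H U hU (γi H U hU x) ∈ deg U hU d
      rw [γh_γi]
      exact hx) }

/-- the graded comparison `alg(U) → F(U)` -/
noncomputable def γG (U : S.Opens) (hU : IsAffineOpen U) :
    (grAlg H deg hres hstr).deg U hU →+*ᵍ deg U hU :=
  { γh H U hU with
    map_mem := fun {d x} hx => (mem_pdeg_iff H deg U hU d x).mp hx }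

theorem irr_le_map_of_surj' {A B σ τ : Type*} [CommRing A] [CommRing B] [SetLike σ A] [AddSubgroupClass σ A]
    [SetLike τ B] [AddSubgroupClass τ B] {𝒜 : ℕ → σ} {ℬ : ℕ → τ} [GradedRing 𝒜] [GradedRing ℬ]
    (φ : 𝒜 →+*ᵍ ℬ) (h : ∀ (d : ℕ) (b : B), b ∈ ℬ d → ∃ a ∈ 𝒜 d, φ a = b) :
    ℬ₊ ≤ (𝒜₊).map φ := by
  rw [HomogeneousIdeal.irrelevant_le]
  intro i hi b hb
  obtain ⟨a, ha, rfl⟩ := h i b hb
  change φ a ∈ Ideal.map φ (𝒜₊.toIdeal)
  exact Ideal.mem_map_of_mem _ (HomogeneousIdeal.mem_irrelevant_of_mem _ hi ha)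

theorem γiG_irr (U : S.Opens) (hU : IsAffineOpen U) :
    ((grAlg H deg hres hstr).deg U hU)₊ ≤ ((deg U hU)₊).map (γiG H deg hres hstr U hU) := by
  refine irr_le_map_of_surj' (𝒜 := deg U hU) (ℬ := (grAlg H deg hres hstr).deg U hU)
    (γiG H deg hres hstr U hU) ?_
  intro d b hb
  exact ⟨γh H U hU b, (mem_pdeg_iff H deg U hU d b).mp hb, γi_γh H U hU b⟩

theorem γG_irr (U : S.Opens) (hU : IsAffineOpen U) :
    (deg U hU)₊ ≤ (((grAlg H deg hres hstr).deg U hU)₊).map (γG H deg hres hstr U hU) := by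
  refine irr_le_map_of_surj' (𝒜 := (grAlg H deg hres hstr).deg U hU) (ℬ := deg U hU)
    (γG H deg hres hstr U hU) ?_
  intro d b hb
  exact ⟨γi H U hU b, (γiG H deg hres hstr U hU).map_mem hb, γh_γi H U hU b⟩

/-- the comparison of Proj's -/
noncomputable def θ (U : S.Opens) (hU : IsAffineOpen U) :
    Proj ((grAlg H deg hres hstr).deg U hU) ≅ Proj (deg U hU) where
  hom := Proj.map (γiG H deg hres hstr U hU) (γiG_irr H deg hres hstr U hU)
  inv := Proj.map (γG H deg hres hstr U hU) (γG_irr H deg hres hstr U hU)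
  hom_inv_id := by
    rw [← Proj.map_comp (γG H deg hres hstr U hU) (γiG H deg hres hstr U hU) (γG_irr H deg hres hstr U hU)
      (γiG_irr H deg hres hstr U hU)]
    exact (ProjAux.map_congr (𝒜 := (grAlg H deg hres hstr).deg U hU) (ℬ := (grAlg H deg hres hstr).deg U hU)
      (GradedRingHom.ext fun x => γi_γh H U hU x) _ (by simp)).trans
      (Proj.map_id (𝒜 := (grAlg H deg hres hstr).deg U hU))
  inv_hom_id := by
    rw [← Proj.map_comp (γiG H deg hres hstr U hU) (γG H deg hres hstr U hU) (γiG_irr H deg hres hstr U hU)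
      (γG_irr H deg hres hstr U hU)]
    exact (ProjAux.map_congr (𝒜 := deg U hU) (ℬ := deg U hU)
      (GradedRingHom.ext fun x => γh_γi H U hU x) _ (by simp)).trans
      (Proj.map_id (𝒜 := deg U hU))

/-- the structure map into degree zero of the model -/
noncomputable def ρ₀ (U : S.Opens) (hU : IsAffineOpen U) : Γ(S, U) →+* deg U hU 0 :=
  RingHom.codRestrict (α.app (op (OfAff.aff U hU))).hom (SetLike.GradeZero.subring (deg U hU)) (hstr U hU)

theorem θ_toSpec (U : S.Opens) (hU : IsAffineOpen U) :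
    (θ H deg hres hstr U hU).hom ≫ Proj.toSpecZero (deg U hU) ≫
      Spec.map (CommRingCat.ofHom (ρ₀ deg hstr U hU)) =
      Proj.toSpecZero ((grAlg H deg hres hstr).deg U hU) ≫
        Spec.map ((grAlg H deg hres hstr).strZero U hU) := by
  change Proj.map (γiG H deg hres hstr U hU) (γiG_irr H deg hres hstr U hU) ≫ Proj.toSpecZero (deg U hU) ≫
    Spec.map (CommRingCat.ofHom (ρ₀ deg hstr U hU)) = _
  rw [← Category.assoc, ProjAux.map_toSpecZero, Category.assoc, ← Spec.map_comp]
  congr 2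
  ext r
  change γi H U hU ((α.app (op (OfAff.aff U hU))).hom r) = strB (OfAff.alg H) U r
  exact γi_str H U hU r

include hres hstr in
theorem isGenDegOne_grAlg
    (h : ∀ (U : S.Opens) (hU : IsAffineOpen U),
      Subring.closure ((deg U hU 0 : Set (F.obj (op (OfAff.aff U hU)))) ∪ (deg U hU 1 : Set _)) = ⊤) :
    (grAlg H deg hres hstr).IsGenDegOne := by
  intro U hU
  rw [eq_top_iff]
  rintro x -
  rw [← γi_γh H U hU x]
  obtain ⟨z, hz⟩ : ∃ z, z = γh H U hU x := ⟨_, rfl⟩
  rw [← hz]
  clear hz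
  have hx : z ∈ Subring.closure ((deg U hU 0 : Set (F.obj (op (OfAff.aff U hU)))) ∪
      (deg U hU 1 : Set _)) := by rw [h U hU]; trivial
  induction hx using Subring.closure_induction with
  | mem y hy =>
    rcases hy with hy | hy
    · exact Subring.subset_closure (Or.inl ((γiG H deg hres hstr U hU).map_mem hy))
    · exact Subring.subset_closure (Or.inr ((γiG H deg hres hstr U hU).map_mem hy))
  | zero => rw [map_zero]; exact zero_mem _
  | one => rw [map_one]; exact one_mem _
  | add x y _ _ hx hy => rw [map_add]; exact add_mem hx hy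
  | neg x _ hx => rw [map_neg]; exact neg_mem hx
  | mul x y _ _ hx hy => rw [map_mul]; exact mul_mem hx hy

include hres hstr in
theorem isFTDeg_grAlg (d : ℕ)
    (h : ∀ (U : S.Opens) (hU : IsAffineOpen U), ∃ T : Finset (F.obj (op (OfAff.aff U hU))),
      (↑T : Set (F.obj (op (OfAff.aff U hU)))) ⊆ (deg U hU d : Set _) ∧
        ∀ x ∈ deg U hU d, ∃ c : (F.obj (op (OfAff.aff U hU))) → Γ(S, U),
          x = ∑ t ∈ T, (α.app (op (OfAff.aff U hU))).hom (c t) * t) :
    (grAlg H deg hres hstr).IsFTDeg d := by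
  classical
  intro U hU
  obtain ⟨T, hT, hgen⟩ := h U hU
  refine ⟨T.image (γi H U hU), ?_, ?_⟩
  · intro t ht
    obtain ⟨s, hs, rfl⟩ := Finset.mem_image.mp (Finset.mem_coe.mp ht)
    exact (γiG H deg hres hstr U hU).map_mem (hT (Finset.mem_coe.mpr hs))
  · intro x hx
    obtain ⟨c, hc⟩ := hgen (γh H U hU x) ((mem_pdeg_iff H deg U hU d x).mp hx)
    refine ⟨fun t => c (γh H U hU t), ?_⟩
    rw [Finset.sum_image (fun a _ b _ hab => (γi_bijective H U hU).1 hab)]
    conv_lhs => rw [← γi_γh H U hU x, hc]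
    rw [map_sum]
    refine Finset.sum_congr rfl fun t _ => ?_
    rw [map_mul, γi_str]
    change _ = strB (OfAff.alg H) U (c (γh H U hU (γi H U hU t))) * _
    rw [γh_γi]

end graded

end Groth.Agent.Lib.Helper25.OfAffGr
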