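import Mathlib

set_option autoImplicit false
universe v v' u u'

open CategoryTheory MonoidalCategory

namespace Groth.Agent.Lib.Helper25.PicCatEquiv

section A

variable {M : Type u} [Category.{v} M] [MonoidalCategory M]

/-- the action of endomorphisms of the unit on an object -/
def act (X : M) (φ : 𝟙_ M ⟶ 𝟙_ M) : X ⟶ X := (λ_ X).inv ≫ (φ ▷ X) ≫ (λ_ X).hom

theorem act_bijective (X : M) (h : (tensorRight X).IsEquivalence) :
    Function.Bijective (act X) := by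
  have hff : (tensorRight X).FullyFaithful := Functor.FullyFaithful.ofFullyFaithful _
  constructor
  · intro φ ψ hφψ
    apply hff.map_injective
    change φ ▷ X = ψ ▷ X
    have h1 : (λ_ X).hom ≫ act X φ ≫ (λ_ X).inv = (λ_ X).hom ≫ act X ψ ≫ (λ_ X).inv := by
      rw [hφψ]
    simpa [act] using h1
  · intro e
    obtain ⟨φ, hφ⟩ := hff.map_surjective ((λ_ X).hom ≫ e ≫ (λ_ X).inv)
    refine ⟨φ, ?_⟩
    change (tensorRight X).map φ = _ at hφ
    have : φ ▷ X = (λ_ X).hom ≫ e ≫ (λ_ X).inv := hφ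
    simp [act, this]

end A

section B

variable {C : Type u} [Category.{v} C] [MonoidalCategory C]
  {D : Type u'} [Category.{v'} D] [MonoidalCategory D]
  (F : C ⥤ D) [F.LaxMonoidal]

open Functor.LaxMonoidal

theorem map_act (X : C) (φ : 𝟙_ C ⟶ 𝟙_ C) (ψ : 𝟙_ D ⟶ 𝟙_ D)
    (h : ψ ≫ ε F = ε F ≫ F.map φ) : F.map (act X φ) = act (F.obj X) ψ := by
  have key : (λ_ (F.obj X)).hom ≫ F.map (act X φ) = ψ ▷ F.obj X ≫ (λ_ (F.obj X)).hom := by
    rw [left_unitality F X]
    simp only [act, Functor.map_comp, Category.assoc]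
    rw [← F.map_comp_assoc (λ_ X).hom (λ_ X).inv, Iso.hom_inv_id, F.map_id, Category.id_comp]
    rw [← μ_natural_left_assoc, ← comp_whiskerRight_assoc, ← h, comp_whiskerRight_assoc]
  rw [show act (F.obj X) ψ = (λ_ (F.obj X)).inv ≫ ψ ▷ F.obj X ≫ (λ_ (F.obj X)).hom from rfl,
    ← key, Iso.inv_hom_id_assoc]

end B

open Functor.LaxMonoidal in
theorem isEquivalence
    {C : Type u} [Category.{v} C] [MonoidalCategory C] [IsGroupoid C]
    {D : Type u'} [Category.{v'} D] [MonoidalCategory D] [IsGroupoid D]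
    (hC : ∀ X : C, (tensorLeft X).IsEquivalence ∧ (tensorRight X).IsEquivalence)
    (hD : ∀ X : D, (tensorLeft X).IsEquivalence ∧ (tensorRight X).IsEquivalence)
    (F : C ⥤ D) [F.LaxMonoidal] [F.EssSurj]
    (h0 : ∀ X Y : C, Nonempty (F.obj X ≅ F.obj Y) → Nonempty (X ≅ Y))
    (h1 : Function.Bijective (fun φ : 𝟙_ C ⟶ 𝟙_ C => F.map φ)) :
    F.IsEquivalence := by
  -- endomorphisms with trivial image are trivial
  have hid : ∀ (X : C) (e : X ⟶ X), F.map e = 𝟙 _ → e = 𝟙 _ := by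
    intro X e he
    obtain ⟨φ, rfl⟩ := (act_bijective X (hC X).2).2 e
    have hψ : (ε F ≫ F.map φ ≫ inv (ε F)) ≫ ε F = ε F ≫ F.map φ := by simp
    have h2 := map_act F X φ _ hψ
    rw [he] at h2
    have h3 : act (F.obj X) (𝟙 _) = 𝟙 _ := by simp [act]
    have h4 : ε F ≫ F.map φ ≫ inv (ε F) = 𝟙 _ :=
      (act_bijective (F.obj X) (hD _).2).1 (h2.symm.trans h3.symm)
    have h5 : F.map φ = 𝟙 _ := by
      have : ε F ≫ F.map φ = ε F := by
        have := congrArg (· ≫ ε F) h4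
        simpa using this
      exact (cancel_epi (ε F)).mp (by rw [this, Category.comp_id])
    have h6 : φ = 𝟙 _ := h1.1 (by simpa using h5)
    rw [h6]; simp [act]
  haveI : F.Faithful := by
    constructor
    intro X Y f g hfg
    have : f ≫ inv g = 𝟙 _ := hid X _ (by rw [F.map_comp, hfg, ← F.map_comp]; simp)
    calc f = (f ≫ inv g) ≫ g := by simp
      _ = g := by rw [this, Category.id_comp]
  haveI : F.Full := by
    constructor
    intro X Y g
    obtain ⟨e₀⟩ := h0 X Y ⟨asIso g⟩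
    obtain ⟨ψ, hψ⟩ := (act_bijective (F.obj X) (hD _).2).2 (g ≫ inv (F.map e₀.hom))
    obtain ⟨φ, hφ⟩ := h1.2 (inv (ε F) ≫ ψ ≫ ε F)
    have hφ' : F.map φ = inv (ε F) ≫ ψ ≫ ε F := hφ
    have hcomm : ψ ≫ ε F = ε F ≫ F.map φ := by rw [hφ']; simp
    refine ⟨act X φ ≫ e₀.hom, ?_⟩
    rw [F.map_comp, map_act F X φ ψ hcomm, hψ]
    simp
  exact { }

section A2

variable {M : Type u} [Category.{v} M] [MonoidalCategory M]

@[reassoc]
theorem act_naturality {X Y : M} (f : X ⟶ Y) (a : 𝟙_ M ⟶ 𝟙_ M) :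
    act X a ≫ f = f ≫ act Y a := by
  simp only [act, Category.assoc]
  rw [← leftUnitor_naturality, ← whisker_exchange_assoc, ← leftUnitor_inv_naturality_assoc]

theorem act_comp (X : M) (a b : 𝟙_ M ⟶ 𝟙_ M) : act X (a ≫ b) = act X a ≫ act X b := by
  simp [act]

theorem act_id (X : M) : act X (𝟙 _) = 𝟙 X := by simp [act]

theorem act_whiskerRight (X Y : M) (a : 𝟙_ M ⟶ 𝟙_ M) : act X a ▷ Y = act (X ⊗ Y) a := by
  simp only [act, comp_whiskerRight, leftUnitor_tensor_hom, leftUnitor_tensor_inv, Category.assoc]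
  simp

theorem whiskerLeft_act [BraidedCategory M] (X Y : M) (b : 𝟙_ M ⟶ 𝟙_ M) :
    X ◁ act Y b = act (X ⊗ Y) b := by
  have h1 : X ◁ act Y b = (β_ X Y).hom ≫ (act Y b ▷ X) ≫ (β_ X Y).inv := by
    rw [← BraidedCategory.braiding_naturality_right_assoc, Iso.hom_inv_id, Category.comp_id]
  rw [h1, act_whiskerRight, ← act_naturality_assoc, Iso.hom_inv_id, Category.comp_id]

theorem act_tensorHom [BraidedCategory M] (X Y : M) (a b : 𝟙_ M ⟶ 𝟙_ M) :
    act X a ⊗ₘ act Y b = act (X ⊗ Y) (a ≫ b) := by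
  rw [MonoidalCategory.tensorHom_def, act_whiskerRight, whiskerLeft_act, act_comp]

theorem act_comm [BraidedCategory M] (X : M) (a b : 𝟙_ M ⟶ 𝟙_ M) :
    act X (a ≫ b) = act X (b ≫ a) := by
  have h := act_naturality (act X a) b
  rw [act_comp, act_comp]
  exact h.symm

end A2

section T

open Functor.LaxMonoidal

variable {C : Type u} [Category.{v} C] [MonoidalCategory C] [IsGroupoid C]
    {D : Type u'} [Category.{v'} D] [MonoidalCategory D] [BraidedCategory D] [IsGroupoid D]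
    (hD : ∀ X : D, (tensorLeft X).IsEquivalence ∧ (tensorRight X).IsEquivalence)
    (F G : C ⥤ D) [F.LaxMonoidal] [G.LaxMonoidal] (θ₀ : F ⟶ G) [NatTrans.IsMonoidal θ₀]

include hD in
theorem act_inj (Y : D) {a b : 𝟙_ D ⟶ 𝟙_ D} (h : act Y a = act Y b) : a = b :=
  (act_bijective Y (hD Y).2).1 h

/-- key tensor computation -/
theorem tensor_key (θ : F ⟶ G) (X Y : C) (a b : 𝟙_ D ⟶ 𝟙_ D)
    (hX : θ.app X = θ₀.app X ≫ act (G.obj X) a) (hY : θ.app Y = θ₀.app Y ≫ act (G.obj Y) b) :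
    (θ.app X ⊗ₘ θ.app Y) ≫ μ G X Y = μ F X Y ≫ θ₀.app (X ⊗ Y) ≫ act (G.obj (X ⊗ Y)) (a ≫ b) := by
  rw [hX, hY, ← tensorHom_comp_tensorHom, act_tensorHom, Category.assoc, act_naturality,
    ← NatTrans.IsMonoidal.tensor_assoc]


theorem torsor_part2 (χ : Skeleton C →* End (𝟙_ D)) :
    ∃ θ : F ⟶ G, NatTrans.IsMonoidal θ ∧ ∀ X : C,
      θ.app X = θ₀.app X ≫ act (G.obj X) (χ (toSkeleton X)) := by
  let θ : F ⟶ G :=
    { app := fun X => θ₀.app X ≫ act (G.obj X) (χ (toSkeleton X))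
      naturality := by
        intro X Y f
        have hXY : toSkeleton X = toSkeleton Y := congr_toSkeleton_of_iso (asIso f)
        rw [θ₀.naturality_assoc, Category.assoc, act_naturality, hXY] }
  refine ⟨θ, ⟨?_, ?_⟩, fun X => rfl⟩
  · change ε F ≫ θ₀.app (𝟙_ C) ≫ act (G.obj (𝟙_ C)) (χ (toSkeleton (𝟙_ C))) = ε G
    have h1 : χ (toSkeleton (𝟙_ C)) = 𝟙 _ := by
      rw [← Skeleton.one_eq, map_one]; rfl
    rw [h1, act_id, Category.comp_id, NatTrans.IsMonoidal.unit]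
  · intro X Y
    have hk := tensor_key F G θ₀ θ X Y (χ (toSkeleton X)) (χ (toSkeleton Y)) rfl rfl
    rw [hk]
    change μ F X Y ≫ θ₀.app (X ⊗ Y) ≫ act (G.obj (X ⊗ Y)) (χ (toSkeleton (X ⊗ Y))) = _
    have h1 : χ (toSkeleton (X ⊗ Y)) = χ (toSkeleton Y) ≫ χ (toSkeleton X) := by
      rw [Skeleton.toSkeleton_tensorObj, map_mul]; rfl
    rw [h1, act_comm]

include hD in
theorem torsor_part1 (θ : F ⟶ G) [NatTrans.IsMonoidal θ] :
    ∃! χ : Skeleton C →* End (𝟙_ D), ∀ X : C,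
      θ.app X = θ₀.app X ≫ act (G.obj X) (χ (toSkeleton X)) := by
  have hex : ∀ X : C, ∃ c : 𝟙_ D ⟶ 𝟙_ D, act (G.obj X) c = inv (θ₀.app X) ≫ θ.app X :=
    fun X => (act_bijective (G.obj X) (hD _).2).2 _
  choose c hc using hex
  have hc' : ∀ X, θ.app X = θ₀.app X ≫ act (G.obj X) (c X) := by
    intro X; rw [hc]; simp
  -- uniqueness of the scalar
  have huniq : ∀ (X : C) (a b : 𝟙_ D ⟶ 𝟙_ D), θ₀.app X ≫ act (G.obj X) a = θ₀.app X ≫ act (G.obj X) b →
      a = b := fun X a b h => act_inj hD _ ((cancel_epi (θ₀.app X)).mp h)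
  -- invariance
  have hinv : ∀ {X Y : C} (f : X ⟶ Y), c X = c Y := by
    intro X Y f
    apply huniq Y
    rw [← hc' Y, ← cancel_epi (F.map f), θ.naturality, hc' X, Category.assoc, act_naturality,
      θ₀.naturality_assoc]
  -- multiplicativity
  have hmul : ∀ X Y : C, c (X ⊗ Y) = c X ≫ c Y := by
    intro X Y
    apply huniq (X ⊗ Y)
    rw [← hc' (X ⊗ Y), ← cancel_epi (μ F X Y), NatTrans.IsMonoidal.tensor,
      tensor_key F G θ₀ θ X Y (c X) (c Y) (hc' X) (hc' Y)]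
  have hcomm : ∀ a b : 𝟙_ D ⟶ 𝟙_ D, a ≫ b = b ≫ a :=
    fun a b => act_inj hD (𝟙_ D) (act_comm _ a b)
  have hone : c (𝟙_ C) = 𝟙 _ := by
    have h1 : c (𝟙_ C ⊗ 𝟙_ C) = c (𝟙_ C) := hinv (λ_ (𝟙_ C)).hom
    have h2 := hmul (𝟙_ C) (𝟙_ C)
    rw [h1] at h2
    have : c (𝟙_ C) ≫ 𝟙 _ = c (𝟙_ C) ≫ c (𝟙_ C) := by rw [Category.comp_id]; exact h2
    exact ((cancel_epi (c (𝟙_ C))).mp this).symm
  let χfun : Skeleton C → End (𝟙_ D) :=
    Quotient.lift (fun X : C => (c X : End (𝟙_ D))) (fun X Y h => by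
      obtain ⟨e⟩ := h
      exact hinv e.hom)
  have hχfun : ∀ X : C, χfun (toSkeleton X) = c X := fun X => rfl
  let χ : Skeleton C →* End (𝟙_ D) :=
    { toFun := χfun
      map_one' := by
        rw [Skeleton.one_eq, hχfun, hone]; rfl
      map_mul' := by
        intro a b
        induction a using Quotient.inductionOn with | _ X =>
        induction b using Quotient.inductionOn with | _ Y =>
        change χfun (toSkeleton X * toSkeleton Y) = χfun (toSkeleton X) * χfun (toSkeleton Y)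
        rw [← Skeleton.toSkeleton_tensorObj, hχfun, hχfun, hχfun, hmul, End.mul_def]
        exact hcomm _ _ }
  refine ⟨χ, fun X => hc' X, ?_⟩
  intro χ' hχ'
  apply MonoidHom.ext
  intro a
  induction a using Quotient.inductionOn with | _ X =>
  change χ' (toSkeleton X) = c X
  apply huniq X
  rw [← hχ' X, hc' X]

end T

end Groth.Agent.Lib.Helper25.PicCatEquiv
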