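import Mathlib

set_option autoImplicit false
universe u
open AlgebraicGeometry CategoryTheory TopologicalSpace

namespace Groth.Agent.Lib.Helper25.PnGenPt

/-- Specialisation of points of an affine open, in terms of their prime ideals. -/
theorem primeIdealOf_le_iff {X : Scheme.{u}} {U : X.Opens} (hU : IsAffineOpen U) (u v : X)
    (hu : u ∈ U) (hv : v ∈ U) :
    hU.primeIdealOf ⟨u, hu⟩ ≤ hU.primeIdealOf ⟨v, hv⟩ ↔ u ⤳ v := by
  constructor
  · intro h
    have h1 : hU.primeIdealOf ⟨u, hu⟩ ⤳ hU.primeIdealOf ⟨v, hv⟩ :=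
      (PrimeSpectrum.le_iff_specializes _ _).mp h
    have h2 := h1.map hU.fromSpec.continuous
    rwa [hU.fromSpec_primeIdealOf ⟨u, hu⟩, hU.fromSpec_primeIdealOf ⟨v, hv⟩] at h2
  · intro h
    have h1 : (⟨u, hu⟩ : U) ⤳ ⟨v, hv⟩ := (subtype_specializes_iff _ _).mpr h
    have h2 := h1.map hU.isoSpec.hom.continuous
    exact (PrimeSpectrum.le_iff_specializes _ _).mpr h2

/-- In a closed subset `S` of dimension `a` of a scheme there are points `x ⤳ z` of `S` such that
`x` is maximal for generisation in `S` and `dim Γ(X, U) ⧸ 𝔭ₓ = a` for every affine open `U ∋ z`. -/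
theorem exists_point_dim_quotient {X : Scheme.{u}} (S : Set X) (hS : IsClosed S) (a : ℕ)
    (hdim : topologicalKrullDim ↥S = (a : WithBot ℕ∞)) :
    ∃ x ∈ S, (∀ y ∈ S, y ⤳ x → y = x) ∧ ∃ z ∈ S, x ⤳ z ∧
      ∀ (U : X.Opens) (hU : IsAffineOpen U) (_ : z ∈ U) (hx : x ∈ U),
        ringKrullDim (Γ(X, U) ⧸ (hU.primeIdealOf ⟨x, hx⟩).asIdeal) = (a : WithBot ℕ∞) := by
  haveI : QuasiSober ↥S := hS.isClosedEmbedding_subtypeVal.quasiSober
  let e₀ := irreducibleSetEquivPoints (α := ↥S)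
  let e : IrreducibleCloseds ↥S ≃o ↥S :=
    { toEquiv := e₀.toEquiv
      map_rel_iff' := by
        intro a b
        change ((e₀ b : X) ⤳ (e₀ a : X)) ↔ a ≤ b
        rw [← subtype_specializes_iff]
        exact e₀.map_rel_iff }
  have h1 : topologicalKrullDim ↥S = Order.krullDim ↥S := Order.krullDim_eq_of_orderIso e
  have hdim' : Order.krullDim ↥S = (a : WithBot ℕ∞) := h1 ▸ hdim
  obtain ⟨s, hs⟩ := Order.le_krullDim_iff.mp (le_of_eq hdim'.symm)
  have hle : ∀ u v : ↥S, u ≤ v ↔ (v : X) ⤳ (u : X) := fun u v => Iff.rfl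
  refine ⟨(s.last : X), s.last.2, ?_, (s.head : X), s.head.2, (hle _ _).mp s.head_le_last, ?_⟩
  · -- maximality
    intro y hy hyx
    by_contra hne
    have hlt' : s.last < (⟨y, hy⟩ : ↥S) := by
      refine lt_of_le_not_ge ((hle _ _).mpr hyx) ?_
      intro h
      have h' : (s.last : X) ⤳ y := (hle _ _).mp h
      exact hne (h'.antisymm hyx).eq.symm
    have h2 := Order.LTSeries.length_le_krullDim (s.snoc ⟨y, hy⟩ hlt')
    rw [hdim', RelSeries.snoc_length, hs] at h2
    have h3 : a + 1 ≤ a := by exact_mod_cast h2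
    omega
  · intro U hU hzU hxU
    have hmem : ∀ i, ((s i : ↥S) : X) ∈ U := fun i =>
      ((hle _ _).mp (s.head_le i)).mem_open U.2 hzU
    apply le_antisymm
    · -- upper bound
      rw [ringKrullDim_quotient, ← hdim', ← Order.krullDim_orderDual (α := ↥S)]
      obtain ⟨𝔭, h𝔭⟩ : ∃ 𝔭, 𝔭 = hU.primeIdealOf ⟨(s.last : X), hxU⟩ := ⟨_, rfl⟩
      rw [← h𝔭]
      have h𝔭x : hU.fromSpec 𝔭 = (s.last : X) := by
        rw [h𝔭]; exact hU.fromSpec_primeIdealOf ⟨(s.last : X), hxU⟩
      have hmemS : ∀ q : PrimeSpectrum.zeroLocus (𝔭.asIdeal : Set Γ(X, U)),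
          hU.fromSpec q.1 ∈ S := by
        intro q
        have h1 : 𝔭 ≤ q.1 := q.2
        have h2 : 𝔭 ⤳ q.1 := (PrimeSpectrum.le_iff_specializes _ _).mp h1
        have h3 := h2.map hU.fromSpec.continuous
        rw [h𝔭x] at h3
        exact h3.mem_closed hS s.last.2
      let g : PrimeSpectrum.zeroLocus (𝔭.asIdeal : Set Γ(X, U)) → (↥S)ᵒᵈ :=
        fun q => OrderDual.toDual ⟨hU.fromSpec q.1, hmemS q⟩
      refine Order.krullDim_le_of_strictMono g ?_
      intro q q' hqq'
      have h1 : q.1 ⤳ q'.1 := (PrimeSpectrum.le_iff_specializes _ _).mp hqq'.le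
      have h2 := h1.map hU.fromSpec.continuous
      refine lt_of_le_not_ge ?_ ?_
      · exact h2
      · intro h
        have h3 : hU.fromSpec q'.1 ⤳ hU.fromSpec q.1 := h
        have h4 : q'.1 ⤳ q.1 :=
          (hU.fromSpec.isOpenEmbedding.isInducing.specializes_iff).mp h3
        have h5 : q'.1 ≤ q.1 := (PrimeSpectrum.le_iff_specializes _ _).mpr h4
        exact hqq'.not_ge h5
    · -- lower bound
      rw [ringKrullDim_quotient, ← hs]
      have hq : ∀ i : Fin (s.length + 1), hU.primeIdealOf ⟨(s.last : X), hxU⟩ ≤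
          hU.primeIdealOf ⟨(s i : X), hmem i⟩ := fun i =>
        (primeIdealOf_le_iff hU _ _ hxU (hmem i)).mpr
          ((hle _ _).mp (s.monotone (Fin.le_last i)))
      let l : LTSeries (PrimeSpectrum.zeroLocus
          ((hU.primeIdealOf ⟨(s.last : X), hxU⟩).asIdeal : Set Γ(X, U))) :=
        LTSeries.mk s.length
          (fun i => ⟨hU.primeIdealOf ⟨(s (Fin.rev i) : X), hmem _⟩, hq _⟩) (by
          intro i j hij
          have h1 : s (Fin.rev j) < s (Fin.rev i) := s.strictMono (Fin.rev_lt_rev.mpr hij)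
          refine lt_of_le_not_ge ?_ ?_
          · exact (primeIdealOf_le_iff hU _ _ (hmem _) (hmem _)).mpr ((hle _ _).mp h1.le)
          · intro h
            have h2 := (primeIdealOf_le_iff hU _ _ (hmem _) (hmem _)).mp h
            exact h1.not_ge ((hle _ _).mpr h2))
      exact Order.LTSeries.length_le_krullDim l

end Groth.Agent.Lib.Helper25.PnGenPt
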