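import Mathlib
import Groth.Prelude
import Groth.Agent.Lib.Lead.ExtCodim.Dim
import Groth.Agent.Lib.Helper25.PnGenPt1

set_option autoImplicit false
universe u
open AlgebraicGeometry CategoryTheory TopologicalSpace MvPolynomial

namespace Groth.Agent.Lib.Helper25.PnGenPt

open Groth.Agent.Lib.Helper25.ChartPoly Groth.Agent.Lib.Helper25.SepPts
  Groth.Agent.Lib.Helper25.BertiniPn Groth.Agent.Lib.Lead.ExtCodim Groth.Agent.Lib.Helper29.QCoh

/-- A closed subset `S` of `P^n_k` of dimension `a` has a point `x`, maximal for generisation in `S`,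
with `dim O_{P,x} + a = n` (the generic point of a top-dimensional irreducible component). -/
theorem exists_generic_point_codim (k : Type u) [Field k] (n a : ℕ)
    (S : Set ↥(CohB1.ProjSpace n k)) (hS : IsClosed S)
    (hdim : topologicalKrullDim ↥S = (a : WithBot ℕ∞)) :
    ∃ x ∈ S, ringKrullDim ((CohB1.ProjSpace n k).presheaf.stalk x) + (a : WithBot ℕ∞) =
        (n : WithBot ℕ∞) ∧
      ∀ y ∈ S, y ⤳ x → y = x := by
  obtain ⟨x, hxS, hmax, z, hzS, hxz, H⟩ := exists_point_dim_quotient S hS a hdim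
  refine ⟨x, hxS, ?_, hmax⟩
  obtain ⟨j, hj⟩ := exists_mem_basicOpen_X n k z
  have hU : IsAffineOpen (chartU k n j) := Groth.Agent.Lib.Helper25.BertiniPn.isAffineOpen_chartU k n j
  have hzU : z ∈ chartU k n j := hj
  have hxU : x ∈ chartU k n j := hxz.mem_open (chartU k n j).2 hzU
  have hq : ringKrullDim (Γ(Proj (CohB1.polyGrading n k), chartU k n j) ⧸
      (hU.primeIdealOf ⟨x, hxU⟩).asIdeal) = (a : WithBot ℕ∞) := H (chartU k n j) hU hzU hxU
  change ringKrullDim ((Proj (CohB1.polyGrading n k)).presheaf.stalk x) + (a : WithBot ℕ∞) =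
    (n : WithBot ℕ∞)
  letI : Algebra Γ(Proj (CohB1.polyGrading n k), chartU k n j)
      ((Proj (CohB1.polyGrading n k)).presheaf.stalk x) :=
    TopCat.Presheaf.algebra_section_stalk (Proj (CohB1.polyGrading n k)).presheaf ⟨x, hxU⟩
  haveI := hU.isLocalization_stalk ⟨x, hxU⟩
  have h1 : ringKrullDim ((Proj (CohB1.polyGrading n k)).presheaf.stalk x) =
      ((hU.primeIdealOf ⟨x, hxU⟩).asIdeal.height : WithBot ℕ∞) :=
    IsLocalization.AtPrime.ringKrullDim_eq_height _ _
  -- transport to the polynomial ring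
  obtain ⟨p, hp⟩ : ∃ p : Ideal Γ(Proj (CohB1.polyGrading n k), chartU k n j),
      p = (hU.primeIdealOf ⟨x, hxU⟩).asIdeal := ⟨_, rfl⟩
  haveI : p.IsPrime := hp ▸ (hU.primeIdealOf ⟨x, hxU⟩).isPrime
  rw [← hp] at h1 hq
  let e := chartEquiv k n j
  let p' : Ideal (MvPolynomial {i : Fin (n + 1) // i ≠ j} k) :=
    p.comap (e : MvPolynomial {i : Fin (n + 1) // i ≠ j} k →+* _)
  haveI : p'.IsPrime := Ideal.comap_isPrime _ _
  have h2 := Groth.Agent.Lib.Helper11.AlgInd.height_add_dim_quotient k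
    (MvPolynomial {i : Fin (n + 1) // i ≠ j} k) p'
  have h3 : ringKrullDim (MvPolynomial {i : Fin (n + 1) // i ≠ j} k) = (n : WithBot ℕ∞) := by
    rw [MvPolynomial.ringKrullDim_of_isNoetherianRing, ringKrullDim_eq_zero_of_field, zero_add,
      card_chart]
  have h4 : p'.height = p.height := RingEquiv.height_comap e p
  have h5 : ringKrullDim (MvPolynomial {i : Fin (n + 1) // i ≠ j} k ⧸ p') =
      ringKrullDim (Γ(Proj (CohB1.polyGrading n k), chartU k n j) ⧸ p) := by
    refine ringKrullDim_eq_of_ringEquiv (Ideal.quotientEquiv p' p e ?_)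
    exact (Ideal.map_comap_of_surjective _ e.surjective p).symm
  rw [h3, h4, h5, hq, ← h1] at h2
  exact h2.symm

end Groth.Agent.Lib.Helper25.PnGenPt
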