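import Groth.Agent.Lib.Helper25.GrFromBasic
import Groth.Agent.Lib.Helper25.ProjClosedAlg3
import Groth.Agent.Lib.Helper3.OfAff
import Groth.Prelude.Def_RelProj
import Mathlib.RingTheory.MvPolynomial.Localization
import Mathlib.RingTheory.MvPolynomial.Homogeneous
/-!
# The polynomial algebra `O_S[x₀, …, xₙ]` as a quasi-coherent graded algebra
-/
universe u
open CategoryTheory CategoryTheory.Limits AlgebraicGeometry Opposite TopologicalSpace
open RelSpec AlgebraicGeometry.Scheme.AffineZariskiSite

namespace Groth.Agent.Lib.Helper25.PolyQC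
open Groth.Agent.Lib.Helper25.ProjClosedAlg RelProj
open Groth.Agent.Lib.Helper3

variable (n : ℕ) (S : Scheme.{u})

/-- the restriction map of polynomial rings -/
noncomputable abbrev polRes {U V : S.Opens} (i : V ≤ U) :
    MvPolynomial (Fin (n + 1)) Γ(S, U) →+* MvPolynomial (Fin (n + 1)) Γ(S, V) :=
  MvPolynomial.map (S.presheaf.map (homOfLE i).op).hom

/-- the functor `U ↦ O(U)[x₀, …, xₙ]` on the affine opens -/
noncomputable def polF : S.AffineZariskiSiteᵒᵖ ⥤ CommRingCat.{u} where
  obj U := CommRingCat.of (MvPolynomial (Fin (n + 1)) Γ(S, U.unop.1))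
  map {U V} i := CommRingCat.ofHom (polRes n S (toOpens_mono i.unop.le))
  map_id U := by
    rw [← CommRingCat.ofHom_id]
    refine congrArg CommRingCat.ofHom ?_
    have : (S.presheaf.map (homOfLE (toOpens_mono (𝟙 U).unop.le)).op).hom = RingHom.id _ :=
      congrArg CommRingCat.Hom.hom (S.presheaf.map_id (op U.unop.1))
    unfold polRes
    rw [this]
    exact RingHom.ext (fun p => MvPolynomial.map_id p)
  map_comp {U V W} i j := by
    rw [← CommRingCat.ofHom_comp]
    refine congrArg CommRingCat.ofHom ?_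
    refine RingHom.ext fun p => ?_
    rw [RingHom.comp_apply]
    unfold polRes
    rw [MvPolynomial.map_map]
    congr 2
    rw [← CommRingCat.hom_comp, ← Functor.map_comp]
    rfl

/-- the structure map -/
noncomputable def polα : (toOpensFunctor S).op ⋙ S.presheaf ⟶ polF n S where
  app U := CommRingCat.ofHom (MvPolynomial.C (σ := Fin (n + 1)) (R := Γ(S, U.unop.1)))
  naturality {U V} i := by
    ext r
    exact (MvPolynomial.map_C _ r).symm

set_option backward.isDefEq.respectTransparency false in
theorem polα_coequifibered : (polα n S).Coequifibered := by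
  refine coequifibered_iff_forall_isLocalizationAway.mpr fun U f => ?_
  letI : Algebra Γ(S, U.1) Γ(S, S.basicOpen f) :=
    (S.presheaf.map (homOfLE (S.basicOpen_le f)).op).hom.toAlgebra
  haveI hloc : IsLocalization.Away f Γ(S, S.basicOpen f) := U.2.isLocalization_basicOpen f
  letI := MvPolynomial.algebraMvPolynomial (σ := Fin (n + 1)) (R := Γ(S, U.1)) (S := Γ(S, S.basicOpen f))
  have h1 : IsLocalization ((Submonoid.powers f).map (MvPolynomial.C (σ := Fin (n + 1))))
      (MvPolynomial (Fin (n + 1)) Γ(S, S.basicOpen f)) :=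
    MvPolynomial.isLocalization (Submonoid.powers f) Γ(S, S.basicOpen f)
  have h2 : (Submonoid.powers f).map (MvPolynomial.C (σ := Fin (n + 1))) =
      Submonoid.powers (MvPolynomial.C f) := Submonoid.map_powers _ f
  rw [h2] at h1
  exact h1

/-- the polynomial algebra as a quasi-coherent algebra -/
noncomputable abbrev polAlg : QCAlg S := OfAff.alg (polα_coequifibered n S)

/-- sections of `polAlg` over an affine open -/
noncomputable def γ (U : S.Opens) (hU : IsAffineOpen U) :
    (polAlg n S).presheaf.obj (op U) ⟶ CommRingCat.of (MvPolynomial (Fin (n + 1)) Γ(S, U)) :=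
  OfAff.gammaAff (polα_coequifibered n S) U hU

instance (U : S.Opens) (hU : IsAffineOpen U) : IsIso (γ n S U hU) :=
  OfAff.isIso_gammaAff (polα_coequifibered n S) U hU

/-- the inverse comparison, as a ring homomorphism -/
noncomputable def γi (U : S.Opens) (hU : IsAffineOpen U) :
    MvPolynomial (Fin (n + 1)) Γ(S, U) →+* (polAlg n S).presheaf.obj (op U) :=
  (inv (γ n S U hU)).hom

/-- the comparison, as a ring homomorphism -/
noncomputable def γh (U : S.Opens) (hU : IsAffineOpen U) :
    (polAlg n S).presheaf.obj (op U) →+* MvPolynomial (Fin (n + 1)) Γ(S, U) :=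
  (γ n S U hU).hom

theorem γi_γh (U : S.Opens) (hU : IsAffineOpen U) (a : (polAlg n S).presheaf.obj (op U)) :
    γi n S U hU (γh n S U hU a) = a :=
  congrArg (fun k => k.hom a) (IsIso.hom_inv_id (γ n S U hU))

theorem γh_γi (U : S.Opens) (hU : IsAffineOpen U) (b : MvPolynomial (Fin (n + 1)) Γ(S, U)) :
    γh n S U hU (γi n S U hU b) = b :=
  congrArg (fun k => k.hom b) (IsIso.inv_hom_id (γ n S U hU))

theorem γi_bijective (U : S.Opens) (hU : IsAffineOpen U) : Function.Bijective (γi n S U hU) :=
  ConcreteCategory.bijective_of_isIso (inv (γ n S U hU))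

theorem γh_str (U : S.Opens) (hU : IsAffineOpen U) (r : Γ(S, U)) :
    γh n S U hU (strB (polAlg n S) U r) = MvPolynomial.C r :=
  congrArg (fun k => k.hom r) (OfAff.π_app_gammaAff (polα_coequifibered n S) U hU)

theorem γi_C (U : S.Opens) (hU : IsAffineOpen U) (r : Γ(S, U)) :
    γi n S U hU (MvPolynomial.C r) = strB (polAlg n S) U r := by
  rw [← γh_str n S U hU r, γi_γh]

theorem γh_res {U : S.Opens} (hU : IsAffineOpen U) (f : Γ(S, U))
    (a : (polAlg n S).presheaf.obj (op U)) :
    γh n S (S.basicOpen f) (hU.basicOpen f) (resB (polAlg n S) (S.basicOpen_le f) a) =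
      polRes n S (S.basicOpen_le f) (γh n S U hU a) :=
  congrArg (fun k => k.hom a) (OfAff.gammaAff_naturality (polα_coequifibered n S)
    (U := OfAff.aff U hU) (V := OfAff.aff (S.basicOpen f) (hU.basicOpen f))
    (homOfLE ((OfAff.aff U hU).basicOpen_le f)))

theorem γi_res {U : S.Opens} (hU : IsAffineOpen U) (f : Γ(S, U))
    (b : MvPolynomial (Fin (n + 1)) Γ(S, U)) :
    resB (polAlg n S) (S.basicOpen_le f) (γi n S U hU b) =
      γi n S (S.basicOpen f) (hU.basicOpen f) (polRes n S (S.basicOpen_le f) b) := by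
  have h1 := γh_res n S hU f (γi n S U hU b)
  rw [γh_γi] at h1
  rw [← h1, γi_γh]

/-- the grading of `polAlg` over an affine open -/
noncomputable def pdeg (U : S.Opens) (hU : IsAffineOpen U) (d : ℕ) :
    AddSubgroup ((polAlg n S).presheaf.obj (op U)) :=
  imgDeg (MvPolynomial.homogeneousSubmodule (Fin (n + 1)) Γ(S, U)) (γi n S U hU) d

theorem mem_pdeg_iff (U : S.Opens) (hU : IsAffineOpen U) (d : ℕ) (x : (polAlg n S).presheaf.obj (op U)) :
    x ∈ pdeg n S U hU d ↔ (γh n S U hU x).IsHomogeneous d := by
  constructor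
  · rintro ⟨a, ha, rfl⟩
    change (γh n S U hU (γi n S U hU a)).IsHomogeneous d
    rw [γh_γi]
    exact (MvPolynomial.mem_homogeneousSubmodule _ _).mp ha
  · intro h
    exact ⟨γh n S U hU x, (MvPolynomial.mem_homogeneousSubmodule _ _).mpr h, γi_γh n S U hU x⟩

noncomputable instance pdeg_gradedRing (U : S.Opens) (hU : IsAffineOpen U) : GradedRing (pdeg n S U hU) :=
  imgGradedRing (MvPolynomial.homogeneousSubmodule (Fin (n + 1)) Γ(S, U)) (γi n S U hU)
    (γi_bijective n S U hU).2 (by
      have : RingHom.ker (γi n S U hU) = ⊥ := (RingHom.injective_iff_ker_eq_bot _).mp (γi_bijective n S U hU).1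
      rw [this]
      intro i r hr
      rw [Ideal.mem_bot] at hr
      subst hr
      simp)

theorem resB_mem_basic (U : S.Opens) (hU : IsAffineOpen U) (f : Γ(S, U)) {d : ℕ}
    {x : (polAlg n S).presheaf.obj (op U)} (hx : x ∈ pdeg n S U hU d) :
    resB (polAlg n S) (S.basicOpen_le f) x ∈ pdeg n S (S.basicOpen f) (hU.basicOpen f) d := by
  rw [mem_pdeg_iff] at hx ⊢
  rw [γh_res]
  exact hx.map _

/-- **The polynomial algebra `O_S[x₀, …, xₙ]` as a quasi-coherent graded algebra.** -/
noncomputable abbrev polGrAlg : QCGrAlg S where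
  toQCAlg := polAlg n S
  deg := pdeg n S
  graded U hU := inferInstance
  map_mem := fun {_ _} hU hV i {_ _} hx =>
    GrFromBasic.resB_mem (polAlg n S) (pdeg n S) (fun U hU f _ _ hx => resB_mem_basic n S U hU f hx)
      hU hV i hx
  str_mem U hU r := by
    rw [mem_pdeg_iff]
    have := γh_str n S U hU r
    rw [show (((polAlg n S).str.app (op U)).hom r) = strB (polAlg n S) U r from rfl, this]
    exact MvPolynomial.isHomogeneous_C _ r

end Groth.Agent.Lib.Helper25.PolyQC
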