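import Groth.Agent.Lib.Helper25.PolyRelProj2
import Groth.Agent.Lib.Helper3.RelProjExist
import Groth.Agent.Lib.Helper29.VA7
/-!
# Projective space over a scheme is the relative Proj of the polynomial algebra
-/
universe u
open CategoryTheory CategoryTheory.Limits AlgebraicGeometry Opposite TopologicalSpace
open scoped HomogeneousIdeal
open RelSpec RelProj

namespace Groth.Agent.Lib.Helper25.PolyRelProj
open Groth.Agent.Lib.Helper3 Groth.Agent.Lib.Helper25.PolyQC

theorem ζ_comp {R' R'' : Type u} [CommRing R'] [CommRing R''] (f : R' →+* R'') :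
    f.comp (ζ R') = ζ R'' := by
  ext ⟨k⟩
  simp [ζ]

variable (n : ℕ) (S : Scheme.{u})

theorem res_comp_ψ {U : S.Opens} (hU : IsAffineOpen U) (r : Γ(S, U)) :
    ((polGrAlg n S).res hU (hU.basicOpen r) (S.basicOpen_le r)).comp (ψ n S U hU) =
      ψ n S (S.basicOpen r) (hU.basicOpen r) := by
  refine GradedRingHom.ext fun a => ?_
  change resB (polAlg n S) (S.basicOpen_le r) (γi n S U hU (MvPolynomial.map (ζ Γ(S, U)) a)) =
    γi n S (S.basicOpen r) (hU.basicOpen r) (MvPolynomial.map (ζ Γ(S, S.basicOpen r)) a)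
  rw [γi_res]
  congr 1
  unfold polRes
  rw [MvPolynomial.map_map, ζ_comp]

theorem chart_toU (U : S.Opens) (hU : IsAffineOpen U) :
    (chart n S U hU).hom ≫ RelProjExist.toU (polGrAlg n S) U hU =
      CohB1.ProjSpaceOver.toBase n S ∣_ U :=
  chart_hom_snd n S U hU

theorem isPullback_proj_chart' (U : S.Opens) (hU : IsAffineOpen U) :
    IsPullback (projψ n S U hU) (RelProjExist.toU (polGrAlg n S) U hU)
      (CohB1.ProjSpace.toSpec n (ULift.{u} ℤ)) (U.ι ≫ specULiftZIsTerminal.from S) :=
  isPullback_proj_chart n S U hU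

theorem res_projψ {U : S.Opens} (hU : IsAffineOpen U) (r : Γ(S, U)) :
    Proj.map ((polGrAlg n S).res hU (hU.basicOpen r) (S.basicOpen_le r))
      ((polGrAlg n S).irrelevant_le_map U hU r) ≫ projψ n S U hU =
      projψ n S (S.basicOpen r) (hU.basicOpen r) := by
  change Proj.map ((polGrAlg n S).res hU (hU.basicOpen r) (S.basicOpen_le r))
      ((polGrAlg n S).irrelevant_le_map U hU r) ≫ Proj.map (ψ n S U hU) (ψ_irr n S U hU) =
      Proj.map (ψ n S (S.basicOpen r) (hU.basicOpen r)) (ψ_irr n S (S.basicOpen r) (hU.basicOpen r))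
  rw [← Proj.map_comp (ψ n S U hU) ((polGrAlg n S).res hU (hU.basicOpen r) (S.basicOpen_le r))
      (ψ_irr n S U hU) ((polGrAlg n S).irrelevant_le_map U hU r)]
  exact ProjAux.map_congr (res_comp_ψ n S hU r) _ _

/-- **Projective space over `S` is the relative Proj of the polynomial algebra.** -/
theorem isRelProj : IsRelProj (polGrAlg n S) (CohB1.ProjSpaceOver.toBase n S) (chart n S) where
  chart_over U hU := by
    rw [← RelProjExist.toU_ι, ← Category.assoc, chart_toU, morphismRestrict_ι]
  chart_res U hU r := by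
    refine (isPullback_proj_chart' n S U hU).hom_ext ?_ ?_
    · rw [Category.assoc, chart_hom_fst, Scheme.homOfLE_ι_assoc, Category.assoc, res_projψ,
        chart_hom_fst]
    · rw [Category.assoc, chart_toU, Category.assoc,
        RelProjExist.map_toU (polGrAlg n S) hU (hU.basicOpen r) (S.basicOpen_le r),
        ← Category.assoc, chart_toU, ← cancel_mono U.ι]
      simp only [Category.assoc, morphismRestrict_ι, Scheme.homOfLE_ι, Scheme.homOfLE_ι_assoc]

instance : QuasiCompact (CohB1.ProjSpaceOver.toBase n S) := by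
  haveI := Groth.Agent.Lib.Helper29.QCoh.isProper_toBase n S
  infer_instance

end Groth.Agent.Lib.Helper25.PolyRelProj
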