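import Mathlib.RingTheory.GradedAlgebra.HomogeneousLocalization
import Mathlib.RingTheory.GradedAlgebra.Homogeneous.Ideal
import Mathlib.RingTheory.GradedAlgebra.Radical
import Mathlib.RingTheory.Localization.Ideal
/-!
# The homogeneous ideal of a family of ideals on the standard charts of `Proj` (algebra)

For a graded ring `A` and a family of ideals `J t ⊆ A_(t)`, `t` homogeneous of positive degree, compatible on
overlaps (`J (s t) = J s · A_(st)`), we define the ideal `I = ⋂_t K_t`, where `K_t` is the `t`-saturation of the ideal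
`Ĵ_t` of `A` generated by the numerators `c` of the elements `c / t ^ n` of `J t`.  Under a finite covering hypothesis,
`c / t ^ n ∈ J t ↔ ∃ N, t ^ N c ∈ I` (`mk_mem_iff`).
-/
universe u
open HomogeneousLocalization DirectSum

namespace Groth.Agent.Lib.Helper25.ProjClosedAlg

variable {A σ : Type u} [CommRing A] [SetLike σ A] [AddSubgroupClass σ A]
  (𝒜 : ℕ → σ) [GradedRing 𝒜]

/-- A homogeneous element of positive degree. -/
structure PosHom where
  deg : ℕ
  pos : 0 < deg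
  elt : A
  mem : elt ∈ 𝒜 deg

variable {𝒜}

/-- product of homogeneous elements of positive degree -/
def PosHom.mul (s t : PosHom 𝒜) : PosHom 𝒜 :=
  ⟨s.deg + t.deg, Nat.add_pos_left s.pos _, s.elt * t.elt, SetLike.mul_mem_graded s.mem t.mem⟩

@[simp] theorem PosHom.mul_elt (s t : PosHom 𝒜) : (s.mul t).elt = s.elt * t.elt := rfl
@[simp] theorem PosHom.mul_deg (s t : PosHom 𝒜) : (s.mul t).deg = s.deg + t.deg := rfl

section mk
variable {d : ℕ} {f : A} (hf : f ∈ 𝒜 d)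

theorem mk_add' (n : ℕ) (x y : A) (hx : x ∈ 𝒜 (n • d)) (hy : y ∈ 𝒜 (n • d)) :
    Away.mk 𝒜 hf n (x + y) (add_mem hx hy) = Away.mk 𝒜 hf n x hx + Away.mk 𝒜 hf n y hy := by
  apply val_injective
  rw [val_add, Away.val_mk, Away.val_mk, Away.val_mk, Localization.add_mk_self]

theorem mk_zero' (n : ℕ) : Away.mk 𝒜 hf n 0 (zero_mem _) = 0 := by
  apply val_injective
  rw [Away.val_mk, val_zero, Localization.mk_zero]

theorem mk_congr' (n : ℕ) {x y : A} (h : x = y) (hx : x ∈ 𝒜 (n • d)) :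
    Away.mk 𝒜 hf n x hx = Away.mk 𝒜 hf n y (h ▸ hx) := by
  subst h; rfl

theorem mk_mul' (n m : ℕ) (x y : A) (hx : x ∈ 𝒜 (n • d)) (hy : y ∈ 𝒜 (m • d))
    (hxy : x * y ∈ 𝒜 ((n + m) • d)) :
    Away.mk 𝒜 hf (n + m) (x * y) hxy = Away.mk 𝒜 hf n x hx * Away.mk 𝒜 hf m y hy := by
  apply val_injective
  rw [val_mul, Away.val_mk, Away.val_mk, Away.val_mk, Localization.mk_mul]
  congr 1
  exact Subtype.ext (pow_add f n m)

/-- `(f ^ N * a) / f ^ (N + k) = a / f ^ k` -/
theorem mk_pow_mul (N k : ℕ) (a : A) (ha : a ∈ 𝒜 (k • d)) (h : f ^ N * a ∈ 𝒜 ((N + k) • d)) :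
    Away.mk 𝒜 hf (N + k) (f ^ N * a) h = Away.mk 𝒜 hf k a ha := by
  apply val_injective
  rw [Away.val_mk, Away.val_mk, Localization.mk_eq_mk_iff, Localization.r_iff_exists]
  refine ⟨1, ?_⟩
  simp only [OneMemClass.coe_one, one_mul]
  rw [pow_add]; ring

include hf in
theorem pow_mul_mem (N k : ℕ) (a : A) (ha : a ∈ 𝒜 (k • d)) : f ^ N * a ∈ 𝒜 ((N + k) • d) := by
  rw [add_smul]
  exact SetLike.mul_mem_graded (SetLike.pow_mem_graded N hf) ha

end mk

variable (J : ∀ t : PosHom 𝒜, Ideal (Away 𝒜 t.elt))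

/-- the numerators of the elements of `J t` -/
def numer (t : PosHom 𝒜) : Set A :=
  {c | ∃ (n : ℕ) (hc : c ∈ 𝒜 (n • t.deg)), Away.mk 𝒜 t.mem n c hc ∈ J t}

/-- the ideal of `A` generated by the numerators of the elements of `J t` -/
def Jhat (t : PosHom 𝒜) : Ideal A := Ideal.span (numer J t)

theorem Jhat_isHomogeneous (t : PosHom 𝒜) : (Jhat J t).IsHomogeneous 𝒜 :=
  Ideal.homogeneous_span 𝒜 _ fun _ ⟨n, hc, _⟩ => ⟨n • t.deg, hc⟩

/-- the multiplier predicate: all the degree-zero fractions `c_m b / t ^ n` lie in `J t` -/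
def Mult (t : PosHom 𝒜) (c : A) : Prop :=
  ∀ (m m' n : ℕ) (h : m + m' = n • t.deg) (b : A) (hb : b ∈ 𝒜 m'),
    Away.mk 𝒜 t.mem n ((decompose 𝒜 c m : A) * b)
      (h ▸ SetLike.mul_mem_graded (SetLike.coe_mem _) hb) ∈ J t

theorem mult_zero (t : PosHom 𝒜) : Mult J t 0 := by
  intro m m' n h b hb
  have : ((decompose 𝒜 (0 : A) m : A) * b) = 0 := by rw [decompose_zero]; simp
  rw [mk_congr' t.mem n this, mk_zero']
  exact zero_mem _

theorem mult_add (t : PosHom 𝒜) {c c' : A} (hc : Mult J t c) (hc' : Mult J t c') :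
    Mult J t (c + c') := by
  intro m m' n h b hb
  have e : ((decompose 𝒜 (c + c') m : A) * b) =
      (decompose 𝒜 c m : A) * b + (decompose 𝒜 c' m : A) * b := by
    rw [decompose_add, DirectSum.add_apply, AddMemClass.coe_add, add_mul]
  rw [mk_congr' t.mem n e, mk_add' t.mem n _ _
    (h ▸ SetLike.mul_mem_graded (SetLike.coe_mem _) hb)
    (h ▸ SetLike.mul_mem_graded (SetLike.coe_mem _) hb)]
  exact add_mem (hc m m' n h b hb) (hc' m m' n h b hb)

theorem mult_mul_of_mem (t : PosHom 𝒜) {c : A} (hc : Mult J t c) {k : ℕ} {a : A} (ha : a ∈ 𝒜 k) :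
    Mult J t (a * c) := by
  intro m m' n h b hb
  by_cases hkm : k ≤ m
  · have e : ((decompose 𝒜 (a * c) m : A) * b) = (decompose 𝒜 c (m - k) : A) * (a * b) := by
      rw [coe_decompose_mul_of_left_mem_of_le 𝒜 ha hkm]; ring
    rw [mk_congr' t.mem n e]
    exact hc (m - k) (k + m') n (by omega) (a * b) (SetLike.mul_mem_graded ha hb)
  · have e : ((decompose 𝒜 (a * c) m : A) * b) = 0 := by
      rw [coe_decompose_mul_of_left_mem_of_not_le 𝒜 ha hkm, zero_mul]
    rw [mk_congr' t.mem n e, mk_zero']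
    exact zero_mem _

theorem mult_mul (t : PosHom 𝒜) {c : A} (hc : Mult J t c) (a : A) : Mult J t (a * c) := by
  classical
  induction a using DirectSum.Decomposition.inductionOn 𝒜 with
  | zero => rw [zero_mul]; exact mult_zero J t
  | homogeneous a => exact mult_mul_of_mem J t hc a.2
  | add a a' ha ha' => rw [add_mul]; exact mult_add J t ha ha'

theorem mult_of_mem_numer (t : PosHom 𝒜) {c : A} (hc : c ∈ numer J t) : Mult J t c := by
  classical
  obtain ⟨n₀, hc₀, hmem⟩ := hc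
  intro m m' n h b hb
  by_cases hm : m = n₀ • t.deg
  · subst hm
    have hn : n₀ ≤ n := by
      by_contra hlt
      push Not at hlt
      have : n • t.deg < n₀ • t.deg := by
        simp only [smul_eq_mul]
        exact Nat.mul_lt_mul_of_pos_right hlt t.pos
      omega
    obtain ⟨j, rfl⟩ := Nat.exists_eq_add_of_le hn
    have hm' : m' = j • t.deg := by
      simp only [smul_eq_mul] at h ⊢
      rw [add_mul] at h; omega
    subst hm'
    have e : ((decompose 𝒜 c (n₀ • t.deg) : A) * b) = c * b := by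
      rw [decompose_of_mem_same 𝒜 hc₀]
    rw [mk_congr' t.mem _ e, mk_mul' t.mem n₀ j c b hc₀ hb]
    exact Ideal.mul_mem_right _ _ hmem
  · have e : ((decompose 𝒜 c m : A) * b) = 0 := by
      rw [decompose_of_mem_ne 𝒜 hc₀ (Ne.symm hm), zero_mul]
    rw [mk_congr' t.mem n e, mk_zero']
    exact zero_mem _

theorem mult_of_mem_Jhat (t : PosHom 𝒜) {c : A} (hc : c ∈ Jhat J t) : Mult J t c := by
  unfold Jhat at hc
  induction hc using Submodule.span_induction with
  | mem x hx => exact mult_of_mem_numer J t hx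
  | zero => exact mult_zero J t
  | add x y _ _ hx hy => exact mult_add J t hx hy
  | smul a x _ hx => exact mult_mul J t hx a

/-- a homogeneous element of `Ĵ_t` of degree `n · deg t` is the numerator of an element of `J t` -/
theorem mk_mem_of_mem_Jhat (t : PosHom 𝒜) {c : A} (hc : c ∈ Jhat J t) (n : ℕ)
    (hcn : c ∈ 𝒜 (n • t.deg)) : Away.mk 𝒜 t.mem n c hcn ∈ J t := by
  have := mult_of_mem_Jhat J t hc (n • t.deg) 0 n (add_zero _) 1 SetLike.GradedOne.one_mem
  have e : ((decompose 𝒜 c (n • t.deg) : A) * 1) = c := by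
    rw [mul_one, decompose_of_mem_same 𝒜 hcn]
  rwa [mk_congr' t.mem n e] at this

theorem numer_subset_Jhat (t : PosHom 𝒜) : numer J t ⊆ Jhat J t := Ideal.subset_span

/-- the `t`-saturation of `Ĵ_t` -/
def K (t : PosHom 𝒜) : Ideal A where
  carrier := {a | ∃ N : ℕ, t.elt ^ N * a ∈ Jhat J t}
  add_mem' := by
    rintro a b ⟨N, hN⟩ ⟨M, hM⟩
    refine ⟨N + M, ?_⟩
    have : t.elt ^ (N + M) * (a + b) = t.elt ^ M * (t.elt ^ N * a) + t.elt ^ N * (t.elt ^ M * b) := by
      rw [pow_add]; ring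
    rw [this]
    exact add_mem (Ideal.mul_mem_left _ _ hN) (Ideal.mul_mem_left _ _ hM)
  zero_mem' := ⟨0, by simp⟩
  smul_mem' := by
    rintro c a ⟨N, hN⟩
    refine ⟨N, ?_⟩
    have : t.elt ^ N * (c • a) = c * (t.elt ^ N * a) := by rw [smul_eq_mul]; ring
    rw [this]
    exact Ideal.mul_mem_left _ _ hN

theorem mem_K {t : PosHom 𝒜} {a : A} : a ∈ K J t ↔ ∃ N : ℕ, t.elt ^ N * a ∈ Jhat J t := Iff.rfl

theorem Jhat_le_K (t : PosHom 𝒜) : Jhat J t ≤ K J t := fun a ha => ⟨0, by simpa using ha⟩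

theorem mem_K_of_pow_mul_mem {t : PosHom 𝒜} {a : A} {M : ℕ} (h : t.elt ^ M * a ∈ K J t) :
    a ∈ K J t := by
  obtain ⟨N, hN⟩ := h
  exact ⟨N + M, by rw [pow_add, mul_assoc]; exact hN⟩

theorem K_isHomogeneous (t : PosHom 𝒜) : (K J t).IsHomogeneous 𝒜 := by
  intro m a ⟨N, hN⟩
  refine ⟨N, ?_⟩
  have h1 := Jhat_isHomogeneous J t (N • t.deg + m) hN
  rwa [coe_decompose_mul_add_of_left_mem 𝒜 (SetLike.pow_mem_graded N t.mem)] at h1

/-- the homogeneous ideal attached to the family `J` -/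
def I : Ideal A := ⨅ t : PosHom 𝒜, K J t

theorem I_isHomogeneous : (I J).IsHomogeneous 𝒜 :=
  Ideal.IsHomogeneous.iInf fun t => K_isHomogeneous J t

theorem mem_I {a : A} : a ∈ I J ↔ ∀ t : PosHom 𝒜, a ∈ K J t := by
  unfold I; rw [Ideal.mem_iInf]

section compat

variable (hJ : ∀ (s t x : PosHom 𝒜) (hx : x.elt = s.elt * t.elt),
    J x = Ideal.map (awayMap 𝒜 t.mem hx) (J s))

include hJ in
/-- a numerator for `s` becomes, after multiplication by a power of `s`, an element of `K_t` -/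
theorem exists_pow_mul_mem_K_of_mem_numer (s t : PosHom 𝒜) {c : A} (hc : c ∈ numer J s) :
    ∃ α : ℕ, s.elt ^ α * c ∈ K J t := by
  obtain ⟨n, hcn, hmem⟩ := hc
  obtain ⟨x, hx⟩ : ∃ x : PosHom 𝒜, x.elt = s.elt * t.elt := ⟨s.mul t, rfl⟩
  have hx' : x.elt = t.elt * s.elt := hx.trans (mul_comm _ _)
  have h1 : J x = Ideal.map (awayMap 𝒜 t.mem hx) (J s) := hJ s t x hx
  have h2 : J x = Ideal.map (awayMap 𝒜 s.mem hx') (J t) := hJ t s x hx'
  have hz : awayMap 𝒜 t.mem hx (Away.mk 𝒜 s.mem n c hcn) ∈ J x := by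
    rw [h1]; exact Ideal.mem_map_of_mem _ hmem
  rw [awayMap_mk, h2] at hz
  letI := (awayMap 𝒜 s.mem hx').toAlgebra
  have hloc : IsLocalization.Away (Away.isLocalizationElem t.mem s.mem) (Away 𝒜 x.elt) :=
    Away.isLocalization_mul t.mem s.mem hx' t.pos.ne'
  obtain ⟨⟨⟨y, hy⟩, ⟨_, M, rfl⟩⟩, hyz⟩ :=
    (IsLocalization.mem_map_algebraMap_iff (Submonoid.powers (Away.isLocalizationElem t.mem s.mem))
      (Away 𝒜 x.elt)).mp hz
  obtain ⟨n', c', hc', rfl⟩ := Away.mk_surjective 𝒜 t.mem y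
  have hc'num : c' ∈ Jhat J t := numer_subset_Jhat J t ⟨n', hc', hy⟩
  simp only [RingHom.algebraMap_toAlgebra, map_pow] at hyz
  rw [Away.isLocalizationElem, awayMap_mk, awayMap_mk] at hyz
  have hv := congrArg HomogeneousLocalization.val hyz
  rw [val_mul, val_pow, Away.val_mk, Away.val_mk, Away.val_mk, Localization.mk_pow,
    Localization.mk_mul, Localization.mk_eq_mk_iff, Localization.r_iff_exists] at hv
  obtain ⟨⟨_, L, rfl⟩, hL⟩ := hv
  simp only [Submonoid.coe_mul, SubmonoidClass.coe_pow] at hL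
  rw [hx] at hL
  refine ⟨L + n' + (t.deg + s.deg) * M, L + n' + n, ?_⟩
  have e : t.elt ^ (L + n' + n) * (s.elt ^ (L + n' + (t.deg + s.deg) * M) * c) =
      (s.elt * t.elt) ^ L * ((s.elt * t.elt) ^ n' *
        (c * t.elt ^ n * (s.elt ^ t.deg * s.elt ^ s.deg) ^ M)) := by
    ring
  rw [e, hL]
  refine Ideal.mul_mem_left _ _ (Ideal.mul_mem_left _ _ (Ideal.mul_mem_right _ _ hc'num))

include hJ in
theorem exists_pow_mul_mem_K (s t : PosHom 𝒜) {a : A} (ha : a ∈ K J s) :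
    ∃ N : ℕ, s.elt ^ N * a ∈ K J t := by
  obtain ⟨N₀, hN₀⟩ := ha
  have key : ∀ y ∈ Jhat J s, ∃ α : ℕ, s.elt ^ α * y ∈ K J t := by
    intro y hy
    unfold Jhat at hy
    induction hy using Submodule.span_induction with
    | mem x hx => exact exists_pow_mul_mem_K_of_mem_numer J hJ s t hx
    | zero => exact ⟨0, by simp⟩
    | add x y _ _ hx hy =>
      obtain ⟨α, hα⟩ := hx
      obtain ⟨β, hβ⟩ := hy
      refine ⟨α + β, ?_⟩
      have : s.elt ^ (α + β) * (x + y) = s.elt ^ β * (s.elt ^ α * x) + s.elt ^ α * (s.elt ^ β * y) := by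
        rw [pow_add]; ring
      rw [this]
      exact add_mem (Ideal.mul_mem_left _ _ hα) (Ideal.mul_mem_left _ _ hβ)
    | smul b x _ hx =>
      obtain ⟨α, hα⟩ := hx
      refine ⟨α, ?_⟩
      have : s.elt ^ α * (b • x) = b * (s.elt ^ α * x) := by rw [smul_eq_mul]; ring
      rw [this]
      exact Ideal.mul_mem_left _ _ hα
  obtain ⟨α, hα⟩ := key _ hN₀
  exact ⟨α + N₀, by rw [pow_add, mul_assoc]; exact hα⟩

include hJ in
/-- locality: membership in `K_t` can be tested on a family covering `D₊(t)` -/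
theorem mem_K_of_forall_mem_K (T : Set (PosHom 𝒜)) (t : PosHom 𝒜) (M : ℕ)
    (hM : t.elt ^ M ∈ Ideal.span ((fun j : PosHom 𝒜 => j.elt) '' T)) {a : A}
    (ha : ∀ j ∈ T, a ∈ K J j) : a ∈ K J t := by
  have h1 : ∀ j ∈ T, j.elt ∈ ((K J t).colon ({a} : Set A)).radical := by
    intro j hj
    obtain ⟨N, hN⟩ := exists_pow_mul_mem_K J hJ j t (ha j hj)
    exact ⟨N, Submodule.mem_colon_singleton.mpr hN⟩
  have h2 : Ideal.span ((fun j : PosHom 𝒜 => j.elt) '' T) ≤
      ((K J t).colon ({a} : Set A)).radical :=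
    Ideal.span_le.mpr (by rintro _ ⟨j, hj, rfl⟩; exact h1 j hj)
  obtain ⟨N, hN⟩ := h2 hM
  rw [← pow_mul, Submodule.mem_colon_singleton, smul_eq_mul] at hN
  exact mem_K_of_pow_mul_mem J hN

/-- the covering hypothesis: finitely many `D₊(t_j)` cover `Proj A` -/
def Covers (T : Finset (PosHom 𝒜)) : Prop :=
  ∀ t : PosHom 𝒜, ∃ M : ℕ, t.elt ^ M ∈ Ideal.span ((fun j : PosHom 𝒜 => j.elt) '' (T : Set (PosHom 𝒜)))

include hJ in
theorem mem_I_of_forall_mem_K {T : Finset (PosHom 𝒜)} (hT : Covers T) {a : A}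
    (ha : ∀ j ∈ T, a ∈ K J j) : a ∈ I J := by
  rw [mem_I]
  intro t
  obtain ⟨M, hM⟩ := hT t
  exact mem_K_of_forall_mem_K J hJ (T : Set (PosHom 𝒜)) t M hM ha

include hJ in
/-- **Key property**: `a / s ^ k ∈ J s` iff some `s ^ N a` lies in `I`. -/
theorem mk_mem_iff {T : Finset (PosHom 𝒜)} (hT : Covers T) (s : PosHom 𝒜) (k : ℕ) (a : A)
    (ha : a ∈ 𝒜 (k • s.deg)) :
    Away.mk 𝒜 s.mem k a ha ∈ J s ↔ ∃ N : ℕ, s.elt ^ N * a ∈ I J := by
  constructor
  · intro h
    have hnum : a ∈ numer J s := ⟨k, ha, h⟩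
    have : ∀ j : PosHom 𝒜, ∃ α : ℕ, s.elt ^ α * a ∈ K J j := fun j =>
      exists_pow_mul_mem_K_of_mem_numer J hJ s j hnum
    choose α hα using this
    refine ⟨T.sup α, mem_I_of_forall_mem_K J hJ hT fun j hj => ?_⟩
    have hle : α j ≤ T.sup α := Finset.le_sup hj
    obtain ⟨β, hβ⟩ := Nat.exists_eq_add_of_le hle
    rw [hβ, pow_add, mul_comm (s.elt ^ α j), mul_assoc]
    exact Ideal.mul_mem_left _ _ (hα j)
  · rintro ⟨N, hN⟩
    obtain ⟨N', hN'⟩ := (mem_I J).mp hN s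
    have e : s.elt ^ N' * (s.elt ^ N * a) = s.elt ^ (N' + N) * a := by rw [pow_add]; ring
    rw [e] at hN'
    have := mk_mem_of_mem_Jhat J s hN' (N' + N + k) (pow_mul_mem s.mem (N' + N) k a ha)
    rwa [mk_pow_mul s.mem (N' + N) k a ha] at this

end compat

end Groth.Agent.Lib.Helper25.ProjClosedAlg
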