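import Groth.Agent.Lib.Helper25.ProjClosedAlg1
import Groth.Agent.Lib.Helper3.ProjLoc
/-!
# Compatibility of the homogeneous ideal `I J` with localization at an element of degree zero
-/
universe u
open HomogeneousLocalization DirectSum
open Groth.Agent.Lib.Helper3

namespace Groth.Agent.Lib.Helper25.ProjClosedAlg

variable {A σ : Type u} [CommRing A] [SetLike σ A] [AddSubgroupClass σ A]
  {𝒜 : ℕ → σ} [GradedRing 𝒜]
  {A' σ' : Type u} [CommRing A'] [SetLike σ' A'] [AddSubgroupClass σ' A']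
  {𝒜' : ℕ → σ'} [GradedRing 𝒜']
  (ρ : 𝒜 →+*ᵍ 𝒜')

/-- image of a homogeneous element of positive degree under a graded homomorphism -/
def PosHom.map (t : PosHom 𝒜) : PosHom 𝒜' := ⟨t.deg, t.pos, ρ t.elt, ρ.map_mem t.mem⟩

@[simp] theorem PosHom.map_elt (t : PosHom 𝒜) : (t.map ρ).elt = ρ t.elt := rfl
@[simp] theorem PosHom.map_deg (t : PosHom 𝒜) : (t.map ρ).deg = t.deg := rfl

variable (J : ∀ t : PosHom 𝒜, Ideal (Away 𝒜 t.elt)) (J' : ∀ t : PosHom 𝒜', Ideal (Away 𝒜' t.elt))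
  (hJJ' : ∀ t : PosHom 𝒜, J' (t.map ρ) = Ideal.map (Away.map ρ t.elt) (J t))

include hJJ' in
theorem map_mem_numer (t : PosHom 𝒜) {c₀ : A} (h : c₀ ∈ numer J t) : ρ c₀ ∈ numer J' (t.map ρ) := by
  obtain ⟨n, hc, hmem⟩ := h
  refine ⟨n, ρ.map_mem hc, ?_⟩
  have := Ideal.mem_map_of_mem (Away.map ρ t.elt) hmem
  rw [Away.map_mk, ← hJJ'] at this
  exact this

include hJJ' in
theorem map_Jhat_le (t : PosHom 𝒜) : Ideal.map ρ (Jhat J t) ≤ Jhat J' (t.map ρ) := by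
  unfold Jhat
  rw [Ideal.map_span, Ideal.span_le]
  rintro _ ⟨c₀, hc₀, rfl⟩
  exact Ideal.subset_span (map_mem_numer ρ J J' hJJ' t hc₀)

include hJJ' in
theorem map_mem_K (t : PosHom 𝒜) {a : A} (h : a ∈ K J t) : ρ a ∈ K J' (t.map ρ) := by
  obtain ⟨N, hN⟩ := h
  refine ⟨N, ?_⟩
  have := map_Jhat_le ρ J J' hJJ' t (Ideal.mem_map_of_mem ρ hN)
  rwa [map_mul, map_pow] at this

variable {c : A} (hc : c ∈ 𝒜 0) (hloc : ProjLoc.IsLocAt ρ c)

include hc hloc in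
open Classical in
theorem covers_image {T : Finset (PosHom 𝒜)} (hT : Covers T) :
    Covers (T.image (PosHom.map ρ)) := by
  intro t'
  obtain ⟨a₀, k, hk⟩ := hloc.surj t'.elt
  have hmem : t'.elt * ρ c ^ k ∈ 𝒜' t'.deg := by
    have := SetLike.mul_mem_graded t'.mem (SetLike.pow_mem_graded k (ρ.map_mem hc))
    simpa using this
  have hρ : ρ (decompose 𝒜 a₀ t'.deg : A) = t'.elt * ρ c ^ k := by
    rw [GradedRingHom.map_directSumDecompose, ← hk, decompose_of_mem_same 𝒜' hmem]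
  obtain ⟨M, hM⟩ := hT ⟨t'.deg, t'.pos, (decompose 𝒜 a₀ t'.deg : A), SetLike.coe_mem _⟩
  refine ⟨M, ?_⟩
  have h1 := Ideal.mem_map_of_mem ρ hM
  rw [Ideal.map_span, map_pow, hρ, mul_pow] at h1
  have h2 : Ideal.span (ρ '' ((fun j : PosHom 𝒜 => j.elt) '' (T : Set (PosHom 𝒜)))) ≤
      Ideal.span ((fun j : PosHom 𝒜' => j.elt) '' ((T.image (PosHom.map ρ) : Finset _) : Set _)) := by
    apply Ideal.span_mono
    rintro _ ⟨_, ⟨j, hj, rfl⟩, rfl⟩
    exact ⟨j.map ρ, Finset.mem_coe.mpr (Finset.mem_image_of_mem _ hj), rfl⟩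
  have h3 := h2 h1
  obtain ⟨u, hu⟩ := (hloc.unit.pow k).pow M
  have h4 := Ideal.mul_mem_right (↑u⁻¹ : A') _ h3
  rwa [mul_assoc, ← hu, Units.mul_inv, mul_one] at h4

variable (hJ : ∀ (s t x : PosHom 𝒜) (hx : x.elt = s.elt * t.elt),
    J x = Ideal.map (awayMap 𝒜 t.mem hx) (J s))
  (hJ' : ∀ (s t x : PosHom 𝒜') (hx : x.elt = s.elt * t.elt),
    J' x = Ideal.map (awayMap 𝒜' t.mem hx) (J' s))

include hJJ' hJ' hc hloc in
theorem map_I_le {T : Finset (PosHom 𝒜)} (hT : Covers T) : Ideal.map ρ (I J) ≤ I J' := by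
  classical
  rw [Ideal.map_le_iff_le_comap]
  intro a ha
  rw [Ideal.mem_comap]
  refine mem_I_of_forall_mem_K J' hJ' (covers_image ρ hc hloc hT) fun j' hj' => ?_
  obtain ⟨j, -, rfl⟩ := Finset.mem_image.mp hj'
  exact map_mem_K ρ J J' hJJ' j ((mem_I J).mp ha j)

include hJJ' hc hloc in
/-- pulling back an element of `Ĵ'` along the localization -/
theorem exists_of_mem_Jhat' (t : PosHom 𝒜) {y : A'} (hy : y ∈ Jhat J' (t.map ρ)) :
    ∃ (L β : ℕ) (z : A), z ∈ Jhat J t ∧ y * ρ c ^ L * ρ t.elt ^ β = ρ z := by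
  unfold Jhat at hy
  induction hy using Submodule.span_induction with
  | mem y hy =>
    obtain ⟨n, hyn, hmem0⟩ := hy
    have hyn' : y ∈ 𝒜' (n • t.deg) := hyn
    have hmem : Away.mk 𝒜' (f := ρ t.elt) (ρ.map_mem t.mem) n y hyn' ∈
        Ideal.map (Away.map ρ t.elt) (J t) := by
      rw [← hJJ']; exact hmem0
    letI := (Away.map ρ t.elt).toAlgebra
    have hl : IsLocalization.Away (ProjLoc.cAway 𝒜 hc t.elt) (Away 𝒜' (ρ t.elt)) :=
      hloc.isLocalization_away hc t.elt t.mem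
    obtain ⟨⟨⟨y₀, hy₀⟩, ⟨_, L, rfl⟩⟩, hyz⟩ :=
      (IsLocalization.mem_map_algebraMap_iff (Submonoid.powers (ProjLoc.cAway 𝒜 hc t.elt))
        (Away 𝒜' (ρ t.elt))).mp hmem
    obtain ⟨n₀, c₀, hc₀, rfl⟩ := Away.mk_surjective 𝒜 t.mem y₀
    have hc₀J : c₀ ∈ Jhat J t := numer_subset_Jhat J t ⟨n₀, hc₀, hy₀⟩
    simp only [RingHom.algebraMap_toAlgebra, map_pow] at hyz
    rw [ProjLoc.map_cAway, Away.map_mk] at hyz
    have hv := congrArg HomogeneousLocalization.val hyz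
    rw [val_mul, val_pow, ProjLoc.val_cAway, Away.val_mk, Away.val_mk, Localization.mk_pow,
      Localization.mk_mul, Localization.mk_eq_mk_iff, Localization.r_iff_exists] at hv
    obtain ⟨⟨_, β, rfl⟩, hβ⟩ := hv
    simp only [Submonoid.coe_mul, SubmonoidClass.coe_pow, PosHom.map_elt, one_pow,
      OneMemClass.coe_one, mul_one] at hβ
    refine ⟨L, β + n₀, t.elt ^ (β + n) * c₀, Ideal.mul_mem_left _ _ hc₀J, ?_⟩
    rw [map_mul, map_pow]
    have e1 : y * ρ c ^ L * ρ t.elt ^ (β + n₀) = ρ t.elt ^ β * (ρ t.elt ^ n₀ * (y * ρ c ^ L)) := by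
      rw [pow_add]; ring
    have e2 : ρ t.elt ^ (β + n) * ρ c₀ = ρ t.elt ^ β * (ρ t.elt ^ n * ρ c₀) := by
      rw [pow_add]; ring
    rw [e1, e2]
    exact hβ
  | zero => exact ⟨0, 0, 0, zero_mem _, by simp⟩
  | add y₁ y₂ _ _ h₁ h₂ =>
    obtain ⟨L₁, β₁, z₁, hz₁, e₁⟩ := h₁
    obtain ⟨L₂, β₂, z₂, hz₂, e₂⟩ := h₂
    refine ⟨L₁ + L₂, β₁ + β₂, c ^ L₂ * t.elt ^ β₂ * z₁ + c ^ L₁ * t.elt ^ β₁ * z₂,
      add_mem (Ideal.mul_mem_left _ _ hz₁) (Ideal.mul_mem_left _ _ hz₂), ?_⟩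
    rw [map_add, map_mul, map_mul, map_mul, map_mul, map_pow, map_pow, map_pow, map_pow, ← e₁, ← e₂,
      pow_add, pow_add]
    ring
  | smul b y _ h =>
    obtain ⟨L, β, z, hz, e⟩ := h
    obtain ⟨b₀, k', hk'⟩ := hloc.surj b
    refine ⟨L + k', β, b₀ * z, Ideal.mul_mem_left _ _ hz, ?_⟩
    rw [map_mul, ← e, ← hk', smul_eq_mul, pow_add]
    ring

include hJJ' hc hloc in
theorem exists_pow_mul_mem_K_of_map_mem (t : PosHom 𝒜) {a : A} (h : ρ a ∈ K J' (t.map ρ)) :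
    ∃ N : ℕ, c ^ N * a ∈ K J t := by
  obtain ⟨N₁, hN₁⟩ := h
  obtain ⟨L, β, z, hz, e⟩ := exists_of_mem_Jhat' ρ J J' hJJ' hc hloc t hN₁
  have h0 : ρ (t.elt ^ N₁ * a * c ^ L * t.elt ^ β - z) = 0 := by
    rw [map_sub, map_mul, map_mul, map_mul, map_pow, map_pow, map_pow, sub_eq_zero]
    exact e
  obtain ⟨k', hk'⟩ := hloc.ker _ h0
  refine ⟨k' + L, N₁ + β, ?_⟩
  have e2 : t.elt ^ (N₁ + β) * (c ^ (k' + L) * a) = c ^ k' * z := by
    have : c ^ k' * (t.elt ^ N₁ * a * c ^ L * t.elt ^ β) = c ^ k' * z := by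
      rw [mul_sub] at hk'; exact sub_eq_zero.mp hk'
    rw [← this, pow_add, pow_add]; ring
  rw [e2]
  exact Ideal.mul_mem_left _ _ hz

include hJJ' hJ hc hloc in
theorem I_le_map {T : Finset (PosHom 𝒜)} (hT : Covers T) : I J' ≤ Ideal.map ρ (I J) := by
  intro a' ha'
  obtain ⟨a, k, hk⟩ := hloc.surj a'
  have hρa : ρ a ∈ I J' := by rw [← hk]; exact Ideal.mul_mem_right _ _ ha'
  have : ∀ j : PosHom 𝒜, ∃ N : ℕ, c ^ N * a ∈ K J j := fun j =>
    exists_pow_mul_mem_K_of_map_mem ρ J J' hJJ' hc hloc j ((mem_I J').mp hρa (j.map ρ))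
  choose N hN using this
  have hmem : c ^ (T.sup N) * a ∈ I J := by
    refine mem_I_of_forall_mem_K J hJ hT fun j hj => ?_
    have hle : N j ≤ T.sup N := Finset.le_sup hj
    obtain ⟨β, hβ⟩ := Nat.exists_eq_add_of_le hle
    rw [hβ, pow_add, mul_comm (c ^ N j), mul_assoc]
    exact Ideal.mul_mem_left _ _ (hN j)
  have h1 := Ideal.mem_map_of_mem ρ hmem
  rw [map_mul, map_pow, ← hk] at h1
  obtain ⟨u, hu⟩ := hloc.unit.pow (T.sup N + k)
  have h2 := Ideal.mul_mem_left _ (↑u⁻¹ : A') h1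
  have e : (↑u⁻¹ : A') * (ρ c ^ T.sup N * (a' * ρ c ^ k)) = a' := by
    have : ρ c ^ T.sup N * (a' * ρ c ^ k) = (u : A') * a' := by rw [hu, pow_add]; ring
    rw [this, ← mul_assoc, Units.inv_mul, one_mul]
  rwa [e] at h2

include hJJ' hJ hJ' hc hloc in
/-- **Localization**: the homogeneous ideal of the localized family is the extension of `I J`. -/
theorem I_eq_map {T : Finset (PosHom 𝒜)} (hT : Covers T) : I J' = Ideal.map ρ (I J) :=
  le_antisymm (I_le_map ρ J J' hJJ' hc hloc hJ hT) (map_I_le ρ J J' hJJ' hc hloc hJ' hT)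

end Groth.Agent.Lib.Helper25.ProjClosedAlg
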