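import Groth.Agent.Lib.Helper25.BlowUpExist

/-!
# More on `Proj` of the Rees algebra: when one chart is everything
-/

set_option autoImplicit false
universe u
open CategoryTheory CategoryTheory.Limits AlgebraicGeometry TopologicalSpace
open HomogeneousLocalization

namespace Groth.Agent.Lib.Helper25.ProjRees

open Groth.Agent.Lib.Helper25.ReesAway Groth.Agent.Lib.Helper25.BlowUpUP

variable {A : Type u} [CommRing A] (I : Ideal A)

theorem tilde_mul_tilde (b c : A) (hb : b ∈ I) (hc : c ∈ I) :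
    ((tilde I b hb * tilde I c hc : reesAlgebra I) : Polynomial A) =
      Polynomial.monomial 2 (b * c) := by
  change Polynomial.monomial 1 b * Polynomial.monomial 1 c = _
  rw [Polynomial.monomial_mul_monomial]

/-- If `b² ∈ a I` for all `b ∈ I`, the chart of `a` is all of `Proj R(I)`. -/
theorem basicOpen_tilde_eq_top (a : A) (ha : a ∈ I)
    (h : ∀ b ∈ I, ∃ c ∈ I, b * b = a * c) :
    Proj.basicOpen (Rees.deg (reesAlgebra I)) (tilde I a ha) = ⊤ := by
  rw [eq_top_iff]
  intro x _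
  obtain ⟨b, hb, hx⟩ := exists_mem_basicOpen I x
  obtain ⟨c, hc, hbc⟩ := h b hb
  have h1 : tilde I b hb ^ 2 = tilde I a ha * tilde I c hc := by
    apply Subtype.ext
    rw [pow_two, tilde_mul_tilde, tilde_mul_tilde, hbc]
  have h2 : Proj.basicOpen (Rees.deg (reesAlgebra I)) (tilde I b hb) ≤
      Proj.basicOpen (Rees.deg (reesAlgebra I)) (tilde I a ha) := by
    rw [← Proj.basicOpen_pow (Rees.deg (reesAlgebra I)) (tilde I b hb) 2 (by norm_num), h1,
      Proj.basicOpen_mul]
    exact inf_le_left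
  exact h2 hx

theorem isIso_chart_of_sq (a : A) (ha : a ∈ I) (h : ∀ b ∈ I, ∃ c ∈ I, b * b = a * c) :
    IsIso (chart I a ha) := by
  refine isIso_of_isOpenImmersion_of_opensRange_eq_top _ ?_
  rw [← basicOpen_tilde_eq_top I a ha h]
  exact Proj.opensRange_awayι (Rees.deg (reesAlgebra I)) (tilde I a ha) (tilde_mem I a ha) one_pos

/-- An injective ring map `φ : A → B` such that `I B = φ(a) B` is contained in `φ(I)` with
`φ a` a nonzerodivisor, is the blowing up of `Spec A` in `I`. -/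
theorem isBlowUp_spec_of_free {B : Type u} [CommRing B] (φ : A →+* B)
    (hinj : Function.Injective φ) (hIB : ∀ y ∈ I.map φ, ∃ x ∈ I, φ x = y) (f : B)
    (hf : f ∈ nonZeroDivisors B) (hgen : I.map φ = Ideal.span {f}) :
    BlowUp.IsBlowUp (Spec.map (CommRingCat.ofHom φ)) (specIdeal I) := by
  obtain ⟨a, ha, rfl⟩ := hIB f (hgen ▸ Ideal.mem_span_singleton_self f)
  have hdvd : ∀ x ∈ I, φ a ∣ φ x := fun x hx =>
    Ideal.mem_span_singleton.1 (hgen ▸ Ideal.mem_map_of_mem φ hx)
  obtain ⟨ψ, hψ⟩ := exists_lift I φ a ha hf hdvd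
  have hψk : ∀ r, ψ (kap I a ha r) = φ r := fun r => by rw [← hψ]; rfl
  have h4 : ∀ k : ℕ, kap I a ha a ^ k ∈
      nonZeroDivisors (Away (Rees.deg (reesAlgebra I)) (tilde I a ha)) :=
    fun k => pow_mem (kap_mem_nonZeroDivisors I a ha) k
  have hbij : Function.Bijective ψ := by
    constructor
    · rw [injective_iff_map_eq_zero]
      intro z hz
      obtain ⟨n, c, hc, rfl⟩ := frac_surjective I a ha z
      have h1 : ψ (kap I a ha a ^ n * frac I a ha n c hc) = ψ (kap I a ha c) :=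
        congrArg ψ (kap_pow_mul_frac I a ha n c hc)
      rw [map_mul, hz, mul_zero, hψk] at h1
      have hc0 : c = 0 := hinj (h1.symm.trans (map_zero φ).symm)
      have h3 : kap I a ha a ^ n * frac I a ha n c hc = 0 := by
        rw [kap_pow_mul_frac, hc0, map_zero]
      exact (mem_nonZeroDivisors_iff.1 (h4 n)).1 _ h3
    · intro y
      obtain ⟨c, hc, hcy⟩ := hIB (φ a * y) (by
        rw [hgen]; exact Ideal.mem_span_singleton.2 ⟨y, rfl⟩)
      have hc1 : c ∈ I ^ 1 := by rwa [pow_one]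
      refine ⟨frac I a ha 1 c hc1, ?_⟩
      have h1 : ψ (kap I a ha a ^ 1 * frac I a ha 1 c hc1) = ψ (kap I a ha c) :=
        congrArg ψ (kap_pow_mul_frac I a ha 1 c hc1)
      rw [map_mul, map_pow, hψk, pow_one, hψk, hcy] at h1
      have h3 : (ψ (frac I a ha 1 c hc1) - y) * φ a = 0 := by
        rw [sub_mul, mul_comm, h1, mul_comm, sub_self]
      exact sub_eq_zero.1 ((mem_nonZeroDivisors_iff_right.1 hf) _ h3)
  have hsq : ∀ b ∈ I, ∃ c ∈ I, b * b = a * c := by
    intro b hb
    obtain ⟨d, hd⟩ := hdvd b hb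
    obtain ⟨c, hc, hcd⟩ := hIB (d * φ b) (Ideal.mul_mem_left _ d (Ideal.mem_map_of_mem φ hb))
    refine ⟨c, hc, hinj ?_⟩
    rw [map_mul, map_mul, hcd, ← mul_assoc, ← hd]
  have hiso1 : IsIso (chart I a ha) := isIso_chart_of_sq I a ha hsq
  have hiso2 : IsIso (CommRingCat.ofHom ψ) :=
    (ConcreteCategory.isIso_iff_bijective (CommRingCat.ofHom ψ)).2 hbij
  have hk : (Spec.map (CommRingCat.ofHom ψ) ≫ chart I a ha) ≫ proj I =
      Spec.map (CommRingCat.ofHom φ) := by
    rw [Category.assoc, chart_proj, ← Spec.map_comp, ← CommRingCat.ofHom_comp, hψ]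
  have := isBlowUp_iso_comp (proj I) (specIdeal I)
    (asIso (Spec.map (CommRingCat.ofHom ψ) ≫ chart I a ha)) (isBlowUp_proj I)
  rw [asIso_hom, hk] at this
  exact this

end Groth.Agent.Lib.Helper25.ProjRees
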