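import Mathlib
import Groth.Agent.Lib.Helper21.RegularLocal
import Groth.Agent.Lib.Helper14.SchemeDim
import Groth.Agent.Lib.Helper18.TopDim

/-!
# Closed points on curves: algebra and dimension lemmas (helper25)

* a Noetherian local ring whose maximal ideal is generated by one nonzerodivisor is regular, and
  conversely a regular local ring of dimension one has such a generator;
* spreading out a principal generator of the maximal ideal of a localization at a prime;
* the local ring at a closed point of a scheme all of whose irreducible components have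
  dimension one has dimension one.
-/

set_option autoImplicit false
universe u
open IsLocalRing AlgebraicGeometry

namespace Groth.Agent.Lib.Helper25.PtInv

/-- A Noetherian local ring whose maximal ideal is generated by one nonzerodivisor is regular. -/
theorem isRegularLocalRing_of_principal_nzd (S : Type*) [CommRing S] [IsLocalRing S]
    [IsNoetherianRing S] (π : S) (hπ : maximalIdeal S = Ideal.span {π})
    (hnzd : π ∈ nonZeroDivisors S) : IsRegularLocalRing S := by
  apply IsRegularLocalRing.of_spanFinrank_maximalIdeal_le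
  have h1 : (maximalIdeal S).spanFinrank ≤ 1 := by
    rw [hπ]
    have := Submodule.spanFinrank_span_le_ncard_of_finite (R := S) (Set.finite_singleton π)
    rwa [Set.ncard_singleton] at this
  have h2 : ringKrullDim (S ⧸ Ideal.span {π}) + 1 ≤ ringKrullDim S :=
    ringKrullDim_quotient_succ_le_of_nonZeroDivisor hnzd
  have h3 : (0 : WithBot ℕ∞) ≤ ringKrullDim (S ⧸ Ideal.span {π}) := by
    rw [← hπ]
    exact ringKrullDim_nonneg_of_nontrivial
  calc ((maximalIdeal S).spanFinrank : WithBot ℕ∞) ≤ ((1 : ℕ) : WithBot ℕ∞) := by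
        exact_mod_cast h1
    _ = 0 + 1 := by simp
    _ ≤ ringKrullDim (S ⧸ Ideal.span {π}) + 1 := by gcongr
    _ ≤ ringKrullDim S := h2

/-- The maximal ideal of a regular local ring of dimension one is generated by one
nonzerodivisor. -/
theorem exists_principal_nzd_of_regular (S : Type u) [CommRing S] [IsRegularLocalRing S]
    (hdim : ringKrullDim S = 1) :
    ∃ π : S, maximalIdeal S = Ideal.span {π} ∧ π ∈ nonZeroDivisors S := by
  have hreg := IsRegularLocalRing.spanFinrank_maximalIdeal (R := S)
  rw [hdim] at hreg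
  have h1 : (maximalIdeal S).spanFinrank = 1 := by exact_mod_cast hreg
  have hfg : (maximalIdeal S).FG := (isNoetherianRing_iff_ideal_fg S).mp inferInstance _
  have h2 := Submodule.FG.generators_ncard hfg
  rw [h1, Set.ncard_eq_one] at h2
  obtain ⟨π, hπ⟩ := h2
  have hspan : maximalIdeal S = Ideal.span {π} := by
    rw [← hπ]; exact (Submodule.span_generators _).symm
  have := Groth.Agent.Lib.Helper21.isDomain_of_isRegularLocalRing S
  refine ⟨π, hspan, mem_nonZeroDivisors_of_ne_zero ?_⟩
  rintro rfl
  have hbot : maximalIdeal S = ⊥ := by rw [hspan]; simp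
  have hfield : IsField S := (IsLocalRing.isField_iff_maximalIdeal_eq).mpr hbot
  rw [ringKrullDim_eq_zero_of_isField hfield] at hdim
  exact zero_ne_one hdim

/-- Finitely many denominators outside a prime can be cleared simultaneously. -/
theorem exists_common_mult {A : Type*} [CommRing A] (p : Ideal A) [p.IsPrime] (I J : Ideal A)
    (hfg : I.FG) (h : ∀ a ∈ I, ∃ u, u ∉ p ∧ u * a ∈ J) :
    ∃ f, f ∉ p ∧ ∀ a ∈ I, f * a ∈ J := by
  classical
  obtain ⟨T, hT⟩ := hfg
  have hTI : ∀ a ∈ T, a ∈ I := fun a ha => by rw [← hT]; exact Ideal.subset_span ha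
  choose! u hu hua using h
  refine ⟨∏ a ∈ T, u a, ?_, ?_⟩
  · have : (∏ a ∈ T, u a) ∈ p.primeCompl :=
      Submonoid.prod_mem p.primeCompl (fun a ha => hu a (hTI a ha))
    exact this
  · intro a ha
    rw [← hT] at ha
    induction ha using Submodule.span_induction with
    | mem x hx =>
      obtain ⟨w, hw⟩ := Finset.dvd_prod_of_mem u hx
      have hre : u x * w * x = w * (u x * x) := by ring
      rw [hw, hre]
      exact J.mul_mem_left w (hua x (hTI x hx))
    | zero => rw [mul_zero]; exact J.zero_mem
    | add x y _ _ hx hy => rw [mul_add]; exact J.add_mem hx hy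
    | smul r x _ hx =>
      rw [smul_eq_mul, mul_left_comm]
      exact J.mul_mem_left r hx

/-- Spreading out a principal nonzerodivisor generator of the maximal ideal of the localization
of a Noetherian ring at a prime. -/
theorem exists_principal_away {A S : Type*} [CommRing A] [IsNoetherianRing A] [CommRing S]
    [Algebra A S] [IsLocalRing S] (p : Ideal A) [p.IsPrime] [IsLocalization.AtPrime S p] (π : S)
    (hπ : maximalIdeal S = Ideal.span {π}) (hnzd : π ∈ nonZeroDivisors S) :
    ∃ b ∈ p, ∃ f, f ∉ p ∧ (∀ a ∈ p, ∃ c, f * a = c * b) ∧ (∀ r, r * b = 0 → f * r = 0) := by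
  obtain ⟨b, s, hbs⟩ := IsLocalization.exists_mk'_eq p.primeCompl π
  have hsu : IsUnit (algebraMap A S s) := IsLocalization.map_units S s
  have hb : algebraMap A S b = π * algebraMap A S s := by
    rw [← hbs, IsLocalization.mk'_spec]
  have hspan : maximalIdeal S = Ideal.span {algebraMap A S b} := by
    rw [hπ, hb]; exact (Ideal.span_singleton_mul_right_unit hsu π).symm
  have hbnzd : algebraMap A S b ∈ nonZeroDivisors S := by
    rw [hb]; exact mul_mem hnzd hsu.mem_nonZeroDivisors
  have hbp : b ∈ p := by
    rw [← IsLocalization.AtPrime.to_map_mem_maximal_iff S p b, hspan]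
    exact Ideal.mem_span_singleton_self _
  have hfgp : p.FG := (isNoetherianRing_iff_ideal_fg A).mp inferInstance p
  have h1 : ∀ a ∈ p, ∃ u, u ∉ p ∧ u * a ∈ Ideal.span {b} := by
    intro a hap
    have hmem : algebraMap A S a ∈ maximalIdeal S :=
      (IsLocalization.AtPrime.to_map_mem_maximal_iff S p a).mpr hap
    rw [hspan, Ideal.mem_span_singleton'] at hmem
    obtain ⟨y, hy⟩ := hmem
    obtain ⟨c, s', hcs⟩ := IsLocalization.exists_mk'_eq p.primeCompl y
    have h2 : algebraMap A S (c * b) = algebraMap A S (s' * a) := by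
      rw [map_mul, map_mul, ← hy, ← hcs, ← mul_assoc, mul_comm (algebraMap A S s'),
        IsLocalization.mk'_spec]
    obtain ⟨v, hv⟩ := (IsLocalization.eq_iff_exists p.primeCompl S).mp h2
    refine ⟨v * s', p.primeCompl.mul_mem v.2 s'.2, ?_⟩
    rw [Ideal.mem_span_singleton']
    exact ⟨v * c, by rw [mul_assoc, mul_assoc, hv]⟩
  obtain ⟨f₁, hf₁, hf₁'⟩ := exists_common_mult p p (Ideal.span {b}) hfgp h1
  let I₀ : Ideal A := LinearMap.ker (LinearMap.mulRight A b)
  have hI₀ : ∀ r, r ∈ I₀ ↔ r * b = 0 := fun r => by
    simp only [I₀, LinearMap.mem_ker, LinearMap.mulRight_apply]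
  have hfg₀ : I₀.FG := (isNoetherianRing_iff_ideal_fg A).mp inferInstance I₀
  have h2 : ∀ r ∈ I₀, ∃ v, v ∉ p ∧ v * r ∈ (⊥ : Ideal A) := by
    intro r hr
    rw [hI₀] at hr
    have h3 : algebraMap A S r * algebraMap A S b = 0 := by rw [← map_mul, hr, map_zero]
    have h4 : algebraMap A S r = 0 := (mul_right_mem_nonZeroDivisors_eq_zero_iff hbnzd).mp h3
    rw [← map_zero (algebraMap A S)] at h4
    obtain ⟨v, hv⟩ := (IsLocalization.eq_iff_exists p.primeCompl S).mp h4
    exact ⟨v, v.2, by rw [Ideal.mem_bot, hv, mul_zero]⟩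
  obtain ⟨f₂, hf₂, hf₂'⟩ := exists_common_mult p I₀ ⊥ hfg₀ h2
  refine ⟨b, hbp, f₁ * f₂, ?_, ?_, ?_⟩
  · exact p.primeCompl.mul_mem hf₁ hf₂
  · intro a ha
    obtain ⟨c, hc⟩ := Ideal.mem_span_singleton'.mp (hf₁' a ha)
    exact ⟨f₂ * c, by rw [mul_comm f₁ f₂, mul_assoc, mul_assoc, hc]⟩
  · intro r hr
    have := hf₂' r ((hI₀ r).mpr hr)
    rw [Ideal.mem_bot] at this
    rw [mul_assoc, this, mul_zero]

section Dim

/-- The dimension of a space is bounded by the dimensions of its irreducible components. -/
theorem topologicalKrullDim_le_of_components {X : Type u} [TopologicalSpace X] (n : WithBot ℕ∞)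
    (h : ∀ Z ∈ irreducibleComponents X, topologicalKrullDim Z ≤ n) : topologicalKrullDim X ≤ n := by
  have key : ∀ p : LTSeries (TopologicalSpace.IrreducibleCloseds X), (p.length : WithBot ℕ∞) ≤ n := by
    intro p
    obtain ⟨Z, hZ, hsub, hmax⟩ :=
      exists_preirreducible (p.last : Set X) p.last.isIrreducible.isPreirreducible
    have hZirr : IsIrreducible Z := ⟨p.last.isIrreducible.nonempty.mono hsub, hZ⟩
    have hZc : Z ∈ irreducibleComponents X :=
      ⟨hZirr, fun u hu htu => (hmax u hu.isPreirreducible htu).le⟩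
    exact (Groth.Agent.Lib.Helper18.TopDim.length_le_topologicalKrullDim_of_subset p Z hsub).trans
      (h Z hZc)
  unfold topologicalKrullDim Order.krullDim
  exact iSup_le key

variable (X : Scheme.{u})
  (hequi : ∀ Z ∈ irreducibleComponents (X : Type u), topologicalKrullDim Z = 1)

include hequi in
theorem ringKrullDim_stalk_le_one (P : X) : ringKrullDim (X.presheaf.stalk P) ≤ 1 := by
  have h1 : topologicalKrullDim X ≤ 1 :=
    topologicalKrullDim_le_of_components 1 (fun Z hZ => (hequi Z hZ).le)
  rw [Groth.Agent.Lib.Helper14.AS.topologicalKrullDim_eq_iSup_stalk] at h1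
  exact (le_iSup (fun x : X => ringKrullDim (X.presheaf.stalk x)) P).trans h1

include hequi in
theorem one_le_ringKrullDim_stalk (P : X) (hP : IsClosed ({P} : Set X)) :
    1 ≤ ringKrullDim (X.presheaf.stalk P) := by
  rw [ringKrullDim_stalk_eq_coheight]
  by_contra hlt
  have h0 : Order.coheight P = 0 := by
    by_contra hne
    apply hlt
    have : (1 : ℕ∞) ≤ Order.coheight P := Order.one_le_iff_ne_zero.mpr hne
    exact_mod_cast this
  rw [Order.coheight_eq_zero] at h0
  have hZc : irreducibleComponent P ∈ irreducibleComponents X :=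
    irreducibleComponent_mem_irreducibleComponents P
  have hZirr : IsIrreducible (irreducibleComponent P) := isIrreducible_irreducibleComponent
  have hZcl : IsClosed (irreducibleComponent P) := isClosed_irreducibleComponent
  obtain ⟨η, hη⟩ := QuasiSober.sober hZirr hZcl
  have hspec : η ⤳ P := hη.specializes mem_irreducibleComponent
  have hle : P ≤ η := hspec
  have hge : η ≤ P := h0 hle
  have hηP : η = P := by
    have h1 : P ⤳ η := hge
    exact h1.mem_closed hP (Set.mem_singleton P)
  have hZeq : irreducibleComponent P = {P} := by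
    rw [← hη.def, hηP]
    exact hP.closure_eq
  have hdim := hequi _ hZc
  rw [hZeq] at hdim
  have h3 := topologicalKrullDim_zero_of_discreteTopology (({P} : Set X) : Type u)
  rw [hdim] at h3
  exact absurd h3 (by decide)

include hequi in
theorem ringKrullDim_stalk_eq_one (P : X) (hP : IsClosed ({P} : Set X)) :
    ringKrullDim (X.presheaf.stalk P) = 1 :=
  le_antisymm (ringKrullDim_stalk_le_one X hequi P) (one_le_ringKrullDim_stalk X hequi P hP)

end Dim

end Groth.Agent.Lib.Helper25.PtInv
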