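import Mathlib
import Groth.Agent.Lib.Helper25.PtInv1
import Groth.Agent.Lib.Helper29.NormCart1
import Groth.Agent.Lib.Helper25.NonsingSub2
import Groth.Agent.S4991

/-!
# The ideal sheaf of a closed point on a curve is invertible iff the point is smooth (helper25)
-/

set_option autoImplicit false
set_option linter.style.haveILetI false
set_option linter.unusedSectionVars false
universe u
open CategoryTheory CategoryTheory.Limits AlgebraicGeometry TopologicalSpace Opposite IsLocalRing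

namespace Groth.Agent.Lib.Helper25.PtInv

open Groth.Agent.Lib.Helper29.QCoh Groth.Agent.Lib.Helper25.HypTwist
  Groth.Agent.Lib.Helper25.GrpTangent Groth.Agent.Lib.Helper25.NonsingOmega

section Vanishing

variable {X : Scheme.{u}}

/-- membership in the vanishing ideal of a closed point, on an affine open containing it -/
theorem mem_vanishingIdeal_point_iff (q : X) (hq : IsClosed ({q} : Set X)) {U : X.Opens}
    (hU : IsAffineOpen U) (hqU : q ∈ U) (a : Γ(X, U)) :
    a ∈ (Scheme.IdealSheafData.vanishingIdeal ⟨{q}, hq⟩).ideal ⟨U, hU⟩ ↔ q ∉ X.basicOpen a := by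
  rw [Scheme.IdealSheafData.vanishingIdeal_ideal, PrimeSpectrum.mem_vanishingIdeal]
  constructor
  · intro h hqa
    have hmem : hU.primeIdealOf ⟨q, hqU⟩ ∈ hU.fromSpec ⁻¹' ((⟨{q}, hq⟩ : Closeds X) : Set X) := by
      change hU.fromSpec (hU.primeIdealOf ⟨q, hqU⟩) ∈ ({q} : Set X)
      rw [hU.fromSpec_primeIdealOf]
      rfl
    have h1 := h _ hmem
    have h2 : hU.primeIdealOf ⟨q, hqU⟩ ∈ hU.fromSpec ⁻¹ᵁ X.basicOpen a := by
      change hU.fromSpec (hU.primeIdealOf ⟨q, hqU⟩) ∈ X.basicOpen a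
      rw [hU.fromSpec_primeIdealOf]
      exact hqa
    rw [hU.fromSpec_preimage_basicOpen] at h2
    exact h2 h1
  · intro h y hy
    by_contra hay
    apply h
    have h2 : y ∈ hU.fromSpec ⁻¹ᵁ X.basicOpen a := by
      rw [hU.fromSpec_preimage_basicOpen]
      exact hay
    have h3 : hU.fromSpec y = q := hy
    rw [← h3]
    exact h2

/-- the vanishing ideal of a closed point is trivial on affine opens missing the point -/
theorem vanishingIdeal_point_eq_top (q : X) (hq : IsClosed ({q} : Set X)) {U : X.Opens}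
    (hU : IsAffineOpen U) (hqU : q ∉ U) :
    (Scheme.IdealSheafData.vanishingIdeal ⟨{q}, hq⟩).ideal ⟨U, hU⟩ = ⊤ := by
  rw [Scheme.IdealSheafData.vanishingIdeal_ideal, eq_top_iff]
  intro a _
  rw [PrimeSpectrum.mem_vanishingIdeal]
  intro y hy
  exfalso
  have h3 : hU.fromSpec y = q := hy
  apply hqU
  rw [← h3]
  have hmem : hU.fromSpec y ∈ Set.range hU.fromSpec := ⟨y, rfl⟩
  rw [hU.range_fromSpec] at hmem
  exact hmem

/-- On an affine open containing the closed point, the vanishing ideal is the prime ideal of the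
point. -/
theorem ideal_point_eq (q : X) (hq : IsClosed ({q} : Set X)) {U : X.Opens}
    (hU : IsAffineOpen U) (hqU : q ∈ U) :
    (Scheme.IdealSheafData.vanishingIdeal ⟨{q}, hq⟩).ideal ⟨U, hU⟩ =
      (hU.primeIdealOf ⟨q, hqU⟩).asIdeal := by
  letI := X.presheaf.algebra_section_stalk (⟨q, hqU⟩ : U)
  haveI := hU.isLocalization_stalk (⟨q, hqU⟩ : U)
  ext a
  rw [mem_vanishingIdeal_point_iff q hq hU hqU a, Scheme.mem_basicOpen _ _ _ hqU,
    ← IsLocalization.AtPrime.to_map_mem_maximal_iff (X.presheaf.stalk q)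
      (hU.primeIdealOf ⟨q, hqU⟩).asIdeal a, IsLocalRing.mem_maximalIdeal, mem_nonunits_iff]
  rfl

end Vanishing

section Cartier

variable {X : Scheme.{u}}

/-- The ideal sheaf of a closed point whose local ring has maximal ideal generated by one
nonzerodivisor is an effective Cartier divisor (no integrality needed). -/
theorem isEffCartierIdeal_point [IsLocallyNoetherian X] (P : X) (hP : IsClosed ({P} : Set X))
    (π : X.presheaf.stalk P) (hπ : maximalIdeal (X.presheaf.stalk P) = Ideal.span {π})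
    (hnzd : π ∈ nonZeroDivisors (X.presheaf.stalk P)) :
    BlowUp.IsEffCartierIdeal (Scheme.IdealSheafData.vanishingIdeal ⟨{P}, hP⟩) := by
  intro x
  by_cases hxq : x = P
  · rw [hxq]
    obtain ⟨_, ⟨U₀, hU₀, rfl⟩, hqU₀, -⟩ :=
      X.isBasis_affineOpens.exists_subset_of_mem_open (Set.mem_univ P) isOpen_univ
    haveI : IsNoetherianRing Γ(X, U₀) := IsLocallyNoetherian.component_noetherian ⟨U₀, hU₀⟩
    letI := X.presheaf.algebra_section_stalk (⟨P, hqU₀⟩ : U₀)
    haveI := hU₀.isLocalization_stalk (⟨P, hqU₀⟩ : U₀)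
    obtain ⟨b, hbp, f, hfp, h1, h2⟩ :=
      exists_principal_away (S := X.presheaf.stalk P) (hU₀.primeIdealOf ⟨P, hqU₀⟩).asIdeal π hπ hnzd
    have hDp := ideal_point_eq P hP hU₀ hqU₀
    have hbasic : IsAffineOpen (X.basicOpen f) := hU₀.basicOpen f
    have hPf : P ∈ X.basicOpen f := by
      rw [Scheme.mem_basicOpen _ _ _ hqU₀]
      by_contra hnu
      apply hfp
      rw [← IsLocalization.AtPrime.to_map_mem_maximal_iff (X.presheaf.stalk P)
        (hU₀.primeIdealOf ⟨P, hqU₀⟩).asIdeal f, IsLocalRing.mem_maximalIdeal, mem_nonunits_iff]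
      exact hnu
    haveI hloc := hU₀.isLocalization_basicOpen f
    have hfu : IsUnit (algebraMap Γ(X, U₀) Γ(X, X.basicOpen f) f) :=
      IsLocalization.Away.algebraMap_isUnit f
    have hmap := (Scheme.IdealSheafData.vanishingIdeal ⟨{P}, hP⟩).map_ideal
      (U := ⟨X.basicOpen f, hbasic⟩) (V := ⟨U₀, hU₀⟩) (X.basicOpen_le f)
    change Ideal.map (algebraMap Γ(X, U₀) Γ(X, X.basicOpen f)) _ = _ at hmap
    refine ⟨⟨X.basicOpen f, hbasic⟩, hPf, algebraMap Γ(X, U₀) Γ(X, X.basicOpen f) b, ?_, ?_⟩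
    · rw [mem_nonZeroDivisors_iff_right]
      intro r' hr'
      obtain ⟨⟨r, s⟩, hrs⟩ := IsLocalization.surj (Submonoid.powers f) r'
      have hrs' : r' * algebraMap Γ(X, U₀) Γ(X, X.basicOpen f) s =
          algebraMap Γ(X, U₀) Γ(X, X.basicOpen f) r := hrs
      have h3 : algebraMap Γ(X, U₀) Γ(X, X.basicOpen f) (r * b) =
          algebraMap Γ(X, U₀) Γ(X, X.basicOpen f) 0 := by
        rw [map_mul, ← hrs', mul_right_comm, hr', zero_mul, map_zero]
      obtain ⟨c, hc⟩ := (IsLocalization.eq_iff_exists (Submonoid.powers f) _).mp h3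
      have h4 : f * ((c : Γ(X, U₀)) * r) = 0 := h2 (c * r) (by rw [mul_assoc, hc, mul_zero])
      have hu : IsUnit (algebraMap Γ(X, U₀) Γ(X, X.basicOpen f) (f * c)) := by
        rw [map_mul]; exact hfu.mul (IsLocalization.map_units _ c)
      have h5 : algebraMap Γ(X, U₀) Γ(X, X.basicOpen f) (f * c) *
          algebraMap Γ(X, U₀) Γ(X, X.basicOpen f) r = 0 := by
        rw [← map_mul, mul_assoc, h4, map_zero]
      have h6 : algebraMap Γ(X, U₀) Γ(X, X.basicOpen f) r = 0 := hu.mul_right_eq_zero.mp h5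
      have h7 : r' * algebraMap Γ(X, U₀) Γ(X, X.basicOpen f) s = 0 := by rw [hrs', h6]
      exact (IsLocalization.map_units _ s).mul_left_eq_zero.mp h7
    · apply le_antisymm
      · rw [← hmap, Ideal.map_le_iff_le_comap]
        intro a ha
        rw [hDp] at ha
        obtain ⟨c, hc⟩ := h1 a ha
        rw [Ideal.mem_comap, Ideal.mem_span_singleton']
        obtain ⟨fi, hfi⟩ := hfu.exists_left_inv
        refine ⟨fi * algebraMap Γ(X, U₀) Γ(X, X.basicOpen f) c, ?_⟩
        rw [mul_assoc, ← map_mul, ← hc, map_mul, ← mul_assoc, hfi, one_mul]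
      · rw [Ideal.span_le, Set.singleton_subset_iff, SetLike.mem_coe, ← hmap]
        exact Ideal.mem_map_of_mem _ (hDp ▸ hbp)
  · obtain ⟨_, ⟨U, hU, rfl⟩, hxU, hUq⟩ :=
      X.isBasis_affineOpens.exists_subset_of_mem_open (show x ∈ ({P} : Set X)ᶜ from hxq)
        hP.isOpen_compl
    refine ⟨⟨U, hU⟩, hxU, 1, one_mem _, ?_⟩
    rw [vanishingIdeal_point_eq_top P hP hU (fun h => hUq h rfl), Ideal.span_singleton_one]

end Cartier

section Main

variable (k : Type u) [Field k] [IsAlgClosed k] (X : Scheme.{u}) [X.Over (Spec (CommRingCat.of k))]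
  [IsProper (X ↘ (Spec (CommRingCat.of k)))]
  (hequi : ∀ Z ∈ irreducibleComponents (X : Type u), topologicalKrullDim Z = 1)
  (P : X) (hP : IsClosed ({P} : Set X))

include hequi in
/-- smooth near `P` implies `m_P` invertible -/
theorem isInvertible_of_smooth (U : X.Opens) (hPU : P ∈ U)
    (hsm : Smooth (U.ι ≫ (X ↘ (Spec (CommRingCat.of k))))) :
    PicF.IsInvertible (ClSub.idealMod (Scheme.IdealSheafData.vanishingIdeal ⟨{P}, hP⟩)) := by
  haveI : IsLocallyNoetherian X :=
    LocallyOfFiniteType.isLocallyNoetherian (X ↘ Spec (CommRingCat.of k))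
  have hreg : IsRegularLocalRing (X.presheaf.stalk P) := by
    rw [Groth.Agent.S4991.result (X ↘ Spec (CommRingCat.of k)) P ⟨U, hPU, hsm⟩]
    refine Groth.Agent.Lib.Helper14.AS.isRegularLocalRing_of_isField ?_
    exact MulEquiv.isField (Field.toIsField k)
      (RingEquiv.ofBijective (τ ((X ↘ Spec (CommRingCat.of k)) P)).hom
        (bijective_τ ((X ↘ Spec (CommRingCat.of k)) P))).symm.toMulEquiv
  have hdim := ringKrullDim_stalk_eq_one X hequi P hP
  obtain ⟨π, hπ, hnzd⟩ := exists_principal_nzd_of_regular (X.presheaf.stalk P) hdim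
  exact Groth.Agent.Lib.Helper29.NormCart.isInvertible_idealMod' _
    (isEffCartierIdeal_point P hP π hπ hnzd)

/-- `m_P` invertible implies smooth near `P` -/
theorem smooth_of_isInvertible
    (hL : PicF.IsInvertible
      (ClSub.idealMod (Scheme.IdealSheafData.vanishingIdeal ⟨{P}, hP⟩))) :
    ∃ U : X.Opens, P ∈ U ∧ Smooth (U.ι ≫ (X ↘ (Spec (CommRingCat.of k)))) := by
  haveI : IsLocallyNoetherian X :=
    LocallyOfFiniteType.isLocallyNoetherian (X ↘ Spec (CommRingCat.of k))
  obtain ⟨U, e, hU, hPU, -, hT⟩ := exists_affine_isTriv hL (W := ⊤) P trivial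
  have htD := ifun_mem (Scheme.IdealSheafData.vanishingIdeal ⟨{P}, hP⟩) ⟨U, hU⟩ e
  have hgen : ∀ a ∈ (Scheme.IdealSheafData.vanishingIdeal ⟨{P}, hP⟩).ideal ⟨U, hU⟩,
      ∃ r : Γ(X, U), a = r * ifun (Scheme.IdealSheafData.vanishingIdeal ⟨{P}, hP⟩) e := by
    intro a ha
    obtain ⟨s, hs⟩ := exists_ifun_eq (Scheme.IdealSheafData.vanishingIdeal ⟨{P}, hP⟩) ⟨U, hU⟩ a ha
    obtain ⟨r, hr⟩ := hT.exists_eq_smul s
    exact ⟨r, by rw [← hs, hr, ifun_smul]⟩
  have hnz : ∀ r : Γ(X, U),
      r * ifun (Scheme.IdealSheafData.vanishingIdeal ⟨{P}, hP⟩) e = 0 → r = 0 := by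
    intro r hr
    apply hT.smul_left_cancel (a := r) (b := 0)
    apply ifun_injective (Scheme.IdealSheafData.vanishingIdeal ⟨{P}, hP⟩)
    rw [ifun_smul, ifun_smul, hr, zero_mul]
  letI := X.presheaf.algebra_section_stalk (⟨P, hPU⟩ : U)
  haveI := hU.isLocalization_stalk (⟨P, hPU⟩ : U)
  have hDp := ideal_point_eq P hP hU hPU
  have hπ : maximalIdeal (X.presheaf.stalk P) = Ideal.span {algebraMap Γ(X, U) (X.presheaf.stalk P)
      (ifun (Scheme.IdealSheafData.vanishingIdeal ⟨{P}, hP⟩) e)} := by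
    rw [← IsLocalization.AtPrime.map_eq_maximalIdeal (hU.primeIdealOf ⟨P, hPU⟩).asIdeal
      (X.presheaf.stalk P)]
    apply le_antisymm
    · rw [Ideal.map_le_iff_le_comap]
      intro a ha
      obtain ⟨r, hr⟩ := hgen a (hDp ▸ ha)
      rw [Ideal.mem_comap, hr, map_mul]
      exact Ideal.mul_mem_left _ _ (Ideal.mem_span_singleton_self _)
    · rw [Ideal.span_le, Set.singleton_subset_iff]
      exact Ideal.mem_map_of_mem _ (hDp ▸ htD)
  have hnzd : algebraMap Γ(X, U) (X.presheaf.stalk P)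
      (ifun (Scheme.IdealSheafData.vanishingIdeal ⟨{P}, hP⟩) e) ∈
        nonZeroDivisors (X.presheaf.stalk P) := by
    apply IsLocalization.map_nonZeroDivisors_le (hU.primeIdealOf ⟨P, hPU⟩).asIdeal.primeCompl
      (X.presheaf.stalk P)
    exact ⟨_, mem_nonZeroDivisors_iff_right.mpr hnz, rfl⟩
  haveI hreg : IsRegularLocalRing (X.presheaf.stalk P) :=
    isRegularLocalRing_of_principal_nzd _ _ hπ hnzd
  have hPs : P ∈ (X ↘ Spec (CommRingCat.of k)).smoothLocus := by
    letI : Algebra k (X.presheaf.stalk P) :=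
      (τ ((X ↘ Spec (CommRingCat.of k)) P) ≫
        (X ↘ Spec (CommRingCat.of k)).stalkMap P).hom.toAlgebra
    haveI : Algebra.IsGeometricallyReduced k (IsLocalRing.ResidueField (X.presheaf.stalk P)) :=
      isGeometricallyReduced_of_isAlgClosed k _
    exact Groth.Agent.Lib.Helper25.RegularSepSmooth.mem_smoothLocus_of_regular
      (X ↘ Spec (CommRingCat.of k)) P (RingHom.algebraMap_toAlgebra _)
  refine ⟨(X ↘ Spec (CommRingCat.of k)).smoothLocus, hPs, ?_⟩
  rw [← Scheme.Hom.smoothLocus_eq_top_iff, ← Scheme.Hom.preimage_smoothLocus_eq]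
  exact Scheme.Opens.ι_preimage_self _

end Main

end Groth.Agent.Lib.Helper25.PtInv
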