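import Mathlib
import Groth.Agent.S0396

set_option autoImplicit false

namespace Groth.Agent.Lib.Helper25.PushoutTransfer

open TensorProduct

universe u

/-- Transfer of a ring hom property respecting isomorphisms from a pushout `k → S'` of `R → S` along
`R → k` to the literal tensor product `K → K ⊗[R] S`, for `K ≃ₐ[R] k`. -/
theorem algebraMap_tensor_of_isPushout
    {P : ∀ {R S : Type u} [CommRing R] [CommRing S], (R →+* S) → Prop}
    (hP : RingHom.RespectsIso P) {R S k S' K : Type u} [CommRing R] [CommRing S]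
    [CommRing k] [CommRing S'] [CommRing K] [Algebra R S] [Algebra R k] [Algebra R K]
    [Algebra S S'] [Algebra k S'] [Algebra R S']
    [IsScalarTower R S S'] [IsScalarTower R k S'] [Algebra.IsPushout R S k S']
    (e : K ≃ₐ[R] k) (h0 : P (algebraMap k S')) : P (algebraMap K (K ⊗[R] S)) := by
  let E0 : S ⊗[R] k ≃ₐ[S] S' := Algebra.IsPushout.equiv R S k S'
  let E1 : K ⊗[R] S ≃ₐ[R] S ⊗[R] k :=
    (Algebra.TensorProduct.comm R K S).trans
      (Algebra.TensorProduct.congr AlgEquiv.refl e)
  let E : K ⊗[R] S ≃ₐ[R] S' := E1.trans (E0.restrictScalars R)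
  have hE : ∀ c : K, E (algebraMap K (K ⊗[R] S) c) = algebraMap k S' (e c) := by
    intro c
    simp [E, E1, E0, Algebra.TensorProduct.algebraMap_apply, Algebra.IsPushout.equiv_tmul]
  have h1 : P ((algebraMap k S').comp e.toRingEquiv.toRingHom) :=
    hP.2 _ e.toRingEquiv h0
  have h2 : P (E.symm.toRingEquiv.toRingHom.comp
      ((algebraMap k S').comp e.toRingEquiv.toRingHom)) :=
    hP.1 _ E.symm.toRingEquiv h1
  have h3 : E.symm.toRingEquiv.toRingHom.comp
      ((algebraMap k S').comp e.toRingEquiv.toRingHom) =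
      algebraMap K (K ⊗[R] S) := by
    refine RingHom.ext fun c => ?_
    change E.symm (algebraMap k S' (e c)) = _
    rw [← hE, AlgEquiv.symm_apply_apply]
  rw [h3] at h2
  exact h2

/-- Flatness of a pushout of `R → B` along a surjection `R → Rn` with kernel `J` gives flatness of
`(R ⧸ J) ⊗[R] B` over `R ⧸ J`. -/
theorem flat_quotient_tensor_of_isPushout {R B Rn Bn : Type u} [CommRing R] [CommRing B]
    [CommRing Rn] [CommRing Bn] [Algebra R B] [Algebra R Rn] [Algebra B Bn] [Algebra Rn Bn]
    [Algebra R Bn] [IsScalarTower R B Bn] [IsScalarTower R Rn Bn] [Algebra.IsPushout R B Rn Bn]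
    (J : Ideal R) (hsurj : Function.Surjective (algebraMap R Rn))
    (hker : RingHom.ker (algebraMap R Rn) = J) [Module.Flat Rn Bn] :
    Module.Flat (R ⧸ J) ((R ⧸ J) ⊗[R] B) := by
  have hsurj' : Function.Surjective (Algebra.ofId R Rn) := hsurj
  let e0 : (R ⧸ RingHom.ker (Algebra.ofId R Rn)) ≃ₐ[R] Rn :=
    Ideal.quotientKerAlgEquivOfSurjective hsurj'
  have hker' : J = RingHom.ker (Algebra.ofId R Rn) := hker.symm
  let e : (R ⧸ J) ≃ₐ[R] Rn := (Ideal.quotientEquivAlgOfEq R hker').trans e0
  have h0 : (algebraMap Rn Bn).Flat := by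
    rw [RingHom.flat_algebraMap_iff]; infer_instance
  have := algebraMap_tensor_of_isPushout (P := @RingHom.Flat) RingHom.Flat.respectsIso
    (R := R) (S := B) (k := Rn) (S' := Bn) (K := R ⧸ J) e h0
  rwa [RingHom.flat_algebraMap_iff] at this

/-- Local criterion: flatness modulo all powers of `a` implies flatness of the localization at a
prime containing `a B`. -/
theorem flat_localization_of_flat_quotients {R B : Type u} [CommRing R] [CommRing B]
    [IsNoetherianRing R] [IsNoetherianRing B] [Algebra R B] (a : Ideal R)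
    (h : ∀ n : ℕ, Module.Flat (R ⧸ a ^ (n + 1)) ((R ⧸ a ^ (n + 1)) ⊗[R] B))
    (q : Ideal B) [q.IsPrime] (hq : a.map (algebraMap R B) ≤ q) :
    Module.Flat R (Localization.AtPrime q) := by
  have h1 : Module.Flat R (LocalizedModule q.primeCompl B) :=
    Groth.Agent.S0396.result (R := R) (S := B) (M := B) a
      (fun n hn => by
        obtain ⟨m, rfl⟩ : ∃ m, n = m + 1 := ⟨n - 1, by omega⟩
        exact h m) q hq
  let ℓ : LocalizedModule q.primeCompl B ≃ₗ[B] Localization.AtPrime q :=
    IsLocalizedModule.iso q.primeCompl (Algebra.linearMap B (Localization.AtPrime q))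
  exact Module.Flat.of_linearEquiv (ℓ.restrictScalars R).symm

end Groth.Agent.Lib.Helper25.PushoutTransfer
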