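import Groth.Agent.Lib.Helper25.RelProjIdeal
import Groth.Agent.Lib.Helper3.OfAff
/-!
# The graded quotient algebra of a relative Proj by the graded ideal of an ideal sheaf
-/
universe u
open CategoryTheory CategoryTheory.Limits AlgebraicGeometry Opposite TopologicalSpace
open HomogeneousLocalization
open RelSpec AlgebraicGeometry.Scheme.AffineZariskiSite
open scoped HomogeneousIdeal

namespace Groth.Agent.Lib.Helper25.QuotAlg
open Groth.Agent.Lib.Helper25.ProjClosedAlg Groth.Agent.Lib.Helper25.IdealAt RelProj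
open Groth.Agent.Lib.Helper25.RelProjIdeal
open Groth.Agent.Lib.Helper3

variable {S : Scheme.{u}} {𝒮 : QCGrAlg S} {P : Scheme.{u}} {p : P ⟶ S}
  {chart : ∀ (U : S.Opens) (hU : IsAffineOpen U), (((p ⁻¹ᵁ U : P.Opens) : Scheme.{u}) ≅ Proj (𝒮.deg U hU))}
  (hP : IsRelProj 𝒮 p chart) [QuasiCompact p] (ℐ : P.IdealSheafData)

/-- the restriction map of `𝒮` as a ring homomorphism -/
noncomputable abbrev resR {U V : S.Opens} (i : V ≤ U) :
    𝒮.presheaf.obj (op U) →+* 𝒮.presheaf.obj (op V) :=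
  (𝒮.presheaf.map (homOfLE i).op).hom

include hP in
theorem IU_le_comap {U V : S.AffineZariskiSite} (i : V ≤ U) :
    IU p chart ℐ U.1 U.2 ≤ Ideal.comap (resR (𝒮 := 𝒮) (toOpens_mono i)) (IU p chart ℐ V.1 V.2) := by
  obtain ⟨f, hf⟩ := i
  obtain rfl : U.basicOpen f = V := Subtype.ext hf
  rw [← Ideal.map_le_iff_le_comap]
  exact (IU_res ℐ hP U.1 U.2 f).ge

/-- the functor `U ↦ 𝒮(U) / I_U` on the affine opens -/
noncomputable def quotF : S.AffineZariskiSiteᵒᵖ ⥤ CommRingCat.{u} where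
  obj U := CommRingCat.of (𝒮.presheaf.obj (op U.unop.1) ⧸ IU p chart ℐ U.unop.1 U.unop.2)
  map {U V} i := CommRingCat.ofHom
    (Ideal.quotientMap _ (resR (𝒮 := 𝒮) (toOpens_mono i.unop.le)) (IU_le_comap hP ℐ i.unop.le))
  map_id U := by
    rw [← CommRingCat.ofHom_id]
    refine congrArg CommRingCat.ofHom (Ideal.Quotient.ringHom_ext (RingHom.ext fun a => ?_))
    simp only [RingHom.comp_apply, Ideal.quotientMap_mk, RingHom.id_apply]
    congr 1
    exact congrArg (fun k => k.hom a) (𝒮.presheaf.map_id (op U.unop.1))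
  map_comp {U V W} i j := by
    rw [← CommRingCat.ofHom_comp]
    refine congrArg CommRingCat.ofHom (Ideal.Quotient.ringHom_ext (RingHom.ext fun a => ?_))
    simp only [RingHom.comp_apply, Ideal.quotientMap_mk]
    congr 1
    have := 𝒮.presheaf.map_comp (homOfLE (toOpens_mono i.unop.le)).op
      (homOfLE (toOpens_mono j.unop.le)).op
    exact congrArg (fun k => k.hom a) this

/-- the quotient maps, as a natural transformation on the affine opens -/
noncomputable def quotNat : (toOpensFunctor S).op ⋙ 𝒮.presheaf ⟶ quotF hP ℐ where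
  app U := CommRingCat.ofHom (Ideal.Quotient.mk (IU p chart ℐ U.unop.1 U.unop.2))
  naturality {U V} i := by
    ext a
    exact (Ideal.quotientMap_mk (f := resR (𝒮 := 𝒮) (toOpens_mono i.unop.le))
      (H := IU_le_comap hP ℐ i.unop.le)).symm

/-- the structure map of the quotient -/
noncomputable def quotα : (toOpensFunctor S).op ⋙ S.presheaf ⟶ quotF hP ℐ :=
  (toOpensFunctor S).op.whiskerLeft 𝒮.str ≫ quotNat hP ℐ

theorem quotα_app_apply (U : S.AffineZariskiSiteᵒᵖ) (r : Γ(S, U.unop.1)) :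
    ((quotα hP ℐ).app U).hom r =
      Ideal.Quotient.mk (IU p chart ℐ U.unop.1 U.unop.2) ((𝒮.str.app (op U.unop.1)).hom r) := rfl

set_option backward.isDefEq.respectTransparency false in
theorem quotα_coequifibered : (quotα hP ℐ).Coequifibered := by
  refine coequifibered_iff_forall_isLocalizationAway.mpr fun U f => ?_
  letI := ((quotF hP ℐ).map (homOfLE (U.basicOpen_le f)).op).hom.toAlgebra
  have hloc := RelProjExist.isLocAt_res 𝒮 U.1 U.2 f
  have hI := IU_res ℐ hP U.1 U.2 f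
  set c := (𝒮.str.app (op U.1)).hom f with hc
  set ρ := 𝒮.res U.2 (U.2.basicOpen f) (S.basicOpen_le f) with hρ
  let mkU : 𝒮.presheaf.obj (op U.1) →+* (quotF hP ℐ).obj (op U) :=
    Ideal.Quotient.mk (IU p chart ℐ U.1 U.2)
  let mkD : 𝒮.presheaf.obj (op (S.basicOpen f)) →+* (quotF hP ℐ).obj (op (U.basicOpen f)) :=
    Ideal.Quotient.mk (IU p chart ℐ (S.basicOpen f) (U.2.basicOpen f))
  have hmkU : Function.Surjective mkU := Ideal.Quotient.mk_surjective
  have hmkD : Function.Surjective mkD := Ideal.Quotient.mk_surjective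
  have halg : ∀ a : 𝒮.presheaf.obj (op U.1),
      algebraMap ((quotF hP ℐ).obj (op U)) ((quotF hP ℐ).obj (op (U.basicOpen f))) (mkU a) =
      mkD (ρ a) := fun a => rfl
  have hα : (quotα hP ℐ).app (op U) f = mkU c := rfl
  rw [hα]
  refine (isLocalization_iff _ _).mpr ⟨?_, ?_, ?_⟩
  · rintro ⟨_, k, rfl⟩
    change IsUnit (algebraMap ((quotF hP ℐ).obj (op U)) ((quotF hP ℐ).obj (op (U.basicOpen f)))
      (mkU c ^ k))
    rw [← map_pow, halg, map_pow, map_pow]
    exact ((hloc.unit).map mkD).pow k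
  · intro z
    obtain ⟨b, rfl⟩ := hmkD z
    obtain ⟨a, k, hk⟩ := hloc.surj b
    refine ⟨⟨mkU a, ⟨mkU c ^ k, k, rfl⟩⟩, ?_⟩
    change mkD b * algebraMap ((quotF hP ℐ).obj (op U)) ((quotF hP ℐ).obj (op (U.basicOpen f)))
      (mkU c ^ k) = algebraMap ((quotF hP ℐ).obj (op U)) ((quotF hP ℐ).obj (op (U.basicOpen f))) (mkU a)
    rw [← map_pow, halg, halg, map_pow, ← hk, map_mul, map_pow]
  · intro x y hxy
    obtain ⟨a, rfl⟩ := hmkU x
    obtain ⟨b, rfl⟩ := hmkU y
    rw [halg, halg] at hxy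
    have hxy' : ρ (a - b) ∈ IU p chart ℐ (S.basicOpen f) (U.2.basicOpen f) := by
      rw [map_sub]; exact Ideal.Quotient.eq.mp hxy
    rw [hI] at hxy'
    obtain ⟨n, hn⟩ := exists_pow_mul_mem_of_map_mem hloc _ hxy'
    refine ⟨⟨mkU c ^ n, n, rfl⟩, ?_⟩
    change mkU c ^ n * mkU a = mkU c ^ n * mkU b
    rw [← map_pow, ← map_mul, ← map_mul]
    refine Ideal.Quotient.eq.mpr ?_
    rw [← mul_sub]
    exact hn

/-- the quotient algebra, as a quasi-coherent algebra -/
noncomputable abbrev quotAlg : QCAlg S := OfAff.alg (quotα_coequifibered hP ℐ)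

/-- the comparison of the sections of the quotient algebra over an affine open -/
noncomputable def γ (U : S.Opens) (hU : IsAffineOpen U) :
    (quotAlg hP ℐ).presheaf.obj (op U) ⟶
      CommRingCat.of (𝒮.presheaf.obj (op U) ⧸ IU p chart ℐ U hU) :=
  OfAff.gammaAff (quotα_coequifibered hP ℐ) U hU

instance (U : S.Opens) (hU : IsAffineOpen U) : IsIso (γ hP ℐ U hU) :=
  OfAff.isIso_gammaAff (quotα_coequifibered hP ℐ) U hU

/-- the quotient homomorphism on affine opens -/
noncomputable def quotT : (toOpensFunctor S).op ⋙ 𝒮.presheaf ⟶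
    (toOpensFunctor S).op ⋙ (quotAlg hP ℐ).presheaf :=
  quotNat hP ℐ ≫ inv (OfAff.gammaNat (quotα_coequifibered hP ℐ))

/-- the quotient homomorphism of presheaves of rings -/
noncomputable def quotHomP : 𝒮.presheaf ⟶ (quotAlg hP ℐ).presheaf :=
  OfAff.extend (B := quotAlg hP ℐ) (quotT hP ℐ)

theorem quotHomP_app (U : S.Opens) (hU : IsAffineOpen U) :
    (quotHomP hP ℐ).app (op U) =
      CommRingCat.ofHom (Ideal.Quotient.mk (IU p chart ℐ U hU)) ≫ inv (γ hP ℐ U hU) := by
  have h1 := OfAff.extend_app (B := quotAlg hP ℐ) (quotT hP ℐ) (op (OfAff.aff U hU))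
  refine h1.trans ?_
  unfold quotT
  rw [NatTrans.comp_app]
  congr 1
  rw [NatIso.isIso_inv_app]
  rfl

theorem quotHomP_app_γ (U : S.Opens) (hU : IsAffineOpen U) :
    (quotHomP hP ℐ).app (op U) ≫ γ hP ℐ U hU =
      CommRingCat.ofHom (Ideal.Quotient.mk (IU p chart ℐ U hU)) := by
  rw [quotHomP_app, Category.assoc, IsIso.inv_hom_id, Category.comp_id]

theorem str_γ (U : S.Opens) (hU : IsAffineOpen U) :
    (quotAlg hP ℐ).str.app (op U) ≫ γ hP ℐ U hU =
      𝒮.str.app (op U) ≫ CommRingCat.ofHom (Ideal.Quotient.mk (IU p chart ℐ U hU)) :=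
  OfAff.π_app_gammaAff (quotα_coequifibered hP ℐ) U hU

/-- the quotient homomorphism of quasi-coherent algebras -/
noncomputable def quotHom : 𝒮.toQCAlg ⟶ quotAlg hP ℐ where
  hom := quotHomP hP ℐ
  comm := by
    refine OfAff.presheafHom_ext_aff (B := quotAlg hP ℐ) fun U hU => ?_
    rw [NatTrans.comp_app, ← cancel_mono (γ hP ℐ U hU), Category.assoc, quotHomP_app_γ, str_γ]

theorem quotHom_surjective (U : S.Opens) (hU : IsAffineOpen U) :
    Function.Surjective ((quotHom hP ℐ).hom.app (op U)).hom := by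
  change Function.Surjective ((quotHomP hP ℐ).app (op U)).hom
  rw [quotHomP_app, CommRingCat.hom_comp]
  exact (ConcreteCategory.bijective_of_isIso (inv (γ hP ℐ U hU))).2.comp Ideal.Quotient.mk_surjective

theorem ker_quotHom (U : S.Opens) (hU : IsAffineOpen U) :
    RingHom.ker ((quotHom hP ℐ).hom.app (op U)).hom = IU p chart ℐ U hU := by
  change RingHom.ker ((quotHomP hP ℐ).app (op U)).hom = _
  rw [quotHomP_app, CommRingCat.hom_comp]
  ext a
  rw [RingHom.mem_ker, RingHom.comp_apply,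
    map_eq_zero_iff _ (ConcreteCategory.bijective_of_isIso (inv (γ hP ℐ U hU))).1]
  exact Ideal.Quotient.eq_zero_iff_mem

/-- the graded quotient algebra -/
noncomputable def quotGrAlg : QCGrAlg S where
  toQCAlg := quotAlg hP ℐ
  deg U hU := imgDeg (𝒮.deg U hU) ((quotHom hP ℐ).hom.app (op U)).hom
  graded U hU := imgGradedRing (𝒮.deg U hU) _ (quotHom_surjective hP ℐ U hU)
    (by rw [ker_quotHom]; exact IU_isHomogeneous p chart ℐ U hU)
  map_mem := by
    intro U V hU hV i d x hx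
    obtain ⟨a, ha, rfl⟩ := hx
    refine ⟨(𝒮.presheaf.map (homOfLE i).op).hom a, 𝒮.map_mem hU hV i ha, ?_⟩
    exact congrArg (fun k => k.hom a) ((quotHom hP ℐ).hom.naturality (homOfLE i).op)
  str_mem := by
    intro U hU r
    refine ⟨(𝒮.str.app (op U)).hom r, 𝒮.str_mem U hU r, ?_⟩
    exact congrArg (fun k => (k.app (op U)).hom r) (quotHom hP ℐ).comm

/-- the quotient homomorphism, with target the graded quotient algebra -/
noncomputable def quotGrHom : 𝒮.toQCAlg ⟶ (quotGrAlg hP ℐ).toQCAlg := quotHom hP ℐ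

theorem mem_quotGrAlg_deg (U : S.Opens) (hU : IsAffineOpen U) (d : ℕ)
    (b : (quotGrAlg hP ℐ).presheaf.obj (op U)) :
    b ∈ (quotGrAlg hP ℐ).deg U hU d ↔
      ∃ a ∈ 𝒮.deg U hU d, ((quotGrHom hP ℐ).hom.app (op U)).hom a = b := Iff.rfl

theorem isGradedHom_quotGrHom : IsGradedHom (quotGrHom hP ℐ) :=
  fun U hU d x hx => (mem_quotGrAlg_deg hP ℐ U hU d _).mpr ⟨x, hx, rfl⟩

theorem quotGrHom_surjective (U : S.Opens) (hU : IsAffineOpen U) :
    Function.Surjective ((quotGrHom hP ℐ).hom.app (op U)).hom :=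
  quotHom_surjective hP ℐ U hU

theorem ker_quotGrHom (U : S.Opens) (hU : IsAffineOpen U) :
    RingHom.ker ((quotGrHom hP ℐ).hom.app (op U)).hom = IU p chart ℐ U hU :=
  ker_quotHom hP ℐ U hU

theorem gradedHomAt_quotGrHom_surjective (U : S.Opens) (hU : IsAffineOpen U) :
    Function.Surjective (gradedHomAt (quotGrHom hP ℐ) (isGradedHom_quotGrHom hP ℐ) U hU) := by
  intro b
  obtain ⟨a, ha⟩ := quotGrHom_surjective hP ℐ U hU b
  exact ⟨a, ha⟩

theorem ker_gradedHomAt_quotGrHom (U : S.Opens) (hU : IsAffineOpen U) :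
    RingHom.ker (gradedHomAt (quotGrHom hP ℐ) (isGradedHom_quotGrHom hP ℐ) U hU).toRingHom =
      IU p chart ℐ U hU := by
  ext a
  rw [← ker_quotGrHom hP ℐ U hU]
  exact Iff.rfl

end Groth.Agent.Lib.Helper25.QuotAlg
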