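import Mathlib
import Groth.Agent.Lib.Helper13.SchemeLocal

/-!
Points with reduced local ring on locally Noetherian schemes have reduced open neighbourhoods
(helper25).
-/

set_option autoImplicit false
universe u
open CategoryTheory AlgebraicGeometry

namespace Groth.Agent.Lib.Helper25.ReducedNhd

section ring

variable {R : Type u} [CommRing R]

/-- If `s` kills the nilradical then `R[1/s]` is reduced. -/
theorem isReduced_away_of_mul_nilradical (s : R) (hs : ∀ n ∈ nilradical R, s * n = 0)
    (S : Type u) [CommRing S] [Algebra R S] [IsLocalization.Away s S] : IsReduced S := by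
  refine ⟨fun x hx => ?_⟩
  obtain ⟨⟨a, ⟨_, m, rfl⟩⟩, hax⟩ := IsLocalization.surj (Submonoid.powers s) x
  dsimp only at hax
  have hu : IsUnit (algebraMap R S s) := IsLocalization.Away.algebraMap_isUnit s
  have ha : IsNilpotent (algebraMap R S a) := by
    rw [← hax]
    exact (Commute.all _ _).isNilpotent_mul_right hx
  obtain ⟨k, hk⟩ := ha
  rw [← map_pow, IsLocalization.map_eq_zero_iff (Submonoid.powers s)] at hk
  obtain ⟨⟨_, j, rfl⟩, hj⟩ := hk
  dsimp only at hj
  have hnil : s * a ∈ nilradical R := by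
    refine ⟨j + k, ?_⟩
    rw [mul_pow, pow_add, pow_add]
    calc s ^ j * s ^ k * (a ^ j * a ^ k) = s ^ k * a ^ j * (s ^ j * a ^ k) := by ring
      _ = 0 := by rw [hj, mul_zero]
  have h0 := hs _ hnil
  have h1 : algebraMap R S a = 0 := by
    have : algebraMap R S s * (algebraMap R S s * algebraMap R S a) = 0 := by
      rw [← map_mul, ← map_mul, h0, map_zero]
    exact (hu.mul_right_eq_zero.mp ((hu.mul_right_eq_zero.mp this)))
  rw [h1] at hax
  exact ((hu.pow m).mul_left_eq_zero.mp (by rw [← map_pow]; exact hax))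

/-- In a Noetherian ring, if the localization at `p` is reduced then some `s ∉ p` kills the
nilradical. -/
theorem exists_mul_nilradical_eq_zero [IsNoetherianRing R] (p : Ideal R) [p.IsPrime]
    (S : Type u) [CommRing S] [Algebra R S] [IsLocalization.AtPrime S p] [IsReduced S] :
    ∃ s ∉ p, ∀ n ∈ nilradical R, s * n = 0 := by
  classical
  obtain ⟨t, ht⟩ := (isNoetherianRing_iff_ideal_fg R).mp inferInstance (nilradical R)
  have key : ∀ n ∈ t, ∃ s : R, s ∉ p ∧ s * n = 0 := by
    intro n hn
    have hnil : n ∈ nilradical R := ht ▸ Ideal.subset_span hn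
    have h0 : algebraMap R S n = 0 :=
      (IsNilpotent.map (mem_nilradical.mp hnil) (algebraMap R S)).eq_zero
    rw [IsLocalization.map_eq_zero_iff p.primeCompl] at h0
    obtain ⟨⟨s, hs⟩, hsn⟩ := h0
    exact ⟨s, hs, hsn⟩
  choose! f hf1 hf2 using key
  refine ⟨∏ n ∈ t, f n, ?_, ?_⟩
  · intro hmem
    obtain ⟨n, hn, hfn⟩ := (Ideal.IsPrime.prod_mem_iff).mp hmem
    exact hf1 n hn hfn
  · intro n hn
    rw [← ht] at hn
    refine Submodule.span_induction ?_ ?_ ?_ ?_ hn
    · intro x hx
      rw [← Finset.mul_prod_erase t f hx, mul_comm (f x), mul_assoc, hf2 x hx, mul_zero]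
    · exact mul_zero _
    · intro x y _ _ hx hy
      rw [mul_add, hx, hy, add_zero]
    · intro a x _ hx
      rw [smul_eq_mul, mul_left_comm, hx, mul_zero]

end ring

section scheme

variable {X : Scheme.{u}}

/-- On a locally Noetherian scheme, a point with reduced local ring has a reduced open
neighbourhood. -/
theorem exists_isReduced_nhd [IsLocallyNoetherian X] (x : X)
    [_root_.IsReduced (X.presheaf.stalk x)] :
    ∃ U : X.Opens, x ∈ U ∧ IsReduced (U : Scheme.{u}) := by
  obtain ⟨W, hW, hxW, -⟩ := TopologicalSpace.Opens.isBasis_iff_nbhd.mp X.isBasis_affineOpens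
    (show x ∈ (⊤ : X.Opens) from trivial)
  have : IsNoetherianRing Γ(X, W) := IsLocallyNoetherian.component_noetherian ⟨W, hW⟩
  let _ : Algebra Γ(X, W) (X.presheaf.stalk x) :=
    TopCat.Presheaf.algebra_section_stalk X.presheaf ⟨x, hxW⟩
  have : IsLocalization.AtPrime (X.presheaf.stalk x) (hW.primeIdealOf ⟨x, hxW⟩).asIdeal :=
    hW.isLocalization_stalk ⟨x, hxW⟩
  obtain ⟨s, hsp, hs⟩ := exists_mul_nilradical_eq_zero (hW.primeIdealOf ⟨x, hxW⟩).asIdeal
    (X.presheaf.stalk x)
  refine ⟨X.basicOpen s, ?_, ?_⟩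
  · exact (Groth.Agent.Lib.Helper13.mem_basicOpen_iff_primeIdealOf hW s hxW).mpr hsp
  · have hU : IsAffineOpen (X.basicOpen s) := hW.basicOpen s
    have := hW.isLocalization_basicOpen s
    have hred : _root_.IsReduced Γ(X, X.basicOpen s) :=
      isReduced_away_of_mul_nilradical s hs Γ(X, X.basicOpen s)
    have : IsAffine (X.basicOpen s : Scheme.{u}) := hU
    have : _root_.IsReduced Γ((X.basicOpen s : Scheme.{u}), ⊤) :=
      isReduced_of_injective (X.basicOpen s).topIso.hom.hom
        (X.basicOpen s).topIso.commRingCatIsoToRingEquiv.injective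
    exact isReduced_of_isAffine_isReduced _

end scheme

end Groth.Agent.Lib.Helper25.ReducedNhd
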