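import Groth.Agent.Lib.Helper25.ReesAway

/-!
# Maps between charts of blowing ups induced by ring homomorphisms
-/

set_option autoImplicit false

namespace Groth.Agent.Lib.Helper25.ReesAway

open Polynomial HomogeneousLocalization

universe u
variable {A : Type u} [CommRing A] (I : Ideal A)

lemma isLocalizationElem_eq_frac (a b : A) (ha : a ∈ I) (hb : b ∈ I) (ha1 : a ∈ I ^ 1) :
    Away.isLocalizationElem (tilde_mem I b hb) (tilde_mem I a ha) = frac I b hb 1 a ha1 := by
  apply HomogeneousLocalization.val_injective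
  rw [frac, Away.val_mk, Away.val_mk]
  congr 1
  apply Subtype.ext
  change ((tilde I a ha ^ 1 : reesAlgebra I) : A[X]) = monomial 1 a
  rw [pow_one]
  rfl

lemma map_pow_mul' {R S : Type*} [CommRing R] [CommRing S] (ρ : R →+* S) (x : R) (n : ℕ)
    (y : R) : ρ (x ^ n * y) = ρ x ^ n * ρ y := by
  rw [map_mul, map_pow]

lemma eq_of_pow_mul_eq {R : Type*} [CommRing R] (x : R) (hx : x ∈ nonZeroDivisors R) (n : ℕ)
    (y z : R) (h : x ^ n * y = x ^ n * z) : y = z := by
  have h3 : x ^ n * (y - z) = 0 := by rw [mul_sub, h, sub_self]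
  exact sub_eq_zero.1 ((mem_nonZeroDivisors_iff.1 (pow_mem hx n)).1 _ h3)

variable {B : Type u} [CommRing B] (q : A →+* B)

lemma map_mem_pow {n : ℕ} {c : A} (hc : c ∈ I ^ n) : q c ∈ (I.map q) ^ n := by
  rw [← Ideal.map_pow]
  exact Ideal.mem_map_of_mem q hc

/-- The map between the charts of the blowing ups of `I` and of `I B` induced by a ring
homomorphism `q : A → B`. -/
theorem exists_awayMap (a : A) (ha : a ∈ I) :
    ∃ ρ : Away (Rees.deg (reesAlgebra I)) (tilde I a ha) →+*
        Away (Rees.deg (reesAlgebra (I.map q))) (tilde (I.map q) (q a) (Ideal.mem_map_of_mem q ha)),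
      ρ.comp (kap I a ha) = (kap (I.map q) (q a) (Ideal.mem_map_of_mem q ha)).comp q ∧
      ∀ (n : ℕ) (c : A) (hc : c ∈ I ^ n),
        ρ (frac I a ha n c hc) =
          frac (I.map q) (q a) (Ideal.mem_map_of_mem q ha) n (q c) (map_mem_pow I q hc) := by
  set ha' := Ideal.mem_map_of_mem q ha with hha'
  set φ : A →+* Away (Rees.deg (reesAlgebra (I.map q))) (tilde (I.map q) (q a) ha') :=
    (kap (I.map q) (q a) ha').comp q with hφ
  have hnzd : φ a ∈ nonZeroDivisors _ := kap_mem_nonZeroDivisors (I.map q) (q a) ha'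
  have hdvd : ∀ x ∈ I, φ a ∣ φ x := by
    intro x hx
    have h1 : kap (I.map q) (q a) ha' (q x) ∈ (I.map q).map (kap (I.map q) (q a) ha') :=
      Ideal.mem_map_of_mem _ (Ideal.mem_map_of_mem q hx)
    rw [map_kap_eq_span] at h1
    exact Ideal.mem_span_singleton.1 h1
  obtain ⟨ρ, hρ⟩ := exists_lift I φ a ha hnzd hdvd
  have hρk : ∀ r, ρ (kap I a ha r) = kap (I.map q) (q a) ha' (q r) := fun r => by
    have := RingHom.congr_fun hρ r
    exact this
  refine ⟨ρ, hρ, fun n c hc => ?_⟩
  have h1 : ρ (kap I a ha a) ^ n * ρ (frac I a ha n c hc) = ρ (kap I a ha c) :=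
    (map_pow_mul' ρ _ n _).symm.trans (congrArg ρ (kap_pow_mul_frac I a ha n c hc))
  rw [hρk, hρk] at h1
  have h2 := kap_pow_mul_frac (I.map q) (q a) ha' n (q c) (map_mem_pow I q hc)
  exact eq_of_pow_mul_eq _ (kap_mem_nonZeroDivisors (I.map q) (q a) ha') n _ _ (h1.trans h2.symm)

/-- For a surjective `q`, the induced map of charts is surjective and compatible with the
transition elements. -/
theorem exists_awayMap_surjective (hq : Function.Surjective q) (a : A) (ha : a ∈ I) :
    ∃ ρ : Away (Rees.deg (reesAlgebra I)) (tilde I a ha) →+*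
        Away (Rees.deg (reesAlgebra (I.map q))) (tilde (I.map q) (q a) (Ideal.mem_map_of_mem q ha)),
      ρ.comp (kap I a ha) = (kap (I.map q) (q a) (Ideal.mem_map_of_mem q ha)).comp q ∧
      Function.Surjective ρ ∧
      ∀ (c : A) (hc : c ∈ I),
        ρ (Away.isLocalizationElem (tilde_mem I a ha) (tilde_mem I c hc)) =
          Away.isLocalizationElem (tilde_mem (I.map q) (q a) (Ideal.mem_map_of_mem q ha))
            (tilde_mem (I.map q) (q c) (Ideal.mem_map_of_mem q hc)) := by
  obtain ⟨ρ, hρ, hfrac⟩ := exists_awayMap I q a ha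
  refine ⟨ρ, hρ, ?_, ?_⟩
  · intro z
    obtain ⟨n, c', hc', rfl⟩ := frac_surjective (I.map q) (q a) (Ideal.mem_map_of_mem q ha) z
    have hc'' : c' ∈ (I ^ n).map q := by rw [Ideal.map_pow]; exact hc'
    obtain ⟨c, hc, rfl⟩ := (Ideal.mem_map_iff_of_surjective q hq).1 hc''
    exact ⟨frac I a ha n c hc, hfrac n c hc⟩
  · intro c hc
    have hc1 : c ∈ I ^ 1 := by rwa [pow_one]
    have hc1' : q c ∈ (I.map q) ^ 1 := map_mem_pow I q hc1
    rw [isLocalizationElem_eq_frac I c a hc ha hc1,
      isLocalizationElem_eq_frac (I.map q) (q c) (q a) (Ideal.mem_map_of_mem q hc)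
        (Ideal.mem_map_of_mem q ha) hc1']
    exact hfrac 1 c hc1

end Groth.Agent.Lib.Helper25.ReesAway
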