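import Mathlib.RingTheory.ReesAlgebra
import Mathlib.RingTheory.Localization.Away.Basic
import Mathlib.RingTheory.Localization.Ideal
/-!
# The Rees algebra commutes with localization away from an element
-/
universe u
open Polynomial

namespace Groth.Agent.Lib.Helper25.ReesLoc

variable {A B : Type u} [CommRing A] [CommRing B]

theorem map_mem_rees (ρ : A →+* B) {I : Ideal A} {J : Ideal B} (h : I ≤ J.comap ρ) {x : A[X]}
    (hx : x ∈ reesAlgebra I) : Polynomial.map ρ x ∈ reesAlgebra J := by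
  rw [mem_reesAlgebra_iff] at hx ⊢
  intro i
  rw [coeff_map]
  have h1 : I ^ i ≤ (J ^ i).comap ρ :=
    (Ideal.pow_right_mono h i).trans (Ideal.le_comap_pow ρ i)
  exact h1 (hx i)

/-- the induced map of Rees algebras -/
noncomputable def reesMap (ρ : A →+* B) (I : Ideal A) (J : Ideal B) (h : I ≤ J.comap ρ) :
    ↥(reesAlgebra I) →+* ↥(reesAlgebra J) :=
  RingHom.codRestrict ((Polynomial.mapRingHom ρ).comp (reesAlgebra I).val.toRingHom) (reesAlgebra J)
    (fun x => map_mem_rees ρ h x.2)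

theorem coe_reesMap (ρ : A →+* B) (I : Ideal A) (J : Ideal B) (h : I ≤ J.comap ρ) (x : ↥(reesAlgebra I)) :
    ((reesMap ρ I J h x : ↥(reesAlgebra J)) : B[X]) = Polynomial.map ρ (x : A[X]) := rfl

theorem reesMap_algebraMap (ρ : A →+* B) (I : Ideal A) (J : Ideal B) (h : I ≤ J.comap ρ) (a : A) :
    reesMap ρ I J h (algebraMap A ↥(reesAlgebra I) a) = algebraMap B ↥(reesAlgebra J) (ρ a) := by
  apply Subtype.ext
  rw [coe_reesMap]
  change Polynomial.map ρ (C a) = C (ρ a)
  exact Polynomial.map_C ρ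

section Loc
variable [Algebra A B] (f : A) [IsLocalization.Away f B] (I : Ideal A)

theorem exists_pow_mul_eq_zero (z : A[X]) (hz : Polynomial.map (algebraMap A B) z = 0) :
    ∃ k : ℕ, C (f ^ k) * z = 0 := by
  classical
  have h1 : ∀ i, ∃ k : ℕ, f ^ k * z.coeff i = 0 := by
    intro i
    have h0 : algebraMap A B (z.coeff i) = 0 := by
      rw [← coeff_map, hz, coeff_zero]
    obtain ⟨⟨_, k, rfl⟩, hk⟩ := (IsLocalization.map_eq_zero_iff (Submonoid.powers f) B _).mp h0
    exact ⟨k, hk⟩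
  choose k hk using h1
  refine ⟨z.support.sup k, ?_⟩
  ext i
  rw [coeff_C_mul, coeff_zero]
  by_cases hi : i ∈ z.support
  · have hle : k i ≤ z.support.sup k := Finset.le_sup hi
    rw [← Nat.sub_add_cancel hle, pow_add, mul_assoc, hk i, mul_zero]
  · rw [notMem_support_iff.mp hi, mul_zero]

theorem exists_rees_lift (y : B[X]) (hy : y ∈ reesAlgebra (I.map (algebraMap A B))) :
    ∃ (x : A[X]) (_ : x ∈ reesAlgebra I) (k : ℕ),
      y * C (algebraMap A B f) ^ k = Polynomial.map (algebraMap A B) x := by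
  rw [← adjoin_monomial_eq_reesAlgebra] at hy
  have hCf : (C f : A[X]) ∈ reesAlgebra I := Subalgebra.algebraMap_mem _ f
  induction hy using Algebra.adjoin_induction with
  | mem y hy =>
    obtain ⟨j, hj, rfl⟩ := hy
    obtain ⟨⟨⟨a, ha⟩, ⟨_, k, rfl⟩⟩, hk⟩ :=
      (IsLocalization.mem_map_algebraMap_iff (Submonoid.powers f) B).mp hj
    refine ⟨monomial 1 a, reesAlgebra.monomial_mem.mpr (by rwa [pow_one]), k, ?_⟩
    change (monomial 1 j : B[X]) * C (algebraMap A B f) ^ k = Polynomial.map (algebraMap A B) (monomial 1 a)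
    rw [Polynomial.map_monomial, ← C_pow, monomial_mul_C, ← map_pow]
    congr 1
  | algebraMap b =>
    obtain ⟨⟨a, ⟨_, k, rfl⟩⟩, hk⟩ := IsLocalization.surj (Submonoid.powers f) b
    refine ⟨C a, Subalgebra.algebraMap_mem _ a, k, ?_⟩
    change C b * C (algebraMap A B f) ^ k = Polynomial.map (algebraMap A B) (C a)
    rw [Polynomial.map_C, ← C_pow, ← C_mul, ← map_pow]
    congr 1
  | add y₁ y₂ _ _ h₁ h₂ =>
    obtain ⟨x₁, hx₁, k₁, e₁⟩ := h₁
    obtain ⟨x₂, hx₂, k₂, e₂⟩ := h₂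
    refine ⟨x₁ * C f ^ k₂ + x₂ * C f ^ k₁,
      add_mem (mul_mem hx₁ (pow_mem hCf _)) (mul_mem hx₂ (pow_mem hCf _)), k₁ + k₂, ?_⟩
    rw [Polynomial.map_add, Polynomial.map_mul, Polynomial.map_mul, Polynomial.map_pow, Polynomial.map_pow,
      Polynomial.map_C, ← e₁, ← e₂, add_mul, pow_add]
    ring
  | mul y₁ y₂ _ _ h₁ h₂ =>
    obtain ⟨x₁, hx₁, k₁, e₁⟩ := h₁
    obtain ⟨x₂, hx₂, k₂, e₂⟩ := h₂
    refine ⟨x₁ * x₂, mul_mem hx₁ hx₂, k₁ + k₂, ?_⟩
    rw [Polynomial.map_mul, ← e₁, ← e₂, pow_add]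
    ring

/-- **The Rees algebra commutes with localization away from an element.** -/
theorem isLocalization_reesMap (J : Ideal B) (hJ : J = I.map (algebraMap A B)) (h : I ≤ J.comap (algebraMap A B)) :
    letI := (reesMap (algebraMap A B) I J h).toAlgebra
    IsLocalization.Away (algebraMap A ↥(reesAlgebra I) f) ↥(reesAlgebra J) := by
  letI := (reesMap (algebraMap A B) I J h).toAlgebra
  subst hJ
  have hunit : IsUnit (reesMap (algebraMap A B) I _ h (algebraMap A ↥(reesAlgebra I) f)) := by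
    rw [reesMap_algebraMap]
    exact (IsLocalization.Away.algebraMap_isUnit (S := B) f).map (algebraMap B ↥(reesAlgebra (I.map (algebraMap A B))))
  refine (isLocalization_iff _ _).mpr ⟨?_, ?_, ?_⟩
  · rintro ⟨_, k, rfl⟩
    change IsUnit (reesMap (algebraMap A B) I _ h (algebraMap A ↥(reesAlgebra I) f ^ k))
    rw [map_pow]
    exact hunit.pow k
  · intro z
    obtain ⟨x, hx, k, e⟩ := exists_rees_lift f I z.1 z.2
    refine ⟨(⟨x, hx⟩, ⟨algebraMap A ↥(reesAlgebra I) f ^ k, k, rfl⟩), ?_⟩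
    apply Subtype.ext
    change (z : B[X]) * ((reesMap (algebraMap A B) I _ h (algebraMap A ↥(reesAlgebra I) f ^ k) :
      ↥(reesAlgebra (I.map (algebraMap A B)))) : B[X]) = Polynomial.map (algebraMap A B) x
    rw [coe_reesMap, ← e]
    congr 1
    change Polynomial.map (algebraMap A B) ((C f : A[X]) ^ k) = _
    rw [Polynomial.map_pow, Polynomial.map_C]
  · intro x y hxy
    have h0 : Polynomial.map (algebraMap A B) ((x : A[X]) - (y : A[X])) = 0 := by
      rw [Polynomial.map_sub, sub_eq_zero]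
      exact congrArg Subtype.val hxy
    obtain ⟨k, hk⟩ := exists_pow_mul_eq_zero f _ h0
    refine ⟨⟨algebraMap A ↥(reesAlgebra I) f ^ k, k, rfl⟩, ?_⟩
    apply Subtype.ext
    change ((C f : A[X]) ^ k) * (x : A[X]) = ((C f : A[X]) ^ k) * (y : A[X])
    rw [← sub_eq_zero, ← mul_sub, ← C_pow]
    exact hk

end Loc

end Groth.Agent.Lib.Helper25.ReesLoc
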