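import Groth.Agent.Lib.Helper25.OfAffGr
import Groth.Agent.Lib.Helper25.ReesLoc
import Groth.Agent.Lib.Helper25.PolyRelProj4
import Groth.Prelude.Def_Rees
import Groth.Prelude.Def_BlowUp2
/-!
# The Rees algebra of a quasi-coherent ideal as a quasi-coherent graded algebra
-/
universe u
open CategoryTheory CategoryTheory.Limits AlgebraicGeometry Opposite TopologicalSpace Polynomial
open scoped HomogeneousIdeal
open RelSpec AlgebraicGeometry.Scheme.AffineZariskiSite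

namespace Groth.Agent.Lib.Helper25.ReesQC
open Groth.Agent.Lib.Helper25.ProjClosedAlg RelProj
open Groth.Agent.Lib.Helper3 Groth.Agent.Lib.Helper25.ReesLoc

section ring
variable {A : Type u} [CommRing A] (I : Ideal A)

/-- the grading of the Rees algebra by additive subgroups -/
noncomputable def rdeg (d : ℕ) : AddSubgroup ↥(reesAlgebra I) :=
  imgDeg (Rees.deg (reesAlgebra I)) (RingHom.id ↥(reesAlgebra I)) d

theorem mem_rdeg_iff (d : ℕ) (x : ↥(reesAlgebra I)) :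
    x ∈ rdeg I d ↔ ∀ m : ℕ, m ≠ d → (x : A[X]).coeff m = 0 := by
  constructor
  · rintro ⟨a, ha, rfl⟩
    exact ha
  · intro h
    exact ⟨x, h, rfl⟩

theorem mem_rdeg_iff' (d : ℕ) (x : ↥(reesAlgebra I)) : x ∈ rdeg I d ↔ x ∈ Rees.deg (reesAlgebra I) d :=
  mem_rdeg_iff I d x

noncomputable instance rdeg_gradedRing : GradedRing (rdeg I) :=
  imgGradedRing (Rees.deg (reesAlgebra I)) (RingHom.id ↥(reesAlgebra I)) Function.surjective_id (by
    have : RingHom.ker (RingHom.id ↥(reesAlgebra I)) = ⊥ :=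
      (RingHom.injective_iff_ker_eq_bot _).mp Function.injective_id
    rw [this]
    intro i r hr
    rw [Ideal.mem_bot] at hr
    subst hr
    simp)

theorem algebraMap_mem_rdeg (a : A) : algebraMap A ↥(reesAlgebra I) a ∈ rdeg I 0 := by
  rw [mem_rdeg_iff]
  intro m hm
  change (C a : A[X]).coeff m = 0
  rw [coeff_C, if_neg hm]

/-- the degree one element `a t` -/
noncomputable def tl (a : A) (ha : a ∈ I) : ↥(reesAlgebra I) :=
  ⟨monomial 1 a, reesAlgebra.monomial_mem.mpr (by rwa [pow_one])⟩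

theorem tl_mem (a : A) (ha : a ∈ I) : tl I a ha ∈ rdeg I 1 := by
  rw [mem_rdeg_iff]
  intro m hm
  change (monomial 1 a : A[X]).coeff m = 0
  rw [coeff_monomial, if_neg (Ne.symm hm)]

theorem closure_rdeg : Subring.closure ((rdeg I 0 : Set ↥(reesAlgebra I)) ∪ (rdeg I 1 : Set _)) = ⊤ := by
  rw [eq_top_iff]
  rintro ⟨x, hx⟩ -
  have hx' : x ∈ Algebra.adjoin A (Submodule.map (monomial 1 : A →ₗ[A] A[X]) I : Set A[X]) := by
    rw [adjoin_monomial_eq_reesAlgebra]; exact hx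
  have key : ∀ (y : A[X]), y ∈ Algebra.adjoin A (Submodule.map (monomial 1 : A →ₗ[A] A[X]) I : Set A[X]) →
      ∃ z : ↥(reesAlgebra I), (z : A[X]) = y ∧
        z ∈ Subring.closure ((rdeg I 0 : Set ↥(reesAlgebra I)) ∪ (rdeg I 1 : Set _)) := by
    intro y hy
    induction hy using Algebra.adjoin_induction with
    | mem y hy =>
      obtain ⟨a, ha, rfl⟩ := hy
      exact ⟨tl I a ha, rfl, Subring.subset_closure (Or.inr (tl_mem I a ha))⟩
    | algebraMap r =>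
      exact ⟨algebraMap A ↥(reesAlgebra I) r, rfl, Subring.subset_closure (Or.inl (algebraMap_mem_rdeg I r))⟩
    | add y₁ y₂ _ _ h₁ h₂ =>
      obtain ⟨z₁, e₁, m₁⟩ := h₁
      obtain ⟨z₂, e₂, m₂⟩ := h₂
      exact ⟨z₁ + z₂, by rw [Subalgebra.coe_add, e₁, e₂], add_mem m₁ m₂⟩
    | mul y₁ y₂ _ _ h₁ h₂ =>
      obtain ⟨z₁, e₁, m₁⟩ := h₁
      obtain ⟨z₂, e₂, m₂⟩ := h₂
      exact ⟨z₁ * z₂, by rw [Subalgebra.coe_mul, e₁, e₂], mul_mem m₁ m₂⟩
  obtain ⟨z, hz, hm⟩ := key x hx'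
  have : z = ⟨x, hx⟩ := Subtype.ext hz
  rwa [this] at hm

theorem exists_finset_rdeg_one (hI : I.FG) :
    ∃ T : Finset ↥(reesAlgebra I), (↑T : Set ↥(reesAlgebra I)) ⊆ (rdeg I 1 : Set _) ∧
      ∀ x ∈ rdeg I 1, ∃ c : ↥(reesAlgebra I) → A, x = ∑ t ∈ T, algebraMap A ↥(reesAlgebra I) (c t) * t := by
  classical
  obtain ⟨G, hG⟩ := hI
  have hGI : ∀ g ∈ G, g ∈ I := fun g hg => hG ▸ Ideal.subset_span hg
  let τ : ↥G → ↥(reesAlgebra I) := fun g => tl I g.1 (hGI g.1 g.2)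
  refine ⟨G.attach.image τ, ?_, ?_⟩
  · intro t ht
    obtain ⟨g, -, rfl⟩ := Finset.mem_image.mp (Finset.mem_coe.mp ht)
    exact tl_mem I _ _
  · intro x hx
    have hx1 : (x : A[X]).coeff 1 ∈ I := by
      have := (mem_reesAlgebra_iff I _).mp x.2 1
      rwa [pow_one] at this
    have hxm : (x : A[X]) = monomial 1 ((x : A[X]).coeff 1) := by
      ext m
      rw [coeff_monomial]
      by_cases hm : 1 = m
      · subst hm; rw [if_pos rfl]
      · rw [if_neg hm]; exact (mem_rdeg_iff I 1 x).mp hx m (Ne.symm hm)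
    have hx1' : (x : A[X]).coeff 1 ∈ Ideal.span (G : Set A) := by rw [hG]; exact hx1
    obtain ⟨f, -, hf⟩ := Submodule.mem_span_finset.mp hx1'
    obtain ⟨c, hc⟩ := PolyRelProj.exists_coeff_image (algebraMap A ↥(reesAlgebra I)) G.attach τ (fun g => f g.1)
    refine ⟨c, ?_⟩
    rw [← hc]
    apply Subtype.ext
    rw [hxm, ← hf]
    rw [AddSubmonoidClass.coe_finsetSum, ← Finset.sum_attach G, map_sum]
    refine Finset.sum_congr rfl fun g _ => ?_
    change monomial 1 (f g.1 • g.1) = (C (f g.1) : A[X]) * monomial 1 g.1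
    rw [C_mul_monomial, smul_eq_mul]

theorem reesMap_mem_rdeg {B : Type u} [CommRing B] (ρ : A →+* B) (J : Ideal B) (h : I ≤ J.comap ρ) {d : ℕ}
    {x : ↥(reesAlgebra I)} (hx : x ∈ rdeg I d) : reesMap ρ I J h x ∈ rdeg J d := by
  refine (mem_rdeg_iff _ d _).mpr fun m hm => ?_
  have h0 := (mem_rdeg_iff _ d x).mp hx m hm
  rw [coe_reesMap, coeff_map, h0, map_zero]

end ring

variable {X : Scheme.{u}} (𝓘 : X.IdealSheafData)

/-- the restriction maps of the Rees algebras -/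
noncomputable def reesRes {U V : X.AffineZariskiSite} (i : V.1 ≤ U.1) :
    ↥(reesAlgebra (𝓘.ideal ⟨U.1, U.2⟩)) →+* ↥(reesAlgebra (𝓘.ideal ⟨V.1, V.2⟩)) :=
  reesMap (X.presheaf.map (homOfLE i).op).hom _ _
    (𝓘.ideal_le_comap_ideal (U := ⟨V.1, V.2⟩) (V := ⟨U.1, U.2⟩) i)

theorem coe_reesRes {U V : X.AffineZariskiSite} (i : V.1 ≤ U.1) (x : ↥(reesAlgebra (𝓘.ideal ⟨U.1, U.2⟩))) :
    ((reesRes 𝓘 i x : ↥(reesAlgebra (𝓘.ideal ⟨V.1, V.2⟩))) : Γ(X, V.1)[X]) =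
      Polynomial.map (X.presheaf.map (homOfLE i).op).hom (x : Γ(X, U.1)[X]) := rfl

theorem reesRes_algebraMap {U V : X.AffineZariskiSite} (i : V.1 ≤ U.1) (r : Γ(X, U.1)) :
    reesRes 𝓘 i (algebraMap Γ(X, U.1) ↥(reesAlgebra (𝓘.ideal ⟨U.1, U.2⟩)) r) =
      algebraMap Γ(X, V.1) ↥(reesAlgebra (𝓘.ideal ⟨V.1, V.2⟩)) ((X.presheaf.map (homOfLE i).op).hom r) :=
  reesMap_algebraMap _ _ _ _ r

/-- the functor `U ↦ Rees(𝓘(U))` on the affine opens -/
noncomputable def reesF : X.AffineZariskiSiteᵒᵖ ⥤ CommRingCat.{u} where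
  obj U := CommRingCat.of ↥(reesAlgebra (𝓘.ideal ⟨U.unop.1, U.unop.2⟩))
  map {U V} i := CommRingCat.ofHom (reesRes 𝓘 (toOpens_mono i.unop.le))
  map_id U := by
    rw [← CommRingCat.ofHom_id]
    refine congrArg CommRingCat.ofHom (RingHom.ext fun x => Subtype.ext ?_)
    have : (X.presheaf.map (homOfLE (toOpens_mono (𝟙 U).unop.le)).op).hom = RingHom.id _ :=
      congrArg CommRingCat.Hom.hom (X.presheaf.map_id (op U.unop.1))
    rw [coe_reesRes, this, Polynomial.map_id]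
    rfl
  map_comp {U V W} i j := by
    rw [← CommRingCat.ofHom_comp]
    refine congrArg CommRingCat.ofHom (RingHom.ext fun x => Subtype.ext ?_)
    rw [RingHom.comp_apply, coe_reesRes, coe_reesRes, coe_reesRes, Polynomial.map_map]
    congr 1
    rw [← CommRingCat.hom_comp, ← Functor.map_comp]
    rfl

/-- the structure map -/
noncomputable def reesα : (toOpensFunctor X).op ⋙ X.presheaf ⟶ reesF 𝓘 where
  app U := CommRingCat.ofHom (algebraMap Γ(X, U.unop.1) ↥(reesAlgebra (𝓘.ideal ⟨U.unop.1, U.unop.2⟩)))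
  naturality {U V} i := by
    ext r
    exact (reesRes_algebraMap 𝓘 (toOpens_mono i.unop.le) r).symm

set_option backward.isDefEq.respectTransparency false in
theorem reesα_coequifibered : (reesα 𝓘).Coequifibered := by
  refine coequifibered_iff_forall_isLocalizationAway.mpr fun U f => ?_
  letI : Algebra Γ(X, U.1) Γ(X, X.basicOpen f) :=
    (X.presheaf.map (homOfLE (X.basicOpen_le f)).op).hom.toAlgebra
  haveI hloc : IsLocalization.Away f Γ(X, X.basicOpen f) := U.2.isLocalization_basicOpen f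
  exact isLocalization_reesMap f (𝓘.ideal ⟨U.1, U.2⟩) (𝓘.ideal ⟨X.basicOpen f, U.2.basicOpen f⟩)
    (𝓘.map_ideal_basicOpen ⟨U.1, U.2⟩ f).symm
    (𝓘.ideal_le_comap_ideal (U := ⟨X.basicOpen f, U.2.basicOpen f⟩) (V := ⟨U.1, U.2⟩) (X.basicOpen_le f))

/-- the grading over an affine open -/
noncomputable def rdegU (U : X.Opens) (hU : IsAffineOpen U) :
    ℕ → AddSubgroup ((reesF 𝓘).obj (op (OfAff.aff U hU))) :=
  rdeg (𝓘.ideal ⟨U, hU⟩)

noncomputable instance (U : X.Opens) (hU : IsAffineOpen U) : GradedRing (rdegU 𝓘 U hU) :=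
  rdeg_gradedRing (𝓘.ideal ⟨U, hU⟩)

theorem rdegU_res (U : X.Opens) (hU : IsAffineOpen U) (f : Γ(X, U)) (d : ℕ)
    (x : (reesF 𝓘).obj (op (OfAff.aff U hU))) (hx : x ∈ rdegU 𝓘 U hU d) :
    ((reesF 𝓘).map (homOfLE ((OfAff.aff U hU).basicOpen_le f)).op).hom x ∈
      rdegU 𝓘 (X.basicOpen f) (hU.basicOpen f) d := by
  exact reesMap_mem_rdeg _ _ _
    (𝓘.ideal_le_comap_ideal (U := ⟨X.basicOpen f, hU.basicOpen f⟩) (V := ⟨U, hU⟩) (X.basicOpen_le f)) hx

theorem rdegU_str (U : X.Opens) (hU : IsAffineOpen U) (r : Γ(X, U)) :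
    ((reesα 𝓘).app (op (OfAff.aff U hU))).hom r ∈ rdegU 𝓘 U hU 0 :=
  algebraMap_mem_rdeg _ r

/-- **The Rees algebra `⨁ 𝓘ⁿ` as a quasi-coherent graded algebra.** -/
noncomputable abbrev reesGrAlg : QCGrAlg X :=
  OfAffGr.grAlg (reesα_coequifibered 𝓘) (rdegU 𝓘) (rdegU_res 𝓘) (rdegU_str 𝓘)

theorem isGenDegOne_rees : (reesGrAlg 𝓘).IsGenDegOne :=
  OfAffGr.isGenDegOne_grAlg (reesα_coequifibered 𝓘) (rdegU 𝓘) (rdegU_res 𝓘) (rdegU_str 𝓘)
    (fun U hU => closure_rdeg (𝓘.ideal ⟨U, hU⟩))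

theorem isFTDeg_one_rees (h𝓘 : BlowUp.IsFiniteTypeIdeal 𝓘) : (reesGrAlg 𝓘).IsFTDeg 1 :=
  OfAffGr.isFTDeg_grAlg (reesα_coequifibered 𝓘) (rdegU 𝓘) (rdegU_res 𝓘) (rdegU_str 𝓘) 1
    (fun U hU => exists_finset_rdeg_one (𝓘.ideal ⟨U, hU⟩) (h𝓘 ⟨U, hU⟩))

end Groth.Agent.Lib.Helper25.ReesQC
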