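import Mathlib
import Groth.Prelude.Def_CAlg
import Groth.Agent.Lib.Helper18.MCMFree
import Groth.Agent.S0321

/-!
# Reflexive modules over regular local rings of dimension ≤ 2 are free (helper25)

* `exists_exact_dual`: a finite reflexive module over a Noetherian ring is the kernel of a map of
  finite free modules, with torsionless cokernel.
* `one_le_depth_of_injective_free`: a finite module embedded in a free module over a local domain
  of positive dimension has depth ≥ 1.
* `free_of_isReflexive`: reflexive finite modules over a regular local ring of dimension ≤ 2 are free.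
-/

set_option autoImplicit false
universe u

open IsLocalRing

namespace Groth.Agent.Lib.Helper25.ReflexiveFree

section Dual

variable {R : Type u} [CommRing R] [IsNoetherianRing R]

/-- A finite reflexive module sits in an exact sequence `0 → M → F → C → 0` with `F` finite free and
`C` a submodule of a finite free module. -/
theorem exists_exact_dual (M : Type u) [AddCommGroup M] [Module R M] [Module.Finite R M]
    [Module.IsReflexive R M] :
    ∃ (a b : ℕ) (i : M →ₗ[R] Module.Dual R (Fin b → R))
      (ψ : Module.Dual R (Fin b → R) →ₗ[R] Module.Dual R (Fin a → R)),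
      Function.Injective i ∧ Function.Exact i ψ := by
  -- presentation of the dual
  haveI : Module.Finite R (Module.Dual R M) := inferInstance
  obtain ⟨b, π, hπ⟩ := Module.Finite.exists_fin' R (Module.Dual R M)
  haveI : Module.Finite R (LinearMap.ker π) := inferInstance
  obtain ⟨a, ρ, hρ⟩ := Module.Finite.exists_fin' R (LinearMap.ker π)
  let ψ₀ : (Fin a → R) →ₗ[R] (Fin b → R) := (LinearMap.ker π).subtype ∘ₗ ρ
  have hrange : LinearMap.range ψ₀ = LinearMap.ker π := by
    rw [LinearMap.range_comp, LinearMap.range_eq_top.mpr hρ, Submodule.map_top,
      Submodule.range_subtype]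
  refine ⟨a, b, π.dualMap ∘ₗ (Module.evalEquiv R M).toLinearMap, ψ₀.dualMap, ?_, ?_⟩
  · exact (LinearMap.dualMap_injective_of_surjective hπ).comp (Module.evalEquiv R M).injective
  · rw [LinearMap.exact_iff]
    rw [LinearMap.ker_dualMap_eq_dualAnnihilator_range, hrange,
      ← LinearMap.range_dualMap_eq_dualAnnihilator_ker_of_surjective π hπ,
      LinearMap.range_comp, LinearMap.range_eq_top.mpr (Module.evalEquiv R M).surjective,
      Submodule.map_top]

end Dual

section Depth

variable {R : Type u} [CommRing R] [IsLocalRing R] [IsDomain R]

/-- A module embedded in a free module over a local domain which is not a field has depth ≥ 1. -/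
theorem one_le_depth_of_injective_free (hR : ¬ IsField R)
    (C F : Type u) [AddCommGroup C] [Module R C] [AddCommGroup F] [Module R F] [Module.Free R F]
    (j : C →ₗ[R] F) (hj : Function.Injective j) : (1 : ℕ∞) ≤ LocCoh.depth R C := by
  obtain ⟨r, hrm, hr0⟩ : ∃ r ∈ maximalIdeal R, r ≠ 0 := by
    by_contra hcon
    push Not at hcon
    have hbot : maximalIdeal R = ⊥ := by
      rw [eq_bot_iff]
      intro x hx
      rw [Ideal.mem_bot]
      exact hcon x hx
    exact hR (IsLocalRing.isField_iff_maximalIdeal_eq.mpr hbot)
  unfold LocCoh.depth LocCoh.idealDepth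
  split_ifs with h
  · exact le_top
  · have hreg : IsSMulRegular C r := by
      intro x y hxy
      apply hj
      have h1 : r • j x = r • j y := by
        rw [← map_smul, ← map_smul]
        exact congrArg j hxy
      have hF : IsSMulRegular F r :=
        Module.IsTorsionFree.isSMulRegular (R := R) (M := F) (IsRegular.of_ne_zero hr0)
      exact hF h1
    have hw : RingTheory.Sequence.IsWeaklyRegular C [r] := by
      rw [RingTheory.Sequence.isWeaklyRegular_cons_iff]
      exact ⟨hreg, RingTheory.Sequence.IsWeaklyRegular.nil R _⟩
    have hmem : ∀ s ∈ [r], s ∈ maximalIdeal R := by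
      intro s hs
      rw [List.mem_singleton] at hs
      exact hs ▸ hrm
    have := le_iSup₂ (f := fun (rs : List R)
      (_ : RingTheory.Sequence.IsWeaklyRegular C rs ∧ ∀ r ∈ rs, r ∈ maximalIdeal R) =>
        (rs.length : ℕ∞)) [r] ⟨hw, hmem⟩
    simpa using this

end Depth

section Main

open Groth.Agent.Lib.Helper18.CM

/-- **Reflexive modules over a regular local ring of dimension ≤ 2 are free.** -/
theorem free_of_isReflexive (R : Type u) [CommRing R] [IsRegularLocalRing R]
    (hdim : ringKrullDim R ≤ 2) (M : Type u) [AddCommGroup M] [Module R M] [Module.Finite R M]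
    [Module.IsReflexive R M] : Module.Free R M := by
  haveI hdom : IsDomain R := Groth.Agent.Lib.Helper21.isDomain_of_isRegularLocalRing R
  obtain ⟨d, hd⟩ := Groth.Agent.Lib.Helper21.exists_nat_eq_ringKrullDim (R := R)
  have hd2 : d ≤ 2 := by
    rw [hd] at hdim
    exact_mod_cast hdim
  apply free_of_le_depth R M
  rw [hd]
  have goal : (d : ℕ∞) ≤ LocCoh.depth R M := by
    rcases Nat.eq_zero_or_pos d with h0 | hpos
    · rw [h0]; exact bot_le
    · obtain ⟨a, b, i, ψ, hi, hex⟩ := exists_exact_dual (R := R) M
      -- the cokernel as the range of ψ
      let C := LinearMap.range ψ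
      let g : Module.Dual R (Fin b → R) →ₗ[R] C := ψ.rangeRestrict
      have hg : Function.Surjective g := LinearMap.surjective_rangeRestrict ψ
      have hex' : Function.Exact i g := by
        intro x
        rw [← hex x]
        constructor
        · intro h
          exact congrArg Subtype.val h
        · intro h
          apply Subtype.ext
          exact h
      have hdl := (Groth.Agent.S0321.result R (maximalIdeal R) M (Module.Dual R (Fin b → R)) C
        i g hi hg hex').2.2
      change min (LocCoh.depth R (Module.Dual R (Fin b → R))) (LocCoh.depth R C + 1) ≤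
        LocCoh.depth R M at hdl
      have hF : (d : ℕ∞) ≤ LocCoh.depth R (Module.Dual R (Fin b → R)) := by
        have := ringKrullDim_le_depth_of_free R (Module.Dual R (Fin b → R))
        rw [hd] at this
        exact_mod_cast this
      have hnf : ¬ IsField R := by
        intro hf
        have h0 : ringKrullDim R = 0 := by
          letI := hf.toField
          exact ringKrullDim_eq_zero_of_field R
        rw [hd] at h0
        have : d = 0 := by exact_mod_cast h0
        omega
      have hC : (1 : ℕ∞) ≤ LocCoh.depth R C :=
        one_le_depth_of_injective_free hnf C (Module.Dual R (Fin a → R)) C.subtype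
          C.injective_subtype
      have hC2 : (d : ℕ∞) ≤ LocCoh.depth R C + 1 := by
        calc (d : ℕ∞) ≤ 2 := by exact_mod_cast hd2
          _ = 1 + 1 := by norm_num
          _ ≤ LocCoh.depth R C + 1 := add_le_add hC le_rfl
      exact (le_min hF hC2).trans hdl
  exact_mod_cast goal

end Main

end Groth.Agent.Lib.Helper25.ReflexiveFree
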