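import Mathlib
import Groth.Prelude.Def_Frob
import Groth.Prelude.Def_Omega4
import Groth.Agent.Helper19.OmegaD8

set_option autoImplicit false
universe u
open CategoryTheory CategoryTheory.Limits AlgebraicGeometry TopologicalSpace Opposite
open Groth.Agent.Lib.Helper29.QCoh Groth.Agent.Helper19.OmegaD

namespace Groth.Agent.Lib.Helper25.RelFrobDer

/-- A subring containing both legs of a pushout of commutative rings is everything. -/
theorem subring_eq_top_of_isPushout {R A B P : CommRingCat.{u}} {f : R ⟶ A} {g : R ⟶ B}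
    {inl : A ⟶ P} {inr : B ⟶ P} (h : IsPushout f g inl inr) (K : Subring P)
    (hl : ∀ a, inl a ∈ K) (hr : ∀ b, inr b ∈ K) : K = ⊤ := by
  let ι : CommRingCat.of K ⟶ P := CommRingCat.ofHom K.subtype
  let l' : A ⟶ CommRingCat.of K := CommRingCat.ofHom (inl.hom.codRestrict K hl)
  let r' : B ⟶ CommRingCat.of K := CommRingCat.ofHom (inr.hom.codRestrict K hr)
  have hl' : l' ≫ ι = inl := by ext a; rfl
  have hr' : r' ≫ ι = inr := by ext b; rfl
  have w : f ≫ l' = g ≫ r' := by
    ext x
    exact congrArg (fun k => k.hom x) h.w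
  let φ := h.desc l' r' w
  have hφ : φ ≫ ι = 𝟙 P := by
    apply h.hom_ext
    · rw [← Category.assoc, h.inl_desc, hl', Category.comp_id]
    · rw [← Category.assoc, h.inr_desc, hr', Category.comp_id]
  rw [eq_top_iff]
  intro x _
  have := congrArg (fun k => k.hom x) hφ
  change ((φ x : K) : P) = x at this
  rw [← this]
  exact (φ x).2

variable {X S : Scheme.{u}}

/-- power rule -/
theorem der_pow {f : X ⟶ S} {F : X.Modules} (D : OmegaSh.Der f F) (U : X.Opens) (a : Γ(X, U))
    (n : ℕ) : D.app U (a ^ (n + 1)) = (((n + 1 : ℕ) : Γ(X, U)) * a ^ n) • D.app U a := by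
  induction n with
  | zero => simp
  | succ n ih =>
    have h1 : D.app U (a * a ^ (n + 1)) = a • D.app U (a ^ (n + 1)) + (a ^ (n + 1)) • D.app U a :=
      D.d_mul (X := op U) a (a ^ (n + 1))
    rw [pow_succ' a (n + 1), h1, ih, smul_smul, ← add_smul]
    congr 1
    push_cast
    ring

theorem der_pow_eq_zero {f : X ⟶ S} {F : X.Modules} (D : OmegaSh.Der f F) (U : X.Opens)
    (a : Γ(X, U)) (n : ℕ) (h : D.app U a = 0) : D.app U (a ^ n) = 0 := by
  cases n with
  | zero =>
    rw [pow_zero]
    exact D.d_one (op U)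
  | succ n => rw [der_pow, h, smul_zero]


theorem der_pow_char {f : X ⟶ S} {F : X.Modules} (D : OmegaSh.Der f F) (U : X.Opens)
    (a : Γ(X, U)) (n : ℕ) (h : (n : Γ(X, U)) = 0) (hn : n ≠ 0) : D.app U (a ^ n) = 0 := by
  obtain ⟨m, rfl⟩ : ∃ m, n = m + 1 := ⟨n - 1, (Nat.succ_pred hn).symm⟩
  rw [der_pow, h, zero_mul, zero_smul]

open FrobSch

/-- On a chart of the Frobenius twist, `d` kills the relative-Frobenius pullback of every section. -/
theorem der_relFrob_chart (p : ℕ) [Fact p.Prime] [FrobSch.IsCharP S p] (f : X ⟶ S)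
    {Ω : X.Modules} (d : OmegaSh.Der f Ω)
    {US : S.Opens} (hUS : IsAffineOpen US) {UX : X.Opens} (hUX : IsAffineOpen UX)
    (hUXS : UX ≤ f ⁻¹ᵁ US) (W : X.Opens)
    (hW : W ≤ relFrob f p ⁻¹ᵁ
      (pullback.fst f (frob S p) ⁻¹ᵁ UX ⊓ pullback.snd f (frob S p) ⁻¹ᵁ US))
    (u : Γ(frobTwist f p, pullback.fst f (frob S p) ⁻¹ᵁ UX ⊓ pullback.snd f (frob S p) ⁻¹ᵁ US)) :
    d.app W ((relFrob f p).appLE _ W hW u) = 0 := by
  haveI : IsCharP X p := IsCharP.of_hom f p
  have H : IsPullback (pullback.fst f (frob S p)) (pullback.snd f (frob S p)) f (frob S p) :=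
    IsPullback.of_hasPullback f (frob S p)
  have hUST : US ≤ frob S p ⁻¹ᵁ US := le_rfl
  have hPO := (isIso_pushoutSection_iff H hUST hUXS rfl).mp
    (isIso_pushoutSection_of_isAffineOpen H hUST hUXS rfl hUS hUS hUX)
  let K : Subring Γ(frobTwist f p,
      pullback.fst f (frob S p) ⁻¹ᵁ UX ⊓ pullback.snd f (frob S p) ⁻¹ᵁ US) :=
    { carrier := {u | d.app W ((relFrob f p).appLE _ W hW u) = 0}
      mul_mem' := fun {a b} ha hb => by
        change d.app W ((relFrob f p).appLE _ W hW (a * b)) = 0
        rw [map_mul]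
        have h1 : ∀ x y : Γ(X, W), d.app W (x * y) = x • d.app W y + y • d.app W x :=
          fun x y => d.d_mul (X := op W) x y
        have ha' : d.app W ((relFrob f p).appLE _ W hW a) = 0 := ha
        have hb' : d.app W ((relFrob f p).appLE _ W hW b) = 0 := hb
        rw [h1, ha', hb', smul_zero, smul_zero, add_zero]
      one_mem' := by
        change d.app W ((relFrob f p).appLE _ W hW 1) = 0
        rw [map_one]
        exact d.d_one (op W)
      add_mem' := fun {a b} ha hb => by
        change d.app W ((relFrob f p).appLE _ W hW (a + b)) = 0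
        rw [map_add, map_add, ha, hb, add_zero]
      zero_mem' := by
        change d.app W ((relFrob f p).appLE _ W hW 0) = 0
        rw [map_zero, map_zero]
      neg_mem' := fun {a} ha => by
        change d.app W ((relFrob f p).appLE _ W hW (-a)) = 0
        rw [map_neg, map_neg, ha, neg_zero] }
  have hK : K = ⊤ := by
    apply subring_eq_top_of_isPushout hPO K
    · intro a
      change d.app W ((relFrob f p).appLE _ W hW ((pullback.fst f (frob S p)).appLE UX _ _ a)) = 0
      have e1 := congrArg (fun k => k.hom a)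
        (Scheme.Hom.appLE_comp_appLE (relFrob f p) (pullback.fst f (frob S p)) UX _ W
          inf_le_left hW)
      change (relFrob f p).appLE _ W hW ((pullback.fst f (frob S p)).appLE UX _ _ a) = _ at e1
      rw [e1]
      have e2 : (relFrob f p ≫ pullback.fst f (frob S p)).appLE UX W
          (hW.trans ((relFrob f p).preimage_mono inf_le_left)) =
          (frob X p).appLE UX W (by
            have := hW.trans ((relFrob f p).preimage_mono inf_le_left)
            rwa [← Scheme.Hom.comp_preimage, relFrob_fst] at this) :=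
        appLE_congr (relFrob_fst f p) _ _
      rw [e2]
      change d.app W (X.presheaf.map (homOfLE _).op (a ^ p)) = 0
      rw [map_pow]
      exact der_pow_char d W _ p (natCast_eq_zero_app X p W) (Fact.out : p.Prime).ne_zero
    · intro b
      change d.app W ((relFrob f p).appLE _ W hW ((pullback.snd f (frob S p)).appLE US _ _ b)) = 0
      have e1 := congrArg (fun k => k.hom b)
        (Scheme.Hom.appLE_comp_appLE (relFrob f p) (pullback.snd f (frob S p)) US _ W
          inf_le_right hW)
      change (relFrob f p).appLE _ W hW ((pullback.snd f (frob S p)).appLE US _ _ b) = _ at e1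
      rw [e1]
      have e2 : (relFrob f p ≫ pullback.snd f (frob S p)).appLE US W
          (hW.trans ((relFrob f p).preimage_mono inf_le_right)) =
          f.appLE US W (by
            have := hW.trans ((relFrob f p).preimage_mono inf_le_right)
            rwa [← Scheme.Hom.comp_preimage, relFrob_snd] at this) :=
        appLE_congr (relFrob_snd f p) _ _
      rw [e2]
      exact der_appLE' f d _ b
  have : u ∈ K := by rw [hK]; trivial
  exact this


/-- A universal `S`-derivation kills every section pulled back along the relative Frobenius. -/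
theorem der_relFrob_app (p : ℕ) [Fact p.Prime] [FrobSch.IsCharP S p] (f : X ⟶ S)
    {Ω : X.Modules} (d : OmegaSh.Der f Ω) (V : (frobTwist f p).Opens)
    (t : Γ(frobTwist f p, V)) :
    d.app (relFrob f p ⁻¹ᵁ V) ((relFrob f p).app V t) = 0 := by
  haveI : IsCharP X p := IsCharP.of_hom f p
  apply eq_zero_of_germ_eq_zero
  intro x hx
  obtain ⟨US, hUS, hfx, -⟩ := exists_isAffineOpen_mem_and_subset (x := f x) (U := ⊤) trivial
  obtain ⟨UX, hUX, hxUX, hUXS⟩ :=
    exists_isAffineOpen_mem_and_subset (x := x) (U := f ⁻¹ᵁ US) hfx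
  have H : IsPullback (pullback.fst f (frob S p)) (pullback.snd f (frob S p)) f (frob S p) :=
    IsPullback.of_hasPullback f (frob S p)
  have hUY : IsAffineOpen
      (pullback.fst f (frob S p) ⁻¹ᵁ UX ⊓ pullback.snd f (frob S p) ⁻¹ᵁ US) := by
    haveI : IsAffine US.toScheme := hUS
    haveI : IsAffine UX.toScheme := hUX
    exact IsAffine.of_isIso (Scheme.Hom.isPullback_resLE H
      (le_rfl : US ≤ frob S p ⁻¹ᵁ US) hUXS rfl).isoPullback.hom
  have hyUY : relFrob f p x ∈
      pullback.fst f (frob S p) ⁻¹ᵁ UX ⊓ pullback.snd f (frob S p) ⁻¹ᵁ US := by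
    constructor
    · change (relFrob f p ≫ pullback.fst f (frob S p)) x ∈ UX
      rw [relFrob_fst]; exact hxUX
    · change (relFrob f p ≫ pullback.snd f (frob S p)) x ∈ US
      rw [relFrob_snd]; exact hfx
  obtain ⟨h, hhV, hyh⟩ := hUY.exists_basicOpen_le (V := V) ⟨relFrob f p x, hx⟩ hyUY
  have hxW : x ∈ relFrob f p ⁻¹ᵁ ((frobTwist f p).basicOpen h) := hyh
  have hWV : relFrob f p ⁻¹ᵁ ((frobTwist f p).basicOpen h) ≤ relFrob f p ⁻¹ᵁ V :=
    (relFrob f p).preimage_mono hhV
  have hWUY : relFrob f p ⁻¹ᵁ ((frobTwist f p).basicOpen h) ≤ relFrob f p ⁻¹ᵁ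
      (pullback.fst f (frob S p) ⁻¹ᵁ UX ⊓ pullback.snd f (frob S p) ⁻¹ᵁ US) :=
    (relFrob f p).preimage_mono ((frobTwist f p).basicOpen_le h)
  haveI := hUY.isLocalization_basicOpen h
  obtain ⟨⟨u, ⟨_, n, rfl⟩⟩, hu⟩ := IsLocalization.surj (Submonoid.powers h)
    ((frobTwist f p).presheaf.map (homOfLE hhV).op t)
  have e_t : (relFrob f p).app ((frobTwist f p).basicOpen h)
      ((frobTwist f p).presheaf.map (homOfLE hhV).op t) =
      X.presheaf.map (homOfLE hWV).op ((relFrob f p).app V t) :=
    congrArg (fun k => k.hom t) ((relFrob f p).naturality (homOfLE hhV).op)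
  have e_u : ∀ v, (relFrob f p).app ((frobTwist f p).basicOpen h)
      (algebraMap Γ(frobTwist f p, _) Γ(frobTwist f p, (frobTwist f p).basicOpen h) v) =
      (relFrob f p).appLE _ _ hWUY v := fun v =>
    congrArg (fun k => k.hom v)
      ((relFrob f p).naturality (homOfLE ((frobTwist f p).basicOpen_le h)).op)
  have key := congrArg ((relFrob f p).app ((frobTwist f p).basicOpen h)) hu
  rw [map_mul, e_t, e_u, map_pow, e_u] at key
  have hd_h := der_relFrob_chart p f d hUS hUX hUXS _ hWUY h
  have hd_u := der_relFrob_chart p f d hUS hUX hUXS _ hWUY u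
  have hunit : IsUnit ((relFrob f p).appLE _ _ hWUY h) := by
    rw [← e_u]
    exact (IsLocalization.Away.algebraMap_isUnit h).map _
  have h1 : ∀ a b : Γ(X, relFrob f p ⁻¹ᵁ ((frobTwist f p).basicOpen h)),
      d.app _ (a * b) = a • d.app _ b + b • d.app _ a :=
    fun a b => d.d_mul (X := op _) a b
  have h2 := congrArg (d.app _) key
  rw [h1, hd_u, der_pow_eq_zero d _ _ n hd_h, smul_zero, zero_add,
    (hunit.pow n).smul_eq_zero] at h2
  rw [← germ_res Ω hWV x hxW, ← der_res' d hWV, h2, map_zero]


/-- The sheaf of differentials of `X/S` is also the sheaf of differentials of `X/X^(p)`. -/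
theorem exists_der_relFrob (p : ℕ) [Fact p.Prime] [FrobSch.IsCharP S p] (f : X ⟶ S)
    (Ω : X.Modules) (d : OmegaSh.Der f Ω) (hd : OmegaSh.IsUniversal d) :
    ∃ d' : OmegaSh.Der (FrobSch.relFrob f p) Ω,
      (∀ (U : X.Opens) (s : Γ(X, U)), d'.app U s = d.app U s) ∧ OmegaSh.IsUniversal d' := by
  let d' : OmegaSh.Der (FrobSch.relFrob f p) Ω :=
    { d := d.d
      d_mul := d.d_mul
      d_map := d.d_map
      d_app := fun {V} t => der_relFrob_app p f d V.unop t }
  refine ⟨d', fun U s => rfl, ?_⟩
  intro F' D'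
  let D : OmegaSh.Der f F' :=
    { d := D'.d
      d_mul := D'.d_mul
      d_map := D'.d_map
      d_app := fun {T} c => by
        refine der_congr_zero (relFrob_snd f p).symm T.unop c (fun W => D'.app W) ?_
        exact D'.d_app (X := op (pullback.snd f (frob S p) ⁻¹ᵁ T.unop))
          ((pullback.snd f (frob S p)).app T.unop c) }
  obtain ⟨α, hα, huniq⟩ := hd F' D
  refine ⟨α, ?_, ?_⟩
  · apply der_ext
    intro W s
    have := congrArg (fun E => OmegaSh.Der.app E W s) hα
    exact this
  · intro β hβ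
    apply huniq
    apply der_ext
    intro W s
    have := congrArg (fun E => OmegaSh.Der.app E W s) hβ
    exact this

end Groth.Agent.Lib.Helper25.RelFrobDer
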