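import Mathlib
import Groth.Prelude.Def_Frob
import Groth.Agent.Lib.Helper6.FrobUH
import Groth.Agent.Lib.Helper14.RelPerf1
import Groth.Agent.Lib.Helper25.ExpandFlat1

/-!
# Relative Frobenius: étale base change square, affine space (helper25)

* `isIso_relFrob_of_etale`: the relative Frobenius of an étale morphism is an isomorphism.
* `isPullback_relFrob_of_etale`: for `g : W ⟶ T` étale over `S`, the square
  `W ⟶ W^(p)`, `T ⟶ T^(p)` is cartesian.
* `flat_relFrob_affineSpace`: the relative Frobenius of `𝔸(n; S) ⟶ S` is flat (`n` finite).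
-/

set_option autoImplicit false
set_option linter.style.haveILetI false
universe u

open CategoryTheory CategoryTheory.Limits AlgebraicGeometry

namespace Groth.Agent.Lib.Helper25.RelFrobFlat

open FrobSch Groth.Agent.Lib.Helper12 Groth.Agent.Lib.Helper6.Perf

variable (p : ℕ) [Fact p.Prime]

/-- The relative Frobenius of a weakly étale morphism is an isomorphism. -/
theorem isIso_relFrob_of_etale {W T : Scheme.{u}} [IsCharP T p] (g : W ⟶ T) [WeaklyEtale g] :
    IsIso (relFrob g p) := by
  haveI : IsCharP W p := IsCharP.of_hom g p
  have h1 : FlatMor.IsUnivHomeo (pullback.fst g (frob T p)) :=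
    MorphismProperty.pullback_fst _ _ (isUnivHomeo_frob T p)
  have h2 : FlatMor.IsUnivHomeo (relFrob g p ≫ pullback.fst g (frob T p)) := by
    rw [relFrob_fst]
    exact isUnivHomeo_frob W p
  have h3 : FlatMor.IsUnivHomeo (relFrob g p) := IsUnivHomeo.of_comp_left h2 h1
  have h4 : WeaklyEtale (relFrob g p ≫ pullback.snd g (frob T p)) := by
    rw [relFrob_snd]; infer_instance
  have h5 : WeaklyEtale (relFrob g p) :=
    WeaklyEtale.of_comp (relFrob g p) (pullback.snd g (frob T p))
  exact isIso_of_weaklyEtale_of_isUnivHomeo _ h3

section Square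

variable {W T S : Scheme.{u}} [IsCharP S p] (g : W ⟶ T) (t : T ⟶ S) (w : W ⟶ S)
  (hw : g ≫ t = w)

/-- the map induced on Frobenius twists -/
noncomputable def twistMap : frobTwist w p ⟶ frobTwist t p :=
  pullback.map w (frob S p) t (frob S p) g (𝟙 S) (𝟙 S) (by rw [Category.comp_id, hw])
    (by rw [Category.comp_id, Category.id_comp])

@[reassoc]
theorem twistMap_fst :
    twistMap p g t w hw ≫ pullback.fst t (frob S p) = pullback.fst w (frob S p) ≫ g := by
  unfold twistMap pullback.map
  rw [pullback.lift_fst]

@[reassoc]
theorem twistMap_snd :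
    twistMap p g t w hw ≫ pullback.snd t (frob S p) = pullback.snd w (frob S p) := by
  unfold twistMap pullback.map
  rw [pullback.lift_snd, Category.comp_id]

/-- the twist of `W` is the base change of the twist of `T` -/
theorem isPullback_twistMap :
    IsPullback (pullback.fst w (frob S p)) (twistMap p g t w hw) g (pullback.fst t (frob S p)) := by
  refine IsPullback.of_bot ?_ (twistMap_fst p g t w hw).symm (IsPullback.of_hasPullback t (frob S p))
  rw [twistMap_snd, hw]
  exact IsPullback.of_hasPullback w (frob S p)

/-- naturality of the relative Frobenius -/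
@[reassoc]
theorem relFrob_twistMap : relFrob w p ≫ twistMap p g t w hw = g ≫ relFrob t p := by
  haveI : IsCharP T p := IsCharP.of_hom t p
  haveI : IsCharP W p := IsCharP.of_hom w p
  apply pullback.hom_ext
  · rw [Category.assoc, twistMap_fst, relFrob_fst_assoc, Category.assoc, relFrob_fst]
    exact frob_comp p g
  · rw [Category.assoc, twistMap_snd, relFrob_snd, Category.assoc, relFrob_snd, hw]

/-- for étale `g` the relative Frobenius square is cartesian -/
theorem isPullback_relFrob_of_etale [WeaklyEtale g] :
    IsPullback (relFrob w p) g (twistMap p g t w hw) (relFrob t p) := by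
  haveI : IsCharP T p := IsCharP.of_hom t p
  haveI : IsCharP W p := IsCharP.of_hom w p
  have houter : IsPullback (frob W p) g g (frob T p) :=
    (Groth.Agent.Lib.Helper14.RelPerf.isIso_relFrob_iff p g).mp (isIso_relFrob_of_etale p g)
  refine IsPullback.of_right ?_ (relFrob_twistMap p g t w hw) (isPullback_twistMap p g t w hw)
  rw [relFrob_fst, relFrob_fst]
  exact houter

end Square

end Groth.Agent.Lib.Helper25.RelFrobFlat
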