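import Mathlib
import Groth.Prelude.Def_Frob
import Groth.Agent.Lib.Helper25.ExpandFlat1

/-!
# The relative Frobenius of affine space is flat (helper25)
-/

set_option autoImplicit false
set_option linter.style.haveILetI false
universe u

open CategoryTheory CategoryTheory.Limits AlgebraicGeometry

namespace Groth.Agent.Lib.Helper25.RelFrobFlat

open FrobSch AffineSpace Groth.Agent.Lib.Helper25.ExpandFlat

variable (p : ℕ) [Fact p.Prime] (n : Type u) (S : Scheme.{u})

local notation3 "ℤ[" n "]" => CommRingCat.of (MvPolynomial n (ULift ℤ))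

/-- the `p`-power map on coordinates of `Spec ℤ[n]` -/
noncomputable def powZ : Spec ℤ[n] ⟶ Spec ℤ[n] :=
  Spec.map (CommRingCat.ofHom (mvExpand n (ULift.{u} ℤ) p))

theorem flat_powZ [Finite n] : Flat (powZ p n) := by
  unfold powZ
  rw [HasRingHomProperty.Spec_iff (P := @Flat)]
  exact flat_mvExpand p (Fact.out : p.Prime).ne_zero n (ULift.{u} ℤ)

theorem toSpecMvPolyIntEquiv_powZ (i : n) :
    toSpecMvPolyIntEquiv n (powZ p n) i = ((Scheme.ΓSpecIso ℤ[n]).inv (.X i)) ^ p := by
  unfold powZ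
  rw [toSpecMvPolyIntEquiv_apply]
  have h := Scheme.ΓSpecIso_inv_naturality (CommRingCat.ofHom (mvExpand n (ULift.{u} ℤ) p))
  have h2 := congrArg (fun f => f.hom (.X i)) h
  simp only [CommRingCat.hom_comp, RingHom.comp_apply, CommRingCat.hom_ofHom] at h2
  rw [← h2]
  simp [mvExpand]

variable [IsCharP S p]

theorem frob_toSpecMvPoly :
    haveI : IsCharP 𝔸(n; S) p := IsCharP.of_hom (𝔸(n; S) ↘ S) p
    frob 𝔸(n; S) p ≫ toSpecMvPoly n S = toSpecMvPoly n S ≫ powZ p n := by
  haveI : IsCharP 𝔸(n; S) p := IsCharP.of_hom (𝔸(n; S) ↘ S) p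
  apply (toSpecMvPolyIntEquiv n).injective
  ext i
  rw [toSpecMvPolyIntEquiv_comp, toSpecMvPolyIntEquiv_comp, toSpecMvPolyIntEquiv_powZ, map_pow]
  rfl

/-- the relative Frobenius of `𝔸(n; S) ⟶ S` is a base change of the coordinate power map -/
theorem isPullback_relFrob_affineSpace :
    IsPullback (relFrob (𝔸(n; S) ↘ S) p) (toSpecMvPoly n S)
      (pullback.fst (𝔸(n; S) ↘ S) (frob S p) ≫ toSpecMvPoly n S) (powZ p n) := by
  haveI : IsCharP 𝔸(n; S) p := IsCharP.of_hom (𝔸(n; S) ↘ S) p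
  have hT : IsPullback (𝔸(n; S) ↘ S) (toSpecMvPoly n S) (terminal.from S)
      (terminal.from (Spec ℤ[n])) := IsPullback.of_hasPullback _ _
  have hTp : IsPullback (pullback.fst (𝔸(n; S) ↘ S) (frob S p))
      (pullback.snd (𝔸(n; S) ↘ S) (frob S p)) (𝔸(n; S) ↘ S) (frob S p) :=
    IsPullback.of_hasPullback _ _
  have hR : IsPullback (pullback.fst (𝔸(n; S) ↘ S) (frob S p) ≫ toSpecMvPoly n S)
      (pullback.snd (𝔸(n; S) ↘ S) (frob S p)) (terminal.from (Spec ℤ[n]))
      (frob S p ≫ terminal.from S) := hTp.paste_horiz hT.flip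
  rw [terminal.comp_from] at hR
  refine IsPullback.of_right ?_ ?_ hR.flip
  · rw [relFrob_snd, terminal.comp_from]
    exact hT
  · rw [relFrob_fst_assoc]
    exact frob_toSpecMvPoly p n S

theorem flat_relFrob_affineSpace [Finite n] : Flat (relFrob (𝔸(n; S) ↘ S) p) :=
  MorphismProperty.of_isPullback (P := @Flat) (isPullback_relFrob_affineSpace p n S).flip
    (flat_powZ p n)

end Groth.Agent.Lib.Helper25.RelFrobFlat
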