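import Mathlib
import Groth.Prelude.Def_Frob
import Groth.Agent.Lib.Helper25.RelFrobFlat1
import Groth.Agent.Lib.Helper25.RelFrobFlat2
import Groth.Agent.Lib.Helper25.SmoothChart1

/-!
# The relative Frobenius of a smooth morphism is flat (helper25)
-/

set_option autoImplicit false
set_option linter.style.haveILetI false
universe u

open CategoryTheory CategoryTheory.Limits AlgebraicGeometry

namespace Groth.Agent.Lib.Helper25.RelFrobFlat

open FrobSch AffineSpace

variable (p : ℕ) [Fact p.Prime]

theorem flat_relFrob_of_smooth {X S : Scheme.{u}} [IsCharP S p] (f : X ⟶ S) [Smooth f] :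
    Flat (relFrob f p) := by
  have key : ∀ x : X, ∃ W : X.Opens, x ∈ W ∧ Flat (W.ι ≫ relFrob f p) := by
    intro x
    obtain ⟨W, hW, hxW, n, w, hét⟩ :=
      Groth.Agent.Lib.Helper25.SmoothChart.exists_etale_chart f x
    refine ⟨W, hxW, ?_⟩
    have hw : AffineSpace.homOfVector (W.ι ≫ f) w ≫ (𝔸(ULift.{u} (Fin n); S) ↘ S) = W.ι ≫ f :=
      AffineSpace.homOfVector_over _ _
    have h1 : Flat (relFrob (W.ι ≫ f) p) :=
      MorphismProperty.of_isPullback (P := @Flat)
        (isPullback_relFrob_of_etale p (AffineSpace.homOfVector (W.ι ≫ f) w)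
          (𝔸(ULift.{u} (Fin n); S) ↘ S) (W.ι ≫ f) hw).flip
        (flat_relFrob_affineSpace p _ S)
    have h2 := relFrob_twistMap p W.ι f (W.ι ≫ f) rfl
    rw [← h2]
    have h3 : Flat (twistMap p W.ι f (W.ι ≫ f) rfl) :=
      MorphismProperty.of_isPullback (P := @Flat) (isPullback_twistMap p W.ι f (W.ι ≫ f) rfl)
        inferInstance
    infer_instance
  choose W hxW hfl using key
  have hcov : iSup W = ⊤ := by
    rw [eq_top_iff]
    intro y _
    exact TopologicalSpace.Opens.mem_iSup.mpr ⟨y, hxW y⟩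
  exact IsZariskiLocalAtSource.of_iSup_eq_top (P := @Flat.{u}) W hcov hfl

end Groth.Agent.Lib.Helper25.RelFrobFlat
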