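import Mathlib
import Groth.Agent.Lib.Helper25.RelGCIJacobian

set_option autoImplicit false
universe u v w
open TensorProduct KaehlerDifferential

namespace Groth.Agent.Lib.Helper25.RelGCIJacobian

section Main

attribute [local instance] Algebra.TensorProduct.rightAlgebra

variable {R : Type u} [CommRing R] {n c : ℕ} {A : Type u} [CommRing A] [Algebra R A]
  [Algebra (MvPolynomial (Fin n) R) A] [IsScalarTower R (MvPolynomial (Fin n) R) A]

/-- If `A = R[x_1..x_n]/(F_1..F_c)` is smooth at `q` and the fibre ring through `q` has dimension `n - c`,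
then some maximal minor of the Jacobian matrix is not in `q`. -/
theorem exists_cols_det_notMem_of_isSmoothAt (F : Fin c → MvPolynomial (Fin n) R)
    (hsurj : Function.Surjective (algebraMap (MvPolynomial (Fin n) R) A))
    (hker : RingHom.ker (algebraMap (MvPolynomial (Fin n) R) A) = Ideal.span (Set.range F))
    (q : Ideal A) [q.IsPrime]
    (p : Ideal R) [p.IsPrime]
    (q' : Ideal (p.Fiber A)) [q'.IsPrime]
    (hq' : q = q'.comap Algebra.TensorProduct.includeRight.toRingHom)
    (hcn : c ≤ n)
    (hdim : ringKrullDim (p.Fiber A) = ((n - c : ℕ) : WithBot ℕ∞))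
    (h : Algebra.IsSmoothAt R q) :
    ∃ cols : Fin c ↪ Fin n, algebraMap (MvPolynomial (Fin n) R) A
      (Matrix.det (Matrix.of fun j i => MvPolynomial.pderiv (cols i) (F j))) ∉ q := by
  classical
  haveI : Algebra.FinitePresentation R A := by
    have h1 : Algebra.FinitePresentation R
        (MvPolynomial (Fin n) R ⧸ RingHom.ker (IsScalarTower.toAlgHom R (MvPolynomial (Fin n) R) A)) :=
      Algebra.FinitePresentation.quotient (by
        have : RingHom.ker (IsScalarTower.toAlgHom R (MvPolynomial (Fin n) R) A) =
            Ideal.span (Set.range F) := hker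
        rw [this]
        exact ⟨Finset.univ.image F, by simp⟩)
    exact Algebra.FinitePresentation.equiv
      (Ideal.quotientKerAlgEquivOfSurjective (f := IsScalarTower.toAlgHom R (MvPolynomial (Fin n) R) A) hsurj)
  have h1 := finrank_fiber_le_ringKrullDim p q' q hq' h
  rw [hdim] at h1
  have h1' := Nat.cast_le.mp h1
  have hR : Nontrivial R := nontrivial_of_ne (0 : R) 1 fun h01 =>
    (inferInstance : p.IsPrime).ne_top ((Ideal.eq_top_iff_one _).mpr (h01 ▸ p.zero_mem))
  have hrk : Module.finrank (MvPolynomial (Fin n) R) Ω[MvPolynomial (Fin n) R⁄R] = n := by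
    rw [Module.finrank_eq_card_basis (KaehlerDifferential.mvPolynomialBasis R (Fin n))]
    simp
  have hfin : Module.finrank q'.ResidueField (q'.ResidueField ⊗[A] Ω[A⁄R]) + Fintype.card (Fin c) ≤
      Module.finrank (MvPolynomial (Fin n) R) Ω[MvPolynomial (Fin n) R⁄R] := by
    rw [hrk, Fintype.card_fin]; omega
  have hli := linearIndependent_of_finrank_add_le R
    (P := MvPolynomial (Fin n) R) (A := A) hsurj F hker q'.ResidueField hfin
  obtain ⟨cols, hdet⟩ := exists_cols_det_ne_zero F hli
  refine ⟨cols, fun hmem => hdet ?_⟩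
  rw [IsScalarTower.algebraMap_apply A (p.Fiber A) q'.ResidueField,
    Ideal.algebraMap_residueField_eq_zero]
  rw [hq'] at hmem
  exact hmem

end Main

end Groth.Agent.Lib.Helper25.RelGCIJacobian
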