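import Groth.Agent.Lib.Helper25.ProjClosedAlg3
import Groth.Agent.Lib.Helper25.IdealAt
import Groth.Agent.Lib.Helper3.RelProjExist
import Groth.Prelude.Def_RelProj2
/-!
# The graded ideals of an ideal sheaf on a relative Proj

For a relative Proj `p : P ⟶ S` of `𝒮` with its charts and an ideal sheaf `ℐ` on `P`, the homogeneous ideals
`IU U hU ⊆ 𝒮(U)` and their compatibility with restriction to basic opens.
-/
universe u
open CategoryTheory CategoryTheory.Limits AlgebraicGeometry Opposite TopologicalSpace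
open HomogeneousLocalization
open scoped HomogeneousIdeal

namespace Groth.Agent.Lib.Helper25.RelProjIdeal
open Groth.Agent.Lib.Helper25.ProjClosedAlg Groth.Agent.Lib.Helper25.IdealAt RelProj
open Groth.Agent.Lib.Helper3

section Proj
variable {A σ : Type u} [CommRing A] [SetLike σ A] [AddSubgroupClass σ A]
  (𝒜 : ℕ → σ) [GradedRing 𝒜]

theorem exists_posHom_mem_basicOpen (x : Proj 𝒜) :
    ∃ t : PosHom 𝒜, x ∈ Proj.basicOpen 𝒜 t.elt := by
  obtain ⟨s, hs⟩ := (Proj.affineOpenCover 𝒜).openCover.exists_eq x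
  refine ⟨⟨s.1, s.1.2, s.2.1, s.2.2⟩, ?_⟩
  have : x ∈ (Proj.awayι 𝒜 s.2.1 s.2.2 s.1.2).opensRange := hs
  rwa [Proj.opensRange_awayι] at this

/-- A quasi-compact `Proj` is covered by finitely many standard opens, in the algebraic form. -/
theorem exists_covers [CompactSpace (Proj 𝒜)] : ∃ T : Finset (PosHom 𝒜), Covers T := by
  classical
  obtain ⟨T, hT⟩ := isCompact_univ.elim_finite_subcover
    (fun t : PosHom 𝒜 => ((Proj.basicOpen 𝒜 t.elt : (Proj 𝒜).Opens) : Set (Proj 𝒜)))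
    (fun t => (Proj.basicOpen 𝒜 t.elt).isOpen)
    (fun x _ => by
      obtain ⟨t, ht⟩ := exists_posHom_mem_basicOpen 𝒜 x
      exact Set.mem_iUnion.mpr ⟨t, ht⟩)
  refine ⟨T, fun t => ?_⟩
  set 𝔞 : Ideal A := Ideal.span ((fun j : PosHom 𝒜 => j.elt) '' (T : Set (PosHom 𝒜))) with h𝔞
  have hhom : 𝔞.IsHomogeneous 𝒜 := Ideal.homogeneous_span 𝒜 _ (by
    rintro _ ⟨j, -, rfl⟩
    exact ⟨j.deg, j.mem⟩)
  have hrad : t.elt ∈ 𝔞.radical := by
    rw [hhom.radical_eq, Ideal.mem_sInf]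
    rintro q ⟨hqhom, hq, hqprime⟩
    by_cases hirr : HomogeneousIdeal.irrelevant 𝒜 ≤ ⟨q, hqhom⟩
    · exact hirr (HomogeneousIdeal.mem_irrelevant_of_mem 𝒜 t.pos t.mem)
    · exfalso
      let x : Proj 𝒜 := (⟨⟨q, hqhom⟩, hqprime, hirr⟩ : ProjectiveSpectrum 𝒜)
      have hx := hT (Set.mem_univ x)
      simp only [Set.mem_iUnion] at hx
      obtain ⟨j, hj, hxj⟩ := hx
      have hjx : j.elt ∉ q := (Proj.mem_basicOpen 𝒜 j.elt x).mp hxj
      exact hjx (hq (Ideal.subset_span ⟨j, Finset.mem_coe.mpr hj, rfl⟩))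
  exact hrad

end Proj

variable {S : Scheme.{u}} {𝒮 : QCGrAlg S} {P : Scheme.{u}} (p : P ⟶ S)
  (chart : ∀ (U : S.Opens) (hU : IsAffineOpen U), (((p ⁻¹ᵁ U : P.Opens) : Scheme.{u}) ≅ Proj (𝒮.deg U hU)))
  (ℐ : P.IdealSheafData)

/-- the standard chart `Spec 𝒮(U)_(t) ⟶ P` -/
noncomputable def σU (U : S.Opens) (hU : IsAffineOpen U) (t : PosHom (𝒮.deg U hU)) :
    Spec (CommRingCat.of (Away (𝒮.deg U hU) t.elt)) ⟶ P :=
  Proj.awayι (𝒮.deg U hU) t.elt t.mem t.pos ≫ emb p chart U hU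

instance (U : S.Opens) (hU : IsAffineOpen U) (t : PosHom (𝒮.deg U hU)) :
    IsOpenImmersion (σU p chart U hU t) := by
  unfold σU; infer_instance

/-- the ideal of `ℐ` on the standard chart -/
noncomputable def JU (U : S.Opens) (hU : IsAffineOpen U) (t : PosHom (𝒮.deg U hU)) :
    Ideal (Away (𝒮.deg U hU) t.elt) :=
  atσ (σU p chart U hU t) ℐ

theorem JU_compat (U : S.Opens) (hU : IsAffineOpen U) (s t x : PosHom (𝒮.deg U hU))
    (hx : x.elt = s.elt * t.elt) :
    JU p chart ℐ U hU x = Ideal.map (awayMap (𝒮.deg U hU) t.mem hx) (JU p chart ℐ U hU s) := by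
  refine atσ_eq_map (σU p chart U hU s) (σU p chart U hU x)
    (CommRingCat.ofHom (awayMap (𝒮.deg U hU) t.mem hx)) ?_ ℐ
  unfold σU
  rw [← Category.assoc, Proj.SpecMap_awayMap_awayι (𝒮.deg U hU) s.mem s.pos t.mem hx]
  rfl

/-- the homogeneous ideal of `𝒮(U)` attached to the ideal sheaf -/
noncomputable def IU (U : S.Opens) (hU : IsAffineOpen U) : Ideal (𝒮.presheaf.obj (op U)) :=
  I (JU p chart ℐ U hU)

theorem IU_isHomogeneous (U : S.Opens) (hU : IsAffineOpen U) :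
    (IU p chart ℐ U hU).IsHomogeneous (𝒮.deg U hU) :=
  I_isHomogeneous _

variable {p chart} (hP : IsRelProj 𝒮 p chart)

include hP in
theorem σU_res (U : S.Opens) (hU : IsAffineOpen U) (r : Γ(S, U)) (t : PosHom (𝒮.deg U hU)) :
    Spec.map (CommRingCat.ofHom (Away.map (𝒮.res hU (hU.basicOpen r) (S.basicOpen_le r)) t.elt)) ≫
        σU p chart U hU t =
      σU p chart (S.basicOpen r) (hU.basicOpen r)
        (t.map (𝒮.res hU (hU.basicOpen r) (S.basicOpen_le r))) := by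
  unfold σU
  rw [← map_res_emb hP U hU r, ← Category.assoc,
    ← Proj.awayι_comp_map (𝒮.res hU (hU.basicOpen r) (S.basicOpen_le r))
      (𝒮.irrelevant_le_map U hU r) t.pos t.elt t.mem, Category.assoc]
  rfl

include hP in
theorem JU_res (U : S.Opens) (hU : IsAffineOpen U) (r : Γ(S, U)) (t : PosHom (𝒮.deg U hU)) :
    JU p chart ℐ (S.basicOpen r) (hU.basicOpen r)
        (t.map (𝒮.res hU (hU.basicOpen r) (S.basicOpen_le r))) =
      Ideal.map (Away.map (𝒮.res hU (hU.basicOpen r) (S.basicOpen_le r)) t.elt)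
        (JU p chart ℐ U hU t) :=
  atσ_eq_map (σU p chart U hU t)
    (σU p chart (S.basicOpen r) (hU.basicOpen r) (t.map (𝒮.res hU (hU.basicOpen r) (S.basicOpen_le r))))
    (CommRingCat.ofHom (Away.map (𝒮.res hU (hU.basicOpen r) (S.basicOpen_le r)) t.elt))
    (σU_res hP U hU r t) ℐ

include hP in
theorem compactSpace_proj [QuasiCompact p] (U : S.Opens) (hU : IsAffineOpen U) :
    CompactSpace (Proj (𝒮.deg U hU)) := by
  have h1 : IsCompact ((p ⁻¹ᵁ U : P.Opens) : Set P) := p.isCompact_preimage hU.isCompact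
  have h2 : CompactSpace ((p ⁻¹ᵁ U : P.Opens) : Scheme.{u}) := isCompact_iff_compactSpace.mp h1
  exact (Scheme.homeoOfIso (chart U hU)).compactSpace

include hP in
theorem exists_covers_U [QuasiCompact p] (U : S.Opens) (hU : IsAffineOpen U) :
    ∃ T : Finset (PosHom (𝒮.deg U hU)), Covers T :=
  haveI := compactSpace_proj hP U hU
  exists_covers (𝒮.deg U hU)

include hP in
/-- **Quasi-coherence of the graded ideal**: restriction to a basic open extends the ideal. -/
theorem IU_res [QuasiCompact p] (U : S.Opens) (hU : IsAffineOpen U) (r : Γ(S, U)) :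
    IU p chart ℐ (S.basicOpen r) (hU.basicOpen r) =
      Ideal.map (𝒮.res hU (hU.basicOpen r) (S.basicOpen_le r)) (IU p chart ℐ U hU) := by
  obtain ⟨T, hT⟩ := exists_covers_U hP U hU
  exact I_eq_map (𝒮.res hU (hU.basicOpen r) (S.basicOpen_le r)) (JU p chart ℐ U hU)
    (JU p chart ℐ (S.basicOpen r) (hU.basicOpen r)) (JU_res ℐ hP U hU r)
    (𝒮.str_mem U hU r) (RelProjExist.isLocAt_res 𝒮 U hU r)
    (JU_compat p chart ℐ U hU) (JU_compat p chart ℐ (S.basicOpen r) (hU.basicOpen r)) hT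

end Groth.Agent.Lib.Helper25.RelProjIdeal
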