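import Mathlib
import Groth.Agent.Lib.Helper25.SectionRegular

/-!
# Section of a smooth algebra: regular sequence of length the fibre rank of `Ω` (helper25)

`exists_regular_of_section_finrank`: same as `SectionRegular.exists_regular_of_section`, and the
length of the sequence is `finrank κ(q) (κ(q) ⊗ Ω_{B/A})`.
-/

set_option autoImplicit false
universe u v

open TensorProduct KaehlerDifferential IsLocalRing

namespace Groth.Agent.Lib.Helper25.SectionRegular

open Groth.Agent.Lib.Helper25.JacobianCrit

section Main2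

variable {A B : Type u} [CommRing A] [CommRing B] [Algebra A B]

/-- `B` smooth over `A`, `J` an ideal such that `A → B ⧸ J` is bijective (a section), `q ⊇ J` a prime.
Then on a basic open neighbourhood `D(g)` of `q` the ideal `J` is generated by a weakly regular
sequence. -/
theorem exists_regular_of_section_finrank [Algebra.Smooth A B] (J : Ideal B)
    (hbij : Function.Bijective ((Ideal.Quotient.mk J).comp (algebraMap A B)))
    (q : Ideal B) [q.IsPrime] (hJq : J ≤ q) :
    ∃ (g : B) (n : ℕ) (b : Fin n → B), g ∉ q ∧ (∀ i, b i ∈ J) ∧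
      Module.finrank q.ResidueField (q.ResidueField ⊗[B] Ω[B⁄A]) = n ∧
      ∀ (B' : Type u) [CommRing B'] [Algebra B B'] [IsLocalization.Away g B'],
        RingTheory.Sequence.IsWeaklyRegular B' (List.ofFn fun i => algebraMap B B' (b i)) ∧
        J.map (algebraMap B B') = Ideal.ofList (List.ofFn fun i => algebraMap B B' (b i)) := by
  classical
  have hsurj := hbij.2
  -- `B ⧸ J ≃ A`
  let e : A ≃ₐ[A] (B ⧸ J) := AlgEquiv.ofBijective (Algebra.ofId A (B ⧸ J)) hbij
  haveI : Algebra.FormallySmooth A (B ⧸ J) := Algebra.FormallySmooth.of_equiv e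
  haveI : Algebra.FinitePresentation A (B ⧸ J) := Algebra.FinitePresentation.equiv e
  have hJ : J.FG := by
    have h := Algebra.FinitePresentation.ker_fG_of_surjective (Ideal.Quotient.mkₐ A J)
      (Ideal.Quotient.mkₐ_surjective A J)
    have h2 : RingHom.ker (Ideal.Quotient.mkₐ A J).toRingHom = J := Ideal.mk_ker
    rwa [h2] at h
  haveI : Algebra.IsSmoothAt A q := by
    show Algebra.FormallySmooth A (Localization.AtPrime q)
    haveI : Algebra.FormallySmooth B (Localization.AtPrime q) :=
      Algebra.FormallySmooth.of_isLocalization q.primeCompl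
    exact Algebra.FormallySmooth.comp A B (Localization.AtPrime q)
  have hspan := span_one_tmul_D_eq_top A q.ResidueField J hsurj
  obtain ⟨n, b, hbJ, hli, hsp⟩ := exists_fin_basis_of_span_image
    (fun x : B => (1 : q.ResidueField) ⊗ₜ[B] D A B x) (J : Set B) hspan
  letI : Algebra (MvPolynomial (Fin n) A) B := (MvPolynomial.aeval b).toAlgebra
  haveI : IsScalarTower A (MvPolynomial (Fin n) A) B :=
    IsScalarTower.of_algebraMap_eq' (MvPolynomial.aeval b).comp_algebraMap.symm
  have hX : ∀ i, algebraMap (MvPolynomial (Fin n) A) B (MvPolynomial.X i) = b i :=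
    fun i => MvPolynomial.aeval_X b i
  haveI : Algebra.IsEtaleAt (MvPolynomial (Fin n) A) q :=
    isEtaleAt_mvPolynomial_of_basis A b hX q hli hsp
  haveI : Algebra.FinitePresentation (MvPolynomial (Fin n) A) B :=
    Algebra.FinitePresentation.of_restrict_scalars_finitePresentation A _ _
  -- étale locus is open
  obtain ⟨_, ⟨_, ⟨g₁, rfl⟩, rfl⟩, hg₁q, hg₁⟩ :=
    PrimeSpectrum.isBasis_basic_opens.exists_subset_of_mem_open
      (show (⟨q, inferInstance⟩ : PrimeSpectrum B) ∈ Algebra.etaleLocus (MvPolynomial (Fin n) A) B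
        from ‹Algebra.IsEtaleAt (MvPolynomial (Fin n) A) q›)
      (Algebra.isOpen_etaleLocus (R := MvPolynomial (Fin n) A) (A := B))
  have hg₁q' : g₁ ∉ q := hg₁q
  -- Nakayama
  haveI : Module.Finite B Ω[B⁄A] := inferInstance
  obtain ⟨s, hsq, hs⟩ := exists_notMem_smul_mem_span q (fun i => D A B (b i)) hsp
  obtain ⟨t, htq, ht⟩ := exists_notMem_mul_mem_of_mul_mem_sup_sq q J (Ideal.span (Set.range b)) hJ hJq
    s hsq (fun j hj => mul_mem_sup_sq J b hbJ s hs j hj)
  have hfr : Module.finrank q.ResidueField (q.ResidueField ⊗[B] Ω[B⁄A]) = n := by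
    have hb := Module.finrank_eq_card_basis (Module.Basis.mk hli hsp.ge)
    simpa using hb
  refine ⟨g₁ * t, n, b, ?_, hbJ, hfr, ?_⟩
  · intro hmem
    rcases (Ideal.IsPrime.mem_or_mem inferInstance hmem) with h | h
    · exact hg₁q' h
    · exact htq h
  intro B' _ _ _
  have hét : Algebra.Etale (MvPolynomial (Fin n) A) (Localization.Away (g₁ * t)) := by
    rw [← Algebra.basicOpen_subset_etaleLocus_iff_etale]
    refine subset_trans ?_ hg₁
    rw [PrimeSpectrum.basicOpen_mul]
    exact inf_le_left
  letI : Algebra (MvPolynomial (Fin n) A) B' :=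
    ((algebraMap B B').comp (algebraMap (MvPolynomial (Fin n) A) B)).toAlgebra
  haveI : IsScalarTower (MvPolynomial (Fin n) A) B B' := IsScalarTower.of_algebraMap_eq' rfl
  haveI : Module.Flat (MvPolynomial (Fin n) A) B' := by
    let e' : Localization.Away (g₁ * t) ≃ₐ[B] B' :=
      IsLocalization.algEquiv (Submonoid.powers (g₁ * t)) _ _
    haveI : Module.Flat (MvPolynomial (Fin n) A) (Localization.Away (g₁ * t)) := inferInstance
    exact Module.Flat.of_linearEquiv
      (e'.symm.toLinearEquiv.restrictScalars (MvPolynomial (Fin n) A))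
  have hreg := (isWeaklyRegular_X (k := A) (N := n)).of_flat (S := B')
  have hfun : (algebraMap (MvPolynomial (Fin n) A) B') ∘ (MvPolynomial.X : Fin n → _) =
      fun i => algebraMap B B' (b i) := by
    funext i
    rw [Function.comp_apply, IsScalarTower.algebraMap_apply (MvPolynomial (Fin n) A) B B', hX]
  rw [List.map_ofFn, hfun] at hreg
  refine ⟨hreg, ?_⟩
  rw [ofList_ofFn]
  have hrange : Set.range (fun i => algebraMap B B' (b i)) = (algebraMap B B') '' Set.range b := by
    rw [← Set.range_comp]; rfl
  rw [hrange, ← Ideal.map_span]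
  apply le_antisymm
  · rw [Ideal.map_le_iff_le_comap]
    intro j hj
    rw [Ideal.mem_comap]
    have h2 := Ideal.mem_map_of_mem (algebraMap B B') (ht j hj)
    rw [map_mul] at h2
    have hu : IsUnit (algebraMap B B' t) := by
      have h3 : IsUnit (algebraMap B B' (g₁ * t)) := IsLocalization.Away.algebraMap_isUnit (g₁ * t)
      rw [map_mul] at h3
      exact isUnit_of_mul_isUnit_right h3
    have h3 := Ideal.mul_mem_left _ (↑hu.unit⁻¹ : B') h2
    rw [← mul_assoc, IsUnit.val_inv_mul, one_mul] at h3
    exact h3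
  · apply Ideal.map_mono
    rw [Ideal.span_le]
    rintro _ ⟨i, rfl⟩
    exact hbJ i

end Main2

end Groth.Agent.Lib.Helper25.SectionRegular
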