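import Mathlib
import Groth.Agent.Lib.Helper25.JacobianCrit

/-!
# Existence of a local parameter with nonzero differential (helper25)

Let `A → P` be a local homomorphism of local rings, with `P` formally smooth and essentially of finite
type over `A`, such that the residue field extension is formally smooth (i.e. separable) and
`m_P ≠ m_A P`.  Then there is `y ∈ m_P` with `1 ⊗ dy ≠ 0` in `κ(P) ⊗_P Ω_{P/A}`.
-/

set_option autoImplicit false
universe u

open TensorProduct KaehlerDifferential IsLocalRing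

namespace Groth.Agent.Lib.Helper25.JacobianCrit

section

variable {A P : Type u} [CommRing A] [CommRing P] [IsLocalRing A] [Algebra A P]

/-- `1 ⊗ y = 0` in `κ(A) ⊗_A P` iff `y ∈ m_A P`. -/
theorem residue_one_tmul_eq_zero_iff (y : P) :
    (1 : ResidueField A) ⊗ₜ[A] y = 0 ↔ y ∈ (maximalIdeal A).map (algebraMap A P) := by
  rw [one_tmul_eq_zero_iff, Ideal.smul_top_eq_map]
  rfl

variable [IsLocalRing P] [IsLocalHom (algebraMap A P)]

attribute [local instance] Algebra.TensorProduct.rightAlgebra

theorem exists_mem_maximalIdeal_one_tmul_D_ne_zero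
    [Algebra.FormallySmooth A P] [Algebra.EssFiniteType A P]
    [Algebra.FormallySmooth (ResidueField A) (ResidueField P)]
    (hne : maximalIdeal P ≠ (maximalIdeal A).map (algebraMap A P)) :
    ∃ y ∈ maximalIdeal P, (1 : ResidueField P) ⊗ₜ[P] D A P y ≠ 0 := by
  classical
  set k := ResidueField A with hk
  set K := ResidueField P with hK
  set Pb := k ⊗[A] P with hPb
  -- the surjection `P → P̄`
  have hψ : Function.Surjective (algebraMap P Pb) :=
    Algebra.TensorProduct.includeRight_surjective (R := A) (S := k) (T := P)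
      Ideal.Quotient.mk_surjective
  -- the map `P̄ → K`
  let θ : Pb →ₐ[k] K := Algebra.TensorProduct.lift (Algebra.ofId k K) (IsScalarTower.toAlgHom A P K)
    (fun _ _ => Commute.all _ _)
  have hθ : ∀ p : P, θ (algebraMap P Pb p) = residue P p := by
    intro p
    change θ (1 ⊗ₜ p) = _
    rw [Algebra.TensorProduct.lift_tmul, map_one, one_mul]
    rfl
  -- `P̄` is a local ring
  have : Nontrivial Pb := by
    refine ⟨⟨0, 1, fun h01 => ?_⟩⟩
    have := congrArg θ h01
    rw [map_zero, map_one] at this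
    exact zero_ne_one this
  have : IsLocalRing Pb := IsLocalRing.of_surjective' (algebraMap P Pb) hψ
  have hloc : IsLocalHom (algebraMap P Pb) := IsLocalHom.of_surjective _ hψ
  have hmem : ∀ p : P, algebraMap P Pb p ∈ maximalIdeal Pb ↔ p ∈ maximalIdeal P := by
    intro p
    rw [mem_maximalIdeal, mem_maximalIdeal, mem_nonunits_iff, mem_nonunits_iff, isUnit_map_iff]
  have : IsNoetherianRing Pb := Algebra.EssFiniteType.isNoetherianRing k Pb
  have hfree : Module.Free Pb Ω[Pb⁄k] := Module.free_of_flat_of_isLocalRing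
  -- the residue field of `P̄` is `K`
  have hθm : ∀ a ∈ maximalIdeal Pb, θ a = 0 := by
    intro a ha
    obtain ⟨p, rfl⟩ := hψ a
    rw [hθ, residue_eq_zero_iff]
    exact (hmem p).mp ha
  let θ' : ResidueField Pb →ₐ[k] K := Ideal.Quotient.liftₐ (maximalIdeal Pb) θ hθm
  have hθ'bij : Function.Bijective θ' := by
    refine ⟨θ'.toRingHom.injective, fun z => ?_⟩
    obtain ⟨p, rfl⟩ := residue_surjective z
    exact ⟨residue Pb (algebraMap P Pb p), hθ p⟩
  let e : ResidueField Pb ≃ₐ[k] K := AlgEquiv.ofBijective θ' hθ'bij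
  have : Algebra.FormallySmooth k (ResidueField Pb) := Algebra.FormallySmooth.of_equiv e.symm
  have hfg : (maximalIdeal Pb).FG := IsNoetherian.noetherian _
  have key := (formallySmooth_quotient_iff (R := k) (P := Pb) (maximalIdeal Pb) hfg le_rfl).mp
    (inferInstanceAs (Algebra.FormallySmooth k (ResidueField Pb)))
  -- `m̄ ≠ 0`
  have hle : (maximalIdeal A).map (algebraMap A P) ≤ maximalIdeal P :=
    ((IsLocalRing.local_hom_TFAE (algebraMap A P)).out 0 2).mp ‹IsLocalHom (algebraMap A P)›
  obtain ⟨y₀, hy₀m, hy₀⟩ : ∃ y₀ ∈ maximalIdeal P, y₀ ∉ (maximalIdeal A).map (algebraMap A P) := by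
    by_contra hcon
    push Not at hcon
    exact hne (le_antisymm hcon hle)
  have hmne : maximalIdeal Pb ≠ ⊥ := by
    intro hbot
    have h1 : algebraMap P Pb y₀ ∈ maximalIdeal Pb := (hmem y₀).mpr hy₀m
    rw [hbot, Ideal.mem_bot] at h1
    exact hy₀ ((residue_one_tmul_eq_zero_iff y₀).mp h1)
  -- Nakayama: `m̄ ≠ m̄²`
  obtain ⟨xb, hxb, hxb2⟩ : ∃ xb ∈ maximalIdeal Pb, xb ∉ maximalIdeal Pb • maximalIdeal Pb := by
    by_contra hcon
    push Not at hcon
    exact hmne (Submodule.eq_bot_of_le_smul_of_le_jacobson_bot (maximalIdeal Pb) (maximalIdeal Pb) hfg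
      hcon (IsLocalRing.maximalIdeal_le_jacobson _))
  have hxD : (1 : ResidueField Pb) ⊗ₜ[Pb] D k Pb xb ≠ 0 := fun h0 => hxb2 (key xb hxb h0)
  obtain ⟨y, rfl⟩ := hψ xb
  refine ⟨y, (hmem y).mp hxb, fun hy0 => hxD ?_⟩
  rw [one_tmul_eq_zero_iff] at hy0 ⊢
  have hmap : ∀ ω ∈ maximalIdeal P • (⊤ : Submodule P Ω[P⁄A]),
      KaehlerDifferential.map A k P Pb ω ∈ maximalIdeal Pb • (⊤ : Submodule Pb Ω[Pb⁄k]) := by
    intro ω hω
    induction hω using Submodule.smul_induction_on' with
    | smul a ha x hx =>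
      rw [map_smul, ← algebraMap_smul Pb a]
      exact Submodule.smul_mem_smul ((hmem a).mpr ha) Submodule.mem_top
    | add x hx y hy hx' hy' =>
      rw [map_add]
      exact add_mem hx' hy'
  have := hmap _ hy0
  rwa [KaehlerDifferential.map_D] at this

end

end Groth.Agent.Lib.Helper25.JacobianCrit
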