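import Mathlib
import Groth.Agent.Lib.Helper25.JacobianCrit
import Groth.Agent.Lib.Helper25.JacobianCrit2

/-!
# Transfer of nonvanishing differentials from a local ring to an affine chart (helper25)
-/

set_option autoImplicit false
universe u

open TensorProduct KaehlerDifferential IsLocalRing

namespace Groth.Agent.Lib.Helper25.JacobianCrit

section

variable (R : Type u) {B A P : Type u} [CommRing R] [CommRing B] [CommRing A] [CommRing P]
  [Algebra R B] [Algebra R A] [Algebra A P] [Algebra B P] [Algebra R P]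
  [IsScalarTower R A P] [IsScalarTower R B P] (𝔓 : Ideal B) [𝔓.IsPrime]
  [IsLocalization.AtPrime P 𝔓] [IsLocalRing P]

/-- If `1 ⊗ d_R b = 0` in `κ(𝔓) ⊗_B Ω_{B/R}` then `1 ⊗ d_A b = 0` in `κ(P) ⊗_P Ω_{P/A}`, where `P` is
the localisation of `B` at `𝔓`, viewed as an algebra over an `R`-algebra `A`. -/
theorem one_tmul_D_algebraMap_eq_zero (b : B)
    (h0 : (1 : 𝔓.ResidueField) ⊗ₜ[B] D R B b = 0) :
    (1 : ResidueField P) ⊗ₜ[P] D A P (algebraMap B P b) = 0 := by
  set L := Localization.AtPrime 𝔓 with hL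
  have h1 : (1 : 𝔓.ResidueField) ⊗ₜ[L] D R L (algebraMap B L b) = 0 := by
    rw [← fibreEquiv_symm_one_tmul_D, h0, map_zero]
  have h2 : D R L (algebraMap B L b) ∈ maximalIdeal L • (⊤ : Submodule L Ω[L⁄R]) :=
    (one_tmul_eq_zero_iff (P := L) _).mp h1
  let e : L ≃ₐ[B] P := IsLocalization.algEquiv 𝔓.primeCompl L P
  letI : Algebra L P := e.toAlgHom.toRingHom.toAlgebra
  haveI : IsScalarTower B L P := IsScalarTower.of_algebraMap_eq fun x => (e.commutes x).symm
  haveI : IsScalarTower R L P := IsScalarTower.of_algebraMap_eq fun r => by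
    rw [IsScalarTower.algebraMap_apply R B P, IsScalarTower.algebraMap_apply R B L,
      ← IsScalarTower.algebraMap_apply B L P]
  have hmem : ∀ a ∈ maximalIdeal L, algebraMap L P a ∈ maximalIdeal P := by
    intro a ha
    rw [mem_maximalIdeal, mem_nonunits_iff] at ha ⊢
    intro hu
    apply ha
    have : IsUnit (e.symm (e a)) := hu.map e.symm
    rwa [e.symm_apply_apply] at this
  rw [one_tmul_eq_zero_iff]
  have hmap : ∀ ω ∈ maximalIdeal L • (⊤ : Submodule L Ω[L⁄R]),
      KaehlerDifferential.map R A L P ω ∈ maximalIdeal P • (⊤ : Submodule P Ω[P⁄A]) := by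
    intro ω hω
    induction hω using Submodule.smul_induction_on' with
    | smul a ha x hx =>
      rw [map_smul, ← algebraMap_smul P a]
      exact Submodule.smul_mem_smul (hmem a ha) Submodule.mem_top
    | add x hx y hy hx' hy' =>
      rw [map_add]
      exact add_mem hx' hy'
  have := hmap _ h2
  rwa [KaehlerDifferential.map_D, ← IsScalarTower.algebraMap_apply B L P] at this

/-- A local parameter `y ∈ m_P` with `1 ⊗ d_A y ≠ 0` gives an element `h ∈ 𝔓` with `1 ⊗ d_R h ≠ 0`. -/
theorem exists_mem_one_tmul_D_ne_zero_of_localization (y : P) (hy : y ∈ maximalIdeal P)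
    (hne : (1 : ResidueField P) ⊗ₜ[P] D A P y ≠ 0) :
    ∃ h ∈ 𝔓, (1 : 𝔓.ResidueField) ⊗ₜ[B] D R B h ≠ 0 := by
  obtain ⟨b, t, rfl⟩ := IsLocalization.exists_mk'_eq 𝔓.primeCompl y
  have hb : b ∈ 𝔓 := (IsLocalization.AtPrime.mk'_mem_maximal_iff P 𝔓 b t).mp hy
  refine ⟨b, hb, fun h0 => hne ?_⟩
  have h1 := one_tmul_D_algebraMap_eq_zero R (A := A) (P := P) 𝔓 b h0
  have h2 : algebraMap B P b = IsLocalization.mk' P b t * algebraMap B P t :=
    (IsLocalization.mk'_spec P b t).symm
  rw [h2, Derivation.leibniz, tmul_add] at h1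
  have h3 : (1 : ResidueField P) ⊗ₜ[P] (IsLocalization.mk' P b t • D A P (algebraMap B P t)) = 0 := by
    rw [← smul_tmul, Algebra.smul_def, mul_one]
    have : algebraMap P (ResidueField P) (IsLocalization.mk' P b t) = 0 :=
      (residue_eq_zero_iff _).mpr hy
    rw [this, zero_tmul]
  rw [h3, zero_add, ← smul_tmul, Algebra.smul_def, mul_one] at h1
  have h4 : algebraMap P (ResidueField P) (algebraMap B P t) ≠ 0 := by
    intro h5
    have h6 : algebraMap B P t ∈ maximalIdeal P := (residue_eq_zero_iff _).mp h5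
    exact t.2 ((IsLocalization.AtPrime.to_map_mem_maximal_iff P 𝔓 (t : B)).mp h6)
  have h7 : (algebraMap P (ResidueField P) (algebraMap B P t)) •
      ((1 : ResidueField P) ⊗ₜ[P] D A P (IsLocalization.mk' P b t)) = 0 := by
    rw [smul_tmul', smul_eq_mul, mul_one]
    exact h1
  exact (smul_eq_zero.mp h7).resolve_left h4

end

end Groth.Agent.Lib.Helper25.JacobianCrit
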