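import Mathlib
import Groth.Agent.Lib.Helper25.JacobianCrit
import Groth.Agent.Lib.Helper25.JacobianCrit2
import Groth.Agent.Lib.Helper25.JacobianCrit4
import Groth.Agent.Lib.Helper25.EtaleCoord

/-!
# Smooth principal divisors from étale coordinates (helper25)

* `nonZeroDivisor_and_smooth_quotient_of_etale_mvPolynomial`: if `T` is étale over `R[X_i : i ∈ ι]` then the
  image `h` of a coordinate `X_{i₀}` is a nonzerodivisor of `T` and `T ⧸ (h)` is smooth over `R`.
* `exists_notMem_nonZeroDivisor_smooth_quotient`: if `B` is a finitely presented `R`-algebra, smooth at the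
  prime `𝔓`, and `h ∈ B` has `1 ⊗ dh ≠ 0` in `κ(𝔓) ⊗ Ω_{B/R}`, then there is `f ∉ 𝔓` such that `h` is a
  nonzerodivisor in `B_f` and `B_f ⧸ (h)` is smooth over `R`.
-/

set_option autoImplicit false
universe u v w

open TensorProduct KaehlerDifferential IsLocalRing

namespace Groth.Agent.Lib.Helper25.JacobianCrit

section Core

variable (R : Type u) {ι : Type w} {T : Type v} [CommRing R] [CommRing T]
  [Algebra R T] [Algebra (MvPolynomial ι R) T] [IsScalarTower R (MvPolynomial ι R) T]

/-- For `T` étale over a polynomial ring, the differentials of the coordinates are nonzero in every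
fibre of `Ω_{T/R}`. -/
theorem one_tmul_D_coord_ne_zero [Algebra.FormallyEtale (MvPolynomial ι R) T] (i₀ : ι)
    (𝔔 : Ideal T) [𝔔.IsPrime] :
    (1 : 𝔔.ResidueField) ⊗ₜ[T] D R T (algebraMap (MvPolynomial ι R) T (MvPolynomial.X i₀)) ≠ 0 := by
  classical
  let b : Module.Basis ι T Ω[T⁄R] :=
    ((KaehlerDifferential.mvPolynomialBasis R ι).baseChange T).map
      (tensorKaehlerEquivOfFormallyEtale R (MvPolynomial ι R) T)
  have hb : b i₀ = D R T (algebraMap (MvPolynomial ι R) T (MvPolynomial.X i₀)) := by
    simp only [b, Module.Basis.map_apply, Module.Basis.baseChange_apply,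
      KaehlerDifferential.mvPolynomialBasis_apply, tensorKaehlerEquivOfFormallyEtale_apply,
      mapBaseChange_tmul, one_smul, map_D]
  have h2 := (b.baseChange 𝔔.ResidueField).ne_zero i₀
  rwa [Module.Basis.baseChange_apply, hb] at h2

omit [Algebra R T] [IsScalarTower R (MvPolynomial ι R) T] in
/-- For `T` flat over a polynomial ring, the coordinates are nonzerodivisors. -/
theorem coord_mem_nonZeroDivisors [Module.Flat (MvPolynomial ι R) T] (i₀ : ι) :
    algebraMap (MvPolynomial ι R) T (MvPolynomial.X i₀) ∈ nonZeroDivisors T := by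
  have hreg : IsSMulRegular T (MvPolynomial.X i₀ : MvPolynomial ι R) :=
    Module.Flat.isSMulRegular_of_isRegular MvPolynomial.isRegular_X
  rw [mem_nonZeroDivisors_iff_left]
  intro x hx
  apply hreg
  simp only [Algebra.smul_def, hx, mul_zero]

/-- Quotient by the ideal generated by a family, smooth if the differentials are independent in all
fibres. -/
theorem smooth_quotient_of_forall_linearIndependent [Algebra.Smooth R T] {c : ℕ} (g : Fin c → T)
    (H : ∀ (𝔔 : Ideal T) [𝔔.IsPrime], LinearIndependent 𝔔.ResidueField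
      fun i => (1 : 𝔔.ResidueField) ⊗ₜ[T] D R T (g i))
    (I : Ideal T) (hI : I = Ideal.span (Set.range g)) :
    Algebra.Smooth R (T ⧸ I) := by
  classical
  subst hI
  haveI : Algebra.FinitePresentation R (T ⧸ Ideal.span (Set.range g)) :=
    Algebra.FinitePresentation.quotient ⟨Finset.univ.image g, by simp⟩
  refine ⟨?_, inferInstance⟩
  rw [← Algebra.smoothLocus_eq_univ_iff, Set.eq_univ_iff_forall]
  intro q
  haveI : Algebra.IsSmoothAt R (q.asIdeal.comap (Ideal.Quotient.mk (Ideal.span (Set.range g)))) := by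
    have h : (⟨q.asIdeal.comap (Ideal.Quotient.mk (Ideal.span (Set.range g))), inferInstance⟩ :
        PrimeSpectrum T) ∈ Algebra.smoothLocus R T := by
      rw [Algebra.smoothLocus_eq_univ]; trivial
    exact h
  exact isSmoothAt_quotient_of_linearIndependent R g q.asIdeal (H _)

end Core

section Main

variable (R : Type u) {B : Type u} [CommRing R] [CommRing B] [Algebra R B]

/-- **Smooth principal divisors.** If `B` is finitely presented over `R` and smooth at the prime `𝔓`, and
`h ∈ B` has nonzero differential in the fibre `κ(𝔓) ⊗ Ω_{B/R}`, then after inverting some `f ∉ 𝔓`, `h`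
becomes a nonzerodivisor with `B_f ⧸ (h)` smooth over `R`. -/
theorem exists_notMem_nonZeroDivisor_smooth_quotient [Algebra.FinitePresentation R B]
    (𝔓 : Ideal B) [𝔓.IsPrime] [Algebra.IsSmoothAt R 𝔓] (h : B)
    (hne : (1 : 𝔓.ResidueField) ⊗ₜ[B] D R B h ≠ 0) :
    ∃ f ∉ 𝔓, ∀ (B' : Type u) [CommRing B'] [Algebra B B'] [IsLocalization.Away f B'],
      algebraMap B B' h ∈ nonZeroDivisors B' ∧
      ((Ideal.Quotient.mk (Ideal.span {algebraMap B B' h})).comp
        ((algebraMap B B').comp (algebraMap R B))).Smooth := by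
  classical
  let φ : B → 𝔓.ResidueField ⊗[B] Ω[B⁄R] := fun b => (1 : 𝔓.ResidueField) ⊗ₜ[B] D R B b
  have hφ : Submodule.span 𝔓.ResidueField (Set.range φ) = ⊤ := by
    have h1 := span_one_tmul_D_eq_top R 𝔓.ResidueField (⊤ : Ideal B)
      (fun z => ⟨0, Subsingleton.elim _ _⟩)
    rw [← Set.image_univ]
    exact h1
  let g : Fin 1 → B := fun _ => h
  have hli : LinearIndependent 𝔓.ResidueField (φ ∘ g) := by
    rw [linearIndependent_unique_iff]
    exact hne
  obtain ⟨m, g', hli', hspan'⟩ := exists_extend_fin_basis φ hφ g hli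
  set hh : Fin 1 ⊕ Fin m → B := Sum.elim g g' with hhh
  letI : Algebra (MvPolynomial (Fin 1 ⊕ Fin m) R) B := (MvPolynomial.aeval hh).toRingHom.toAlgebra
  haveI : IsScalarTower R (MvPolynomial (Fin 1 ⊕ Fin m) R) B :=
    IsScalarTower.of_algebraMap_eq' (MvPolynomial.aeval hh).comp_algebraMap.symm
  have hX : ∀ i, algebraMap (MvPolynomial (Fin 1 ⊕ Fin m) R) B (MvPolynomial.X i) = hh i :=
    fun i => MvPolynomial.aeval_X hh i
  haveI : Algebra.IsEtaleAt (MvPolynomial (Fin 1 ⊕ Fin m) R) 𝔓 :=
    isEtaleAt_mvPolynomial_of_basis R hh hX 𝔓 hli' hspan'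
  haveI : Algebra.FinitePresentation (MvPolynomial (Fin 1 ⊕ Fin m) R) B :=
    Algebra.FinitePresentation.of_restrict_scalars_finitePresentation R _ B
  obtain ⟨f, hf, hEt⟩ := Algebra.exists_etale_of_isEtaleAt (R := MvPolynomial (Fin 1 ⊕ Fin m) R) 𝔓
  refine ⟨f, hf, fun B' _ _ _ => ?_⟩
  set S := MvPolynomial (Fin 1 ⊕ Fin m) R with hS
  letI : Algebra R B' := ((algebraMap B B').comp (algebraMap R B)).toAlgebra
  haveI : IsScalarTower R B B' := IsScalarTower.of_algebraMap_eq' rfl
  letI : Algebra S B' := ((algebraMap B B').comp (algebraMap S B)).toAlgebra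
  haveI : IsScalarTower S B B' := IsScalarTower.of_algebraMap_eq' rfl
  haveI : IsScalarTower R S B' := IsScalarTower.of_algebraMap_eq fun r => by
    rw [IsScalarTower.algebraMap_apply R B B', IsScalarTower.algebraMap_apply S B B',
      ← IsScalarTower.algebraMap_apply R S B]
  let e : Localization.Away f ≃ₐ[S] B' :=
    (IsLocalization.algEquiv (Submonoid.powers f) (Localization.Away f) B').restrictScalars S
  haveI : Algebra.Etale S B' := Algebra.Etale.of_equiv e
  haveI : Algebra.Smooth R S := ⟨inferInstance, inferInstance⟩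
  haveI : Algebra.Smooth R B' := Algebra.Smooth.comp R S B'
  have hh' : algebraMap B B' h = algebraMap S B' (MvPolynomial.X (Sum.inl 0)) := by
    rw [IsScalarTower.algebraMap_apply S B B', hX]
    rfl
  refine ⟨?_, ?_⟩
  · rw [hh']
    exact coord_mem_nonZeroDivisors R (Sum.inl 0)
  · have hsm : Algebra.Smooth R (B' ⧸ Ideal.span {algebraMap B B' h}) := by
      refine smooth_quotient_of_forall_linearIndependent R (fun _ : Fin 1 => algebraMap B B' h)
        (fun 𝔔 _ => ?_) _ (by rw [Set.range_const])
      rw [linearIndependent_unique_iff, hh']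
      exact one_tmul_D_coord_ne_zero R (Sum.inl 0) 𝔔
    exact RingHom.smooth_algebraMap.mpr hsm

end Main

end Groth.Agent.Lib.Helper25.JacobianCrit
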