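import Mathlib
import Groth.Agent.S9501
import Groth.Agent.S9721
import Groth.Agent.Lib.Helper25.SmoothDivisor
import Groth.Agent.Lib.Helper25.SmoothDivisor2
import Groth.Agent.Lib.Helper25.SmoothDivisor3

/-!
# Smooth effective Cartier divisors through a point of a smooth morphism (helper25)
-/

set_option autoImplicit false
universe u

open AlgebraicGeometry CategoryTheory IsLocalRing TensorProduct KaehlerDifferential

namespace Groth.Agent.Lib.Helper25.SmoothDivisorScheme

/-- If the local ring of the fibre at a point is not a field, then `m_x ≠ m_s O_{X,x}`. -/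
theorem maximalIdeal_ne_map_of_fiber {X S : Scheme.{u}} (f : X ⟶ S) (s : S) (y : ↥(f.fiber s))
    (x : X) (hy : f.fiberι s y = x)
    (hgen : maximalIdeal ((f.fiber s).presheaf.stalk y) ≠ ⊥) :
    maximalIdeal (X.presheaf.stalk x) ≠
      Ideal.map (f.stalkMap x).hom (maximalIdeal (S.presheaf.stalk (f x))) := by
  subst hy
  intro heq
  apply hgen
  obtain ⟨hsurj, hker⟩ := Groth.Agent.S9501.result f s y
  rw [eq_bot_iff]
  intro z hz
  obtain ⟨w, rfl⟩ := hsurj z
  have hw : w ∈ maximalIdeal (X.presheaf.stalk (f.fiberι s y)) := by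
    rw [mem_maximalIdeal, mem_nonunits_iff] at hz ⊢
    exact fun hu => hz (hu.map _)
  rw [heq] at hw
  have hw' : w ∈ RingHom.ker ((f.fiberι s).stalkMap y).hom := by
    rw [hker]
    exact hw
  exact hw'

/-- Compatibility of germs, `appLE` and stalk maps. -/
theorem germ_stalkMap_eq_appLE_germ {X S : Scheme.{u}} (f : X ⟶ S) (x : X)
    {U : X.Opens} (hxU : x ∈ U) {V : S.Opens} (e : U ≤ f ⁻¹ᵁ V) (hfx : f x ∈ V) :
    S.presheaf.germ V (f x) hfx ≫ f.stalkMap x = f.appLE V U e ≫ X.presheaf.germ U x hxU := by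
  rw [Scheme.Hom.germ_stalkMap, Scheme.Hom.appLE]
  simp only [Category.assoc]
  rw [X.presheaf.germ_res]

open Groth.Agent.Lib.Helper25.JacobianCrit in
/-- **Smooth divisor through a point** (ring-theoretic form of the nondegeneracy hypothesis). -/
theorem exists_smooth_divisor {X S : Scheme.{u}} (f : X ⟶ S) (x : X)
    (W : X.Opens) (hxW : x ∈ W) (hW : Smooth (W.ι ≫ f))
    (hsep : letI := (f.residueFieldMap x).hom.toAlgebra
      Algebra.FormallySmooth (S.residueField (f x)) (X.residueField x))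
    (hgen : maximalIdeal (X.presheaf.stalk x) ≠
      Ideal.map (f.stalkMap x).hom (maximalIdeal (S.presheaf.stalk (f x)))) :
    ∃ (U : X.Opens) (hU : IsAffineOpen U) (hx : x ∈ U) (h' : Γ(X, U)),
      h' ∈ nonZeroDivisors Γ(X, U) ∧
      X.presheaf.germ U x hx h' ∈ maximalIdeal ↑(X.presheaf.stalk x) ∧
      Smooth (Spec.map (CommRingCat.ofHom (Ideal.Quotient.mk (Ideal.span {h'}))) ≫
        hU.fromSpec ≫ f) := by
  obtain ⟨V, hV, hfxV, -⟩ := AlgebraicGeometry.exists_isAffineOpen_mem_and_subset (x := f x)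
    (U := ⊤) (Set.mem_univ _)
  obtain ⟨U, hU, hxU, e, hstd⟩ := (Groth.Agent.S9721.result f x V hV hfxV).mp ⟨W, hxW, hW⟩
  algebraize [(f.appLE V U e).hom]
  set 𝔓 := hU.primeIdealOf ⟨x, hxU⟩ with h𝔓
  haveI hsmB : Algebra.Smooth Γ(S, V) Γ(X, U) := by
    have : Algebra.IsStandardSmooth Γ(S, V) Γ(X, U) := inferInstance
    infer_instance
  haveI : Algebra.IsSmoothAt Γ(S, V) 𝔓.asIdeal := by
    have h : 𝔓 ∈ Algebra.smoothLocus Γ(S, V) Γ(X, U) := by
      rw [Algebra.smoothLocus_eq_univ]; trivial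
    exact h
  -- the stalks
  set A := S.presheaf.stalk (f x) with hA
  set P := X.presheaf.stalk x with hP
  letI : Algebra A P := (f.stalkMap x).hom.toAlgebra
  haveI : IsLocalHom (algebraMap A P) := inferInstanceAs (IsLocalHom (f.stalkMap x).hom)
  letI : Algebra Γ(X, U) P := (X.presheaf.germ U x hxU).hom.toAlgebra
  letI : Algebra Γ(S, V) A := (S.presheaf.germ V (f x) hfxV).hom.toAlgebra
  letI : Algebra Γ(S, V) P :=
    ((f.stalkMap x).hom.comp (S.presheaf.germ V (f x) hfxV).hom).toAlgebra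
  haveI : IsScalarTower Γ(S, V) A P := IsScalarTower.of_algebraMap_eq' rfl
  haveI : IsScalarTower Γ(S, V) Γ(X, U) P := IsScalarTower.of_algebraMap_eq'
    (congrArg CommRingCat.Hom.hom (germ_stalkMap_eq_appLE_germ f x hxU e hfxV))
  haveI : IsLocalization.AtPrime P 𝔓.asIdeal := hU.isLocalization_stalk ⟨x, hxU⟩
  haveI : Algebra.FormallySmooth A P := by
    have h1 : (f.stalkMap x).hom.FormallySmooth := by
      rw [formallySmooth_stalkMap_iff V hV U hU e hxU]
      exact (Algebra.smoothLocus_eq_univ (R := Γ(S, V)) (A := Γ(X, U))).symm ▸ Set.mem_univ _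
    exact h1
  haveI : Algebra.EssFiniteType A P := by
    haveI : Algebra.EssFiniteType Γ(X, U) P := .of_isLocalization _ 𝔓.asIdeal.primeCompl
    haveI : Algebra.EssFiniteType Γ(S, V) P := .comp _ Γ(X, U) _
    exact Algebra.EssFiniteType.of_comp Γ(S, V) A P
  haveI : Algebra.FormallySmooth (ResidueField A) (ResidueField P) := by
    have h1 : (f.residueFieldMap x).hom.FormallySmooth := hsep
    have h2 : (algebraMap (ResidueField A) (ResidueField P)).FormallySmooth := h1
    exact RingHom.formallySmooth_algebraMap.mp h2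
  obtain ⟨y, hy, hyD⟩ := exists_mem_maximalIdeal_one_tmul_D_ne_zero (A := A) (P := P) hgen
  obtain ⟨h, hh𝔓, hhD⟩ := exists_mem_one_tmul_D_ne_zero_of_localization Γ(S, V) (A := A) (P := P)
    𝔓.asIdeal y hy hyD
  obtain ⟨f₀, hf₀, H⟩ := exists_notMem_nonZeroDivisor_smooth_quotient Γ(S, V) 𝔓.asIdeal h hhD
  -- the smaller chart
  have hU' : IsAffineOpen (X.basicOpen f₀) := hU.basicOpen f₀
  have hxU' : x ∈ X.basicOpen f₀ := by
    rw [Scheme.mem_basicOpen _ _ _ hxU]
    exact IsLocalization.map_units P (⟨f₀, hf₀⟩ : 𝔓.asIdeal.primeCompl)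
  letI : Algebra Γ(X, U) Γ(X, X.basicOpen f₀) :=
    (X.presheaf.map (homOfLE (X.basicOpen_le f₀)).op).hom.toAlgebra
  haveI : IsLocalization.Away f₀ Γ(X, X.basicOpen f₀) := hU.isLocalization_basicOpen f₀
  obtain ⟨hnzd, hsmooth⟩ := H Γ(X, X.basicOpen f₀)
  refine ⟨X.basicOpen f₀, hU', hxU', algebraMap Γ(X, U) Γ(X, X.basicOpen f₀) h, hnzd, ?_, ?_⟩
  · have h1 : X.presheaf.germ (X.basicOpen f₀) x hxU'
        (algebraMap Γ(X, U) Γ(X, X.basicOpen f₀) h) = algebraMap Γ(X, U) P h :=
      X.presheaf.germ_res_apply (homOfLE (X.basicOpen_le f₀)) x hxU' h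
    rw [h1]
    exact (IsLocalization.AtPrime.to_map_mem_maximal_iff P 𝔓.asIdeal h).mpr hh𝔓
  · have e' : X.basicOpen f₀ ≤ f ⁻¹ᵁ V := (X.basicOpen_le f₀).trans e
    rw [← IsAffineOpen.SpecMap_appLE_fromSpec f hV hU' e', ← Category.assoc, ← Spec.map_comp]
    haveI : Smooth (Spec.map (f.appLE V (X.basicOpen f₀) e' ≫
        CommRingCat.ofHom (Ideal.Quotient.mk (Ideal.span
          {algebraMap Γ(X, U) Γ(X, X.basicOpen f₀) h})))) := by
      rw [HasRingHomProperty.Spec_iff (P := @Smooth)]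
      have h2 : f.appLE V (X.basicOpen f₀) e' =
          f.appLE V U e ≫ X.presheaf.map (homOfLE (X.basicOpen_le f₀)).op :=
        (f.appLE_map e (homOfLE (X.basicOpen_le f₀)).op).symm
      rw [h2]
      exact hsmooth
    infer_instance

end Groth.Agent.Lib.Helper25.SmoothDivisorScheme
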