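import Mathlib
import Groth.Agent.Lib.Helper25.SmoothDivisorScheme

/-!
# Smooth effective Cartier divisors with prescribed germ (helper25)
-/

set_option autoImplicit false
universe u

open AlgebraicGeometry CategoryTheory IsLocalRing TensorProduct KaehlerDifferential

namespace Groth.Agent.Lib.Helper25.SmoothDivisorScheme

/-- If `κ ⊗_P Ω_{P/A} → Ω_{κ/A}` is not injective (`P` local with residue field `κ`), some `y ∈ m_P`
has `1 ⊗ dy ≠ 0`. -/
theorem exists_mem_maximalIdeal_one_tmul_D_ne_zero_of_ker_ne_bot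
    (A P : Type u) [CommRing A] [CommRing P] [IsLocalRing P] [Algebra A P]
    [Algebra A (ResidueField P)] [IsScalarTower A P (ResidueField P)]
    (hker : LinearMap.ker (KaehlerDifferential.mapBaseChange A P (ResidueField P)) ≠ ⊥) :
    ∃ y ∈ maximalIdeal P, (1 : ResidueField P) ⊗ₜ[P] D A P y ≠ 0 := by
  have hex := KaehlerDifferential.exact_kerCotangentToTensor_mapBaseChange A P (ResidueField P)
    residue_surjective
  obtain ⟨v, hv, hv0⟩ := (Submodule.ne_bot_iff _).mp hker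
  obtain ⟨c, rfl⟩ := (hex v).mp hv
  obtain ⟨y, rfl⟩ := Ideal.toCotangent_surjective _ c
  rw [kerCotangentToTensor_toCotangent] at hv0
  refine ⟨y, ?_, hv0⟩
  have := y.2
  rw [RingHom.mem_ker] at this
  exact (residue_eq_zero_iff _).mp this

open Groth.Agent.Lib.Helper25.JacobianCrit in
/-- **Chart form**: in a smooth affine chart `U → V`, a section `b` whose germ at `x` has nonzero
differential in the fibre of `Ω` at `x` cuts out a smooth effective Cartier divisor on a basic open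
neighbourhood of `x`. -/
theorem exists_basicOpen_smooth_divisor {X S : Scheme.{u}} (f : X ⟶ S) (x : X)
    {V : S.Opens} (hV : IsAffineOpen V) {U : X.Opens} (hU : IsAffineOpen U) (hxU : x ∈ U)
    (e : U ≤ f ⁻¹ᵁ V) (hsm : (f.appLE V U e).hom.Smooth) (b : Γ(X, U))
    (hd : letI := (f.stalkMap x).hom.toAlgebra
      (1 : ResidueField (X.presheaf.stalk x)) ⊗ₜ[X.presheaf.stalk x]
        (D (S.presheaf.stalk (f x)) (X.presheaf.stalk x) (X.presheaf.germ U x hxU b)) ≠ 0) :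
    ∃ (f₀ : Γ(X, U)) (_ : x ∈ X.basicOpen f₀),
      (X.presheaf.map (homOfLE (X.basicOpen_le f₀)).op).hom b ∈
        nonZeroDivisors Γ(X, X.basicOpen f₀) ∧
      Smooth (Spec.map (CommRingCat.ofHom (Ideal.Quotient.mk (Ideal.span
        {(X.presheaf.map (homOfLE (X.basicOpen_le f₀)).op).hom b}))) ≫
          (hU.basicOpen f₀).fromSpec ≫ f) := by
  have hfxV : f x ∈ V := e hxU
  algebraize [(f.appLE V U e).hom]
  set 𝔓 := hU.primeIdealOf ⟨x, hxU⟩ with h𝔓
  haveI : Algebra.IsSmoothAt Γ(S, V) 𝔓.asIdeal := by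
    have h : 𝔓 ∈ Algebra.smoothLocus Γ(S, V) Γ(X, U) := by
      rw [Algebra.smoothLocus_eq_univ]; trivial
    exact h
  -- the stalks
  set A := S.presheaf.stalk (f x) with hA
  set P := X.presheaf.stalk x with hP
  letI : Algebra A P := (f.stalkMap x).hom.toAlgebra
  letI : Algebra Γ(X, U) P := (X.presheaf.germ U x hxU).hom.toAlgebra
  letI : Algebra Γ(S, V) A := (S.presheaf.germ V (f x) hfxV).hom.toAlgebra
  letI : Algebra Γ(S, V) P :=
    ((f.stalkMap x).hom.comp (S.presheaf.germ V (f x) hfxV).hom).toAlgebra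
  haveI : IsScalarTower Γ(S, V) A P := IsScalarTower.of_algebraMap_eq' rfl
  haveI : IsScalarTower Γ(S, V) Γ(X, U) P := IsScalarTower.of_algebraMap_eq'
    (congrArg CommRingCat.Hom.hom (germ_stalkMap_eq_appLE_germ f x hxU e hfxV))
  haveI : IsLocalization.AtPrime P 𝔓.asIdeal := hU.isLocalization_stalk ⟨x, hxU⟩
  have hhD : (1 : 𝔓.asIdeal.ResidueField) ⊗ₜ[Γ(X, U)] D Γ(S, V) Γ(X, U) b ≠ 0 := fun h0 =>
    hd (one_tmul_D_algebraMap_eq_zero Γ(S, V) (A := A) (P := P) 𝔓.asIdeal b h0)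
  obtain ⟨f₀, hf₀, H⟩ := exists_notMem_nonZeroDivisor_smooth_quotient Γ(S, V) 𝔓.asIdeal b hhD
  -- the smaller chart
  have hU' : IsAffineOpen (X.basicOpen f₀) := hU.basicOpen f₀
  have hxU' : x ∈ X.basicOpen f₀ := by
    rw [Scheme.mem_basicOpen _ _ _ hxU]
    exact IsLocalization.map_units P (⟨f₀, hf₀⟩ : 𝔓.asIdeal.primeCompl)
  letI : Algebra Γ(X, U) Γ(X, X.basicOpen f₀) :=
    (X.presheaf.map (homOfLE (X.basicOpen_le f₀)).op).hom.toAlgebra
  haveI : IsLocalization.Away f₀ Γ(X, X.basicOpen f₀) := hU.isLocalization_basicOpen f₀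
  obtain ⟨hnzd, hsmooth⟩ := H Γ(X, X.basicOpen f₀)
  refine ⟨f₀, hxU', hnzd, ?_⟩
  have e' : X.basicOpen f₀ ≤ f ⁻¹ᵁ V := (X.basicOpen_le f₀).trans e
  rw [← IsAffineOpen.SpecMap_appLE_fromSpec f hV hU' e', ← Category.assoc, ← Spec.map_comp]
  haveI : Smooth (Spec.map (f.appLE V (X.basicOpen f₀) e' ≫
      CommRingCat.ofHom (Ideal.Quotient.mk (Ideal.span
        {(X.presheaf.map (homOfLE (X.basicOpen_le f₀)).op).hom b})))) := by
    rw [HasRingHomProperty.Spec_iff (P := @Smooth)]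
    have h2 : f.appLE V (X.basicOpen f₀) e' =
        f.appLE V U e ≫ X.presheaf.map (homOfLE (X.basicOpen_le f₀)).op :=
      (f.appLE_map e (homOfLE (X.basicOpen_le f₀)).op).symm
    rw [h2]
    exact hsmooth
  infer_instance

/-- **Smooth divisor with prescribed germ**: a germ `y` at `x` with nonzero differential in the fibre
of `Ω_{X/S}` at `x` (for `f` smooth near `x`) extends to a nonzerodivisor on an affine neighbourhood
cutting out a divisor smooth over `S`. -/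
theorem exists_smooth_divisor_of_germ {X S : Scheme.{u}} (f : X ⟶ S) (x : X)
    (W : X.Opens) (hxW : x ∈ W) (hW : Smooth (W.ι ≫ f))
    (y : X.presheaf.stalk x)
    (hd : letI := (f.stalkMap x).hom.toAlgebra
      (1 : ResidueField (X.presheaf.stalk x)) ⊗ₜ[X.presheaf.stalk x]
        (D (S.presheaf.stalk (f x)) (X.presheaf.stalk x) y) ≠ 0) :
    ∃ (U : X.Opens) (hU : IsAffineOpen U) (hx : x ∈ U) (h' : Γ(X, U)),
      X.presheaf.germ U x hx h' = y ∧ h' ∈ nonZeroDivisors Γ(X, U) ∧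
      Smooth (Spec.map (CommRingCat.ofHom (Ideal.Quotient.mk (Ideal.span {h'}))) ≫
        hU.fromSpec ≫ f) := by
  obtain ⟨V, hV, hfxV, -⟩ := AlgebraicGeometry.exists_isAffineOpen_mem_and_subset (x := f x)
    (U := ⊤) (Set.mem_univ _)
  obtain ⟨U₀, hU₀, hxU₀, e₀, hstd⟩ := (Groth.Agent.S9721.result f x V hV hfxV).mp ⟨W, hxW, hW⟩
  have hsm₀ : (f.appLE V U₀ e₀).hom.Smooth := by
    algebraize [(f.appLE V U₀ e₀).hom]
    have : Algebra.IsStandardSmooth Γ(S, V) Γ(X, U₀) := inferInstance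
    exact RingHom.smooth_algebraMap.mpr inferInstance
  set 𝔓₀ := hU₀.primeIdealOf ⟨x, hxU₀⟩ with h𝔓₀
  letI : Algebra Γ(X, U₀) (X.presheaf.stalk x) := (X.presheaf.germ U₀ x hxU₀).hom.toAlgebra
  haveI : IsLocalization.AtPrime (X.presheaf.stalk x) 𝔓₀.asIdeal := hU₀.isLocalization_stalk ⟨x, hxU₀⟩
  obtain ⟨b₀, t, hy⟩ := IsLocalization.exists_mk'_eq 𝔓₀.asIdeal.primeCompl y
  have hU : IsAffineOpen (X.basicOpen (t : Γ(X, U₀))) := hU₀.basicOpen _
  have hxU : x ∈ X.basicOpen (t : Γ(X, U₀)) := by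
    rw [Scheme.mem_basicOpen _ _ _ hxU₀]
    exact IsLocalization.map_units (X.presheaf.stalk x) t
  letI : Algebra Γ(X, U₀) Γ(X, X.basicOpen (t : Γ(X, U₀))) :=
    (X.presheaf.map (homOfLE (X.basicOpen_le (t : Γ(X, U₀)))).op).hom.toAlgebra
  haveI : IsLocalization.Away (t : Γ(X, U₀)) Γ(X, X.basicOpen (t : Γ(X, U₀))) :=
    hU₀.isLocalization_basicOpen _
  set b : Γ(X, X.basicOpen (t : Γ(X, U₀))) := IsLocalization.mk' _ b₀
    (⟨t, Submonoid.mem_powers _⟩ : Submonoid.powers (t : Γ(X, U₀))) with hb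
  have hgerm : X.presheaf.germ (X.basicOpen (t : Γ(X, U₀))) x hxU b = y := by
    rw [← hy, IsLocalization.eq_mk'_iff_mul_eq]
    have h1 : algebraMap Γ(X, U₀) (X.presheaf.stalk x) (t : Γ(X, U₀)) =
        X.presheaf.germ (X.basicOpen (t : Γ(X, U₀))) x hxU
          (algebraMap Γ(X, U₀) Γ(X, X.basicOpen (t : Γ(X, U₀))) t) :=
      (X.presheaf.germ_res_apply (homOfLE (X.basicOpen_le (t : Γ(X, U₀)))) x hxU _).symm
    have h2 : algebraMap Γ(X, U₀) (X.presheaf.stalk x) b₀ =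
        X.presheaf.germ (X.basicOpen (t : Γ(X, U₀))) x hxU
          (algebraMap Γ(X, U₀) Γ(X, X.basicOpen (t : Γ(X, U₀))) b₀) :=
      (X.presheaf.germ_res_apply (homOfLE (X.basicOpen_le (t : Γ(X, U₀)))) x hxU _).symm
    rw [h1, h2, ← map_mul, hb]
    congr 1
    exact IsLocalization.mk'_spec _ b₀ _
  have e : X.basicOpen (t : Γ(X, U₀)) ≤ f ⁻¹ᵁ V := (X.basicOpen_le _).trans e₀
  have hsm : (f.appLE V (X.basicOpen (t : Γ(X, U₀))) e).hom.Smooth := by
    have h2 : f.appLE V (X.basicOpen (t : Γ(X, U₀))) e =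
        f.appLE V U₀ e₀ ≫ X.presheaf.map (homOfLE (X.basicOpen_le (t : Γ(X, U₀)))).op :=
      (f.appLE_map e₀ (homOfLE (X.basicOpen_le (t : Γ(X, U₀)))).op).symm
    rw [h2, CommRingCat.hom_comp]
    refine RingHom.Smooth.comp hsm₀ ?_
    exact RingHom.smooth_algebraMap.mpr (Algebra.Smooth.of_isLocalization_Away (t : Γ(X, U₀)))
  rw [← hgerm] at hd
  obtain ⟨f₀, hx', hnzd, hsmooth⟩ := exists_basicOpen_smooth_divisor f x hV hU hxU e hsm b hd
  refine ⟨X.basicOpen f₀, hU.basicOpen f₀, hx', _, ?_, hnzd, hsmooth⟩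
  rw [← hgerm]
  exact X.presheaf.germ_res_apply (homOfLE (X.basicOpen_le f₀)) x hx' b

end Groth.Agent.Lib.Helper25.SmoothDivisorScheme
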