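import Mathlib
import Groth.Agent.Lib.Helper25.BaseChangeLocus

set_option autoImplicit false
universe u

open TensorProduct

namespace Groth.Agent.Lib.Helper25.SmoothQF

/-- Over a field: smooth + quasi-finite at a prime implies unramified at that prime. -/
theorem isUnramifiedAt_of_field (K F : Type u) [Field K] [CommRing F] [Algebra K F]
    [Algebra.FinitePresentation K F] (q : Ideal F) [q.IsPrime] [Algebra.QuasiFiniteAt K q]
    (h : Algebra.IsSmoothAt K q) : Algebra.IsUnramifiedAt K q := by
  obtain ⟨f, hfq, n, _, _, hstd⟩ := Algebra.IsSmoothAt.exists_isStandardEtale_mvPolynomial (R := K) (p := q)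
  set C := Localization.Away f with hC
  set P := MvPolynomial (Fin n) K with hP
  have hfl : Module.Flat P C := inferInstance
  cases n with
  | zero =>
    have : Algebra.FormallyUnramified K P :=
      Algebra.FormallyUnramified.of_equiv (MvPolynomial.isEmptyAlgEquiv K (Fin 0)).symm
    have : Algebra.FormallyUnramified K C := Algebra.FormallyUnramified.comp K P C
    have h1 := (Algebra.basicOpen_subset_unramifiedLocus_iff (R := K) (A := F) (f := f)).mpr this
    exact h1 (show (⟨q, inferInstance⟩ : PrimeSpectrum F) ∈ PrimeSpectrum.basicOpen f from hfq)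
  | succ m =>
    exfalso
    -- the prime of `C` over `q`
    have hqC : (q.map (algebraMap F C)).IsPrime :=
      IsLocalization.isPrime_of_isPrime_disjoint (.powers f) _ _ ‹_›
        ((Ideal.disjoint_powers_iff_notMem_of_isPrime _).mpr hfq)
    have hlo : (q.map (algebraMap F C)).LiesOver q :=
      ⟨(IsLocalization.under_map_of_isPrime_disjoint (.powers f) _ ‹_›
        ((Ideal.disjoint_powers_iff_notMem_of_isPrime _).mpr hfq)).symm⟩
    have hQF : Algebra.QuasiFiniteAt K (q.map (algebraMap F C)) :=
      .of_surjectiveOnStalks_of_liesOver q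
        (RingHom.surjectiveOnStalks_of_isLocalization (.powers f) C) _
    set N := Localization.AtPrime (q.map (algebraMap F C)) with hN
    have hfin : Module.Finite K N := .of_quasiFinite
    have hflN : Module.Flat P N := Module.Flat.trans P C N
    -- the element X 0 acts integrally
    let x : N := algebraMap P N (MvPolynomial.X 0)
    have hint : IsIntegral K x := Algebra.IsIntegral.isIntegral x
    obtain ⟨g, hg, hgx⟩ := hint
    have hG : Polynomial.aeval (MvPolynomial.X 0 : P) g ≠ 0 := by
      intro h0
      exact (MvPolynomial.transcendental_X K (0 : Fin (m+1))) ⟨g, hg.ne_zero, h0⟩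
    have h0 : algebraMap P N (Polynomial.aeval (MvPolynomial.X 0 : P) g) = 0 := by
      rw [← Polynomial.aeval_algebraMap_apply]
      exact hgx
    have h1 : (Polynomial.aeval (MvPolynomial.X 0 : P) g) • (1 : N) = 0 := by
      rw [Algebra.smul_def, h0, zero_mul]
    have := (smul_eq_zero_iff_right hG).mp h1
    exact one_ne_zero this

attribute [local instance] Algebra.TensorProduct.rightAlgebra in
/-- Smooth + quasi-finite at a prime implies unramified at that prime. -/
theorem isUnramifiedAt_of_isSmoothAt_of_quasiFiniteAt (A B : Type u) [CommRing A] [CommRing B]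
    [Algebra A B] [Algebra.FinitePresentation A B] (q : Ideal B) [q.IsPrime]
    [Algebra.QuasiFiniteAt A q] (h : Algebra.IsSmoothAt A q) : Algebra.IsUnramifiedAt A q := by
  let p : Ideal A := q.under A
  have hlo : q.LiesOver p := ⟨rfl⟩
  let q' : Ideal (p.Fiber B) :=
    (PrimeSpectrum.primesOverOrderIsoFiber A B p ⟨q, ‹_›, hlo⟩).asIdeal
  have hq' : q = q'.comap Algebra.TensorProduct.includeRight.toRingHom :=
    congr($((PrimeSpectrum.primesOverOrderIsoFiber A B p).symm_apply_apply ⟨q, ‹_›, ‹_›⟩).1).symm
  have hqf : Algebra.QuasiFiniteAt p.ResidueField q' := .baseChange q _ hq'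
  have hs : Algebra.IsSmoothAt p.ResidueField q' := by
    obtain ⟨f, hf, hsm⟩ := Algebra.IsSmoothAt.exists_notMem_smooth A q
    have h1 : Algebra.Smooth p.ResidueField (p.ResidueField ⊗[A] Localization.Away f) :=
      inferInstance
    let e := IsLocalization.Away.tensorProductEquivTMulRight A p.ResidueField f
      (Localization.Away f)
    have h2 : Algebra.FormallySmooth p.ResidueField
        (Localization.Away ((1 : p.ResidueField) ⊗ₜ[A] f)) := .of_equiv e
    have h3 := (Algebra.basicOpen_subset_smoothLocus_iff (R := p.ResidueField)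
      (A := p.Fiber B)).mpr h2
    refine h3 (show (⟨q', inferInstance⟩ : PrimeSpectrum (p.Fiber B)) ∈
      PrimeSpectrum.basicOpen ((1 : p.ResidueField) ⊗ₜ[A] f) from ?_)
    intro hmem
    apply hf
    rw [hq']
    exact hmem
  have hu := isUnramifiedAt_of_field p.ResidueField (p.Fiber B) q' hs
  have h4 := (BaseChangeLocus.mem_unramifiedLocus_iff_of_isPushout A p.ResidueField B (p.Fiber B)
    ⟨q', inferInstance⟩).mp hu
  have h5 : PrimeSpectrum.comap (algebraMap B (p.Fiber B)) ⟨q', inferInstance⟩ = ⟨q, ‹_›⟩ := by
    ext1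
    exact hq'.symm
  rw [h5] at h4
  exact h4


/-- Smooth + quasi-finite at a prime implies étale at that prime. -/
theorem isEtaleAt_of_isSmoothAt_of_quasiFiniteAt (A B : Type u) [CommRing A] [CommRing B]
    [Algebra A B] [Algebra.FinitePresentation A B] (q : Ideal B) [q.IsPrime]
    [Algebra.QuasiFiniteAt A q] (h : Algebra.IsSmoothAt A q) : Algebra.IsEtaleAt A q :=
  Algebra.FormallyEtale.iff_formallyUnramified_and_formallySmooth.mpr
    ⟨isUnramifiedAt_of_isSmoothAt_of_quasiFiniteAt A B q h, h⟩

end Groth.Agent.Lib.Helper25.SmoothQF
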