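import Groth.Agent.Lib.Helper25.StrictQC
import Groth.Agent.Helper19.FittSheaf2
import Groth.Agent.Helper19.FittLib5
import Groth.Agent.S8872
import Groth.Agent.S8874
import Groth.Prelude.Def_CohB1

/-!
# Strict transforms along the blowing up of a Fitting ideal
-/

set_option autoImplicit false
universe u
open CategoryTheory CategoryTheory.Limits AlgebraicGeometry TopologicalSpace

namespace Groth.Agent.Lib.Helper25.StrictFitt

open Groth.Agent.Lib.Helper29.QCoh Groth.Agent.Helper19.FittLib Groth.Agent.Helper19.FittSheaf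

variable {S S' : Scheme.{u}}

section alg

variable {R : Type u} [CommRing R] {N : Type u} [AddCommGroup N] [Module R N]

/-- The quotient of a finite module with `Fit_k = (f)`, `f` a nonzerodivisor, by its `f`-torsion
has `Fit_k = ⊤`. -/
theorem ideal_quot_ker_eq_top [Module.Finite R N] (k : ℕ) (f : R) (hf : f ∈ nonZeroDivisors R)
    (h : Fitt.ideal R N k = Ideal.span {f}) :
    Fitt.ideal R (N ⧸ LinearMap.ker (f • (LinearMap.id : N →ₗ[R] N))) k = ⊤ := by
  obtain ⟨n, x, hx⟩ := Module.Finite.exists_fin (R := R) (M := N)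
  have hs : Mn R x (n - k) = Ideal.span {f} := by rw [← ideal_eq_Mn x hx k]; exact h
  have h1 := Mn_yq_eq_top x f hf hs
  have hx' : Submodule.span R (Set.range (yq x f)) = ⊤ := by
    have : yq x f = (LinearMap.ker (f • (LinearMap.id : N →ₗ[R] N))).mkQ ∘ x := rfl
    rw [this, Set.range_comp, ← Submodule.map_span, hx, Submodule.map_top,
      Submodule.range_mkQ]
  rw [ideal_eq_Mn (yq x f) hx' k]
  exact h1

end alg

variable (F : S.Modules) (hF : Coh.IsQCoh F) (hft : CohB1.IsFT F) (k : ℕ) (b : S' ⟶ S)
  (hb : BlowUp.IsBlowUp b (Fitt.sheafIdeal F k)) (G : S'.Modules)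
  (π : (Scheme.Modules.pullback b).obj F ⟶ G)
  (hG : BlowUp.IsStrictTransform b (Fitt.sheafIdeal F k) F G π)

include hF hb hG in
theorem isQuasicoherent_strict : G.IsQuasicoherent := by
  haveI : F.IsQuasicoherent := hF
  haveI : Epi π := hG.1
  exact Groth.Agent.Lib.Helper25.StrictQC.isQuasicoherent_of_strict
    ((Fitt.sheafIdeal F k).comap b) hb.1 π hG.2

include hF hft hb hG in
theorem isFiniteType_strict : G.IsFiniteType := by
  haveI : F.IsQuasicoherent := hF
  haveI : F.IsFiniteType := hft
  haveI : Epi π := hG.1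
  haveI := isQuasicoherent_strict F hF k b hb G π hG
  exact isFiniteType_of_epi π

include hF hft hb hG in
/-- On an affine open where the exceptional ideal is generated by a nonzerodivisor, the `k`-th
Fitting ideal of the sections of the strict transform is the unit ideal. -/
theorem ideal_sections_strict_eq_top (V : S'.affineOpens) (f : Γ(S', V.1))
    (hf : f ∈ nonZeroDivisors Γ(S', V.1))
    (hI : ((Fitt.sheafIdeal F k).comap b).ideal V = Ideal.span {f}) :
    Fitt.ideal Γ(S', V.1) Γ(G, V.1) k = ⊤ := by
  haveI : F.IsQuasicoherent := hF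
  haveI : F.IsFiniteType := hft
  haveI : Epi π := hG.1
  haveI := isQuasicoherent_strict F hF k b hb G π hG
  haveI := finite_sections ((Scheme.Modules.pullback b).obj F) V.2
  have h1 : Fitt.ideal Γ(S', V.1) Γ((Scheme.Modules.pullback b).obj F, V.1) k = Ideal.span {f} := by
    rw [← sheafIdeal_ideal ((Scheme.Modules.pullback b).obj F) k V,
      ← Groth.Agent.S8872.result b F hF hft k]
    exact hI
  have h2 := ideal_quot_ker_eq_top k f hf h1
  -- the induced surjection from the quotient
  have hle : LinearMap.ker (f • (LinearMap.id :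
      Γ((Scheme.Modules.pullback b).obj F, V.1) →ₗ[Γ(S', V.1)] _)) ≤
      LinearMap.ker (appₗ π V.1) := by
    intro m hm
    rw [LinearMap.mem_ker, LinearMap.smul_apply, LinearMap.id_apply] at hm
    rw [LinearMap.mem_ker, appₗ_apply, hG.2 V,
      Groth.Agent.Lib.Helper25.StrictQC.killed_iff_pow_smul _ _ V f hI]
    exact ⟨1, by rw [pow_one]; exact hm⟩
  let q := Submodule.liftQ _ (appₗ π V.1) hle
  have hq : Function.Surjective q := by
    intro g
    obtain ⟨m, hm⟩ := app_surjective_of_epi π V.2 g
    exact ⟨Submodule.Quotient.mk m, hm⟩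
  haveI : Module.Finite Γ(S', V.1)
      (Γ((Scheme.Modules.pullback b).obj F, V.1) ⧸ LinearMap.ker (f • (LinearMap.id :
        Γ((Scheme.Modules.pullback b).obj F, V.1) →ₗ[Γ(S', V.1)] _))) :=
    Module.Finite.of_surjective _ (Submodule.mkQ_surjective _)
  have h3 := ideal_mono_of_surjective q hq k
  rw [h2] at h3
  exact top_le_iff.mp h3

include hF hft hb hG in
/-- **The strict transform of `F` along the blowing up of `Fit_k(F)` is locally generated by `k`
sections.** -/
theorem exists_epi_freeMod (s' : S') :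
    ∃ U : S'.Opens, s' ∈ U ∧ ∃ q : FlatMod.freeMod (↑U) k ⟶ G.restrict U.ι, Epi q := by
  have hGq : G.IsQuasicoherent := isQuasicoherent_strict F hF k b hb G π hG
  have hGft : G.IsFiniteType := isFiniteType_strict F hF hft k b hb G π hG
  rw [Groth.Agent.S8874.result S' G hGq hGft s' k]
  obtain ⟨V, hsV, f, hf, hI⟩ := hb.1 s'
  rw [mem_support_sheafIdeal_iff G k V hsV,
    ideal_sections_strict_eq_top F hF hft k b hb G π hG V f hf hI, top_le_iff]
  exact Ideal.IsPrime.ne_top inferInstance

end Groth.Agent.Lib.Helper25.StrictFitt
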