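import Groth.Agent.Lib.Helper25.StrictFitt
import Groth.Agent.S8875

/-!
# The strict transform along the blowing up of `Fit_k` is locally free of rank `k`
when the module is locally free of rank `k` off the centre
-/

set_option autoImplicit false
universe u
open CategoryTheory CategoryTheory.Limits AlgebraicGeometry TopologicalSpace

namespace Groth.Agent.Lib.Helper25.StrictFitt

open Groth.Agent.Lib.Helper29.QCoh Groth.Agent.Helper19.FittLib Groth.Agent.Helper19.FittSheaf
  Groth.Agent.Lib.Helper25.BlowUpUP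

variable {S S' : Scheme.{u}}

section alg

variable {R : Type u} [CommRing R] {N : Type u} [AddCommGroup N] [Module R N]

theorem ideal_quot_ker_pred_eq_bot [Module.Finite R N] (k : ℕ) (f : R)
    (hf : f ∈ nonZeroDivisors R) (h0 : Fitt.ideal R N (k - 1) = ⊥) :
    Fitt.ideal R (N ⧸ LinearMap.ker (f • (LinearMap.id : N →ₗ[R] N))) (k - 1) = ⊥ := by
  obtain ⟨n, x, hx⟩ := Module.Finite.exists_fin (R := R) (M := N)
  have hs : Mn R x (n - (k - 1)) = ⊥ := by rw [← ideal_eq_Mn x hx (k - 1)]; exact h0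
  have h1 := Mn_yq_eq_bot x f hf _ hs
  have hx' : Submodule.span R (Set.range (yq x f)) = ⊤ := by
    have : yq x f = (LinearMap.ker (f • (LinearMap.id : N →ₗ[R] N))).mkQ ∘ x := rfl
    rw [this, Set.range_comp, ← Submodule.map_span, hx, Submodule.map_top,
      Submodule.range_mkQ]
  rw [ideal_eq_Mn (yq x f) hx' (k - 1)]
  exact h1

/-- Under the Fitting conditions the quotient by the `f`-torsion has no `f`-torsion. -/
theorem isSMulRegular_quot_ker [Module.Finite R N] (k : ℕ) (f : R) (hf : f ∈ nonZeroDivisors R)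
    (h : Fitt.ideal R N k = Ideal.span {f}) (h0 : k = 0 ∨ Fitt.ideal R N (k - 1) = ⊥) :
    IsSMulRegular (N ⧸ LinearMap.ker (f • (LinearMap.id : N →ₗ[R] N))) f := by
  haveI : Module.Finite R (N ⧸ LinearMap.ker (f • (LinearMap.id : N →ₗ[R] N))) :=
    Module.Finite.of_surjective _ (Submodule.mkQ_surjective _)
  have h1 := ideal_quot_ker_eq_top k f hf h
  have h0' : k = 0 ∨ Fitt.ideal R (N ⧸ LinearMap.ker (f • (LinearMap.id : N →ₗ[R] N))) (k - 1) = ⊥ :=
    h0.imp id (ideal_quot_ker_pred_eq_bot k f hf)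
  haveI : Module.Flat R (N ⧸ LinearMap.ker (f • (LinearMap.id : N →ₗ[R] N))) := by
    apply Module.flat_of_localized_maximal
    intro P hP
    haveI := free_localized k h1 h0' P
    exact Module.Flat.trans R (Localization.AtPrime P) _
  exact Module.Flat.isSMulRegular_of_nonZeroDivisors hf

end alg

variable (F : S.Modules) (hF : Coh.IsQCoh F) (hft : CohB1.IsFT F) (k : ℕ) (b : S' ⟶ S)
  (hb : BlowUp.IsBlowUp b (Fitt.sheafIdeal F k)) (G : S'.Modules)
  (π : (Scheme.Modules.pullback b).obj F ⟶ G)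
  (hG : BlowUp.IsStrictTransform b (Fitt.sheafIdeal F k) F G π)
  (hfree : FlatMod.IsFinLocFreeOfRank k
    (F.restrict (Scheme.Opens.ι (Fitt.sheafIdeal F k).support.compl)))

include hF hft hfree in
/-- Off the exceptional divisor, small affine opens have free modules of sections of `b^* F`. -/
theorem exists_affine_free (w : S') (hw : b w ∉ (Fitt.sheafIdeal F k).support) (V : S'.Opens)
    (hwV : w ∈ V) :
    ∃ V' : S'.affineOpens, w ∈ V'.1 ∧ V'.1 ≤ V ∧
      Nonempty (Γ((Scheme.Modules.pullback b).obj F, V'.1) ≃ₗ[Γ(S', V'.1)]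
        (Fin k →₀ Γ(S', V'.1))) := by
  obtain ⟨U', hyU', ⟨e⟩⟩ := hfree ⟨b w, hw⟩
  have hfa : IsFreeAlong F (U'.ι ≫ Scheme.Opens.ι (Fitt.sheafIdeal F k).support.compl) k :=
    (isFreeAlong_iff_restrict F _ k).mpr
      ⟨(Scheme.Modules.restrictFunctorComp U'.ι
        (Scheme.Opens.ι (Fitt.sheafIdeal F k).support.compl)).app F ≪≫ e⟩
  set j := U'.ι ≫ Scheme.Opens.ι (Fitt.sheafIdeal F k).support.compl with hj
  have hxj : b w ∈ j.opensRange := ⟨⟨⟨b w, hw⟩, hyU'⟩, rfl⟩
  have hr : Set.range ((b ⁻¹ᵁ j.opensRange).ι ≫ b).base ⊆ Set.range j.base := by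
    rintro _ ⟨z, rfl⟩
    exact z.2
  have hfa' : IsFreeAlong ((Scheme.Modules.pullback b).obj F) (b ⁻¹ᵁ j.opensRange).ι k :=
    hfa.pullback b (b ⁻¹ᵁ j.opensRange).ι (IsOpenImmersion.lift j _ hr)
      (IsOpenImmersion.lift_fac j _ hr).symm
  obtain ⟨V', hwV', hV'1, hV'2⟩ :=
    exists_affineOpens_le_preimage b w j.opensRange hxj V hwV
  refine ⟨V', hwV', hV'2, nonempty_linearEquiv_of_isFreeAlong_fromSpec _ V'.2 k
    (hfa'.of_range_subset _ ?_)⟩
  rw [V'.2.range_fromSpec, Scheme.Opens.range_ι]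
  exact hV'1

include hF hft hfree in
/-- The `(k-1)`-st Fitting ideal of the sections of `b^* F` vanishes on affine opens where the
exceptional ideal is generated by a nonzerodivisor. -/
theorem ideal_sections_pullback_pred_eq_bot (hk : 1 ≤ k) (V : S'.affineOpens) (f : Γ(S', V.1))
    (hf : f ∈ nonZeroDivisors Γ(S', V.1))
    (hI : ((Fitt.sheafIdeal F k).comap b).ideal V = Ideal.span {f}) :
    Fitt.ideal Γ(S', V.1) Γ((Scheme.Modules.pullback b).obj F, V.1) (k - 1) = ⊥ := by
  haveI : F.IsQuasicoherent := hF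
  haveI : F.IsFiniteType := hft
  rw [eq_bot_iff]
  intro a ha
  rw [Ideal.mem_bot]
  apply res_basicOpen_injective V.2 f hf
  rw [map_zero]
  refine TopCat.Presheaf.section_ext S'.sheaf (S'.basicOpen f)
    ((S'.presheaf.map (homOfLE (S'.basicOpen_le f)).op).hom a) 0 (fun w hw => ?_)
  rw [map_zero]
  have hwV : w ∈ V.1 := S'.basicOpen_le f hw
  have hw' : b w ∉ (Fitt.sheafIdeal F k).support := by
    have := notMem_support_of_mem_basicOpen ((Fitt.sheafIdeal F k).comap b) V f hI w hw
    rwa [Scheme.IdealSheafData.support_comap] at this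
  obtain ⟨V', hwV', hV'V, ⟨e⟩⟩ := exists_affine_free F hF hft k b hfree w hw' V.1 hwV
  have h1 : Fitt.ideal Γ(S', V'.1) Γ((Scheme.Modules.pullback b).obj F, V'.1) (k - 1) = ⊥ := by
    rw [ideal_of_basis (Module.Basis.ofRepr e) (k - 1), if_neg (by omega)]
  have h2 := (Fitt.sheafIdeal ((Scheme.Modules.pullback b).obj F) (k - 1)).ideal_le_comap_ideal
    (U := V') (V := V) hV'V
  rw [sheafIdeal_ideal, sheafIdeal_ideal, h1] at h2
  have h3 := h2 ha
  rw [Ideal.mem_comap, Ideal.mem_bot] at h3
  have h4 : S'.presheaf.germ (S'.basicOpen f) w hw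
      ((S'.presheaf.map (homOfLE (S'.basicOpen_le f)).op).hom a) =
      S'.presheaf.germ V.1 w hwV a :=
    S'.presheaf.germ_res_apply (homOfLE (S'.basicOpen_le f)) w hw a
  have h5 : S'.presheaf.germ V'.1 w hwV' ((S'.presheaf.map (homOfLE hV'V).op).hom a) =
      S'.presheaf.germ V.1 w hwV a :=
    S'.presheaf.germ_res_apply (homOfLE hV'V) w hwV' a
  change S'.presheaf.germ (S'.basicOpen f) w hw
      ((S'.presheaf.map (homOfLE (S'.basicOpen_le f)).op).hom a) = 0
  rw [h4, ← h5]
  exact (congrArg _ h3).trans (map_zero _)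

include hF hft hb hG hfree in
/-- The Fitting ideals of the sections of the strict transform on a good affine open. -/
theorem ideal_sections_strict (V : S'.affineOpens) (f : Γ(S', V.1))
    (hf : f ∈ nonZeroDivisors Γ(S', V.1))
    (hI : ((Fitt.sheafIdeal F k).comap b).ideal V = Ideal.span {f}) (j : ℕ) :
    Fitt.ideal Γ(S', V.1) Γ(G, V.1) j = if k ≤ j then ⊤ else ⊥ := by
  haveI : F.IsQuasicoherent := hF
  haveI : F.IsFiniteType := hft
  haveI : Epi π := hG.1
  haveI := isQuasicoherent_strict F hF k b hb G π hG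
  haveI := isFiniteType_strict F hF hft k b hb G π hG
  haveI := finite_sections ((Scheme.Modules.pullback b).obj F) V.2
  haveI := finite_sections G V.2
  have htop := ideal_sections_strict_eq_top F hF hft k b hb G π hG V f hf hI
  split_ifs with hkj
  · exact top_le_iff.mp (htop ▸ ideal_mono hkj)
  · have hk : 1 ≤ k := by omega
    have h1 : Fitt.ideal Γ(S', V.1) Γ((Scheme.Modules.pullback b).obj F, V.1) k =
        Ideal.span {f} := by
      rw [← sheafIdeal_ideal ((Scheme.Modules.pullback b).obj F) k V,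
        ← Groth.Agent.S8872.result b F hF hft k]
      exact hI
    have h0 := ideal_sections_pullback_pred_eq_bot F hF hft k b hfree hk V f hf hI
    have hreg := isSMulRegular_quot_ker k f hf h1 (Or.inr h0)
    have hle : LinearMap.ker (f • (LinearMap.id :
        Γ((Scheme.Modules.pullback b).obj F, V.1) →ₗ[Γ(S', V.1)] _)) ≤
        LinearMap.ker (appₗ π V.1) := by
      intro m hm
      rw [LinearMap.mem_ker, LinearMap.smul_apply, LinearMap.id_apply] at hm
      rw [LinearMap.mem_ker, appₗ_apply, hG.2 V,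
        Groth.Agent.Lib.Helper25.StrictQC.killed_iff_pow_smul _ _ V f hI]
      exact ⟨1, by rw [pow_one]; exact hm⟩
    let q := Submodule.liftQ _ (appₗ π V.1) hle
    have hq : Function.Surjective q := by
      intro g
      obtain ⟨m, hm⟩ := app_surjective_of_epi π V.2 g
      exact ⟨Submodule.Quotient.mk m, hm⟩
    have hqi : Function.Injective q := by
      rw [← LinearMap.ker_eq_bot, eq_bot_iff]
      intro mb hmb
      obtain ⟨m, rfl⟩ := Submodule.Quotient.mk_surjective _ mb
      have h2 : π.app V.1 m = 0 := hmb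
      rw [hG.2 V, Groth.Agent.Lib.Helper25.StrictQC.killed_iff_pow_smul _ _ V f hI] at h2
      obtain ⟨n, hn⟩ := h2
      rw [Submodule.mem_bot]
      apply (hreg.pow n)
      change f ^ n • Submodule.Quotient.mk m = f ^ n • (0 : _ ⧸ _)
      rw [← Submodule.Quotient.mk_smul, hn, Submodule.Quotient.mk_zero, smul_zero]
    let e := LinearEquiv.ofBijective q ⟨hqi, hq⟩
    rw [← ideal_congr e j, eq_bot_iff]
    haveI : Module.Finite Γ(S', V.1)
        (Γ((Scheme.Modules.pullback b).obj F, V.1) ⧸ LinearMap.ker (f • (LinearMap.id :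
          Γ((Scheme.Modules.pullback b).obj F, V.1) →ₗ[Γ(S', V.1)] _))) :=
      Module.Finite.of_surjective _ (Submodule.mkQ_surjective _)
    refine (ideal_mono (show j ≤ k - 1 by omega)).trans ?_
    rw [ideal_quot_ker_pred_eq_bot k f hf h0]

include hF hft hb hG hfree in
/-- **The strict transform of `F` along the blowing up of `Fit_k(F)` is finite locally free of rank
`k`** when `F` is locally free of rank `k` off the centre. -/
theorem isFinLocFreeOfRank_strict : FlatMod.IsFinLocFreeOfRank k G := by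
  have hGq : G.IsQuasicoherent := isQuasicoherent_strict F hF k b hb G π hG
  have hGft : G.IsFiniteType := isFiniteType_strict F hF hft k b hb G π hG
  rw [Groth.Agent.S8875.result S' G hGq hGft k]
  choose V hsV f hf hI using hb.1
  have hcov : ⨆ x : S', ((V x : S'.affineOpens) : S'.Opens) = ⊤ := by
    rw [eq_top_iff]
    intro x _
    exact Opens.mem_iSup.mpr ⟨x, hsV x⟩
  have key : ∀ (j : ℕ) (x : S'), (Fitt.sheafIdeal G j).ideal (V x) =
      if k ≤ j then ⊤ else ⊥ := by
    intro j x
    rw [sheafIdeal_ideal G j (V x)]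
    exact ideal_sections_strict F hF hft k b hb G π hG hfree (V x) (f x) (hf x) (hI x) j
  constructor
  · intro j hj
    refine Scheme.IdealSheafData.ext_of_iSup_eq_top V hcov (fun x => ?_)
    rw [key j x, if_neg (by omega)]
    rfl
  · intro j hj
    refine Scheme.IdealSheafData.ext_of_iSup_eq_top V hcov (fun x => ?_)
    rw [key j x, if_pos hj]
    rfl

end Groth.Agent.Lib.Helper25.StrictFitt
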