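import Groth.Agent.Lib.Helper25.StrictFitt2
import Groth.Agent.S8873
import Groth.Agent.Helper19.VDimFree
import Groth.Agent.Lib.Helper29.QCohFP
import Groth.Agent.Lib.Helper29.QCohFP2
import Groth.Agent.Lib.Helper29.QCohLocFree
import Groth.Agent.Lib.Helper29.QCohPullback
import Groth.Agent.Lib.Helper29.QCohQcqs
import Groth.Prelude.Def_CInt

/-!
# Admissible blowing up of `Fit_r(F)` for a finitely presented module which is locally free of
rank `r` over a schematically dense open
-/

set_option autoImplicit false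
set_option linter.style.haveILetI false
universe u
open CategoryTheory CategoryTheory.Limits AlgebraicGeometry TopologicalSpace

namespace Groth.Agent.Lib.Helper25.StrictFitt

open Groth.Agent.Lib.Helper29.QCoh Groth.Agent.Helper19.FittLib Groth.Agent.Helper19.FittSheaf
  Groth.Agent.Lib.Helper25.BlowUpUP

/-- An ideal sheaf is the unit ideal on every affine open disjoint from its support. -/
theorem ideal_eq_top_of_disjoint {X : Scheme.{u}} (𝓙 : X.IdealSheafData) (V : X.affineOpens)
    (h : Disjoint (𝓙.support : Set X) (V.1 : Set X)) : 𝓙.ideal V = ⊤ := by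
  have h1 := V.2.fromSpec_image_zeroLocus (𝓙.ideal V)
  have h2 := Scheme.IdealSheafData.zeroLocus_inter_subset_supportSet 𝓙 V
  rw [← PrimeSpectrum.zeroLocus_empty_iff_eq_top]
  by_contra hne
  obtain ⟨p, hp⟩ := Set.nonempty_iff_ne_empty.2 hne
  have h3 : V.2.fromSpec p ∈ X.zeroLocus (U := V.1) (𝓙.ideal V) ∩ V.1 := by
    rw [← h1]
    exact ⟨p, hp, rfl⟩
  have h4 : V.2.fromSpec p ∈ 𝓙.supportSet := h2 h3
  exact Set.disjoint_left.mp h (Scheme.IdealSheafData.mem_supportSet_iff_mem_support.1 h4) h3.2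

section dense

variable {X : Scheme.{u}} (F : X.Modules) (hF : CohB1.IsFP F) (U : X.Opens)
  (hU : CInt.IsSchematicallyDense U) (r : ℕ)
  (hfree : FlatMod.IsFinLocFreeOfRank r (F.restrict U.ι))

include hfree in
theorem exists_affine_free_of_mem (w : X) (hw : w ∈ U) (V : X.Opens) (hwV : w ∈ V) :
    ∃ V' : X.affineOpens, w ∈ V'.1 ∧ V'.1 ≤ V ∧ V'.1 ≤ U ∧
      Nonempty (Γ(F, V'.1) ≃ₗ[Γ(X, V'.1)] (Fin r →₀ Γ(X, V'.1))) := by
  obtain ⟨U', hwU', hU'⟩ :=
    Groth.Agent.Helper19.VDimFree.exists_open_free_sections F U r hfree w hw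
  obtain ⟨W, hW, hwW, hWle⟩ := exists_isAffineOpen_mem_and_subset (x := w) (U := U' ⊓ V ⊓ U)
    ⟨⟨hwU', hwV⟩, hw⟩
  exact ⟨⟨W, hW⟩, hwW, fun _ hz => (hWle hz).1.2, fun _ hz => (hWle hz).2,
    hU' W hW (fun _ hz => (hWle hz).1.1)⟩

include hF hU hfree in
/-- `Fit_{r-1}` of the sections of `F` vanishes on every affine open. -/
theorem fitt_pred_eq_bot (hr : 1 ≤ r) (V : X.affineOpens) :
    Fitt.ideal Γ(X, V.1) Γ(F, V.1) (r - 1) = ⊥ := by
  haveI : F.IsFinitePresentation := hF
  rw [eq_bot_iff]
  intro a ha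
  rw [Ideal.mem_bot]
  apply hU V.1
  rw [map_zero]
  refine TopCat.Presheaf.section_ext X.sheaf (V.1 ⊓ U)
    ((X.presheaf.map (homOfLE (inf_le_left : V.1 ⊓ U ≤ V.1)).op).hom a) 0 (fun w hw => ?_)
  rw [map_zero]
  obtain ⟨V', hwV', hV'V, hV'U, ⟨e⟩⟩ := exists_affine_free_of_mem F U r hfree w hw.2 V.1 hw.1
  have h1 : Fitt.ideal Γ(X, V'.1) Γ(F, V'.1) (r - 1) = ⊥ := by
    rw [ideal_of_basis (Module.Basis.ofRepr e) (r - 1), if_neg (by omega)]
  have h2 := (Fitt.sheafIdeal F (r - 1)).ideal_le_comap_ideal (U := V') (V := V) hV'V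
  rw [sheafIdeal_ideal, sheafIdeal_ideal, h1] at h2
  have h3 := h2 ha
  rw [Ideal.mem_comap, Ideal.mem_bot] at h3
  have h4 : X.presheaf.germ (V.1 ⊓ U) w hw
      ((X.presheaf.map (homOfLE (inf_le_left : V.1 ⊓ U ≤ V.1)).op).hom a) =
      X.presheaf.germ V.1 w hw.1 a :=
    X.presheaf.germ_res_apply (homOfLE (inf_le_left : V.1 ⊓ U ≤ V.1)) w hw a
  have h5 : X.presheaf.germ V'.1 w hwV' ((X.presheaf.map (homOfLE hV'V).op).hom a) =
      X.presheaf.germ V.1 w hw.1 a :=
    X.presheaf.germ_res_apply (homOfLE hV'V) w hwV' a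
  change X.presheaf.germ (V.1 ⊓ U) w hw
      ((X.presheaf.map (homOfLE (inf_le_left : V.1 ⊓ U ≤ V.1)).op).hom a) = 0
  rw [h4, ← h5]
  exact (congrArg _ h3).trans (map_zero _)

include hF hU hfree in
theorem sheafIdeal_pred_eq_bot (hr : 1 ≤ r) : Fitt.sheafIdeal F (r - 1) = ⊥ := by
  haveI : F.IsFinitePresentation := hF
  apply Scheme.IdealSheafData.ext
  funext V
  rw [sheafIdeal_ideal, fitt_pred_eq_bot F hF U hU r hfree hr V]
  rfl

include hF hfree in
theorem disjoint_support :
    Disjoint ((Fitt.sheafIdeal F r).support : Set X) (U : Set X) := by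
  haveI : F.IsFinitePresentation := hF
  rw [Set.disjoint_left]
  intro x hx hxU
  obtain ⟨V', hwV', -, -, ⟨e⟩⟩ := exists_affine_free_of_mem F U r hfree x hxU ⊤ trivial
  rw [SetLike.mem_coe, mem_support_sheafIdeal_iff F r V' hwV',
    ideal_of_basis (Module.Basis.ofRepr e) r, if_pos le_rfl] at hx
  exact (V'.2.primeIdealOf ⟨x, hwV'⟩).2.ne_top (top_le_iff.mp hx)

include hF hfree in
theorem isAdmissibleFor : BlowUp.IsAdmissibleFor U (Fitt.sheafIdeal F r) :=
  ⟨Groth.Agent.S8873.result X F hF r, disjoint_support F hF U r hfree⟩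

end dense

section strict

variable {S S' : Scheme.{u}}
variable (F : S.Modules) (hF : Coh.IsQCoh F) (hft : CohB1.IsFT F) (k : ℕ) (b : S' ⟶ S)
  (hb : BlowUp.IsBlowUp b (Fitt.sheafIdeal F k)) (G : S'.Modules)
  (π : (Scheme.Modules.pullback b).obj F ⟶ G)
  (hG : BlowUp.IsStrictTransform b (Fitt.sheafIdeal F k) F G π)
  (h0 : 1 ≤ k → Fitt.sheafIdeal F (k - 1) = ⊥)

include hF hft h0 in
theorem ideal_sections_pullback_pred_eq_bot' (hk : 1 ≤ k) (V : S'.affineOpens) :
    Fitt.ideal Γ(S', V.1) Γ((Scheme.Modules.pullback b).obj F, V.1) (k - 1) = ⊥ := by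
  haveI : F.IsQuasicoherent := hF
  haveI : F.IsFiniteType := hft
  rw [← sheafIdeal_ideal ((Scheme.Modules.pullback b).obj F) (k - 1) V,
    ← Groth.Agent.S8872.result b F hF hft (k - 1), h0 hk, Scheme.IdealSheafData.comap_bot]
  rfl

include hF hft hb hG h0 in
/-- The Fitting ideals of the sections of the strict transform on a good affine open. -/
theorem ideal_sections_strict' (V : S'.affineOpens) (f : Γ(S', V.1))
    (hf : f ∈ nonZeroDivisors Γ(S', V.1))
    (hI : ((Fitt.sheafIdeal F k).comap b).ideal V = Ideal.span {f}) (j : ℕ) :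
    Fitt.ideal Γ(S', V.1) Γ(G, V.1) j = if k ≤ j then ⊤ else ⊥ := by
  haveI : F.IsQuasicoherent := hF
  haveI : F.IsFiniteType := hft
  haveI : Epi π := hG.1
  haveI := isQuasicoherent_strict F hF k b hb G π hG
  haveI := isFiniteType_strict F hF hft k b hb G π hG
  haveI := finite_sections ((Scheme.Modules.pullback b).obj F) V.2
  haveI := finite_sections G V.2
  have htop := ideal_sections_strict_eq_top F hF hft k b hb G π hG V f hf hI
  split_ifs with hkj
  · exact top_le_iff.mp (htop ▸ ideal_mono hkj)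
  · have hk : 1 ≤ k := by omega
    have h1 : Fitt.ideal Γ(S', V.1) Γ((Scheme.Modules.pullback b).obj F, V.1) k =
        Ideal.span {f} := by
      rw [← sheafIdeal_ideal ((Scheme.Modules.pullback b).obj F) k V,
        ← Groth.Agent.S8872.result b F hF hft k]
      exact hI
    have h0' := ideal_sections_pullback_pred_eq_bot' F hF hft k b h0 hk V
    have hreg := isSMulRegular_quot_ker k f hf h1 (Or.inr h0')
    have hle : LinearMap.ker (f • (LinearMap.id :
        Γ((Scheme.Modules.pullback b).obj F, V.1) →ₗ[Γ(S', V.1)] _)) ≤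
        LinearMap.ker (appₗ π V.1) := by
      intro m hm
      rw [LinearMap.mem_ker, LinearMap.smul_apply, LinearMap.id_apply] at hm
      rw [LinearMap.mem_ker, appₗ_apply, hG.2 V,
        Groth.Agent.Lib.Helper25.StrictQC.killed_iff_pow_smul _ _ V f hI]
      exact ⟨1, by rw [pow_one]; exact hm⟩
    let q := Submodule.liftQ _ (appₗ π V.1) hle
    have hq : Function.Surjective q := by
      intro g
      obtain ⟨m, hm⟩ := app_surjective_of_epi π V.2 g
      exact ⟨Submodule.Quotient.mk m, hm⟩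
    have hqi : Function.Injective q := by
      rw [← LinearMap.ker_eq_bot, eq_bot_iff]
      intro mb hmb
      obtain ⟨m, rfl⟩ := Submodule.Quotient.mk_surjective _ mb
      have h2 : π.app V.1 m = 0 := hmb
      rw [hG.2 V, Groth.Agent.Lib.Helper25.StrictQC.killed_iff_pow_smul _ _ V f hI] at h2
      obtain ⟨n, hn⟩ := h2
      rw [Submodule.mem_bot]
      apply (hreg.pow n)
      change f ^ n • Submodule.Quotient.mk m = f ^ n • (0 : _ ⧸ _)
      rw [← Submodule.Quotient.mk_smul, hn, Submodule.Quotient.mk_zero, smul_zero]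
    let e := LinearEquiv.ofBijective q ⟨hqi, hq⟩
    rw [← ideal_congr e j, eq_bot_iff]
    haveI : Module.Finite Γ(S', V.1)
        (Γ((Scheme.Modules.pullback b).obj F, V.1) ⧸ LinearMap.ker (f • (LinearMap.id :
          Γ((Scheme.Modules.pullback b).obj F, V.1) →ₗ[Γ(S', V.1)] _))) :=
      Module.Finite.of_surjective _ (Submodule.mkQ_surjective _)
    refine (ideal_mono (show j ≤ k - 1 by omega)).trans ?_
    rw [ideal_quot_ker_pred_eq_bot k f hf h0']

include hF hft hb hG h0 in
/-- The strict transform of `F` along the blowing up of `Fit_k(F)` is finite locally free of rank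
`k` when `Fit_{k-1}(F) = 0`. -/
theorem isFinLocFreeOfRank_strict' : FlatMod.IsFinLocFreeOfRank k G := by
  have hGq : G.IsQuasicoherent := isQuasicoherent_strict F hF k b hb G π hG
  have hGft : G.IsFiniteType := isFiniteType_strict F hF hft k b hb G π hG
  rw [Groth.Agent.S8875.result S' G hGq hGft k]
  choose V hsV f hf hI using hb.1
  have hcov : ⨆ x : S', ((V x : S'.affineOpens) : S'.Opens) = ⊤ := by
    rw [eq_top_iff]
    intro x _
    exact Opens.mem_iSup.mpr ⟨x, hsV x⟩
  have key : ∀ (j : ℕ) (x : S'), (Fitt.sheafIdeal G j).ideal (V x) =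
      if k ≤ j then ⊤ else ⊥ := by
    intro j x
    rw [sheafIdeal_ideal G j (V x)]
    exact ideal_sections_strict' F hF hft k b hb G π hG h0 (V x) (f x) (hf x) (hI x) j
  constructor
  · intro j hj
    refine Scheme.IdealSheafData.ext_of_iSup_eq_top V hcov (fun x => ?_)
    rw [key j x, if_neg (by omega)]
    rfl
  · intro j hj
    refine Scheme.IdealSheafData.ext_of_iSup_eq_top V hcov (fun x => ?_)
    rw [key j x, if_pos hj]
    rfl

include hF hft hb hG h0 in
/-- The kernel of the strict transform quotient is finitely presented when `F` is. -/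
theorem isFP_kernel (hFP : CohB1.IsFP F) : CohB1.IsFP (kernel π) := by
  haveI : F.IsFinitePresentation := hFP
  haveI : F.IsQuasicoherent := hF
  haveI : Epi π := hG.1
  have hGfree := isFinLocFreeOfRank_strict' F hF hft k b hb G π hG h0
  haveI hGq : G.IsQuasicoherent := isQuasicoherent_strict F hF k b hb G π hG
  haveI : (kernel π).IsQuasicoherent :=
    Groth.Agent.Lib.Helper25.StrictQC.isQuasicoherent_kernel
      ((Fitt.sheafIdeal F k).comap b) hb.1 π hG.2
  choose V hV hxV he using exists_affine_linearEquiv_of_isFinLocFreeOfRank hGfree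
  refine isFinitePresentation_of_module_finitePresentation (kernel π) V ?_ hV (fun x => ?_)
  · rw [IsOpenCover, eq_top_iff]
    intro x _
    exact Opens.mem_iSup.mpr ⟨x, hxV x⟩
  · obtain ⟨e⟩ := he x
    haveI : Module.FinitePresentation Γ(S', V x) Γ((Scheme.Modules.pullback b).obj F, V x) :=
      module_finitePresentation_of_isFinitePresentation _ (hV x)
    haveI : Module.Projective Γ(S', V x) Γ(G, V x) := Module.Projective.of_equiv e.symm
    exact Module.finitePresentation_of_projective_of_exact (appₗ (kernel.ι π) (V x))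
      (appₗ π (V x)) ((mono_iff_app_injective (kernel.ι π)).mp inferInstance (V x))
      (app_surjective_of_epi π (hV x))
      (app_exact_of_exact_of_mono (ShortComplex.mk (kernel.ι π) π (kernel.condition π))
        (ShortComplex.exact_kernel π) (V x))

include hG in
/-- The kernel of the strict transform quotient has no sections over opens missing the exceptional
divisor. -/
theorem subsingleton_kernel_of_disjoint (W : S'.Opens)
    (hW : Disjoint (((Fitt.sheafIdeal F k).comap b).support : Set S') (W : Set S')) :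
    Subsingleton Γ(kernel π, W) := by
  refine subsingleton_of_forall_eq 0 fun a => ?_
  apply (mono_iff_app_injective (kernel.ι π)).mp inferInstance W
  rw [map_zero]
  have hz : π.app W ((kernel.ι π).app W a) = 0 :=
    app_zero_of_comp_eq_zero (kernel.ι π) π (kernel.condition π) W a
  refine eq_zero_of_res_cover_eq_zero ((Scheme.Modules.pullback b).obj F)
    (fun V : {V : S'.affineOpens // V.1 ≤ W} => (V.1 : S'.Opens)) (fun V => V.2) ?_ _
    (fun V => ?_)
  · intro x hx
    obtain ⟨V, hV, hxV, hVW⟩ := exists_isAffineOpen_mem_and_subset (x := x) (U := W) hx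
    exact Opens.mem_iSup.mpr ⟨⟨⟨V, hV⟩, hVW⟩, hxV⟩
  · have h1 : π.app V.1.1 (res _ V.2 ((kernel.ι π).app W a)) = 0 := by
      rw [app_res, hz, map_zero]
    rw [hG.2 V.1] at h1
    obtain ⟨n, hn⟩ := h1
    have htop : ((Fitt.sheafIdeal F k).comap b).ideal V.1 = ⊤ :=
      ideal_eq_top_of_disjoint _ V.1 (hW.mono_right V.2)
    have h2 := hn 1 (by
      rw [Scheme.IdealSheafData.ideal_pow, Pi.pow_apply, htop, Ideal.top_pow]
      exact Submodule.mem_top)
    rwa [one_smul] at h2

end strict

end Groth.Agent.Lib.Helper25.StrictFitt
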