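import Groth.Agent.Lib.Helper10.PullbackStalk
import Groth.Agent.Lib.Helper29.QCohExact
import Groth.Agent.Lib.Helper25.BlowUpReg
import Groth.Prelude.Def_BlowUp2
import Groth.Prelude.Def_Coh

/-!
# The pullback of a module flat along the centre is its own strict transform
-/

set_option autoImplicit false
universe u
open CategoryTheory CategoryTheory.Limits AlgebraicGeometry TopologicalSpace

namespace Groth.Agent.Lib.Helper25.StrictPull

open Groth.Agent.Lib.Helper29.QCoh

variable {S S' : Scheme.{u}}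

/-- The stalk of `b^* F` is flat over the local ring upstairs when `F` is flat at the image. -/
theorem flat_stalk_pullback (b : S' ⟶ S) (F : S.Modules) (hF : Coh.IsQCoh F) (v : S')
    (hfl : FlatMod.IsFlatAt F (b v)) :
    Module.Flat (S'.presheaf.stalk v) (((Scheme.Modules.pullback b).obj F).presheaf.stalk v) := by
  haveI : F.IsQuasicoherent := hF
  letI := (b.stalkMap v).hom.toAlgebra
  obtain ⟨e⟩ := Groth.Agent.Lib.Helper10.PullbackStalk.nonempty_stalk_pullback_equiv b F v
  haveI : Module.Flat (S.presheaf.stalk (b.base v)) (F.presheaf.stalk (b.base v)) := hfl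
  exact Module.Flat.of_linearEquiv e

/-- A local generator of the exceptional ideal acts injectively on the stalks of `b^* F`. -/
theorem isSMulRegular_germ (𝓘 : S.IdealSheafData) (b : S' ⟶ S) (F : S.Modules)
    (hF : Coh.IsQCoh F) (hflat : ∀ s : S, s ∈ 𝓘.support → FlatMod.IsFlatAt F s)
    (W : S'.affineOpens) (t : Γ(S', W.1)) (ht : t ∈ nonZeroDivisors Γ(S', W.1))
    (hI : (𝓘.comap b).ideal W = Ideal.span {t}) (v : S') (hv : v ∈ W.1) :
    IsSMulRegular (((Scheme.Modules.pullback b).obj F).presheaf.stalk v)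
      (S'.presheaf.germ W.1 v hv t) := by
  by_cases hs : b v ∈ 𝓘.support
  · haveI := flat_stalk_pullback b F hF v (hflat _ hs)
    exact Module.Flat.isSMulRegular_of_nonZeroDivisors
      (Groth.Agent.Lib.Helper25.BlowUpUP.germ_mem_nonZeroDivisors_of_isAffineOpen W.2 t ht v hv)
  · have hv' : v ∉ (𝓘.comap b).support := by
      rw [Scheme.IdealSheafData.support_comap]
      exact hs
    rw [Scheme.IdealSheafData.mem_support_iff_of_mem hv, Scheme.mem_zeroLocus_iff] at hv'
    push Not at hv'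
    obtain ⟨f, hf, hvf⟩ := hv'
    rw [SetLike.mem_coe, hI, Ideal.mem_span_singleton] at hf
    obtain ⟨c, rfl⟩ := hf
    rw [Scheme.basicOpen_mul] at hvf
    have hu : IsUnit (S'.presheaf.germ W.1 v hv t) := (Scheme.mem_basicOpen _ _ _ hv).1 hvf.1
    exact hu.isSMulRegular _

/-- No section of a module on which local generators of an effective Cartier ideal act injectively
on stalks is killed by a power of the ideal. -/
theorem eq_zero_of_killed' (𝓔 : S'.IdealSheafData) (hE : BlowUp.IsEffCartierIdeal 𝓔)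
    (M : S'.Modules)
    (hreg : ∀ (W : S'.affineOpens) (t : Γ(S', W.1)), t ∈ nonZeroDivisors Γ(S', W.1) →
      𝓔.ideal W = Ideal.span {t} → ∀ (v : S') (hv : v ∈ W.1),
        IsSMulRegular (M.presheaf.stalk v) (S'.presheaf.germ W.1 v hv t))
    (V : S'.affineOpens) (m : Γ(M, V.1)) (n : ℕ)
    (hm : ∀ a : Γ(S', V.1), a ∈ (𝓔 ^ n).ideal V → a • m = 0) : m = 0 := by
  refine eq_zero_of_germ_eq_zero M m (fun v hvV => ?_)
  obtain ⟨W, hvW, t, ht, hI⟩ := hE v
  -- a small affine open inside both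
  obtain ⟨_, ⟨W', hW', rfl⟩, hvW', hW'le⟩ := S'.isBasis_affineOpens.exists_subset_of_mem_open
    (show v ∈ ((V.1 ⊓ W.1 : S'.Opens) : Set S') from ⟨hvV, hvW⟩) (V.1 ⊓ W.1).2
  have hW'V : W' ≤ V.1 := fun y hy => (hW'le hy).1
  have hW'W : W' ≤ W.1 := fun y hy => (hW'le hy).2
  have e1 := (𝓔 ^ n).map_ideal (U := ⟨W', hW'⟩) (V := V) hW'V
  have e2 := (𝓔 ^ n).map_ideal (U := ⟨W', hW'⟩) (V := W) hW'W
  -- the annihilator of the restricted section
  let K : Ideal Γ(S', W') := LinearMap.ker (LinearMap.toSpanSingleton Γ(S', W') Γ(M, W')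
    (res M hW'V m))
  have hK : ∀ r : Γ(S', W'), r ∈ K ↔ r • res M hW'V m = 0 := fun r => by
    simp [K, LinearMap.mem_ker]
  have h1 : ((𝓔 ^ n).ideal V).map (S'.presheaf.map (homOfLE hW'V).op).hom ≤ K := by
    rw [Ideal.map_le_iff_le_comap]
    intro a ha
    rw [Ideal.mem_comap, hK]
    have := res_smul M hW'V a m
    rw [hm a ha, map_zero] at this
    exact this.symm
  have h1' : (𝓔 ^ n).ideal ⟨W', hW'⟩ ≤ K := e1 ▸ h1
  have h2 : (S'.presheaf.map (homOfLE hW'W).op).hom t ^ n ∈ K := by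
    apply h1'
    have h3 : t ^ n ∈ (𝓔 ^ n).ideal W := by
      rw [Scheme.IdealSheafData.ideal_pow, Pi.pow_apply, hI]
      exact Ideal.pow_mem_pow (Ideal.mem_span_singleton_self t) n
    have := Ideal.mem_map_of_mem (S'.presheaf.map (homOfLE hW'W).op).hom h3
    rw [map_pow] at this
    exact e2 ▸ this
  rw [hK] at h2
  have h4 := congrArg (M.presheaf.germ W' v hvW') h2
  rw [germ_smul, germ_res, map_zero, map_pow] at h4
  have h5 : S'.presheaf.germ W' v hvW' ((S'.presheaf.map (homOfLE hW'W).op).hom t) =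
      S'.presheaf.germ W.1 v hvW t :=
    S'.presheaf.germ_res_apply (homOfLE hW'W) v hvW' t
  rw [h5] at h4
  have hreg' := (hreg W t ht hI v hvW).pow n
  apply hreg'
  change _ • _ = _ • _
  rw [smul_zero]
  exact h4

/-- **No section of `b^* F` is killed by a power of the exceptional ideal** when `F` is flat along
the centre. -/
theorem eq_zero_of_killed (𝓘 : S.IdealSheafData) (b : S' ⟶ S)
    (hE : BlowUp.IsEffCartierIdeal (𝓘.comap b)) (F : S.Modules)
    (hF : Coh.IsQCoh F) (hflat : ∀ s : S, s ∈ 𝓘.support → FlatMod.IsFlatAt F s)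
    (V : S'.affineOpens) (m : Γ((Scheme.Modules.pullback b).obj F, V.1)) (n : ℕ)
    (hm : ∀ a : Γ(S', V.1), a ∈ ((𝓘.comap b) ^ n).ideal V → a • m = 0) : m = 0 :=
  eq_zero_of_killed' (𝓘.comap b) hE _
    (fun W t ht hI v hv => isSMulRegular_germ 𝓘 b F hF hflat W t ht hI v hv) V m n hm

/-- **The pullback of a module flat along the centre is its own strict transform.** -/
theorem isStrictTransform_id (𝓘 : S.IdealSheafData) (b : S' ⟶ S) (hb : BlowUp.IsBlowUp b 𝓘)
    (F : S.Modules) (hF : Coh.IsQCoh F)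
    (hflat : ∀ s : S, s ∈ 𝓘.support → FlatMod.IsFlatAt F s) :
    BlowUp.IsStrictTransform b 𝓘 F ((Scheme.Modules.pullback b).obj F) (𝟙 _) := by
  refine ⟨inferInstance, fun V m => ?_⟩
  constructor
  · intro h
    have hm : m = 0 := h
    subst hm
    exact ⟨0, fun a _ => smul_zero a⟩
  · rintro ⟨n, hn⟩
    exact eq_zero_of_killed 𝓘 b hb.1 F hF hflat V m n hn

end Groth.Agent.Lib.Helper25.StrictPull
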