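import Groth.Agent.Lib.Helper29.QCohCrit
import Groth.Agent.Lib.Helper29.QCohAffine
import Groth.Agent.Lib.Helper29.QCohPullback
import Groth.Agent.Lib.Helper25.BlowUpReg
import Groth.Prelude.Def_BlowUp2

/-!
# Strict transforms with respect to an effective Cartier ideal are quasi-coherent
-/

set_option autoImplicit false
universe u
open CategoryTheory CategoryTheory.Limits AlgebraicGeometry TopologicalSpace

namespace Groth.Agent.Lib.Helper25.StrictQC

open Groth.Agent.Lib.Helper29.QCoh

variable {X : Scheme.{u}}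

/-- On an affine open where the ideal is principal, "killed by a power of the ideal" means killed
by a power of the generator. -/
theorem killed_iff_pow_smul (𝓔 : X.IdealSheafData) (M : X.Modules) (V : X.affineOpens)
    (f : Γ(X, V.1)) (hI : 𝓔.ideal V = Ideal.span {f}) (m : Γ(M, V.1)) :
    BlowUp.KilledByPowerNear 𝓔 M V m ↔ ∃ n : ℕ, f ^ n • m = 0 := by
  constructor
  · rintro ⟨n, hn⟩
    refine ⟨n, hn _ ?_⟩
    rw [Scheme.IdealSheafData.ideal_pow, Pi.pow_apply, hI]
    exact Ideal.pow_mem_pow (Ideal.mem_span_singleton_self f) n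
  · rintro ⟨n, hn⟩
    refine ⟨n, fun a ha => ?_⟩
    rw [Scheme.IdealSheafData.ideal_pow, Pi.pow_apply, hI, Ideal.span_singleton_pow,
      Ideal.mem_span_singleton] at ha
    obtain ⟨c, rfl⟩ := ha
    rw [mul_comm, mul_smul, hn, smul_zero]

/-- The generator of a principal ideal restricts to a generator on basic opens. -/
theorem ideal_basicOpen (𝓔 : X.IdealSheafData) (V : X.affineOpens)
    (f : Γ(X, V.1)) (hI : 𝓔.ideal V = Ideal.span {f}) (g : Γ(X, V.1)) :
    𝓔.ideal (X.affineBasicOpen g) =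
      Ideal.span {(X.presheaf.map (homOfLE (X.basicOpen_le g)).op).hom f} := by
  rw [← 𝓔.map_ideal_basicOpen V g, hI, Ideal.map_span, Set.image_singleton]

variable (𝓔 : X.IdealSheafData) (hE : BlowUp.IsEffCartierIdeal 𝓔) {M G : X.Modules} (π : M ⟶ G)
  (hker : ∀ (V : X.affineOpens) (m : Γ(M, V.1)),
    π.app V.1 m = 0 ↔ BlowUp.KilledByPowerNear 𝓔 M V m)

include hE hker in
/-- The kernel of a strict-transform quotient is quasi-coherent. -/
theorem isQuasicoherent_kernel [M.IsQuasicoherent] : (kernel π).IsQuasicoherent := by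
  have hinj := (mono_iff_app_injective (kernel.ι π)).mp inferInstance
  have hex := fun W => app_exact_of_exact_of_mono
    (ShortComplex.mk (kernel.ι π) π (kernel.condition π)) (ShortComplex.exact_kernel π) W
  have hzero : ∀ (W : X.Opens) (a : Γ(kernel π, W)), π.app W ((kernel.ι π).app W a) = 0 :=
    fun W a => app_zero_of_comp_eq_zero (kernel.ι π) π (kernel.condition π) W a
  refine isQuasicoherent_of_localizing (kernel π)
    (fun V : {V : X.affineOpens // ∃ f : Γ(X, V.1), 𝓔.ideal V = Ideal.span {f}} => (V.1 : X.Opens))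
    ?_ (fun V => V.1.2) ?_ ?_
  · rw [IsOpenCover, eq_top_iff]
    intro x _
    obtain ⟨V, hxV, f, -, hf⟩ := hE x
    exact Opens.mem_iSup.mpr ⟨⟨V, f, hf⟩, hxV⟩
  · rintro ⟨V, f, hf⟩ g s
    change ∃ (n : ℕ) (m : Γ(kernel π, V.1)), _
    set gD := X.presheaf.map (homOfLE (X.basicOpen_le g)).op g with hgD
    set fD := (X.presheaf.map (homOfLE (X.basicOpen_le g)).op).hom f with hfD
    have hs0 := (hker (X.affineBasicOpen g) _).mp (hzero _ s)
    obtain ⟨n, hn⟩ := (killed_iff_pow_smul 𝓔 M (X.affineBasicOpen g) fD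
      (ideal_basicOpen 𝓔 V f hf g) _).mp hs0
    obtain ⟨j, m, hm⟩ := exists_pow_smul_eq_res M V.2 g ((kernel.ι π).app _ s)
    have h0 : res M (X.basicOpen_le g) (f ^ n • m) = 0 := by
      rw [res_smul, ← hm, map_pow, smul_comm]
      have hn' : fD ^ n • ((kernel.ι π).app (X.basicOpen g) s : Γ(M, X.basicOpen g)) = 0 := hn
      change gD ^ j • (fD ^ n • ((kernel.ι π).app (X.basicOpen g) s : Γ(M, X.basicOpen g))) = 0
      rw [hn', smul_zero]
    obtain ⟨l, hl⟩ := exists_pow_smul_eq_zero M V.2 g _ h0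
    have h1 : π.app V.1 (g ^ l • m) = 0 :=
      (hker V _).mpr ((killed_iff_pow_smul 𝓔 M V f hf _).mpr
        ⟨n, by rw [smul_comm]; exact hl⟩)
    obtain ⟨k, hk⟩ := (hex V.1 _).mp h1
    refine ⟨l + j, k, ?_⟩
    apply hinj
    rw [Scheme.Modules.Hom.app_smul, app_res]
    change gD ^ (l + j) • _ = res M _ ((kernel.ι π).app V.1 k)
    rw [hk, res_smul, ← hm, pow_add, mul_smul, map_pow]
  · rintro ⟨V, f, hf⟩ g k hk
    change ∃ n : ℕ, g ^ n • k = 0
    have h0 : res M (X.basicOpen_le g) ((kernel.ι π).app V.1 k) = 0 := by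
      rw [← app_res, hk, map_zero]
    obtain ⟨n, hn⟩ := exists_pow_smul_eq_zero M V.2 g _ h0
    refine ⟨n, ?_⟩
    apply hinj
    rw [Scheme.Modules.Hom.app_smul, hn, map_zero]

include hE hker in
/-- **A strict-transform quotient of a quasi-coherent module with respect to an effective Cartier
ideal is quasi-coherent.** -/
theorem isQuasicoherent_of_strict [M.IsQuasicoherent] [Epi π] : G.IsQuasicoherent := by
  haveI := isQuasicoherent_kernel 𝓔 hE π hker
  have hcolim := Abelian.epiIsCokernelOfKernel (limit.cone (parallelPair π 0))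
    (limit.isLimit _)
  let e : cokernel (kernel.ι π) ≅ G :=
    IsColimit.coconePointUniqueUpToIso (colimit.isColimit _) hcolim
  exact Groth.Agent.Lib.Helper29.QCoh.isQuasicoherent_of_iso e

end Groth.Agent.Lib.Helper25.StrictQC
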