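import Mathlib.AlgebraicGeometry.PullbackCarrier
import Mathlib.AlgebraicGeometry.Morphisms.OpenImmersion
import Mathlib.CategoryTheory.Subobject.Basic

/-! # Subobjects of a scheme given by open immersions -/

universe u
open CategoryTheory CategoryTheory.Limits AlgebraicGeometry

namespace Groth.Agent.Lib.Helper25.SubobjOpen

theorem range_eq_of_isPullback {P X Y Z : Scheme.{u}} {fst : P ⟶ X} {snd : P ⟶ Y}
    {f : X ⟶ Z} {g : Y ⟶ Z} (h : IsPullback fst snd f g) :
    Set.range snd = g ⁻¹' Set.range f := by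
  have := Scheme.image_preimage_eq_of_isPullback h Set.univ
  simpa [Set.image_univ] using this

theorem subobject_eq_of_range_eq {X : Scheme.{u}} (Y₁ Y₂ : Subobject X)
    [IsOpenImmersion Y₁.arrow] [IsOpenImmersion Y₂.arrow]
    (h : Set.range Y₁.arrow = Set.range Y₂.arrow) : Y₁ = Y₂ :=
  Subobject.eq_of_comm (IsOpenImmersion.isoOfRangeEq Y₁.arrow Y₂.arrow h)
    (IsOpenImmersion.isoOfRangeEq_hom_fac _ _ h)

theorem range_pullback_arrow {X X' : Scheme.{u}} (π : X ⟶ X') (Y' : Subobject X') :
    Set.range ((Subobject.pullback π).obj Y').arrow = π ⁻¹' Set.range Y'.arrow :=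
  range_eq_of_isPullback (Subobject.isPullback π Y')

theorem isOpenImmersion_pullback_arrow {X X' : Scheme.{u}} (π : X ⟶ X') (Y' : Subobject X')
    [IsOpenImmersion Y'.arrow] : IsOpenImmersion ((Subobject.pullback π).obj Y').arrow :=
  MorphismProperty.of_isPullback (P := @IsOpenImmersion) (Subobject.isPullback π Y') inferInstance

end Groth.Agent.Lib.Helper25.SubobjOpen
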