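import Mathlib.Algebra.Module.Submodule.Union
import Mathlib.SetTheory.Cardinal.Finite
import Mathlib.SetTheory.Cardinal.Basic

set_option autoImplicit false
universe u v w

namespace Groth.Agent.Lib.Helper25

/-- Sharp version: a vector space over a field `K` is not the union of at most `#K` proper
subspaces. -/
theorem exists_forall_notMem_of_card_le {ι : Type w} {K : Type v} {M : Type u} [Field K]
    [AddCommGroup M] [Module K M] (s : Finset ι) (p : ι → Submodule K M)
    (h₁ : ∀ i ∈ s, p i ≠ ⊤) (h₂ : (s.card : Cardinal.{v}) ≤ Cardinal.mk K) :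
    ∃ x, ∀ i ∈ s, x ∉ p i := by
  classical
  by_contra hcon
  simp only [not_exists, not_forall, not_not] at hcon
  let T := s.powerset.filter (fun t ↦ ∀ x, ∃ i ∈ t, x ∈ p i)
  have hT : T.Nonempty := ⟨s, by
    simp only [T, Finset.mem_filter, Finset.mem_powerset, subset_refl, true_and]
    intro x
    obtain ⟨i, hi, hx⟩ := hcon x
    exact ⟨i, hi, hx⟩⟩
  obtain ⟨t, htT, htmin⟩ := T.exists_min_image Finset.card hT
  have hts : t ⊆ s := Finset.mem_powerset.mp (Finset.mem_filter.mp htT).1
  have htc : ∀ x, ∃ i ∈ t, x ∈ p i := (Finset.mem_filter.mp htT).2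
  obtain ⟨j, hj, -⟩ := htc 0
  have hnc : ¬ ∀ x, ∃ i ∈ t.erase j, x ∈ p i := by
    intro h
    have hmem : t.erase j ∈ T := by
      simp only [T, Finset.mem_filter, Finset.mem_powerset]
      exact ⟨(Finset.erase_subset _ _).trans hts, h⟩
    have h1 := htmin _ hmem
    have h2 := Finset.card_erase_lt_of_mem hj
    omega
  simp only [not_forall, not_exists, not_and] at hnc
  obtain ⟨x, hx⟩ := hnc
  have hxj : x ∈ p j := by
    obtain ⟨i, hi, hxi⟩ := htc x
    by_cases hij : i = j
    · subst hij; exact hxi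
    · exact absurd hxi (hx i (Finset.mem_erase.mpr ⟨hij, hi⟩))
  obtain ⟨y, hy⟩ : ∃ y, y ∉ p j := by
    by_contra h
    simp only [not_exists, not_not] at h
    exact h₁ j (hts hj) (eq_top_iff.mpr fun z _ ↦ h z)
  have hf : ∀ c : K, ∃ i ∈ t.erase j, y + c • x ∈ p i := by
    intro c
    obtain ⟨i, hi, hmem⟩ := htc (y + c • x)
    refine ⟨i, Finset.mem_erase.mpr ⟨?_, hi⟩, hmem⟩
    rintro rfl
    exact hy (((p i).add_mem_iff_left ((p i).smul_mem c hxj)).mp hmem)
  choose g hg hgmem using hf
  have hginj : Function.Injective (fun c ↦ (⟨g c, hg c⟩ : {i // i ∈ t.erase j})) := by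
    intro c c' hcc'
    simp only [Subtype.mk.injEq] at hcc'
    by_contra hne
    have h1 := hgmem c
    have h2 := hgmem c'
    rw [← hcc'] at h2
    have h3 : (c - c') • x ∈ p (g c) := by
      have := (p (g c)).sub_mem h1 h2
      have e : y + c • x - (y + c' • x) = (c - c') • x := by module
      rwa [e] at this
    have h4 : x ∈ p (g c) := ((p (g c)).smul_mem_iff (sub_ne_zero.mpr hne)).mp h3
    exact hx _ (hg c) h4
  have hcard := Cardinal.lift_mk_le'.mpr ⟨⟨_, hginj⟩⟩
  rw [Cardinal.mk_coe_finset, Cardinal.lift_natCast] at hcard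
  have h5 : (t.erase j).card < s.card :=
    (Finset.card_erase_lt_of_mem hj).trans_le (Finset.card_le_card hts)
  have h6 : Cardinal.lift.{w} (Cardinal.mk K) < Cardinal.lift.{w} (s.card : Cardinal.{v}) := by
    rw [Cardinal.lift_natCast]
    exact hcard.trans_lt (by exact_mod_cast h5)
  exact absurd h₂ (not_le.mpr (Cardinal.lift_lt.mp h6))

end Groth.Agent.Lib.Helper25
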