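import Groth.Agent.Lib.Helper25.MatlisDual
import Groth.Agent.Lib.Helper25.DualSocle
import Groth.Agent.Lib.Helper25.InjFlat
import Mathlib.Algebra.Category.ModuleCat.ChangeOfRings
import Mathlib.Algebra.Category.ModuleCat.Injective
import Mathlib.RingTheory.SimpleModule.InjectiveProjective

/-!
# Coextension of scalars and hulls: the topological dual of a local algebra over a field
-/

set_option autoImplicit false
universe u v
namespace Groth.Agent.Lib.Helper25
open InjHull IsLocalRing CategoryTheory

section Coext

theorem injective_coextendScalars {A B : Type u} [CommRing A] [CommRing B] (φ : A →+* B)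
    (E : Type u) [AddCommGroup E] [Module A E] [Module.Injective A E] :
    Module.Injective B ((ModuleCat.coextendScalars φ).obj (ModuleCat.of A E)) := by
  have h1 : CategoryTheory.Injective (ModuleCat.of A E) :=
    Module.injective_object_of_injective_module A E
  have h2 : CategoryTheory.Injective ((ModuleCat.coextendScalars φ).obj (ModuleCat.of A E)) :=
    Injective.injective_of_adjoint (ModuleCat.restrictCoextendScalarsAdj φ) _
  exact Module.injective_module_of_injective_object B _

variable {k₀ : Type u} [Field k₀] {A : Type u} [CommRing A] [Algebra k₀ A]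

/-- the form underlying an element of the coextension -/
noncomputable def toForm (g : (ModuleCat.coextendScalars (algebraMap k₀ A)).obj (ModuleCat.of k₀ k₀)) :
    A →ₗ[k₀] k₀ where
  toFun x := g x
  map_add' x y := (ModuleCat.CoextendScalars.equiv _ _ g).map_add x y
  map_smul' c x := by
    have := (ModuleCat.CoextendScalars.equiv (algebraMap k₀ A) (ModuleCat.of k₀ k₀) g).map_smul c x
    rw [Algebra.smul_def]
    exact this

theorem toForm_apply (g : (ModuleCat.coextendScalars (algebraMap k₀ A)).obj (ModuleCat.of k₀ k₀))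
    (x : A) : toForm g x = g x := rfl

theorem toForm_smul (a : A)
    (g : (ModuleCat.coextendScalars (algebraMap k₀ A)).obj (ModuleCat.of k₀ k₀)) (x : A) :
    toForm (a • g) x = toForm g (x * a) := rfl

theorem toForm_injective : Function.Injective (toForm (k₀ := k₀) (A := A)) := by
  intro g g' h
  apply ModuleCat.CoextendScalars.ext
  apply LinearMap.ext
  intro x
  exact LinearMap.congr_fun h x

/-- an element of the coextension from a form -/
noncomputable def ofForm (ψ : A →ₗ[k₀] k₀) :
    (ModuleCat.coextendScalars (algebraMap k₀ A)).obj (ModuleCat.of k₀ k₀) :=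
  (ModuleCat.CoextendScalars.equiv (algebraMap k₀ A) (ModuleCat.of k₀ k₀)).symm
    { toFun := fun x => ψ x
      map_add' := fun x y => ψ.map_add x y
      map_smul' := fun c x => by
        change ψ (algebraMap k₀ A c * (show A from x)) = c • ψ (show A from x)
        rw [← Algebra.smul_def]
        exact ψ.map_smul c x }

theorem toForm_ofForm (ψ : A →ₗ[k₀] k₀) : toForm (ofForm ψ) = ψ := rfl

theorem toForm_zero :
    toForm (0 : (ModuleCat.coextendScalars (algebraMap k₀ A)).obj (ModuleCat.of k₀ k₀)) = 0 := rfl

end Coext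

section TopDual

variable (k₀ : Type u) [Field k₀] (A : Type u) [CommRing A] [IsLocalRing A] [IsNoetherianRing A]
  [Algebra k₀ A] [Module.Finite k₀ (A ⧸ maximalIdeal A)]

theorem exists_hull_topDual :
    ∃ f : ResidueField A →ₗ[A] ↥(powTorsion (maximalIdeal A)
      ((ModuleCat.coextendScalars (algebraMap k₀ A)).obj (ModuleCat.of k₀ k₀))),
      IsInjectiveHull f := by
  have hD : Module.Injective A
      ((ModuleCat.coextendScalars (algebraMap k₀ A)).obj (ModuleCat.of k₀ k₀)) :=
    have : Module.Injective k₀ k₀ := Module.injective_of_isSemisimpleRing k₀ k₀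
    injective_coextendScalars (algebraMap k₀ A) k₀
  have hT := injective_powTorsion hD (maximalIdeal A)
  have hpt : LocCoh.IsPowerTorsion (maximalIdeal A) ↥(powTorsion (maximalIdeal A)
      ((ModuleCat.coextendScalars (algebraMap k₀ A)).obj (ModuleCat.of k₀ k₀))) := by
    intro x
    obtain ⟨n, hn⟩ := (mem_powTorsion_iff (maximalIdeal A) x.1).1 x.2
    exact ⟨n, fun a ha => Subtype.ext (hn a ha)⟩
  have hform : ∀ g : (ModuleCat.coextendScalars (algebraMap k₀ A)).obj (ModuleCat.of k₀ k₀),
      (∀ a ∈ maximalIdeal A, a • g = 0) → ∀ a ∈ maximalIdeal A, toForm g a = 0 := by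
    intro g hg a ha
    have h1 : toForm (a • g) 1 = toForm g (1 * a) := toForm_smul a g 1
    rw [hg a ha, toForm_zero, LinearMap.zero_apply, one_mul] at h1
    exact h1.symm
  apply exists_hull_of_socle_simple hT hpt
  rw [isSimpleModule_iff_toSpanSingleton_surjective]
  constructor
  · obtain ⟨φ, hφ0, hφm⟩ := exists_form_ne_zero (k₀ := k₀) (maximalIdeal A)
    have hgm : ∀ a ∈ maximalIdeal A, a • ofForm φ = 0 := by
      intro a ha
      apply toForm_injective
      apply LinearMap.ext
      intro x
      rw [toForm_smul, toForm_ofForm, toForm_zero, LinearMap.zero_apply]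
      exact hφm _ (Ideal.mul_mem_left _ x ha)
    have hgT : ofForm φ ∈ powTorsion (maximalIdeal A)
        ((ModuleCat.coextendScalars (algebraMap k₀ A)).obj (ModuleCat.of k₀ k₀)) := by
      rw [mem_powTorsion_iff]
      exact ⟨1, fun a ha => hgm a (by rwa [pow_one] at ha)⟩
    have hmem : (⟨ofForm φ, hgT⟩ : ↥(powTorsion (maximalIdeal A)
        ((ModuleCat.coextendScalars (algebraMap k₀ A)).obj (ModuleCat.of k₀ k₀)))) ∈
        LocCoh.torsionBy (maximalIdeal A) _ := by
      rw [Submodule.mem_torsionBySet_iff]
      rintro ⟨a, ha⟩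
      exact Subtype.ext (hgm a ha)
    refine ⟨⟨⟨⟨ofForm φ, hgT⟩, hmem⟩, 0, ?_⟩⟩
    intro h
    apply hφ0
    have h1 : ofForm φ = 0 := congrArg (fun z => z.1.1) h
    rw [← toForm_ofForm φ, h1, toForm_zero]
  · rintro ⟨⟨g, hgT⟩, hg⟩ hne ⟨⟨g', hg'T⟩, hg'⟩
    have hgm : ∀ a ∈ maximalIdeal A, a • g = 0 := fun a ha =>
      congrArg Subtype.val ((Submodule.mem_torsionBySet_iff _ _).1 hg ⟨a, ha⟩)
    have hg'm : ∀ a ∈ maximalIdeal A, a • g' = 0 := fun a ha =>
      congrArg Subtype.val ((Submodule.mem_torsionBySet_iff _ _).1 hg' ⟨a, ha⟩)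
    have hg0 : toForm g ≠ 0 := by
      intro h
      apply hne
      have : g = 0 := toForm_injective (by rw [h, toForm_zero])
      exact Subtype.ext (Subtype.ext this)
    obtain ⟨a, ha⟩ := exists_mul_right_eq (maximalIdeal A) (toForm g) (toForm g')
      (hform g hgm) (hform g' hg'm) hg0
    refine ⟨a, Subtype.ext (Subtype.ext ?_)⟩
    apply toForm_injective
    apply LinearMap.ext
    intro x
    change toForm (a • g) x = toForm g' x
    rw [toForm_smul, ha]

end TopDual

end Groth.Agent.Lib.Helper25
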