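import Mathlib
import Groth.Agent.Lib.Helper25.JacobianCrit3

/-!
# Smoothness of a closed subscheme along the unit section (helper25)

Affine form: `A` a smooth `R`-algebra with augmentation `ε`, `I = ker ε`, `J ≤ I` finitely generated
with `J ⊓ I² = I J` and `I/(J + I²)` projective over `R`; then `A ⧸ J` is smooth over `R` at all primes
containing `I`.
-/

set_option autoImplicit false
universe u

open TensorProduct KaehlerDifferential IsLocalRing

namespace Groth.Agent.Lib.Helper25.JacobianCrit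

section Claim

variable {R A : Type u} [CommRing R] [CommRing A] [Algebra R A] (ε : A →ₐ[R] R) (J : Ideal A)

/-- The key ideal-theoretic claim: `J ∩ 𝔓 I ⊆ 𝔓 J`. -/
theorem mem_mul_of_mem_mul_ker
    (h2 : J ⊓ RingHom.ker ε ^ 2 = RingHom.ker ε * J)
    (h3 : Module.Projective R (↥(RingHom.ker ε) ⧸
      Submodule.comap (RingHom.ker ε).subtype (J ⊔ RingHom.ker ε ^ 2)))
    (𝔓 : Ideal A) (hI𝔓 : RingHom.ker ε ≤ 𝔓) (y : A) (hyJ : y ∈ J)
    (hy : y ∈ 𝔓 * RingHom.ker ε) : y ∈ 𝔓 * J := by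
  classical
  set I : Ideal A := RingHom.ker ε with hI
  set K : Submodule A ↥I := Submodule.comap I.subtype (J ⊔ I ^ 2) with hK
  let π : ↥I →ₗ[R] (↥I ⧸ K) := (Submodule.mkQ K).restrictScalars R
  have hπs : Function.Surjective π := Submodule.mkQ_surjective K
  obtain ⟨σ, hσ⟩ := Module.projective_lifting_property π LinearMap.id hπs
  have hσ' : ∀ t, π (σ t) = t := fun t => LinearMap.congr_fun hσ t
  let Φ : ↥I →ₗ[R] ↥I := LinearMap.id - σ ∘ₗ π
  have hπ0 : ∀ x : ↥I, π x = 0 ↔ (x : A) ∈ J ⊔ I ^ 2 := by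
    intro x
    change Submodule.Quotient.mk x = 0 ↔ _
    rw [Submodule.Quotient.mk_eq_zero]
    rfl
  have hΦmem : ∀ x : ↥I, ((Φ x : ↥I) : A) ∈ J ⊔ I ^ 2 := by
    intro x
    rw [← hπ0]
    change π (x - σ (π x)) = 0
    rw [map_sub, hσ', sub_self]
  have hΦfix : ∀ x : ↥I, (x : A) ∈ J ⊔ I ^ 2 → Φ x = x := by
    intro x hx
    change x - σ (π x) = x
    rw [(hπ0 x).mpr hx, map_zero, sub_zero]
  have key : ∀ y' ∈ 𝔓 * I, ∃ hy' : y' ∈ I, ((Φ ⟨y', hy'⟩ : ↥I) : A) ∈ I ^ 2 ⊔ 𝔓 * J := by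
    intro y' hy'
    refine Submodule.mul_induction_on hy' ?_ ?_
    · intro q hq i hi
      refine ⟨I.mul_mem_left q hi, ?_⟩
      set c : R := ε q with hc
      have hqc : q - algebraMap R A c ∈ I := by
        rw [hI, RingHom.mem_ker, map_sub, AlgHom.commutes, hc]
        simp
      have hc𝔓 : algebraMap R A c ∈ 𝔓 := by
        have : algebraMap R A c = q - (q - algebraMap R A c) := by ring
        rw [this]
        exact 𝔓.sub_mem hq (hI𝔓 hqc)
      have h1 : (q - algebraMap R A c) * i ∈ I ^ 2 := by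
        rw [pow_two]; exact Ideal.mul_mem_mul hqc hi
      have hsplit : (⟨q * i, I.mul_mem_left q hi⟩ : ↥I) =
          ⟨(q - algebraMap R A c) * i, I.mul_mem_left _ hi⟩ + c • (⟨i, hi⟩ : ↥I) := by
        apply Subtype.ext
        change q * i = (q - algebraMap R A c) * i + c • i
        rw [Algebra.smul_def]; ring
      rw [hsplit, map_add, map_smul,
        hΦfix ⟨(q - algebraMap R A c) * i, I.mul_mem_left _ hi⟩ (Submodule.mem_sup_right h1)]
      change (q - algebraMap R A c) * i + c • ((Φ ⟨i, hi⟩ : ↥I) : A) ∈ _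
      refine Submodule.add_mem _ (Submodule.mem_sup_left h1) ?_
      obtain ⟨j, hj, z, hz, hjz⟩ := Submodule.mem_sup.mp (hΦmem ⟨i, hi⟩)
      rw [← hjz, smul_add, Algebra.smul_def, Algebra.smul_def]
      refine Submodule.add_mem _ (Submodule.mem_sup_right (Ideal.mul_mem_mul hc𝔓 hj))
        (Submodule.mem_sup_left (Ideal.mul_mem_left _ _ hz))
    · rintro x y ⟨hx, hx'⟩ ⟨hy, hy'⟩
      refine ⟨I.add_mem hx hy, ?_⟩
      have : (⟨x + y, I.add_mem hx hy⟩ : ↥I) = ⟨x, hx⟩ + ⟨y, hy⟩ := rfl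
      rw [this, map_add]
      exact Submodule.add_mem _ hx' hy'
  obtain ⟨hyI, hΦy⟩ := key y hy
  rw [hΦfix ⟨y, hyI⟩ (Submodule.mem_sup_left hyJ)] at hΦy
  obtain ⟨z, hz, w, hw, hzw⟩ := Submodule.mem_sup.mp hΦy
  have hzw' : z + w = y := hzw
  have hwJ : w ∈ J := Ideal.mul_le_right hw
  have hzJ : z ∈ J := by
    have : z = y - w := by rw [← hzw']; ring
    rw [this]; exact J.sub_mem hyJ hwJ
  have hzIJ : z ∈ I * J := by
    rw [← h2]; exact ⟨hzJ, hz⟩
  rw [← hzw']
  exact Submodule.add_mem _ (Ideal.mul_mono_left hI𝔓 hzIJ) hw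

end Claim

section Main

variable {R A : Type u} [CommRing R] [CommRing A] [Algebra R A]

/-- `isSmoothAt_quotient_iff` with the preimage prime as a variable. -/
theorem formallySmooth_localization_quotient_of_isSmoothAt (I : Ideal A) (𝔓 : Ideal A) [𝔓.IsPrime]
    (q : Ideal (A ⧸ I)) [q.IsPrime] (hq : q.comap (Ideal.Quotient.mk I) = 𝔓)
    [Algebra.IsSmoothAt R q] :
    Algebra.FormallySmooth R
      (Localization.AtPrime 𝔓 ⧸ I.map (algebraMap A (Localization.AtPrime 𝔓))) := by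
  subst hq
  exact (isSmoothAt_quotient_iff R I q).mp inferInstance

theorem formallySmooth_localization_quotient_of_unitSection [Algebra.Smooth R A]
    (ε : A →ₐ[R] R) (J : Ideal A) (hJI : J ≤ RingHom.ker ε) (h1 : J.FG)
    (h2 : J ⊓ RingHom.ker ε ^ 2 = RingHom.ker ε * J)
    (h3 : Module.Projective R (↥(RingHom.ker ε) ⧸
      Submodule.comap (RingHom.ker ε).subtype (J ⊔ RingHom.ker ε ^ 2)))
    (𝔓 : Ideal A) [𝔓.IsPrime] (hI𝔓 : RingHom.ker ε ≤ 𝔓) :
    Algebra.FormallySmooth R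
      (Localization.AtPrime 𝔓 ⧸ J.map (algebraMap A (Localization.AtPrime 𝔓))) := by
  classical
  set I : Ideal A := RingHom.ker ε with hI
  set Loc := Localization.AtPrime 𝔓 with hLoc
  haveI : Algebra.IsSmoothAt R 𝔓 := by
    have h : (⟨𝔓, inferInstance⟩ : PrimeSpectrum A) ∈ Algebra.smoothLocus R A := by
      rw [Algebra.smoothLocus_eq_univ]; trivial
    exact h
  obtain ⟨hfree, hfin⟩ := free_finite_kaehler_localization (R := R) 𝔓
  haveI : Algebra.FormallySmooth R Loc := ‹Algebra.IsSmoothAt R 𝔓›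
  have hsurj : Function.Surjective ε := fun r => ⟨algebraMap R A r, by simp⟩
  -- the unit section is smooth
  let q : Ideal (A ⧸ I) := 𝔓.map (Ideal.Quotient.mk I)
  have hq : q.comap (Ideal.Quotient.mk I) = 𝔓 := by
    rw [Ideal.comap_map_of_surjective _ Ideal.Quotient.mk_surjective, ← RingHom.ker_eq_comap_bot,
      Ideal.mk_ker, sup_eq_left.mpr hI𝔓]
  haveI : q.IsPrime := by
    apply Ideal.map_isPrime_of_surjective Ideal.Quotient.mk_surjective
    rw [Ideal.mk_ker]; exact hI𝔓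
  let e : (A ⧸ I) ≃ₐ[R] R := Ideal.quotientKerAlgEquivOfSurjective hsurj
  haveI : Algebra.Smooth R (A ⧸ I) := Algebra.Smooth.of_equiv e.symm
  haveI : Algebra.IsSmoothAt R q := by
    have h : (⟨q, inferInstance⟩ : PrimeSpectrum (A ⧸ I)) ∈ Algebra.smoothLocus R (A ⧸ I) := by
      rw [Algebra.smoothLocus_eq_univ]; trivial
    exact h
  have hIsm : Algebra.FormallySmooth R (Loc ⧸ I.map (algebraMap A Loc)) :=
    formallySmooth_localization_quotient_of_isSmoothAt I 𝔓 q hq
  have hIfg : I.FG := Algebra.FinitePresentation.ker_fG_of_surjective ε hsurj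
  have hmax : 𝔓.map (algebraMap A Loc) = maximalIdeal Loc :=
    Localization.AtPrime.map_eq_maximalIdeal
  have hIm : I.map (algebraMap A Loc) ≤ maximalIdeal Loc := by
    rw [← hmax]; exact Ideal.map_mono hI𝔓
  have hJm : J.map (algebraMap A Loc) ≤ maximalIdeal Loc :=
    le_trans (Ideal.map_mono hJI) hIm
  have hcritI := (formallySmooth_quotient_iff (R := R) (I.map (algebraMap A Loc))
    (hIfg.map _) hIm).mp hIsm
  rw [formallySmooth_quotient_iff (R := R) (J.map (algebraMap A Loc)) (h1.map _) hJm]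
  intro x hx hdx
  have hxI : x ∈ I.map (algebraMap A Loc) := Ideal.map_mono hJI hx
  have h4 := hcritI x hxI hdx
  have hmI : maximalIdeal Loc • I.map (algebraMap A Loc) = (𝔓 * I).map (algebraMap A Loc) := by
    rw [smul_eq_mul, ← hmax, ← Ideal.map_mul]
  have hmJ : maximalIdeal Loc • J.map (algebraMap A Loc) = (𝔓 * J).map (algebraMap A Loc) := by
    rw [smul_eq_mul, ← hmax, ← Ideal.map_mul]
  obtain ⟨⟨j, s⟩, hjs⟩ := (IsLocalization.mem_map_algebraMap_iff 𝔓.primeCompl Loc).mp hx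
  have h5 : algebraMap A Loc j ∈ (𝔓 * I).map (algebraMap A Loc) := by
    rw [← hjs, ← hmI]; exact Ideal.mul_mem_right _ _ h4
  obtain ⟨⟨y, t⟩, hyt⟩ := (IsLocalization.mem_map_algebraMap_iff 𝔓.primeCompl Loc).mp h5
  have hyt' : algebraMap A Loc ((j : A) * (t : A)) = algebraMap A Loc (y : A) := by
    rw [map_mul]; exact hyt
  obtain ⟨u, hu⟩ := (IsLocalization.eq_iff_exists 𝔓.primeCompl Loc).mp hyt'
  have hw := mem_mul_of_mem_mul_ker ε J h2 h3 𝔓 hI𝔓 ((u : A) * ((j : A) * (t : A)))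
    (J.mul_mem_left _ (J.mul_mem_right _ j.2)) (by rw [hu]; exact Ideal.mul_mem_left _ _ y.2)
  rw [hmJ]
  have h6 : algebraMap A Loc ((u : A) * ((j : A) * (t : A))) ∈
      (𝔓 * J).map (algebraMap A Loc) := Ideal.mem_map_of_mem _ hw
  have hunit : ∀ v : 𝔓.primeCompl, IsUnit (algebraMap A Loc (v : A)) :=
    fun v => IsLocalization.map_units Loc v
  rw [map_mul, map_mul, ← hjs] at h6
  have h7 : algebraMap A Loc (u : A) * (x * algebraMap A Loc (s : A) * algebraMap A Loc (t : A)) =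
      (algebraMap A Loc (u : A) * algebraMap A Loc (s : A) * algebraMap A Loc (t : A)) * x := by
    ring
  rw [h7] at h6
  exact (Ideal.unit_mul_mem_iff_mem _ (((hunit u).mul (hunit s)).mul (hunit t))).mp h6

end Main

end Groth.Agent.Lib.Helper25.JacobianCrit
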