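import Mathlib

/-!
Unramifiedness at a prime from spanning differentials in the fibre (helper25).
-/

set_option autoImplicit false
universe u
open TensorProduct KaehlerDifferential

namespace Groth.Agent.Lib.Helper25.UnramAtPoly

variable (A P B : Type u) [CommRing A] [CommRing P] [CommRing B] [Algebra A P] [Algebra P B]
  [Algebra A B] [IsScalarTower A P B]

/-- If `B` is of finite type over `P` and the differentials (over `A`) of elements coming from `P`
span the fibre `κ(q) ⊗ Ω_{B/A}`, then `B` is unramified over `P` at `q`. -/
theorem isUnramifiedAt_of_span_eq_top [Algebra.FiniteType P B] (q : Ideal B) [q.IsPrime]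
    {ι : Type*} (x : ι → P)
    (hspan : Submodule.span q.ResidueField (Set.range fun i =>
      (1 : q.ResidueField) ⊗ₜ[B] D A B (algebraMap P B (x i))) = ⊤) :
    Algebra.IsUnramifiedAt P q := by
  set κ := q.ResidueField with hκ
  -- `κ ⊗ Ω_{B/P} = 0`
  have hsub : Subsingleton (κ ⊗[B] Ω[B⁄P]) := by
    have hsurj0 : Function.Surjective (KaehlerDifferential.map A P B B) :=
      KaehlerDifferential.map_surjective A P B
    have hsurj : Function.Surjective ((KaehlerDifferential.map A P B B).baseChange κ) :=
      LinearMap.lTensor_surjective κ hsurj0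
    have hzero : (KaehlerDifferential.map A P B B).baseChange κ = 0 := by
      apply LinearMap.ext_on_range hspan
      intro i
      rw [LinearMap.baseChange_tmul, map_D, LinearMap.zero_apply]
      have : D P B ((algebraMap B B) ((algebraMap P B) (x i))) = 0 := by
        change D P B (algebraMap P B (x i)) = 0
        exact Derivation.map_algebraMap _ _
      rw [this, TensorProduct.tmul_zero]
    refine ⟨fun a b => ?_⟩
    obtain ⟨a', rfl⟩ := hsurj a
    obtain ⟨b', rfl⟩ := hsurj b
    rw [hzero]; rfl
  have hfin : Module.Finite B Ω[B⁄P] := inferInstance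
  have hsupp : (⟨q, inferInstance⟩ : PrimeSpectrum B) ∉ Module.support B Ω[B⁄P] := by
    rw [Module.mem_support_iff_nontrivial_residueField_tensorProduct,
      not_nontrivial_iff_subsingleton]
    exact hsub
  rw [Module.notMem_support_iff] at hsupp
  have h2 : Subsingleton (Localization.AtPrime q ⊗[B] Ω[B⁄P]) :=
    (LocalizedModule.equivTensorProduct q.primeCompl Ω[B⁄P]).symm.subsingleton
  have h3 : Subsingleton Ω[Localization.AtPrime q⁄P] :=
    (tensorKaehlerEquivOfFormallyEtale P B (Localization.AtPrime q)).symm.subsingleton
  exact ⟨h3⟩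

end Groth.Agent.Lib.Helper25.UnramAtPoly
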