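import Mathlib

/-!
A local homomorphism of local rings, essentially of finite type, is formally unramified iff the
quotient of the target by the extended maximal ideal is a finite separable field extension of the
residue field of the source (helper25).
-/

set_option autoImplicit false
universe u
open IsLocalRing

namespace Groth.Agent.Lib.Helper25.UnramFiberField

variable {R S : Type u} [CommRing R] [CommRing S] [IsLocalRing R] [IsLocalRing S]
  [Algebra R S] [IsLocalHom (algebraMap R S)]

/-- The residue field is the quotient by the maximal ideal. -/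
def eqv (A : Type u) [CommRing A] [IsLocalRing A] : ResidueField A ≃+* A ⧸ maximalIdeal A :=
  RingEquiv.refl (A ⧸ maximalIdeal A)

theorem aux_comm (hle : maximalIdeal R ≤ (maximalIdeal S).comap (algebraMap R S)) :
    (Ideal.quotientMap (maximalIdeal S) (algebraMap R S) hle).comp
      (eqv R : ResidueField R →+* R ⧸ maximalIdeal R) =
    RingHom.comp (eqv S : ResidueField S →+* S ⧸ maximalIdeal S)
      (algebraMap (ResidueField R) (ResidueField S)) := by
  refine RingHom.ext fun x => ?_
  obtain ⟨x, rfl⟩ := Ideal.Quotient.mk_surjective x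
  rfl

theorem aux_finite (I : Ideal S) (hI : I = maximalIdeal S)
    (hle : maximalIdeal R ≤ I.comap (algebraMap R S))
    [Module.Finite (ResidueField R) (ResidueField S)] :
    letI := (Ideal.quotientMap I (algebraMap R S) hle).toAlgebra
    Module.Finite (R ⧸ maximalIdeal R) (S ⧸ I) := by
  subst hI
  exact @Module.Finite.of_equiv_equiv (ResidueField R) (ResidueField S) (R ⧸ maximalIdeal R)
    (S ⧸ maximalIdeal S) _ _ _ _ _
    (Ideal.quotientMap (maximalIdeal S) (algebraMap R S) hle).toAlgebra
    (eqv R) (eqv S) (aux_comm hle) _

theorem aux_sep (I : Ideal S) (hI : I = maximalIdeal S)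
    (hle : maximalIdeal R ≤ I.comap (algebraMap R S)) :
    letI := (Ideal.quotientMap I (algebraMap R S) hle).toAlgebra
    Algebra.IsSeparable (R ⧸ maximalIdeal R) (S ⧸ I) ↔
      Algebra.IsSeparable (ResidueField R) (ResidueField S) := by
  subst hI
  exact (@Algebra.IsSeparable.iff_of_equiv_equiv (ResidueField R) (ResidueField S)
    (R ⧸ maximalIdeal R) (S ⧸ maximalIdeal S) _ _ (Ideal.Quotient.field _) _ _
    (Ideal.quotientMap (maximalIdeal S) (algebraMap R S) hle).toAlgebra
    (eqv R) (eqv S) (aux_comm hle)).symm

theorem formallyUnramified_iff [Algebra.EssFiniteType R S] :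
    Algebra.FormallyUnramified R S ↔
      letI := (Ideal.quotientMap ((maximalIdeal R).map (algebraMap R S)) (algebraMap R S)
        Ideal.le_comap_map).toAlgebra
      IsField (S ⧸ (maximalIdeal R).map (algebraMap R S)) ∧
        Module.Finite (R ⧸ maximalIdeal R) (S ⧸ (maximalIdeal R).map (algebraMap R S)) ∧
        Algebra.IsSeparable (R ⧸ maximalIdeal R)
          (S ⧸ (maximalIdeal R).map (algebraMap R S)) := by
  constructor
  · intro h
    have H : (maximalIdeal R).map (algebraMap R S) = maximalIdeal S :=
      Algebra.FormallyUnramified.map_maximalIdeal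
    exact ⟨Algebra.FormallyUnramified.isField_quotient_map_maximalIdeal,
      aux_finite _ H Ideal.le_comap_map, (aux_sep _ H Ideal.le_comap_map).mpr inferInstance⟩
  · rintro ⟨hF, hfin, hsep⟩
    have hmR : (maximalIdeal R).map (algebraMap R S) ≤ maximalIdeal S :=
      ((local_hom_TFAE (algebraMap R S)).out 0 2 rfl rfl).mp ‹_›
    have hmax : ((maximalIdeal R).map (algebraMap R S)).IsMaximal :=
      Ideal.Quotient.maximal_of_isField _ hF
    have H : (maximalIdeal R).map (algebraMap R S) = maximalIdeal S :=
      hmax.eq_of_le (maximalIdeal.isMaximal S).ne_top hmR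
    have := (aux_sep _ H Ideal.le_comap_map).mp hsep
    exact Algebra.FormallyUnramified.of_map_maximalIdeal H

end Groth.Agent.Lib.Helper25.UnramFiberField
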