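import Mathlib
import Groth.Agent.Lib.Helper13.SchemeLocal

/-! Scheme-level local structure of unramified morphisms: étale locally on the target, an open of the
base change is a closed immersion. -/

set_option autoImplicit false
universe u

open CategoryTheory CategoryTheory.Limits AlgebraicGeometry

namespace Groth.Agent.Lib.Helper25.UnramLocalStructure

variable {X Y : Scheme.{u}}

theorem isOpenImmersion_lift_of_etale {D X Y Y' : Scheme.{u}} (f : X ⟶ Y) (g : Y' ⟶ Y) [Etale g]
    (i : D ⟶ X) [IsOpenImmersion i] (c : D ⟶ Y') (w : i ≫ f = c ≫ g) :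
    IsOpenImmersion (pullback.lift i c w) := by
  have h1 : pullback.lift i c w ≫ pullback.fst f g = i := pullback.lift_fst _ _ _
  haveI : Etale (pullback.lift i c w ≫ pullback.fst f g) := by rw [h1]; infer_instance
  haveI : Etale (pullback.lift i c w) := Etale.of_comp _ (pullback.fst f g)
  haveI : Mono (pullback.lift i c w) := mono_of_mono_fac h1
  exact IsOpenImmersion.of_flat_of_mono _

theorem exists_etale_nhd_closedImmersion (f : X ⟶ Y) [LocallyOfFiniteType f] (x : X)
    (hx : (f.stalkMap x).hom.FormallyUnramified) :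
    ∃ (Y' : Scheme.{u}) (g : Y' ⟶ Y) (U : (pullback f g).Opens), Etale g ∧
      x ∈ (pullback.fst f g).base '' (U : Set ↥(pullback f g)) ∧
      IsClosedImmersion (U.ι ≫ pullback.snd f g) := by
  obtain ⟨_, ⟨V, hV, rfl⟩, hxV, -⟩ :=
    Y.isBasis_affineOpens.exists_subset_of_mem_open (Set.mem_univ (f x)) isOpen_univ
  obtain ⟨_, ⟨W, hW, rfl⟩, hxW, hWV⟩ :=
    X.isBasis_affineOpens.exists_subset_of_mem_open hxV (V.2.preimage f.continuous)
  have hft := f.finiteType_appLE hV hW hWV
  let _ : Algebra Γ(Y, V) Γ(X, W) := (f.appLE V W hWV).hom.toAlgebra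
  have : Algebra.FiniteType Γ(Y, V) Γ(X, W) := hft
  rw [Groth.Agent.Lib.Helper13.formallyUnramified_stalkMap_iff V hV W hW hWV hxW] at hx
  let q := hW.primeIdealOf ⟨x, hxW⟩
  have : Algebra.IsUnramifiedAt Γ(Y, V) q.asIdeal := hx
  obtain ⟨s, hsq, P0, φ, hφ⟩ :=
    Algebra.IsUnramifiedAt.exists_hasStandardEtaleSurjectionOn (R := Γ(Y, V)) q.asIdeal
  let g : Spec (.of P0.Ring) ⟶ Y :=
    Spec.map (CommRingCat.ofHom (algebraMap Γ(Y, V) P0.Ring)) ≫ hV.fromSpec
  have hg1 : Etale (Spec.map (CommRingCat.ofHom (algebraMap Γ(Y, V) P0.Ring))) := by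
    rw [HasRingHomProperty.Spec_iff (P := @Etale)]
    exact RingHom.etale_algebraMap.mpr inferInstance
  have hg : Etale g := inferInstance
  let i : Spec (.of (Localization.Away s)) ⟶ X :=
    Spec.map (CommRingCat.ofHom (algebraMap Γ(X, W) (Localization.Away s))) ≫ hW.fromSpec
  let c : Spec (.of (Localization.Away s)) ⟶ Spec (.of P0.Ring) :=
    Spec.map (CommRingCat.ofHom φ.toRingHom)
  have hi : IsOpenImmersion i := inferInstance
  have hc : IsClosedImmersion c := IsClosedImmersion.spec_of_surjective _ hφ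
  have w : i ≫ f = c ≫ g := by
    simp only [i, c, g, Category.assoc]
    rw [← IsAffineOpen.SpecMap_appLE_fromSpec f hV hW hWV, ← Spec.map_comp_assoc,
      ← Spec.map_comp_assoc]
    congr 2
    ext r
    exact (φ.commutes r).symm
  have hσ := isOpenImmersion_lift_of_etale f g i c w
  refine ⟨_, g, (pullback.lift i c w).opensRange, hg, ?_, ?_⟩
  · have hmem : q ∈ Set.range (PrimeSpectrum.comap (algebraMap Γ(X, W) (Localization.Away s))) := by
      rw [PrimeSpectrum.localization_away_comap_range (Localization.Away s) s]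
      exact hsq
    obtain ⟨d, hd⟩ := hmem
    refine ⟨pullback.lift i c w d, ⟨d, rfl⟩, ?_⟩
    rw [← Scheme.Hom.comp_apply, pullback.lift_fst]
    change hW.fromSpec (Spec.map (CommRingCat.ofHom (algebraMap Γ(X, W) (Localization.Away s))) d) = x
    have : Spec.map (CommRingCat.ofHom (algebraMap Γ(X, W) (Localization.Away s))) d = q := hd
    rw [this]
    exact hW.fromSpec_primeIdealOf ⟨x, hxW⟩
  · have e : (pullback.lift i c w).opensRange.ι ≫ pullback.snd f g =
        (pullback.lift i c w).isoOpensRange.inv ≫ c := by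
      rw [← Scheme.Hom.isoOpensRange_inv_comp, Category.assoc, pullback.lift_snd]
    rw [e]
    infer_instance

end Groth.Agent.Lib.Helper25.UnramLocalStructure
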