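import Mathlib

set_option autoImplicit false

namespace Groth.Agent.Lib.Helper25.UnramQuot

open TensorProduct KaehlerDifferential

universe u

theorem mem_unramifiedLocus_of_quotient {R B Rn Bn : Type u} [CommRing R] [CommRing B]
    [CommRing Rn] [CommRing Bn] [Algebra R B] [Algebra R Rn] [Algebra B Bn] [Algebra Rn Bn]
    [Algebra R Bn] [IsScalarTower R B Bn] [IsScalarTower R Rn Bn] [Algebra.IsPushout R B Rn Bn]
    [Algebra.EssFiniteType R B]
    (hsurj : Function.Surjective (algebraMap R Rn)) [Algebra.FormallyUnramified Rn Bn]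
    (q : PrimeSpectrum B)
    (hq : (RingHom.ker (algebraMap R Rn)).map (algebraMap R B) ≤ q.asIdeal) :
    q ∈ Algebra.unramifiedLocus R B := by
  rw [Algebra.unramifiedLocus_eq_compl_support, Set.mem_compl_iff, Module.notMem_support_iff']
  set J := RingHom.ker (algebraMap R Rn) with hJ
  have hP : Algebra.IsPushout R Rn B Bn := Algebra.IsPushout.symm inferInstance
  -- step 1
  have h1 : Subsingleton (Rn ⊗[R] Ω[B⁄R]) := by
    have : Subsingleton Ω[Bn⁄Rn] := inferInstance
    exact (KaehlerDifferential.tensorKaehlerEquivBase R Rn B Bn).toEquiv.subsingleton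
  -- step 2
  have h2 : (J • (⊤ : Submodule R Ω[B⁄R])) = ⊤ := by
    rw [← Submodule.Quotient.subsingleton_iff]
    let e1 : (R ⧸ J) ≃ₐ[R] Rn := Ideal.quotientKerAlgEquivOfSurjective
      (f := Algebra.ofId R Rn) hsurj
    let e2 : ((R ⧸ J) ⊗[R] Ω[B⁄R]) ≃ₗ[R] Rn ⊗[R] Ω[B⁄R] :=
      TensorProduct.congr e1.toLinearEquiv (LinearEquiv.refl R _)
    exact ((TensorProduct.quotTensorEquivQuotSMul Ω[B⁄R] J).symm.trans e2).toEquiv.subsingleton
  -- step 3
  have h3 : (⊤ : Submodule B Ω[B⁄R]) ≤ (J.map (algebraMap R B)) • (⊤ : Submodule B Ω[B⁄R]) := by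
    intro ω _
    have hω : ω ∈ J • (⊤ : Submodule R Ω[B⁄R]) := by rw [h2]; trivial
    refine Submodule.smul_induction_on hω ?_ ?_
    · intro j hj m _
      rw [← algebraMap_smul B j m]
      exact Submodule.smul_mem_smul (Ideal.mem_map_of_mem _ hj) trivial
    · intro a b ha hb
      exact Submodule.add_mem _ ha hb
  -- step 4
  obtain ⟨r, hr1, hr2⟩ := Submodule.exists_sub_one_mem_and_smul_eq_zero_of_fg_of_le_smul
    (J.map (algebraMap R B)) (⊤ : Submodule B Ω[B⁄R]) Module.Finite.fg_top h3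
  intro m
  refine ⟨r, fun hrq => ?_, hr2 m trivial⟩
  have : (1 : B) ∈ q.asIdeal := by
    have h4 := q.asIdeal.sub_mem hrq (hq hr1)
    simpa using h4
  exact q.2.ne_top ((Ideal.eq_top_iff_one _).mpr this)

end Groth.Agent.Lib.Helper25.UnramQuot
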