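import Mathlib
import Groth.Prelude.Def_W4c1etcurveeff2TopGrp

namespace Groth.Agent.Lib.Helper25.ZnDual

instance hasEnough (n : ℕ) [NeZero n] : HasEnoughRootsOfUnity (Multiplicative (ZMod n)) n where
  prim := ⟨Multiplicative.ofAdd 1, by
    rw [IsPrimitiveRoot.iff_orderOf, orderOf_ofAdd_eq_addOrderOf, ZMod.addOrderOf_one]⟩
  cyc := by
    have : IsCyclic (Multiplicative (ZMod n))ˣ :=
      isCyclic_of_surjective (toUnits (G := Multiplicative (ZMod n))) toUnits.surjective
    infer_instance

set_option linter.unusedSectionVars false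
variable (A : Type*) [CommGroup A] [Finite A] (n : ℕ) [NeZero n]

theorem hasEnough_exponent (hA : ∀ a : A, a ^ n = 1) :
    HasEnoughRootsOfUnity (Multiplicative (ZMod n)) (Monoid.exponent A) :=
  HasEnoughRootsOfUnity.of_dvd _ (Monoid.exponent_dvd_of_forall_pow_eq_one hA)

theorem exists_apply_ne_one (hA : ∀ a : A, a ^ n = 1) {a : A} (ha : a ≠ 1) :
    ∃ φ : A →* Multiplicative (ZMod n), φ a ≠ 1 := by
  have := hasEnough_exponent A n hA
  obtain ⟨φ, hφ⟩ := CommGroup.exists_apply_ne_one_of_hasEnoughRootsOfUnity A
    (Multiplicative (ZMod n)) ha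
  refine ⟨(toUnits (G := Multiplicative (ZMod n))).symm.toMonoidHom.comp φ, fun h => hφ ?_⟩
  have h' : (toUnits (G := Multiplicative (ZMod n))).symm (φ a) = 1 := h
  simpa using h'

theorem card_monoidHom (hA : ∀ a : A, a ^ n = 1) :
    Nat.card (A →* Multiplicative (ZMod n)) = Nat.card A := by
  have := hasEnough_exponent A n hA
  rw [← CommGroup.card_monoidHom_of_hasEnoughRootsOfUnity A (Multiplicative (ZMod n))]
  exact Nat.card_congr (MulEquiv.monoidHomCongrRight (toUnits (G := Multiplicative (ZMod n)))).toEquiv

theorem finite_monoidHom : Finite (A →* Multiplicative (ZMod n)) := by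
  have : Finite (A → Multiplicative (ZMod n)) := inferInstance
  exact Finite.of_injective (fun f : A →* Multiplicative (ZMod n) => (f : A → _)) DFunLike.coe_injective

theorem pow_eq_one_monoidHom {B : Type*} [Monoid B] (f : B →* Multiplicative (ZMod n)) : f ^ n = 1 := by
  ext b
  have : (f b) ^ n = 1 := by
    show Multiplicative.ofAdd (n • (f b).toAdd) = 1
    simp
  simpa using this

/-- double duality: every homomorphism on the dual is evaluation at a unique element. -/
theorem exists_eval (hA : ∀ a : A, a ^ n = 1)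
    (F : (A →* Multiplicative (ZMod n)) →* Multiplicative (ZMod n)) :
    ∃ a : A, ∀ φ : A →* Multiplicative (ZMod n), F φ = φ a := by
  have := finite_monoidHom A n
  let ev : A →* ((A →* Multiplicative (ZMod n)) →* Multiplicative (ZMod n)) :=
    { toFun := fun a => { toFun := fun φ => φ a, map_one' := rfl, map_mul' := fun _ _ => rfl }
      map_one' := by ext φ; simp
      map_mul' := fun a b => by ext φ; simp }
  have hinj : Function.Injective ev := by
    rw [injective_iff_map_eq_one]
    intro a ha
    by_contra hne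
    obtain ⟨φ, hφ⟩ := exists_apply_ne_one A n hA hne
    exact hφ (by simpa [ev] using DFunLike.congr_fun ha φ)
  have hcard : Nat.card A = Nat.card ((A →* Multiplicative (ZMod n)) →* Multiplicative (ZMod n)) := by
    rw [card_monoidHom (A →* Multiplicative (ZMod n)) n (fun f => pow_eq_one_monoidHom n f),
      card_monoidHom A n hA]
  have := finite_monoidHom (A →* Multiplicative (ZMod n)) n
  have hbij : Function.Bijective ev :=
    (Nat.bijective_iff_injective_and_card _).mpr ⟨hinj, hcard⟩
  obtain ⟨a, ha⟩ := hbij.2 F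
  exact ⟨a, fun φ => by rw [← ha]; rfl⟩

end Groth.Agent.Lib.Helper25.ZnDual

namespace Groth.Agent.Lib.Helper25.ZnDualTop

open W4c1etcurveeff2

variable {G : Type*} [Group G] [TopologicalSpace G] [IsTopologicalGroup G]

theorem powCommClosure_le (n : ℕ) (N : Subgroup G) (hpow : ∀ g : G, g ^ n ∈ N)
    (hc : commutator G ≤ N) (hcl : IsClosed (N : Set G)) : powCommClosure G n ≤ N := by
  refine Subgroup.topologicalClosure_minimal _ (sup_le ?_ hc) hcl
  rw [Subgroup.closure_le]
  rintro _ ⟨g, rfl⟩
  exact hpow g

theorem pow_mem_powCommClosure (n : ℕ) (g : G) : g ^ n ∈ powCommClosure G n :=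
  Subgroup.le_topologicalClosure _ (Subgroup.mem_sup_left (Subgroup.subset_closure ⟨g, rfl⟩))

theorem commutator_le_powCommClosure (n : ℕ) : commutator G ≤ powCommClosure G n :=
  le_trans le_sup_right (Subgroup.le_topologicalClosure _)

theorem isClosed_powCommClosure (n : ℕ) : IsClosed (powCommClosure G n : Set G) :=
  Subgroup.isClosed_topologicalClosure _

instance normal_powCommClosure (n : ℕ) : (powCommClosure G n).Normal :=
  Subgroup.Normal.of_commutator_le G (commutator_le_powCommClosure n)

theorem finite_quotient (s : Finset G)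
    (hs : Dense ((Subgroup.closure (s : Set G) : Subgroup G) : Set G)) (n : ℕ) [NeZero n]
    (N : Subgroup G) [N.Normal] (hN : IsClosed (N : Set G)) (hpow : ∀ g : G, g ^ n ∈ N)
    (hc : commutator G ≤ N) : Finite (G ⧸ N) := by
  have hcomm : IsMulCommutative (G ⧸ N) :=
    Subgroup.Normal.quotient_commutative_iff_commutator_le.mpr hc
  let _ : CommGroup (G ⧸ N) :=
    { (inferInstance : Group (G ⧸ N)) with mul_comm := fun a b => hcomm.is_comm.comm a b }
  let π : G →* G ⧸ N := QuotientGroup.mk' N
  have hexp : ∀ q : G ⧸ N, q ^ n = 1 := by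
    intro q
    obtain ⟨g, rfl⟩ := QuotientGroup.mk'_surjective N q
    rw [← map_pow]
    exact (QuotientGroup.eq_one_iff _).mpr (hpow g)
  let H' : Subgroup (G ⧸ N) := Subgroup.closure (π '' (s : Set G))
  have : Finite (π '' (s : Set G)) := (s.finite_toSet.image π)
  have hfg : Group.FG H' := Group.closure_finite_fg _
  have htor : IsMulTorsion H' := fun h =>
    isOfFinOrder_iff_pow_eq_one.mpr ⟨n, Nat.pos_of_ne_zero (NeZero.ne n),
      Subtype.ext (by simpa using hexp h.1)⟩
  have hfin : Finite H' := CommGroup.finite_of_fg_isMulTorsion (G := H') htor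
  let K : Subgroup G := H'.comap π
  have hKeq : (K : Set G) = ⋃ q ∈ (H' : Set (G ⧸ N)), π ⁻¹' {q} := by
    ext x
    simp [K]
  have hKcl : IsClosed (K : Set G) := by
    rw [hKeq]
    refine Set.Finite.isClosed_biUnion (Set.toFinite _) ?_
    intro q _
    obtain ⟨g, rfl⟩ := QuotientGroup.mk'_surjective N q
    have : π ⁻¹' {π g} = (fun x => g⁻¹ * x) ⁻¹' (N : Set G) := by
      ext x
      simp only [Set.mem_preimage, Set.mem_singleton_iff, SetLike.mem_coe]
      rw [eq_comm]
      exact QuotientGroup.eq
    rw [this]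
    exact hN.preimage (continuous_const.mul continuous_id)
  have hKd : Dense (K : Set G) := by
    refine hs.mono ?_
    have : Subgroup.closure (s : Set G) ≤ K := by
      rw [Subgroup.closure_le]
      intro x hx
      exact Subgroup.subset_closure ⟨x, hx, rfl⟩
    exact this
  have hKtop : (K : Set G) = Set.univ := by
    rw [← hKcl.closure_eq]; exact hKd.closure_eq
  have hsurj : Function.Surjective (fun h : H' => (h : G ⧸ N)) := by
    intro q
    obtain ⟨g, rfl⟩ := QuotientGroup.mk'_surjective N q
    have : g ∈ K := by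
      have : g ∈ (K : Set G) := by rw [hKtop]; trivial
      exact this
    exact ⟨⟨π g, this⟩, rfl⟩
  exact Finite.of_surjective _ hsurj

end Groth.Agent.Lib.Helper25.ZnDualTop
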